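import Cfsg.Agent.Helper11.ChevFast

set_option autoImplicit false

/-! Additivity `x_r(t₁) x_r(t₂) = x_r(t₁ + t₂)`, reduced to a kernel-checkable condition `addOKr D r`. -/

namespace Cfsg.Agent.Helper11

open Cfsg.Lie

noncomputable def addOKr (D : ChevalleyDatum) (r : ℕ) : Bool :=
  wordEqS D [(r, [(1, 1, 0)]), (r, [(1, 0, 1)])] [(r, [(1, 1, 0), (1, 0, 1)])]

theorem x_add_of {F : Type*} [Field F] {D : ChevalleyDatum} (hT : tabOK D = true) (r : ℕ)
    (h : addOKr D r = true) (t₁ t₂ : F) : D.x F r t₁ * D.x F r t₂ = D.x F r (t₁ + t₂) := by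
  have h2 := wordEqS_sound hT _ _ h t₁ t₂
  simpa [ChevalleyDatum.wordMat, evalWord, evalPoly, evalMono] using h2

end Cfsg.Agent.Helper11
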