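import Cfsg.Agent.Helper11.ChevFast
import Cfsg.Prelude.Def_LieTypes
import Cfsg.Prelude.Def_ChevB2

set_option autoImplicit false

/-! The packed tables of the seven tabulated Chevalley data agree with the data (kernel computation). -/

namespace Cfsg.Agent.Helper11

open Cfsg.Lie

set_option maxRecDepth 100000

theorem tabOK_G2 : tabOK chevG2 = true := by decide +kernel
theorem tabOK_B2 : tabOK chevB2 = true := by decide +kernel
theorem tabOK_D4 : tabOK chevD4 = true := by decide +kernel
theorem tabOK_F4 : tabOK chevF4 = true := by decide +kernel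
theorem tabOK_E6 : tabOK chevE6 = true := by decide +kernel
theorem tabOK_E7 : tabOK chevE7 = true := by decide +kernel
theorem tabOK_E8 : tabOK chevE8 = true := by decide +kernel

/-- A property holds for the seven tabulated data as soon as it holds for each of them. -/
theorem forall_seven {P : ChevalleyDatum → Prop} (hG2 : P chevG2) (hB2 : P chevB2) (hD4 : P chevD4)
    (hF4 : P chevF4) (hE6 : P chevE6) (hE7 : P chevE7) (hE8 : P chevE8) (D : ChevalleyDatum)
    (hD : D ∈ [chevG2, chevB2, chevD4, chevF4, chevE6, chevE7, chevE8]) : P D := by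
  simp only [List.mem_cons, List.not_mem_nil, or_false] at hD
  rcases hD with rfl | rfl | rfl | rfl | rfl | rfl | rfl
  · exact hG2
  · exact hB2
  · exact hD4
  · exact hF4
  · exact hE6
  · exact hE7
  · exact hE8

theorem tabOK_seven (D : ChevalleyDatum)
    (hD : D ∈ [chevG2, chevB2, chevD4, chevF4, chevE6, chevE7, chevE8]) : tabOK D = true :=
  forall_seven (P := fun D => tabOK D = true) tabOK_G2 tabOK_B2 tabOK_D4 tabOK_F4 tabOK_E6 tabOK_E7
    tabOK_E8 D hD

end Cfsg.Agent.Helper11
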