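import Cfsg.Agent.Helper11.ChevAux
import Cfsg.Agent.Helper11.ChevAddSmall
import Cfsg.Agent.Helper11.ChevAddE7
import Cfsg.Agent.Helper11.ChevAddE8

set_option autoImplicit false

/-! Additivity of root elements for the seven tabulated data. -/

namespace Cfsg.Agent.Helper11

open Cfsg.Lie

set_option maxRecDepth 100000
set_option maxHeartbeats 0
set_option Elab.async false

theorem addOK_G2 (s : ℕ) (hs : s < 12) : addOKr chevG2 s = true := by
  refine allChunks (addOKr chevG2) 12 1 ?_ s hs
  intro j hj
  interval_cases j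
  · exact addOK_G2_0

theorem addOK_B2 (s : ℕ) (hs : s < 8) : addOKr chevB2 s = true := by
  refine allChunks (addOKr chevB2) 8 1 ?_ s hs
  intro j hj
  interval_cases j
  · exact addOK_B2_0

theorem addOK_D4 (s : ℕ) (hs : s < 24) : addOKr chevD4 s = true := by
  refine allChunks (addOKr chevD4) 24 1 ?_ s hs
  intro j hj
  interval_cases j
  · exact addOK_D4_0

theorem addOK_F4 (s : ℕ) (hs : s < 48) : addOKr chevF4 s = true := by
  refine allChunks (addOKr chevF4) 48 1 ?_ s hs
  intro j hj
  interval_cases j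
  · exact addOK_F4_0

theorem addOK_E6 (s : ℕ) (hs : s < 72) : addOKr chevE6 s = true := by
  refine allChunks (addOKr chevE6) 72 1 ?_ s hs
  intro j hj
  interval_cases j
  · exact addOK_E6_0

theorem addOK_E7 (s : ℕ) (hs : s < 126) : addOKr chevE7 s = true := by
  refine allChunks (addOKr chevE7) 42 3 ?_ s hs
  intro j hj
  interval_cases j
  · exact addOK_E7_0
  · exact addOK_E7_1
  · exact addOK_E7_2

theorem addOK_E8 (s : ℕ) (hs : s < 240) : addOKr chevE8 s = true := by
  refine allChunks (addOKr chevE8) 30 8 ?_ s hs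
  intro j hj
  interval_cases j
  · exact addOK_E8_0
  · exact addOK_E8_1
  · exact addOK_E8_2
  · exact addOK_E8_3
  · exact addOK_E8_4
  · exact addOK_E8_5
  · exact addOK_E8_6
  · exact addOK_E8_7

theorem addOK_seven (D : ChevalleyDatum)
    (hD : D ∈ [chevG2, chevB2, chevD4, chevF4, chevE6, chevE7, chevE8]) (r : ℕ) (hr : r < D.nroots) :
    addOKr D r = true :=
  forall_seven (P := fun D => ∀ r, r < D.nroots → addOKr D r = true) addOK_G2 addOK_B2 addOK_D4 addOK_F4
    addOK_E6 addOK_E7 addOK_E8 D hD r hr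

end Cfsg.Agent.Helper11
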