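import Cfsg.Agent.Helper11.ChevFast

set_option autoImplicit false

/-! Covering a range by chunks (used to assemble kernel checks split into small theorems). -/

namespace Cfsg.Agent.Helper11

theorem allChunks (p : ℕ → Bool) (c k : ℕ) (h : ∀ j < k, allRange (c * j) c p = true) (s : ℕ)
    (hs : s < c * k) : p s = true := by
  have hc : 0 < c := by
    rcases Nat.eq_zero_or_pos c with h0 | h0
    · subst h0; simp at hs
    · exact h0
  have hj : s / c < k := Nat.div_lt_of_lt_mul hs
  have h2 : s < c * (s / c) + c := by
    have := Nat.lt_mul_div_succ s hc
    rw [Nat.mul_succ] at this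
    exact this
  exact allRange_spec (c * (s / c)) c p (h (s / c) hj) s (Nat.mul_div_le s c) h2

end Cfsg.Agent.Helper11
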