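import Cfsg.Agent.Helper11.ChevGrp

set_option autoImplicit false

/-!
Further consequences of the relations in `ChevGrp`: products of a subgroup with a subgroup it
normalizes, and the intersections of `B` with `V` and `VH`.
-/

namespace Cfsg.Agent.Helper11

open Cfsg.Lie

theorem mem_sup_of_normalizes {G : Type*} [Group G] (A N : Subgroup G)
    (h : ∀ a ∈ A, ∀ n ∈ N, a * n * a⁻¹ ∈ N) : ∀ g ∈ N ⊔ A, ∃ n ∈ N, ∃ a ∈ A, g = n * a := by
  intro g hg
  rw [Subgroup.sup_eq_closure] at hg
  induction hg using Subgroup.closure_induction with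
  | mem x hx =>
    rcases hx with hx | hx
    · exact ⟨x, hx, 1, one_mem _, by simp⟩
    · exact ⟨1, one_mem _, x, hx, by simp⟩
  | one => exact ⟨1, one_mem _, 1, one_mem _, by simp⟩
  | mul x y _ _ hx hy =>
    obtain ⟨n₁, hn₁, a₁, ha₁, rfl⟩ := hx
    obtain ⟨n₂, hn₂, a₂, ha₂, rfl⟩ := hy
    exact ⟨n₁ * (a₁ * n₂ * a₁⁻¹), mul_mem hn₁ (h a₁ ha₁ n₂ hn₂), a₁ * a₂, mul_mem ha₁ ha₂, by group⟩
  | inv x _ hx =>
    obtain ⟨n, hn, a, ha, rfl⟩ := hx
    exact ⟨a⁻¹ * n⁻¹ * a⁻¹⁻¹, h a⁻¹ (inv_mem ha) n⁻¹ (inv_mem hn), a⁻¹, inv_mem ha, by group⟩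

section Grp2
variable {F : Type*} [Field F] {D : ChevalleyDatum}

theorem H_le_normalizer_negU (hD : Seven D) :
    D.diagonalSubgroup F ≤ Subgroup.normalizer (D.negUnipotent F : Set (GL D.Idx F)) := by
  unfold ChevalleyDatum.diagonalSubgroup
  rw [Subgroup.closure_le]
  rintro g ⟨r, c, hr, hc, hg⟩
  have hgG : g = hG hD r c := Units.ext (by rw [hg, hG_val])
  rw [hgG]
  apply mem_normalizer_of_conj
  · intro u hu
    refine conj_closure_le _ _ _ ?_ u hu
    rintro x ⟨s, t, hneg, hx⟩
    rw [eq_xG hD x s t hx, hG_conj_x hD r hr s hneg.1 c hc t]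
    exact xG_mem_negU hD s hneg _
  · intro u hu
    refine conj_closure_le' _ _ _ ?_ u hu
    rintro x ⟨s, t, hneg, hx⟩
    rw [eq_xG hD x s t hx, hG_conj_x' hD r hr s hneg.1 c hc t]
    exact xG_mem_negU hD s hneg _

theorem B_inf_negU (hD : Seven D) : D.borelSubgroup F ⊓ D.negUnipotent F = ⊥ := by
  rw [eq_bot_iff]
  rintro g ⟨hgB, hgV⟩
  have h1 := (B_le_up hD hgB).1
  have h2 := negU_down7 hD g hgV
  rw [Subgroup.mem_bot]
  apply Units.ext
  rw [Units.val_one]
  apply sub_eq_zero.mp
  ext a b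
  by_contra hne
  have h3 := h2 a b hne
  have hb := lvl_lt D _ (code_lt D b)
  have ha := lvl_lt D _ (code_lt D a)
  by_cases e : a = b
  · subst e; omega
  · have h4 : (g : Matrix D.Idx D.Idx F) a b ≠ 0 := by
      intro h0; apply hne
      rw [Matrix.sub_apply, h0, Matrix.one_apply_ne e, sub_zero]; rfl
    have h5 := h1 a b h4
    unfold lvlR at h3
    unfold lvlI at h5
    omega

theorem B_inf_negUH (hD : Seven D) :
    D.borelSubgroup F ⊓ (D.negUnipotent F ⊔ D.diagonalSubgroup F) = D.diagonalSubgroup F := by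
  apply le_antisymm
  · rintro g ⟨hgB, hgVH⟩
    obtain ⟨v, hv, h, hh, rfl⟩ := mem_sup_of_normalizes (D.diagonalSubgroup F) (D.negUnipotent F)
      (fun a ha n hn => ((Subgroup.mem_normalizer_iff.mp (H_le_normalizer_negU hD ha)) n).mp hn) g hgVH
    have hhB : h ∈ D.borelSubgroup F := Subgroup.mem_sup_right hh
    have hvB : v ∈ D.borelSubgroup F := by
      have : v = v * h * h⁻¹ := by group
      rw [this]; exact mul_mem hgB (inv_mem hhB)
    have hv1 : v ∈ D.borelSubgroup F ⊓ D.negUnipotent F := ⟨hvB, hv⟩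
    rw [B_inf_negU hD, Subgroup.mem_bot] at hv1
    rw [hv1, one_mul]; exact hh
  · exact le_inf le_sup_right le_sup_right

end Grp2

/-! ### The diagonal subgroup: every element is a product of the `h_{p_i}(c_i)` -/

section HS
variable {F : Type*} [Field F] {D : ChevalleyDatum}

/-- The diagonal of `∏_i h_{p_i}(c_i)`. -/
noncomputable def hsDiag (D : ChevalleyDatum) (c : ℕ → F) : D.Idx → F :=
  Sum.elim (fun _ => 1) (fun s => ((List.range D.rank).map (fun i => c i ^ D.cartan i s.val)).prod)

theorem wordMat_append' (D : ChevalleyDatum) (w w' : List (ℕ × F)) :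
    D.wordMat F (w ++ w') = D.wordMat F w * D.wordMat F w' := by
  simp [ChevalleyDatum.wordMat]

theorem wordMat_flatMap' (D : ChevalleyDatum) {α : Type*} (l : List α) (f : α → List (ℕ × F)) :
    D.wordMat F (l.flatMap f) = (l.map fun a => D.wordMat F (f a)).prod := by
  induction l with
  | nil => simp [ChevalleyDatum.wordMat]
  | cons a l ih => rw [List.flatMap_cons, wordMat_append', ih, List.map_cons, List.prod_cons]

theorem prod_diagonal {ι : Type*} [Fintype ι] [DecidableEq ι] {α : Type*} (l : List α)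
    (d : α → ι → F) :
    (l.map (fun i => Matrix.diagonal (d i))).prod =
      Matrix.diagonal (fun a => (l.map (fun i => d i a)).prod) := by
  induction l with
  | nil => simp
  | cons x l ih =>
    rw [List.map_cons, List.prod_cons, ih, Matrix.diagonal_mul_diagonal]
    congr 1

theorem zpow_list_sum {t : F} (ht : t ≠ 0) {α : Type*} (l : List α) (f : α → ℤ) :
    t ^ (l.map f).sum = (l.map (fun i => t ^ f i)).prod := by
  induction l with
  | nil => simp
  | cons x l ih => rw [List.map_cons, List.sum_cons, zpow_add₀ ht, ih, List.map_cons, List.prod_cons]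

theorem hs_word (hD : Seven D) (c : ℕ → F) (hc : ∀ i < D.rank, c i ≠ 0) :
    D.wordMat F ((List.range D.rank).flatMap fun i => D.hWord (D.simple i) (c i)) =
      Matrix.diagonal (hsDiag D c) := by
  rw [wordMat_flatMap']
  have e : (List.range D.rank).map (fun i => D.wordMat F (D.hWord (D.simple i) (c i))) =
      (List.range D.rank).map (fun i => Matrix.diagonal
        (Sum.elim (fun _ => (1 : F)) (fun s : Fin D.nroots => c i ^ D.cartan i s.val))) := by
    apply List.map_congr_left
    intro i hi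
    have hi' := List.mem_range.mp hi
    show D.hMat F (D.simple i) (c i) = _
    rw [hMat_diag7 hD _ (simple_lt7 hD i hi') (c i) (hc i hi')]
    congr 1
    funext j
    rcases j with j | s
    · rfl
    · simp only [Sum.elim_inr]; rw [pairing_simple7 hD i hi' s.val s.2]
  rw [e, prod_diagonal]
  congr 1
  funext j
  rcases j with j | s
  · simp [hsDiag]
  · simp [hsDiag]

theorem hsDiag_mul (D : ChevalleyDatum) (c c' : ℕ → F) :
    hsDiag D (fun i => c i * c' i) = hsDiag D c * hsDiag D c' := by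
  funext j
  rcases j with j | s
  · simp [hsDiag]
  · simp only [hsDiag, Sum.elim_inr, Pi.mul_apply]
    rw [← List.prod_map_mul]
    congr 1
    apply List.map_congr_left
    intro i _
    rw [mul_zpow]

theorem hsDiag_one_of (D : ChevalleyDatum) (c : ℕ → F) (hc : ∀ i < D.rank, c i = 1) :
    hsDiag D c = 1 := by
  funext j
  rcases j with j | s
  · rfl
  · simp only [hsDiag, Sum.elim_inr, Pi.one_apply]
    apply List.prod_eq_one
    intro x hx
    rw [List.mem_map] at hx
    obtain ⟨i, hi, rfl⟩ := hx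
    rw [hc i (List.mem_range.mp hi), one_zpow]

/-- Every element of `H` is the diagonal matrix of some `∏_i h_{p_i}(c_i)`. -/
theorem H_form (hD : Seven D) (g : GL D.Idx F) (hg : g ∈ D.diagonalSubgroup F) :
    ∃ c : ℕ → F, (∀ i < D.rank, c i ≠ 0) ∧
      (g : Matrix D.Idx D.Idx F) = Matrix.diagonal (hsDiag D c) := by
  unfold ChevalleyDatum.diagonalSubgroup at hg
  induction hg using Subgroup.closure_induction with
  | mem x hx =>
    obtain ⟨r, t, hr, ht, hx⟩ := hx
    refine ⟨fun i => t ^ ((D.coroot.getD r #[]).getD i 0), fun i _ => zpow_ne_zero _ ht, ?_⟩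
    rw [hx, hMat_diag7 hD r hr t ht]
    congr 1
    funext j
    rcases j with j | s
    · rfl
    · simp only [hsDiag, Sum.elim_inr]
      unfold ChevalleyDatum.pairing
      rw [zpow_list_sum ht]
      congr 1
      apply List.map_congr_left
      intro i _
      rw [zpow_mul]
  | one =>
    exact ⟨fun _ => 1, fun _ _ => one_ne_zero, by
      rw [Units.val_one, hsDiag_one_of D _ (fun _ _ => rfl)]; exact Matrix.diagonal_one.symm⟩
  | mul x y _ _ hx hy =>
    obtain ⟨c, hc, ex⟩ := hx
    obtain ⟨c', hc', ey⟩ := hy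
    exact ⟨fun i => c i * c' i, fun i hi => mul_ne_zero (hc i hi) (hc' i hi), by
      rw [Units.val_mul, ex, ey, Matrix.diagonal_mul_diagonal, hsDiag_mul]; rfl⟩
  | inv x _ hx =>
    obtain ⟨c, hc, ex⟩ := hx
    refine ⟨fun i => (c i)⁻¹, fun i hi => inv_ne_zero (hc i hi), ?_⟩
    apply Units.inv_eq_of_mul_eq_one_right
    rw [ex, Matrix.diagonal_mul_diagonal, ← Matrix.diagonal_one]
    congr 1
    have h0 := hsDiag_mul D c (fun i => (c i)⁻¹)
    rw [hsDiag_one_of D _ (fun i hi => mul_inv_cancel₀ (hc i hi))] at h0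
    funext a
    have h1 := congrFun h0 a
    rw [Pi.mul_apply] at h1
    rw [← h1]; rfl

end HS

end Cfsg.Agent.Helper11
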