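import Cfsg.Agent.Helper11.ChevGrp

set_option autoImplicit false

/-!
The longest element: a product of the `n_p` (a power of a Coxeter element) that conjugates `U` onto `V`,
from a kernel-checkable condition `w0OK D h2` on the table of reflections.
-/

namespace Cfsg.Agent.Helper11

open Cfsg.Lie

/-- Apply the fundamental reflections of a word, last letter first (table version). -/
noncomputable def wordApply (D : ChevalleyDatum) (w : List ℕ) (s : ℕ) : ℕ :=
  @List.rec ℕ (fun _ => ℕ) s (fun i _ ih => wAt D i ih) w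

/-- The word `w` of fundamental reflections is an involution exchanging positive and negative roots. -/
noncomputable def w0OK (D : ChevalleyDatum) (w : List ℕ) : Bool :=
  allL (fun i => Nat.blt i D.rank) w &&
  allN D.nroots (fun s =>
    Nat.beq (wordApply D w (wordApply D w s)) s &&
      cond (Nat.blt s (Nat.div D.nroots 2)) (Nat.ble (Nat.div D.nroots 2) (wordApply D w s))
        (Nat.blt (wordApply D w s) (Nat.div D.nroots 2)))

section W0
variable {F : Type*} [Field F] {D : ChevalleyDatum}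

/-- `n` conjugates root elements according to the map `f` on roots. -/
def ConjTo (hD : Seven D) (n : GL D.Idx F) (f : ℕ → ℕ) : Prop :=
  ∀ s < D.nroots, f s < D.nroots ∧
    ∃ ε : F, ε * ε = 1 ∧ ∀ t : F, n * xG hD s t * n⁻¹ = xG hD (f s) (ε * t)

theorem ConjTo.one (hD : Seven D) : ConjTo (F := F) hD 1 (fun s => s) := by
  intro s hs
  exact ⟨hs, 1, by simp, fun t => by simp⟩

theorem ConjTo.comp (hD : Seven D) {n m : GL D.Idx F} {f g : ℕ → ℕ} (hn : ConjTo hD n f)
    (hm : ConjTo hD m g) : ConjTo hD (m * n) (fun s => g (f s)) := by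
  intro s hs
  obtain ⟨h1, ε, hε, hc⟩ := hn s hs
  obtain ⟨h2, ε', hε', hc'⟩ := hm (f s) h1
  refine ⟨h2, ε' * ε, by rw [mul_mul_mul_comm, hε', hε, one_mul], fun t => ?_⟩
  have : m * n * xG hD s t * (m * n)⁻¹ = m * (n * xG hD s t * n⁻¹) * m⁻¹ := by group
  rw [this, hc, hc', mul_assoc]

theorem ConjTo.simple (hD : Seven D) (i : ℕ) (hi : i < D.rank) :
    ConjTo (F := F) hD (nG hD (D.simple i) 1) (wAt D i) := by
  intro s hs
  rw [wAt_eq7 hD i hi s hs]
  refine ⟨reflect_lt7 hD i hi s hs, ((etaAt D i s : ℤ) : F), ?_, fun t => nG_conj_x hD i hi s hs t⟩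
  rcases eta_F_cases (F := F) hD i hi s hs with h | h <;> rw [h] <;> simp

/-- The product of the `n_p` along a word. -/
noncomputable def wordN (hD : Seven D) : List ℕ → GL D.Idx F
  | [] => 1
  | i :: rest => nG hD (D.simple i) 1 * wordN hD rest

theorem wordN_conj (hD : Seven D) (w : List ℕ) (hw : ∀ i ∈ w, i < D.rank) :
    ConjTo (F := F) hD (wordN hD w) (wordApply D w) := by
  induction w with
  | nil => exact ConjTo.one hD
  | cons i rest ih =>
    exact (ih (fun j hj => hw j (List.mem_cons_of_mem _ hj))).comp hD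
      (ConjTo.simple hD i (hw i List.mem_cons_self))

theorem wordN_mem (hD : Seven D) (w : List ℕ) (hw : ∀ i ∈ w, i < D.rank) :
    wordN (F := F) hD w ∈ D.monomialSubgroup F := by
  induction w with
  | nil => exact one_mem _
  | cons i rest ih =>
    exact mul_mem (nG_mem_N hD _ (simple_lt7 hD i (hw i List.mem_cons_self)))
      (ih (fun j hj => hw j (List.mem_cons_of_mem _ hj)))

theorem w0OK_lt (w : List ℕ) (hOK : w0OK D w = true) : ∀ i ∈ w, i < D.rank := by
  unfold w0OK at hOK
  rw [Bool.and_eq_true] at hOK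
  intro i hi
  exact (blt_iff _ _).mp ((allL_spec _ _).mp hOK.1 i hi)

theorem w0_map (hD : Seven D) (h2 : List ℕ) (hOK : w0OK D h2 = true) :
    (D.posUnipotent F).map (MulAut.conj (wordN hD h2)).toMonoidHom = D.negUnipotent F := by
  have hc := wordN_conj (F := F) hD h2 (w0OK_lt h2 hOK)
  unfold w0OK at hOK
  rw [Bool.and_eq_true] at hOK
  replace hOK := hOK.2
  have hspec : ∀ s < D.nroots, wordApply D h2 (wordApply D h2 s) = s ∧
      (s < D.nroots / 2 → D.nroots / 2 ≤ wordApply D h2 s) ∧
      (¬ s < D.nroots / 2 → wordApply D h2 s < D.nroots / 2) := by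
    intro s hs
    have h := (allN_spec _ _).mp hOK s hs
    rw [Bool.and_eq_true] at h
    refine ⟨(beq_iff _ _).mp h.1, fun h1 => ?_, fun h1 => ?_⟩
    · have h2' := h.2
      rw [show Nat.blt s (Nat.div D.nroots 2) = true from (blt_iff _ _).mpr h1] at h2'
      exact Nat.le_of_ble_eq_true h2'
    · have h2' := h.2
      rw [show Nat.blt s (Nat.div D.nroots 2) = false from blt_false_of_not h1] at h2'
      exact (blt_iff _ _).mp h2'
  unfold ChevalleyDatum.posUnipotent ChevalleyDatum.negUnipotent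
  rw [MonoidHom.map_closure]
  apply le_antisymm
  · rw [Subgroup.closure_le]
    rintro _ ⟨x, ⟨r, t, hpos, hx⟩, rfl⟩
    obtain ⟨h1, ε, hε, hconj⟩ := hc r hpos.1
    have hxG := eq_xG hD x r t hx
    have : (MulAut.conj (wordN hD h2)).toMonoidHom x = xG hD (wordApply D h2 r) (ε * t) := by
      rw [hxG]
      show wordN hD h2 * xG hD r t * (wordN hD h2)⁻¹ = _
      exact hconj t
    rw [this]
    apply Subgroup.subset_closure
    refine ⟨_, _, ?_, rfl⟩
    have hr2 : D.nroots / 2 ≤ r := ((pos_iff7 hD r hpos.1).1).mp hpos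
    exact ((pos_iff7 hD _ h1).2).mpr ((hspec r hpos.1).2.2 (by omega))
  · rw [Subgroup.closure_le]
    rintro y ⟨s, u, hneg, hy⟩
    have hs2 : s < D.nroots / 2 := ((pos_iff7 hD s hneg.1).2).mp hneg
    obtain ⟨h1, ε, hε, hconj⟩ := hc (wordApply D h2 s) (hc s hneg.1).1
    rw [(hspec s hneg.1).1] at hconj
    apply Subgroup.subset_closure
    refine ⟨xG hD (wordApply D h2 s) (ε * u), ⟨_, _, ?_, rfl⟩, ?_⟩
    · exact ((pos_iff7 hD _ (hc s hneg.1).1).1).mpr ((hspec s hneg.1).2.1 hs2)
    · show wordN hD h2 * xG hD (wordApply D h2 s) (ε * u) * (wordN hD h2)⁻¹ = y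
      rw [hconj (ε * u), ← mul_assoc, hε, one_mul]
      exact (eq_xG hD y s u hy).symm

end W0

end Cfsg.Agent.Helper11
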