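import Cfsg.Agent.Helper11.ChevBNTab
import Cfsg.Agent.Helper11.ChevGrp2
import Cfsg.Agent.Helper11.ChevW0

set_option autoImplicit false

/-!
`B ∩ N = H` and `U ∩ N = 1` for the Chevalley groups: every element of `N` is `h · n_v` for a word `v`
in the fundamental reflections; if `n_v` normalises `B`-wise the positive root subgroups, the word `v`
can be shortened by two letters modulo `H` (exchange condition), so that `n_v ∈ H`.
-/

namespace Cfsg.Agent.Helper11

open Cfsg.Lie

section WordApply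
variable {D : ChevalleyDatum}

theorem wordApply_nil (D : ChevalleyDatum) (s : ℕ) : wordApply D [] s = s := rfl

theorem wordApply_cons (D : ChevalleyDatum) (i : ℕ) (rest : List ℕ) (s : ℕ) :
    wordApply D (i :: rest) s = wAt D i (wordApply D rest s) := rfl

theorem wordApply_append (D : ChevalleyDatum) (a b : List ℕ) (s : ℕ) :
    wordApply D (a ++ b) s = wordApply D a (wordApply D b s) := by
  induction a with
  | nil => rfl
  | cons i a ih => rw [List.cons_append, wordApply_cons, wordApply_cons, ih]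

theorem wordApply_lt (hD : Seven D) (w : List ℕ) (hw : ∀ i ∈ w, i < D.rank) (s : ℕ)
    (hs : s < D.nroots) : wordApply D w s < D.nroots := by
  induction w with
  | nil => exact hs
  | cons i rest ih =>
    have h1 := ih (fun j hj => hw j (List.mem_cons_of_mem _ hj))
    rw [wordApply_cons, wAt_eq7 hD i (hw i List.mem_cons_self) _ h1]
    exact reflect_lt7 hD i (hw i List.mem_cons_self) _ h1

theorem wordApply_neg (hD : Seven D) (w : List ℕ) (hw : ∀ i ∈ w, i < D.rank) (s : ℕ)
    (hs : s < D.nroots) : wordApply D w (D.neg s) = D.neg (wordApply D w s) := by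
  induction w with
  | nil => rfl
  | cons i rest ih =>
    have hi := hw i List.mem_cons_self
    have hr : ∀ j ∈ rest, j < D.rank := fun j hj => hw j (List.mem_cons_of_mem _ hj)
    have h1 := wordApply_lt hD rest hr s hs
    rw [wordApply_cons, wordApply_cons, ih hr, wAt_eq7 hD i hi _ (neg_lt7 hD _ h1),
      wAt_eq7 hD i hi _ h1, reflect_neg7 hD i hi _ h1]

theorem reflect_self (D : ChevalleyDatum) (i : ℕ) :
    D.reflectRoot i (D.simple i) = D.neg (D.simple i) := by
  show (if D.simple i = D.simple i then D.neg (D.simple i) else _) = _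
  rw [if_pos rfl]

theorem reflect_neg_self (hD : Seven D) (i : ℕ) (hi : i < D.rank) :
    D.reflectRoot i (D.neg (D.simple i)) = D.simple i := by
  have h := reflect_neg7 hD i hi (D.simple i) (simple_lt7 hD i hi)
  rw [reflect_self] at h
  rw [h, neg_neg7 hD _ (simple_lt7 hD i hi)]

/-- If a word sends a positive root `γ` to a negative root, some suffix `u` of it sends `γ` to the
fundamental root of the letter preceding `u`. -/
theorem word_exchange (hD : Seven D) : ∀ (v : List ℕ), (∀ i ∈ v, i < D.rank) → ∀ γ, γ < D.nroots →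
    D.nroots / 2 ≤ γ → wordApply D v γ < D.nroots / 2 →
    ∃ a j u, v = a ++ j :: u ∧ wordApply D u γ = D.simple j := by
  intro v
  induction v with
  | nil =>
    intro _ γ _ h1 h2
    have h3 : γ < D.nroots / 2 := h2
    omega
  | cons i rest ih =>
    intro hv γ hγ hpos hneg
    have hi := hv i List.mem_cons_self
    have hr : ∀ j ∈ rest, j < D.rank := fun j hj => hv j (List.mem_cons_of_mem _ hj)
    by_cases h : wordApply D rest γ < D.nroots / 2
    · obtain ⟨a, j, u, e, hu⟩ := ih hr γ hγ hpos h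
      exact ⟨i :: a, j, u, by rw [e]; rfl, hu⟩
    · have h1 := wordApply_lt hD rest hr γ hγ
      rw [wordApply_cons, wAt_eq7 hD i hi _ h1] at hneg
      refine ⟨[], i, rest, rfl, ?_⟩
      by_contra hne
      have h2 := refl_pos7 hD i hi _ h1 (by omega) hne
      omega

end WordApply

section BN1
variable {F : Type*} [Field F] {D : ChevalleyDatum}

theorem N_conj_H (hD : Seven D) {n h : GL D.Idx F} (hn : n ∈ D.monomialSubgroup F)
    (hh : h ∈ D.diagonalSubgroup F) : n * h * n⁻¹ ∈ D.diagonalSubgroup F :=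
  ((Subgroup.mem_normalizer_iff.mp (N_le_normalizer_H hD hn)) h).mp hh

theorem ConjTo.simple_inv (hD : Seven D) (i : ℕ) (hi : i < D.rank) :
    ConjTo (F := F) hD (nG hD (D.simple i) 1)⁻¹ (wAt D i) := by
  intro s hs
  rw [wAt_eq7 hD i hi s hs]
  have hs' := reflect_lt7 hD i hi s hs
  have hε : ((etaAt D i (D.reflectRoot i s) : ℤ) : F) * ((etaAt D i (D.reflectRoot i s) : ℤ) : F) = 1 := by
    rcases eta_F_cases (F := F) hD i hi _ hs' with h | h <;> rw [h] <;> simp
  refine ⟨hs', ((etaAt D i (D.reflectRoot i s) : ℤ) : F), hε, fun t => ?_⟩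
  have hc := nG_conj_x hD i hi _ hs' (((etaAt D i (D.reflectRoot i s) : ℤ) : F) * t)
  rw [reflect_invol7 hD i hi s hs, ← mul_assoc, hε, one_mul] at hc
  rw [inv_inv, ← hc]
  group

theorem wordN_nil (hD : Seven D) : wordN (F := F) hD [] = 1 := rfl

theorem wordN_cons (hD : Seven D) (i : ℕ) (rest : List ℕ) :
    wordN (F := F) hD (i :: rest) = nG hD (D.simple i) 1 * wordN hD rest := rfl

theorem wordN_append (hD : Seven D) (a b : List ℕ) :
    wordN (F := F) hD (a ++ b) = wordN hD a * wordN hD b := by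
  induction a with
  | nil => rw [List.nil_append, wordN_nil, one_mul]
  | cons i a ih => rw [List.cons_append, wordN_cons, wordN_cons, ih, mul_assoc]

/-- A word in the `n_p` conjugates `n_s(t)` to `n_{w(s)}(± t)`. -/
theorem wordN_conj_n (hD : Seven D) (w : List ℕ) (hw : ∀ i ∈ w, i < D.rank) (s : ℕ)
    (hs : s < D.nroots) :
    ∃ ε : F, ε * ε = 1 ∧ ∀ t : F,
      wordN hD w * nG hD s t * (wordN hD w)⁻¹ = nG hD (wordApply D w s) (ε * t) := by
  induction w with
  | nil =>
    refine ⟨1, by simp, fun t => ?_⟩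
    show (1 : GL D.Idx F) * nG hD s t * (1 : GL D.Idx F)⁻¹ = nG hD s (1 * t)
    rw [one_mul, inv_one, mul_one, one_mul]
  | cons i rest ih =>
    have hi := hw i List.mem_cons_self
    have hr : ∀ j ∈ rest, j < D.rank := fun j hj => hw j (List.mem_cons_of_mem _ hj)
    obtain ⟨ε, hε, hc⟩ := ih hr
    have h1 := wordApply_lt hD rest hr s hs
    have hη : ((etaAt D i (wordApply D rest s) : ℤ) : F) *
        ((etaAt D i (wordApply D rest s) : ℤ) : F) = 1 := by
      rcases eta_F_cases (F := F) hD i hi _ h1 with h | h <;> rw [h] <;> simp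
    refine ⟨((etaAt D i (wordApply D rest s) : ℤ) : F) * ε, ?_, fun t => ?_⟩
    · rw [mul_mul_mul_comm, hη, hε, one_mul]
    · have e : wordN hD (i :: rest) * nG hD s t * (wordN hD (i :: rest))⁻¹ =
          nG hD (D.simple i) 1 * (wordN hD rest * nG hD s t * (wordN hD rest)⁻¹) *
            (nG hD (D.simple i) 1)⁻¹ := by
        rw [wordN_cons]; group
      rw [e, hc, nG_conj_n hD i hi _ h1, wordApply_cons, wAt_eq7 hD i hi _ h1, mul_assoc]

theorem wordN_inv_form (hD : Seven D) : ∀ (v : List ℕ), (∀ i ∈ v, i < D.rank) →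
    ∃ h ∈ D.diagonalSubgroup F, ∃ v' : List ℕ, (∀ i ∈ v', i < D.rank) ∧
      (wordN (F := F) hD v)⁻¹ = h * wordN hD v' := by
  intro v
  induction v with
  | nil =>
    intro _
    exact ⟨1, one_mem _, [], fun i hi => absurd hi List.not_mem_nil,
      by rw [wordN_nil, inv_one, one_mul]⟩
  | cons i rest ih =>
    intro hv
    have hi := hv i List.mem_cons_self
    obtain ⟨h₁, hh₁, v₁, hv₁, e₁⟩ := ih (fun j hj => hv j (List.mem_cons_of_mem _ hj))
    have hv' : ∀ j ∈ v₁ ++ [i], j < D.rank := by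
      intro j hj
      rcases List.mem_append.mp hj with hj | hj
      · exact hv₁ j hj
      · rw [List.mem_singleton] at hj; rw [hj]; exact hi
    have hsq := nG_sq_mem_H (F := F) hD (D.simple i) (simple_lt7 hD i hi)
    have hc := N_conj_H hD (wordN_mem hD _ hv') (inv_mem hsq)
    refine ⟨h₁ * (wordN hD (v₁ ++ [i]) * (nG hD (D.simple i) 1 * nG hD (D.simple i) 1)⁻¹ *
      (wordN hD (v₁ ++ [i]))⁻¹), mul_mem hh₁ hc, v₁ ++ [i], hv', ?_⟩
    rw [wordN_cons, mul_inv_rev, e₁, wordN_append, wordN_cons, wordN_nil, mul_one]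
    group

theorem closureN_form (hD : Seven D) :
    ∀ a ∈ Subgroup.closure {g : GL D.Idx F | ∃ i < D.rank, g = nG hD (D.simple i) 1},
      ∃ h ∈ D.diagonalSubgroup F, ∃ v : List ℕ, (∀ i ∈ v, i < D.rank) ∧ a = h * wordN hD v := by
  intro a ha
  induction ha using Subgroup.closure_induction with
  | mem x hx =>
    obtain ⟨i, hi, rfl⟩ := hx
    refine ⟨1, one_mem _, [i], ?_, ?_⟩
    · intro j hj; rw [List.mem_singleton] at hj; rw [hj]; exact hi
    · rw [wordN_cons, wordN_nil, mul_one, one_mul]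
  | one =>
    exact ⟨1, one_mem _, [], fun i hi => absurd hi List.not_mem_nil, by rw [wordN_nil, mul_one]⟩
  | mul x y _ _ hx hy =>
    obtain ⟨h₁, hh₁, v₁, hv₁, rfl⟩ := hx
    obtain ⟨h₂, hh₂, v₂, hv₂, rfl⟩ := hy
    have hv : ∀ j ∈ v₁ ++ v₂, j < D.rank := by
      intro j hj
      rcases List.mem_append.mp hj with hj | hj
      · exact hv₁ j hj
      · exact hv₂ j hj
    refine ⟨h₁ * (wordN hD v₁ * h₂ * (wordN hD v₁)⁻¹),
      mul_mem hh₁ (N_conj_H hD (wordN_mem hD _ hv₁) hh₂), v₁ ++ v₂, hv, ?_⟩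
    rw [wordN_append]; group
  | inv x _ hx =>
    obtain ⟨h₁, hh₁, v₁, hv₁, rfl⟩ := hx
    obtain ⟨h₂, hh₂, v₂, hv₂, e⟩ := wordN_inv_form (F := F) hD v₁ hv₁
    refine ⟨h₂ * (wordN hD v₂ * h₁⁻¹ * (wordN hD v₂)⁻¹),
      mul_mem hh₂ (N_conj_H hD (wordN_mem hD _ hv₂) (inv_mem hh₁)), v₂, hv₂, ?_⟩
    rw [mul_inv_rev, e]; group

/-- Every element of `N` is `h · n_v` with `h ∈ H` and `v` a word in the fundamental reflections. -/
theorem N_word_form (hD : Seven D) (g : GL D.Idx F) (hg : g ∈ D.monomialSubgroup F) :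
    ∃ h ∈ D.diagonalSubgroup F, ∃ v : List ℕ, (∀ i ∈ v, i < D.rank) ∧ g = h * wordN hD v := by
  have hA : Subgroup.closure {g : GL D.Idx F | ∃ r : ℕ, r < D.nroots ∧
        (g : Matrix D.Idx D.Idx F) = D.nMat F r 1} ≤
      Subgroup.closure {g : GL D.Idx F | ∃ i < D.rank, g = nG hD (D.simple i) 1} := by
    rw [Subgroup.closure_le]
    rintro x ⟨r, hr, hx⟩
    have e : x = nG hD r 1 := Units.ext (by rw [hx, nG_val])
    rw [e]
    exact nG_mem_of_simple hD
      (Subgroup.closure {g : GL D.Idx F | ∃ i < D.rank, g = nG hD (D.simple i) 1})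
      (fun i hi => Subgroup.subset_closure ⟨i, hi, rfl⟩) r hr
  have hnorm : ∀ a ∈ Subgroup.closure {g : GL D.Idx F | ∃ r : ℕ, r < D.nroots ∧
        (g : Matrix D.Idx D.Idx F) = D.nMat F r 1},
      ∀ n ∈ D.diagonalSubgroup F, a * n * a⁻¹ ∈ D.diagonalSubgroup F := by
    intro a ha n hn
    exact N_conj_H hD (Subgroup.mem_sup_right ha) hn
  obtain ⟨h, hh, a, ha, rfl⟩ := mem_sup_of_normalizes _ _ hnorm g hg
  obtain ⟨h', hh', v, hv, rfl⟩ := closureN_form hD a (hA ha)
  exact ⟨h * h', mul_mem hh hh', v, hv, by rw [mul_assoc]⟩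

theorem wordN_pos_of_B (hD : Seven D) (v : List ℕ) (hv : ∀ i ∈ v, i < D.rank)
    (hB : ∀ s, D.nroots / 2 ≤ s → s < D.nroots → ∀ t : F,
      wordN hD v * xG hD s t * (wordN hD v)⁻¹ ∈ D.borelSubgroup F) :
    ∀ s, D.nroots / 2 ≤ s → s < D.nroots → D.nroots / 2 ≤ wordApply D v s := by
  intro s hpos hs
  by_contra hneg
  obtain ⟨h1, ε, hε, hc⟩ := wordN_conj (F := F) hD v hv s hs
  have h2 := hB s hpos hs 1
  rw [hc] at h2
  have hnegR : D.IsNegRoot (wordApply D v s) := ((pos_iff7 hD _ h1).2).mpr (by omega)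
  have h3 : xG hD (wordApply D v s) (ε * 1) ∈ D.borelSubgroup F ⊓ D.negUnipotent F :=
    ⟨h2, xG_mem_negU hD _ hnegR _⟩
  rw [B_inf_negU hD] at h3
  have h4 : D.x F (wordApply D v s) (ε * 1) = 1 := by
    have h5 : ((xG hD (wordApply D v s) (ε * 1) : GL D.Idx F) : Matrix D.Idx D.Idx F) = 1 := by
      rw [Subgroup.mem_bot.mp h3]; rfl
    exact h5
  have h6 := (x_eq_one_iff7 hD _ h1 _).mp h4
  rw [mul_one] at h6
  rw [h6, mul_zero] at hε
  exact zero_ne_one hε

/-- If `n_v` conjugates the positive root elements into `B`, then `n_v ∈ H`. -/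
theorem wordN_mem_H_of_B (hD : Seven D) : ∀ (k : ℕ) (v : List ℕ), v.length = k →
    (∀ i ∈ v, i < D.rank) →
    (∀ s, D.nroots / 2 ≤ s → s < D.nroots → ∀ t : F,
      wordN hD v * xG hD s t * (wordN hD v)⁻¹ ∈ D.borelSubgroup F) →
    wordN (F := F) hD v ∈ D.diagonalSubgroup F := by
  intro k
  induction k using Nat.strong_induction_on with
  | _ k ih =>
    intro v hk hv hB
    rcases List.eq_nil_or_concat' v with rfl | ⟨v', l, rfl⟩
    · rw [wordN_nil]; exact one_mem _
    · have hev := nroots_even7 hD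
      have hl : l < D.rank := hv l (by simp)
      have hv' : ∀ i ∈ v', i < D.rank := fun i hi => hv i (by simp [hi])
      have hpl := simple_lt7 hD l hl
      have hposl : D.nroots / 2 ≤ D.simple l := ((pos_iff7 hD _ hpl).1).mp (simple_pos7 hD l hl)
      have hpos := wordN_pos_of_B hD _ hv hB (D.simple l) hposl hpl
      have e1 : wordApply D (v' ++ [l]) (D.simple l) = D.neg (wordApply D v' (D.simple l)) := by
        rw [wordApply_append, wordApply_cons, wordApply_nil, wAt_eq7 hD l hl _ hpl, reflect_self,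
          wordApply_neg hD v' hv' _ hpl]
      have h1 := wordApply_lt hD v' hv' _ hpl
      rw [e1, neg_eq7 hD _ h1] at hpos
      have hneg : wordApply D v' (D.simple l) < D.nroots / 2 := by omega
      obtain ⟨a, j, u, rfl, hu⟩ := word_exchange hD v' hv' (D.simple l) hpl hposl hneg
      have hj : j < D.rank := hv' j (by simp)
      have ha : ∀ i ∈ a, i < D.rank := fun i hi => hv' i (by simp [hi])
      have hu' : ∀ i ∈ u, i < D.rank := fun i hi => hv' i (by simp [hi])
      have hau : ∀ i ∈ a ++ u, i < D.rank := by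
        intro i hi
        rcases List.mem_append.mp hi with hi | hi
        · exact ha i hi
        · exact hu' i hi
      obtain ⟨ε, hε, hc⟩ := wordN_conj_n (F := F) hD u hu' (D.simple l) hpl
      have hc1 := hc 1
      rw [hu, mul_one] at hc1
      have hh' : nG hD (D.simple j) (1 : F) * nG hD (D.simple j) ε ∈ D.diagonalSubgroup F := by
        rcases mul_self_eq_one_iff.mp hε with h | h
        · rw [h]; exact nG_sq_mem_H hD _ (simple_lt7 hD j hj)
        · rw [h, ← nG_inv, mul_inv_cancel]; exact one_mem _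
      have hWa := wordN_mem (F := F) hD a ha
      have hh'' := N_conj_H hD hWa hh'
      have eW : wordN (F := F) hD ((a ++ j :: u) ++ [l]) =
          (wordN hD a * (nG hD (D.simple j) 1 * nG hD (D.simple j) ε) * (wordN hD a)⁻¹) *
            wordN hD (a ++ u) := by
        rw [wordN_append, wordN_append, wordN_cons, wordN_cons, wordN_nil, mul_one, wordN_append,
          ← hc1]
        group
      have hhB : wordN hD a * (nG hD (D.simple j) 1 * nG hD (D.simple j) ε) * (wordN hD a)⁻¹ ∈
          D.borelSubgroup F := Subgroup.mem_sup_right hh''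
      have hBau : ∀ s, D.nroots / 2 ≤ s → s < D.nroots → ∀ t : F,
          wordN hD (a ++ u) * xG hD s t * (wordN hD (a ++ u))⁻¹ ∈ D.borelSubgroup F := by
        intro s hs1 hs2 t
        have h2 := hB s hs1 hs2 t
        rw [eW] at h2
        have e3 : wordN hD (a ++ u) * xG hD s t * (wordN hD (a ++ u))⁻¹ =
            (wordN hD a * (nG hD (D.simple j) 1 * nG hD (D.simple j) ε) * (wordN hD a)⁻¹)⁻¹ *
            ((wordN hD a * (nG hD (D.simple j) 1 * nG hD (D.simple j) ε) * (wordN hD a)⁻¹) *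
                wordN hD (a ++ u) * xG hD s t *
              ((wordN hD a * (nG hD (D.simple j) 1 * nG hD (D.simple j) ε) * (wordN hD a)⁻¹) *
                wordN hD (a ++ u))⁻¹) *
            (wordN hD a * (nG hD (D.simple j) 1 * nG hD (D.simple j) ε) * (wordN hD a)⁻¹) := by
          group
        rw [e3]
        exact mul_mem (mul_mem (inv_mem hhB) h2) hhB
      have hlen : (a ++ u).length < k := by
        rw [← hk]
        simp only [List.length_append, List.length_cons, List.length_nil]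
        omega
      have h3 := ih _ hlen (a ++ u) rfl hau hBau
      rw [eW]
      exact mul_mem hh'' h3

/-- `B ∩ N = H`. -/
theorem B_inf_N (hD : Seven D) :
    D.borelSubgroup F ⊓ D.monomialSubgroup F = D.diagonalSubgroup F := by
  apply le_antisymm
  · rintro g ⟨hgB, hgN⟩
    obtain ⟨h, hh, v, hv, rfl⟩ := N_word_form hD g hgN
    have hhB : h ∈ D.borelSubgroup F := Subgroup.mem_sup_right hh
    have hW : wordN hD v ∈ D.borelSubgroup F := by
      have e : wordN hD v = h⁻¹ * (h * wordN hD v) := by group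
      rw [e]; exact mul_mem (inv_mem hhB) hgB
    have hWH := wordN_mem_H_of_B hD _ v rfl hv (fun s hs1 hs2 t =>
      mul_mem (mul_mem hW (Subgroup.mem_sup_left
        (xG_mem_posU hD s (((pos_iff7 hD s hs2).1).mpr hs1) t))) (inv_mem hW))
    exact mul_mem hh hWH
  · exact le_inf le_sup_right le_sup_left

/-- `U ∩ N = 1`. -/
theorem posU_inf_N (hD : Seven D) : D.posUnipotent F ⊓ D.monomialSubgroup F = ⊥ := by
  rw [eq_bot_iff]
  rintro g ⟨hgU, hgN⟩
  have h1 : g ∈ D.borelSubgroup F ⊓ D.monomialSubgroup F := ⟨Subgroup.mem_sup_left hgU, hgN⟩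
  rw [B_inf_N hD] at h1
  have h2 : g ∈ D.posUnipotent F ⊓ D.diagonalSubgroup F := ⟨hgU, h1⟩
  rw [posU_inf_H hD] at h2
  exact h2

end BN1

end Cfsg.Agent.Helper11
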