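import Cfsg.Agent.Helper11.ChevW0

set_option autoImplicit false

/-! Kernel checks of the longest-element tables for the seven tabulated data, and the conjugacy of `U`
and `V` under `N`. -/

namespace Cfsg.Agent.Helper11

open Cfsg.Lie

set_option maxRecDepth 100000
set_option maxHeartbeats 0
set_option Elab.async false

/-- A reduced word for the longest element of type G2. -/
def w0WordG2 : List ℕ :=
  [0, 1, 0, 1, 0, 1]

/-- A reduced word for the longest element of type B2. -/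
def w0WordB2 : List ℕ :=
  [0, 1, 0, 1]

/-- A reduced word for the longest element of type D4. -/
def w0WordD4 : List ℕ :=
  [0, 1, 0, 2, 1, 0, 3, 1, 0, 2, 1, 3]

/-- A reduced word for the longest element of type F4. -/
def w0WordF4 : List ℕ :=
  [0, 1, 0, 2, 1, 0, 2, 1, 2, 3, 2, 1, 0, 2, 1, 2, 3, 2, 1, 0, 2, 1, 2, 3]

/-- A reduced word for the longest element of type E6. -/
def w0WordE6 : List ℕ :=
  [0, 1, 2, 0, 3, 1, 2, 0, 3, 2, 4, 3, 1, 2, 0, 3, 2, 4, 3, 1, 5, 4, 3, 1, 2, 0, 3, 2, 4, 3, 1, 5, 4, 3, 2, 0]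

/-- A reduced word for the longest element of type E7. -/
def w0WordE7 : List ℕ :=
  [0, 1, 2, 0, 3, 1, 2, 0, 3, 2, 4, 3, 1, 2, 0, 3, 2, 4, 3, 1, 5, 4, 3, 1, 2, 0, 3, 2, 4, 3, 1, 5, 4, 3, 2, 0, 6, 5, 4, 3, 1, 2, 0, 3, 2, 4, 3, 1, 5, 4, 3, 2, 0, 6, 5, 4, 3, 1, 2, 3, 4, 5, 6]

/-- A reduced word for the longest element of type E8. -/
def w0WordE8 : List ℕ :=
  [0, 1, 2, 0, 3, 1, 2, 0, 3, 2, 4, 3, 1, 2, 0, 3, 2, 4, 3, 1, 5, 4, 3, 1, 2, 0, 3, 2, 4, 3, 1, 5, 4, 3, 2, 0, 6, 5, 4, 3, 1, 2, 0, 3, 2, 4, 3, 1, 5, 4, 3, 2, 0, 6, 5, 4, 3, 1, 2, 3, 4, 5, 6, 7, 6, 5, 4, 3, 1, 2, 0, 3, 2, 4, 3, 1, 5, 4, 3, 2, 0, 6, 5, 4, 3, 1, 2, 3, 4, 5, 6, 7, 6, 5, 4, 3, 1, 2, 0, 3, 2, 4, 3, 1, 5, 4, 3, 2, 0, 6, 5, 4, 3, 1, 2, 3, 4, 5, 6, 7]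

theorem w0OK_G2 : w0OK chevG2 w0WordG2 = true := by decide +kernel
theorem w0OK_B2 : w0OK chevB2 w0WordB2 = true := by decide +kernel
theorem w0OK_D4 : w0OK chevD4 w0WordD4 = true := by decide +kernel
theorem w0OK_F4 : w0OK chevF4 w0WordF4 = true := by decide +kernel
theorem w0OK_E6 : w0OK chevE6 w0WordE6 = true := by decide +kernel
theorem w0OK_E7 : w0OK chevE7 w0WordE7 = true := by decide +kernel
theorem w0OK_E8 : w0OK chevE8 w0WordE8 = true := by decide +kernel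

theorem w0OK_seven (D : ChevalleyDatum)
    (hD : D ∈ [chevG2, chevB2, chevD4, chevF4, chevE6, chevE7, chevE8]) : ∃ w, w0OK D w = true :=
  forall_seven (P := fun D => ∃ w, w0OK D w = true) ⟨_, w0OK_G2⟩ ⟨_, w0OK_B2⟩ ⟨_, w0OK_D4⟩
    ⟨_, w0OK_F4⟩ ⟨_, w0OK_E6⟩ ⟨_, w0OK_E7⟩ ⟨_, w0OK_E8⟩ D hD

/-- Some element of `N` conjugates `U` onto `V`. -/
theorem exists_w0 {F : Type*} [Field F] {D : ChevalleyDatum} (hD : Seven D) :
    ∃ n ∈ D.monomialSubgroup F,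
      (D.posUnipotent F).map (MulAut.conj n).toMonoidHom = D.negUnipotent F := by
  obtain ⟨w, h⟩ := w0OK_seven D hD
  exact ⟨wordN hD w, wordN_mem hD w (w0OK_lt w h), w0_map hD w h⟩

end Cfsg.Agent.Helper11
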