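import Cfsg.Agent.Helper11.ChevGrp2
import Cfsg.Agent.Helper11.ChevW0All

set_option autoImplicit false

/-!
The action of `H` on the root subgroups in terms of the diagonal form of its elements, and the
triviality of the normal core of `B` in the Chevalley group.
-/

namespace Cfsg.Agent.Helper11

open Cfsg.Lie

section Core
variable {F : Type*} [Field F] {D : ChevalleyDatum}

theorem hsList_conj (hD : Seven D) (c : ℕ → F) (hc : ∀ i < D.rank, c i ≠ 0) (s : ℕ)
    (hs : s < D.nroots) :
    ∀ (l : List ℕ), (∀ i ∈ l, i < D.rank) → ∀ t : F,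
      wG hD (l.flatMap fun i => D.hWord (D.simple i) (c i)) * xG hD s t *
        (wG hD (l.flatMap fun i => D.hWord (D.simple i) (c i)))⁻¹ =
      xG hD s ((l.map fun i => c i ^ D.cartan i s).prod * t) := by
  intro l
  induction l with
  | nil =>
    intro _ t
    rw [List.flatMap_nil, wG_nil, List.map_nil, List.prod_nil, one_mul, one_mul, inv_one, mul_one]
  | cons i l ih =>
    intro hl t
    have hi : i < D.rank := hl i List.mem_cons_self
    rw [List.flatMap_cons, wG_append, List.map_cons, List.prod_cons]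
    have e : wG hD (D.hWord (D.simple i) (c i)) = hG hD (D.simple i) (c i) := rfl
    rw [e]
    have h1 := ih (fun j hj => hl j (List.mem_cons_of_mem _ hj)) t
    have h2 := hG_conj_x hD (D.simple i) (simple_lt7 hD i hi) s hs (c i) (hc i hi)
      ((l.map fun i => c i ^ D.cartan i s).prod * t)
    rw [pairing_simple7 hD i hi s hs] at h2
    rw [mul_assoc (c i ^ D.cartan i s), ← h2, ← h1]
    group

/-- An element of `H` with diagonal form `hsDiag D c` acts on the root subgroup `X_s` by the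
character value `hsDiag D c s`. -/
theorem H_conj_x (hD : Seven D) (h : GL D.Idx F) (c : ℕ → F) (hc : ∀ i < D.rank, c i ≠ 0)
    (hh : (h : Matrix D.Idx D.Idx F) = Matrix.diagonal (hsDiag D c)) (s : ℕ) (hs : s < D.nroots)
    (t : F) :
    h * xG hD s t * h⁻¹ = xG hD s (hsDiag D c (Sum.inr ⟨s, hs⟩) * t) := by
  have e : h = wG hD ((List.range D.rank).flatMap fun i => D.hWord (D.simple i) (c i)) := by
    apply Units.ext
    rw [hh, wG_val, hs_word hD c hc]
  rw [e]
  exact hsList_conj hD c hc s hs (List.range D.rank) (fun i hi => List.mem_range.mp hi) t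

theorem xG_mem_H_zero (hD : Seven D) (s : ℕ) (hs : s < D.nroots) (a : F)
    (h : xG hD s a ∈ D.diagonalSubgroup F) : a = 0 := by
  have h1 : xG hD s a = 1 := by
    by_cases hp : D.nroots / 2 ≤ s
    · have hpos : D.IsPosRoot s := ((pos_iff7 hD s hs).1).mpr hp
      have h2 : xG hD s a ∈ D.posUnipotent F ⊓ D.diagonalSubgroup F :=
        ⟨xG_mem_posU hD s hpos a, h⟩
      rw [posU_inf_H hD] at h2
      exact Subgroup.mem_bot.mp h2
    · have hneg : D.IsNegRoot s := ((pos_iff7 hD s hs).2).mpr (by omega)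
      have h2 : xG hD s a ∈ D.borelSubgroup F ⊓ D.negUnipotent F :=
        ⟨Subgroup.mem_sup_right h, xG_mem_negU hD s hneg a⟩
      rw [B_inf_negU hD] at h2
      exact Subgroup.mem_bot.mp h2
  have h2 : D.x F s a = 1 := by
    have h3 : ((xG hD s a : GL D.Idx F) : Matrix D.Idx D.Idx F) = 1 := by rw [h1]; rfl
    exact h3
  exact (x_eq_one_iff7 hD s hs a).mp h2

/-- The normal core of `B` in the Chevalley group is trivial. -/
theorem core_B (hD : Seven D) : ((D.borelSubgroup F).subgroupOf (D.group F)).normalCore = ⊥ := by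
  obtain ⟨n₀, hn₀, hmap⟩ := exists_w0 (F := F) hD
  have hn₀G : n₀ ∈ D.group F := N_le_group hD hn₀
  have step1 : ∀ k : ↥(D.group F), k ∈ ((D.borelSubgroup F).subgroupOf (D.group F)).normalCore →
      (k : GL D.Idx F) ∈ D.diagonalSubgroup F := by
    intro k hk
    have hk' : ∀ b : ↥(D.group F), b * k * b⁻¹ ∈ (D.borelSubgroup F).subgroupOf (D.group F) := hk
    have hk1 : (k : GL D.Idx F) ∈ D.borelSubgroup F := by
      have h := hk' 1
      rw [Subgroup.mem_subgroupOf] at h
      simpa using h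
    have hk2 : n₀⁻¹ * (k : GL D.Idx F) * n₀ ∈ D.borelSubgroup F := by
      have h := hk' (⟨n₀, hn₀G⟩ : ↥(D.group F))⁻¹
      rw [Subgroup.mem_subgroupOf] at h
      simpa using h
    have hk3 : (k : GL D.Idx F) ∈ D.negUnipotent F ⊔ D.diagonalSubgroup F := by
      have hconj : ∀ u ∈ D.borelSubgroup F,
          n₀ * u * n₀⁻¹ ∈ D.negUnipotent F ⊔ D.diagonalSubgroup F := by
        intro u hu
        unfold ChevalleyDatum.borelSubgroup at hu
        rw [Subgroup.sup_eq_closure] at hu
        refine conj_closure_le _ _ n₀ ?_ u hu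
        rintro x (hx | hx)
        · apply Subgroup.mem_sup_left
          rw [← hmap]
          exact ⟨x, hx, rfl⟩
        · apply Subgroup.mem_sup_right
          exact ((Subgroup.mem_normalizer_iff.mp (N_le_normalizer_H hD hn₀)) x).mp hx
      have h := hconj _ hk2
      have e : n₀ * (n₀⁻¹ * (k : GL D.Idx F) * n₀) * n₀⁻¹ = (k : GL D.Idx F) := by group
      rwa [e] at h
    have h4 : (k : GL D.Idx F) ∈ D.borelSubgroup F ⊓ (D.negUnipotent F ⊔ D.diagonalSubgroup F) :=
      ⟨hk1, hk3⟩
    rwa [B_inf_negUH hD] at h4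
  rw [eq_bot_iff]
  intro k hk
  rw [Subgroup.mem_bot]
  have hkH := step1 k hk
  obtain ⟨c, hc, hval⟩ := H_form hD _ hkH
  have hchi : ∀ s (hs : s < D.nroots), hsDiag D c (Sum.inr ⟨s, hs⟩) = 1 := by
    intro s hs
    have hnorm : (((D.borelSubgroup F).subgroupOf (D.group F)).normalCore).Normal :=
      Subgroup.normalCore_normal _
    have hmem : k * ((⟨xG hD s 1, xG_mem_group hD s 1⟩ : ↥(D.group F)) * k⁻¹ *
        (⟨xG hD s 1, xG_mem_group hD s 1⟩ : ↥(D.group F))⁻¹) ∈
          ((D.borelSubgroup F).subgroupOf (D.group F)).normalCore :=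
      mul_mem hk (hnorm.conj_mem _ (inv_mem hk) _)
    have h1 := step1 _ hmem
    have e : ((k * ((⟨xG hD s 1, xG_mem_group hD s 1⟩ : ↥(D.group F)) * k⁻¹ *
        (⟨xG hD s 1, xG_mem_group hD s 1⟩ : ↥(D.group F))⁻¹) : ↥(D.group F)) : GL D.Idx F) =
          xG hD s (hsDiag D c (Sum.inr ⟨s, hs⟩) - 1) := by
      have hcx := H_conj_x hD (k : GL D.Idx F) c hc hval s hs 1
      rw [mul_one] at hcx
      show (k : GL D.Idx F) * (xG hD s 1 * (k : GL D.Idx F)⁻¹ * (xG hD s 1)⁻¹) = _
      have e2 : (k : GL D.Idx F) * (xG hD s 1 * (k : GL D.Idx F)⁻¹ * (xG hD s 1)⁻¹) =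
          ((k : GL D.Idx F) * xG hD s 1 * (k : GL D.Idx F)⁻¹) * (xG hD s 1)⁻¹ := by group
      rw [e2, hcx, xG_inv, xG_mul, sub_eq_add_neg]
    rw [e] at h1
    exact sub_eq_zero.mp (xG_mem_H_zero hD s hs _ h1)
  have hone : hsDiag D c = fun _ => (1 : F) := by
    funext j
    rcases j with j | ⟨s, hs⟩
    · rfl
    · exact hchi s hs
  apply Subtype.ext
  apply Units.ext
  rw [hval, hone, Matrix.diagonal_one]
  rfl

end Core

end Cfsg.Agent.Helper11
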