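import Cfsg.Agent.Helper11.ChevPosAll

set_option autoImplicit false

/-!
The structure of `U` for the seven tabulated data: the rank one decomposition, the ordered product form
of the elements of `U` and its uniqueness.
-/

namespace Cfsg.Agent.Helper11

open Cfsg.Lie

section UStruct
variable {F : Type*} [Field F] {D : ChevalleyDatum}

theorem commPos7 (hD : Seven D) (r : ℕ) (hr : D.nroots / 2 ≤ r) (hr2 : r < D.nroots) (s : ℕ)
    (hs : s < D.nroots) (hs2 : D.nroots / 2 ≤ s) (hne : s ≠ r) :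
    ∀ c ∈ D.commTerms r s, c.1 < D.nroots ∧ r < c.1 ∧ s < c.1 :=
  commPos_of (tabOK_seven D hD) (posOK_seven D hD) r hr hr2 s hs hs2 hne

/-- `x_r(t) x_s(u) x_r(t)⁻¹ = x_s(u) · (commutator word of (r, s) at (-t, u))`. -/
theorem xG_conj_x (hD : Seven D) (r s : ℕ) (hr : r < D.nroots) (hs : s < D.nroots) (hsr : s ≠ r)
    (hsn : s ≠ D.neg r) (t u : F) :
    xG hD r t * xG hD s u * (xG hD r t)⁻¹ = xG hD s u * wG hD (D.commWord F r s (-t) u) := by
  have h := comm7 hD r s hr hs hsr hsn (-t) u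
  have hG : xG hD s u * xG hD r (-t) =
      xG hD r (-t) * xG hD s u * wG hD (D.commWord F r s (-t) u) := by
    apply Units.ext
    rw [Units.val_mul, Units.val_mul, Units.val_mul, xG_val, xG_val, wG_val]; exact h
  rw [xG_inv]
  calc xG hD r t * xG hD s u * xG hD r (-t) = xG hD r t * (xG hD s u * xG hD r (-t)) := by group
    _ = xG hD r t * (xG hD r (-t) * xG hD s u * wG hD (D.commWord F r s (-t) u)) := by rw [hG]
    _ = (xG hD r t * xG hD r (-t)) * (xG hD s u * wG hD (D.commWord F r s (-t) u)) := by group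
    _ = _ := by rw [xG_mul, add_neg_cancel, xG_zero, one_mul]

/-! ### The rank one decomposition -/

theorem rank1_conj (hD : Seven D) (i : ℕ) (hi : i < D.rank) (q : ℕ)
    (hq : q = D.simple i ∨ q = D.neg (D.simple i)) (t : F) :
    ∀ u ∈ Subgroup.closure {g : GL D.Idx F | ∃ (s : ℕ) (t : F), D.IsPosRoot s ∧ s ≠ D.simple i ∧
        (g : Matrix D.Idx D.Idx F) = D.x F s t},
      xG hD q t * u * (xG hD q t)⁻¹ ∈ Subgroup.closure {g : GL D.Idx F | ∃ (s : ℕ) (t : F),
        D.IsPosRoot s ∧ s ≠ D.simple i ∧ (g : Matrix D.Idx D.Idx F) = D.x F s t} := by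
  intro u hu
  refine conj_closure_le _ _ _ ?_ u hu
  rintro x ⟨s, c, hpos, hne, hx⟩
  rw [eq_xG hD x s c hx]
  have hs2 : D.nroots / 2 ≤ s := ((pos_iff7 hD s hpos.1).1).mp hpos
  have hp := simple_lt7 hD i hi
  have hp2 := (wOK_simple (wOK_seven D hD) i hi).1
  have hev := nroots_even7 hD
  have hnp := neg_eq7 hD (D.simple i) hp
  have hterm : ∀ c' ∈ D.commTerms q s, D.IsPosRoot c'.1 ∧ c'.1 ≠ D.simple i := by
    intro c' hc'
    rcases hq with rfl | rfl
    · have h3 := commPos7 hD (D.simple i) hp2 hp s hpos.1 hs2 hne c' hc'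
      exact ⟨((pos_iff7 hD _ h3.1).1).mpr (by omega), by omega⟩
    · have h3 := rank1_of (tabOK_seven D hD) (posOK_seven D hD) i hi s hpos.1 hs2 hne c' hc'
      exact ⟨((pos_iff7 hD _ h3.1).1).mpr h3.2.1, h3.2.2⟩
  have hq_lt : q < D.nroots := by
    rcases hq with rfl | rfl
    · exact hp
    · exact neg_lt7 hD _ hp
  have hsq : s ≠ q := by
    rcases hq with rfl | rfl
    · exact hne
    · rw [hnp]; omega
  have hsnq : s ≠ D.neg q := by
    rcases hq with rfl | rfl
    · rw [hnp]; omega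
    · rw [neg_neg7 hD _ hp]; exact hne
  rw [xG_conj_x hD q s hq_lt hpos.1 hsq hsnq t c]
  refine mul_mem (Subgroup.subset_closure ⟨s, c, hpos, hne, rfl⟩) ?_
  unfold wG
  apply Subgroup.list_prod_mem
  intro g hg
  rw [List.mem_map] at hg
  obtain ⟨p, hp', rfl⟩ := hg
  unfold ChevalleyDatum.commWord at hp'
  rw [List.mem_map] at hp'
  obtain ⟨c', hc', rfl⟩ := hp'
  have h4 := hterm c' hc'
  exact Subgroup.subset_closure ⟨c'.1, _, h4.1, h4.2, rfl⟩

theorem rank1_normalizer (hD : Seven D) (i : ℕ) (hi : i < D.rank) :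
    D.rootSubgroup F (D.simple i) ⊔ D.rootSubgroup F (D.neg (D.simple i)) ≤
      Subgroup.normalizer (Subgroup.closure {g : GL D.Idx F | ∃ (s : ℕ) (t : F), D.IsPosRoot s ∧
        s ≠ D.simple i ∧ (g : Matrix D.Idx D.Idx F) = D.x F s t} : Set (GL D.Idx F)) := by
  have key : ∀ q, (q = D.simple i ∨ q = D.neg (D.simple i)) →
      D.rootSubgroup F q ≤ Subgroup.normalizer (Subgroup.closure {g : GL D.Idx F |
        ∃ (s : ℕ) (t : F), D.IsPosRoot s ∧ s ≠ D.simple i ∧
          (g : Matrix D.Idx D.Idx F) = D.x F s t} : Set (GL D.Idx F)) := by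
    intro q hq
    unfold ChevalleyDatum.rootSubgroup
    rw [Subgroup.closure_le]
    rintro g ⟨t, hg⟩
    rw [eq_xG hD g q t hg]
    apply mem_normalizer_of_conj
    · exact rank1_conj hD i hi q hq t
    · intro u hu
      have := rank1_conj hD i hi q hq (-t) u hu
      rw [← xG_inv, inv_inv] at this
      exact this
  exact sup_le (key _ (Or.inl rfl)) (key _ (Or.inr rfl))

theorem rank1_sup (hD : Seven D) (i : ℕ) (hi : i < D.rank) :
    Subgroup.closure {g : GL D.Idx F | ∃ (s : ℕ) (t : F), D.IsPosRoot s ∧ s ≠ D.simple i ∧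
        (g : Matrix D.Idx D.Idx F) = D.x F s t} ⊔ D.rootSubgroup F (D.simple i) =
      D.posUnipotent F := by
  apply le_antisymm
  · apply sup_le
    · apply Subgroup.closure_mono
      rintro g ⟨s, t, hpos, _, hg⟩
      exact ⟨s, t, hpos, hg⟩
    · unfold ChevalleyDatum.rootSubgroup
      rw [Subgroup.closure_le]
      rintro g ⟨t, hg⟩
      rw [eq_xG hD g _ t hg]
      exact xG_mem_posU hD _ (simple_pos7 hD i hi) t
  · unfold ChevalleyDatum.posUnipotent
    rw [Subgroup.closure_le]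
    rintro g ⟨s, t, hpos, hg⟩
    by_cases e : s = D.simple i
    · apply Subgroup.mem_sup_right
      apply Subgroup.subset_closure
      exact ⟨t, by rw [hg, e]⟩
    · apply Subgroup.mem_sup_left
      apply Subgroup.subset_closure
      exact ⟨s, t, hpos, e, hg⟩

/-! ### The subgroups `⟨X_r : r ≥ m⟩` -/

/-- The subgroup generated by the root subgroups `X_r`, `m ≤ r < nroots`. -/
def Uge (D : ChevalleyDatum) (F : Type*) [Field F] (m : ℕ) : Subgroup (GL D.Idx F) :=
  Subgroup.closure {g | ∃ (r : ℕ) (t : F), m ≤ r ∧ r < D.nroots ∧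
    (g : Matrix D.Idx D.Idx F) = D.x F r t}

theorem xG_mem_Uge (hD : Seven D) (m r : ℕ) (h1 : m ≤ r) (h2 : r < D.nroots) (t : F) :
    xG hD r t ∈ Uge D F m :=
  Subgroup.subset_closure ⟨r, t, h1, h2, rfl⟩

theorem posU_eq_Uge (hD : Seven D) : D.posUnipotent F = Uge D F (D.nroots / 2) := by
  unfold ChevalleyDatum.posUnipotent Uge
  congr 1
  ext g
  constructor
  · rintro ⟨r, t, hpos, hg⟩
    exact ⟨r, t, ((pos_iff7 hD r hpos.1).1).mp hpos, hpos.1, hg⟩
  · rintro ⟨r, t, h1, h2, hg⟩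
    exact ⟨r, t, ((pos_iff7 hD r h2).1).mpr h1, hg⟩

theorem Uge_le_posU (hD : Seven D) (m : ℕ) (hm : D.nroots / 2 ≤ m) :
    Uge D F m ≤ D.posUnipotent F := by
  rw [posU_eq_Uge hD]
  apply Subgroup.closure_mono
  rintro g ⟨r, t, h1, h2, h3⟩
  exact ⟨r, t, by omega, h2, h3⟩

theorem Uge_conj (hD : Seven D) (m : ℕ) (hm : D.nroots / 2 ≤ m) (hm2 : m < D.nroots) (t : F) :
    ∀ g ∈ Uge D F (m + 1), xG hD m t * g * (xG hD m t)⁻¹ ∈ Uge D F (m + 1) := by
  intro g hg
  refine conj_closure_le _ _ _ ?_ g hg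
  rintro x ⟨r, c, h1, h2, hx⟩
  rw [eq_xG hD x r c hx]
  have hne : r ≠ m := by omega
  have hev := nroots_even7 hD
  have hnn : r ≠ D.neg m := by rw [neg_eq7 hD m hm2]; omega
  rw [xG_conj_x hD m r hm2 h2 hne hnn t c]
  refine mul_mem (xG_mem_Uge hD _ r h1 h2 c) ?_
  unfold wG
  apply Subgroup.list_prod_mem
  intro y hy
  rw [List.mem_map] at hy
  obtain ⟨p, hp, rfl⟩ := hy
  unfold ChevalleyDatum.commWord at hp
  rw [List.mem_map] at hp
  obtain ⟨c', hc', rfl⟩ := hp
  have h3 := commPos7 hD m hm hm2 r h2 (by omega) hne c' hc'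
  exact xG_mem_Uge hD _ _ (by omega) h3.1 _

theorem Uge_factor (hD : Seven D) (m : ℕ) (hm : D.nroots / 2 ≤ m) (hm2 : m < D.nroots) :
    ∀ g ∈ Uge D F m, ∃ t : F, ∃ g' ∈ Uge D F (m + 1), g = xG hD m t * g' := by
  intro g hg
  unfold Uge at hg
  induction hg using Subgroup.closure_induction with
  | mem x hx =>
    obtain ⟨r, c, h1, h2, hx⟩ := hx
    rw [eq_xG hD x r c hx]
    by_cases e : r = m
    · subst e; exact ⟨c, 1, one_mem _, by rw [mul_one]⟩
    · exact ⟨0, xG hD r c, xG_mem_Uge hD _ r (by omega) h2 c, by rw [xG_zero, one_mul]⟩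
  | one => exact ⟨0, 1, one_mem _, by rw [xG_zero, one_mul]⟩
  | mul x y _ _ hx hy =>
    obtain ⟨t₁, g₁, hg₁, rfl⟩ := hx
    obtain ⟨t₂, g₂, hg₂, rfl⟩ := hy
    have hc := Uge_conj hD m hm hm2 (-t₂) g₁ hg₁
    rw [← xG_inv, inv_inv] at hc
    refine ⟨t₁ + t₂, (xG hD m t₂)⁻¹ * g₁ * xG hD m t₂ * g₂, mul_mem hc hg₂, ?_⟩
    rw [← xG_mul]; group
  | inv x _ hx =>
    obtain ⟨t, g', hg', rfl⟩ := hx
    refine ⟨-t, xG hD m t * g'⁻¹ * (xG hD m t)⁻¹, Uge_conj hD m hm hm2 t _ (inv_mem hg'), ?_⟩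
    rw [← xG_inv]; group

/-- The ordered word over the roots `m, m+1, …, m+j-1`. -/
def ordWord (τ : ℕ → F) (m j : ℕ) : List (ℕ × F) := (List.range' m j).map fun r => (r, τ r)

theorem ordWord_succ (τ : ℕ → F) (m j : ℕ) :
    ordWord τ m (j + 1) = (m, τ m) :: ordWord τ (m + 1) j := by
  unfold ordWord
  rw [List.range'_succ, List.map_cons]

theorem ordWord_congr (τ τ' : ℕ → F) (m j : ℕ) (h : ∀ r, m ≤ r → r < m + j → τ r = τ' r) :
    ordWord τ m j = ordWord τ' m j := by
  unfold ordWord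
  apply List.map_congr_left
  intro r hr
  rw [List.mem_range'_1] at hr
  rw [h r hr.1 hr.2]

theorem ordWord_mem (hD : Seven D) (τ : ℕ → F) (m j : ℕ) (h : m + j ≤ D.nroots) :
    wG hD (ordWord τ m j) ∈ Uge D F m := by
  unfold wG ordWord
  apply Subgroup.list_prod_mem
  intro y hy
  rw [List.mem_map] at hy
  obtain ⟨p, hp, rfl⟩ := hy
  rw [List.mem_map] at hp
  obtain ⟨r, hr, rfl⟩ := hp
  rw [List.mem_range'_1] at hr
  exact xG_mem_Uge hD _ _ hr.1 (by omega) _

theorem Uge_ordered (hD : Seven D) : ∀ j m, m + j = D.nroots → D.nroots / 2 ≤ m →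
    ∀ g ∈ Uge D F m, ∃ τ : ℕ → F, g = wG hD (ordWord τ m j) := by
  intro j
  induction j with
  | zero =>
    intro m hm _ g hg
    have : Uge D F m = ⊥ := by
      unfold Uge
      rw [Subgroup.closure_eq_bot_iff]
      rintro g ⟨r, t, h1, h2, _⟩
      omega
    rw [this, Subgroup.mem_bot] at hg
    exact ⟨fun _ => 0, by rw [hg]; rfl⟩
  | succ j ih =>
    intro m hm hm2 g hg
    obtain ⟨t, g', hg', rfl⟩ := Uge_factor hD m hm2 (by omega) g hg
    obtain ⟨τ', rfl⟩ := ih (m + 1) (by omega) (by omega) g' hg'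
    refine ⟨Function.update τ' m t, ?_⟩
    rw [ordWord_succ, wG_cons, Function.update_self,
      ordWord_congr (Function.update τ' m t) τ' (m + 1) j
        (fun r h1 _ => Function.update_of_ne (by omega) _ _)]

/-! ### Uniqueness of the ordered product -/

/-- Vectors supported on the positive root coordinates. -/
def PosSupp (D : ChevalleyDatum) (v : D.Idx → F) : Prop :=
  ∀ a, v a ≠ 0 → D.rank + D.nroots / 2 ≤ code D a

theorem PosSupp.add {v w : D.Idx → F} (hv : PosSupp D v) (hw : PosSupp D w) : PosSupp D (v + w) := by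
  intro a h
  by_cases h1 : v a = 0
  · apply hw a; intro h2; apply h; rw [Pi.add_apply, h1, h2, add_zero]
  · exact hv a h1

theorem PosSupp.neg {v : D.Idx → F} (hv : PosSupp D v) : PosSupp D (-v) := by
  intro a h
  apply hv a; intro h1; apply h; rw [Pi.neg_apply, h1, neg_zero]

theorem PosSupp.zero : PosSupp D (0 : D.Idx → F) := fun a h => absurd rfl h

theorem lvlI_pos_iff (D : ChevalleyDatum) (a : D.Idx) :
    D.rank + D.nroots / 2 ≤ lvlI D a ↔ D.rank + D.nroots / 2 ≤ code D a := by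
  have := code_lt D a
  unfold lvlI; rw [lvl_spec]; split_ifs <;> omega

theorem PosSupp.mulVec (g : Matrix D.Idx D.Idx F) (hg : UpK (lvlI D) 1 (g - 1)) {v : D.Idx → F}
    (hv : PosSupp D v) : PosSupp D (g.mulVec v) := by
  intro a h
  unfold Matrix.mulVec at h
  rw [dotProduct] at h
  obtain ⟨b, _, hb⟩ := Finset.exists_ne_zero_of_sum_ne_zero h
  have h1 : g a b ≠ 0 := left_ne_zero_of_mul hb
  have h2 : v b ≠ 0 := right_ne_zero_of_mul hb
  have h3 := hv b h2
  by_cases e : a = b
  · rw [e]; exact h3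
  · have h4 : (g - 1) a b ≠ 0 := by
      rw [Matrix.sub_apply, Matrix.one_apply_ne e, sub_zero]; exact h1
    have h5 := hg a b h4
    rw [← lvlI_pos_iff] at h3 ⊢
    omega

theorem PosSupp.list_sum (L : List (ℕ × ℕ × ℤ)) (t : F)
    (h : ∀ e ∈ L, D.rank + D.nroots / 2 ≤ e.1) :
    PosSupp D ((L.map fun e => ((e.2.2 : F) * t ^ e.2.1) • basisVec D F e.1).sum) := by
  induction L with
  | nil => exact PosSupp.zero
  | cons x L ih =>
    rw [List.map_cons, List.sum_cons]
    refine PosSupp.add ?_ (ih (fun e he => h e (List.mem_cons_of_mem _ he)))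
    intro a ha
    rw [Pi.smul_apply, basisVec_apply_code] at ha
    by_cases e : code D a = x.1
    · rw [e]; exact h x List.mem_cons_self
    · rw [if_neg e] at ha; simp at ha

/-- Elements of `⟨X_r : r > m⟩` move `e_{-m}` by a vector supported on positive root coordinates. -/
theorem Uge_moves (hD : Seven D) (m : ℕ) (hm : D.nroots / 2 ≤ m) (hm2 : m < D.nroots) :
    ∀ g ∈ Uge D F (m + 1), PosSupp D ((g : Matrix D.Idx D.Idx F).mulVec
      (basisVec D F (D.rank + D.neg m)) - basisVec D F (D.rank + D.neg m)) := by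
  have hT := tabOK_seven D hD
  have hgen : ∀ r, m + 1 ≤ r → r < D.nroots → ∀ t : F, PosSupp D ((D.x F r t).mulVec
      (basisVec D F (D.rank + D.neg m)) - basisVec D F (D.rank + D.neg m)) := by
    intro r h1 h2 t
    have hx : D.x F r t = D.xMat F ⟨r, h2⟩ t := by unfold ChevalleyDatum.x; rw [dif_pos h2]
    have hlt := neg_lt7 hD m hm2
    rw [hx, xMat_mulVec_basis D ⟨r, h2⟩ t _ (by omega), add_sub_cancel_left]
    exact PosSupp.list_sum _ t
      ((unq_of hT (posOK_seven D hD) m hm hm2).1 r (by omega) h2)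
  intro g hg
  unfold Uge at hg
  induction hg using Subgroup.closure_induction with
  | mem x hx =>
    obtain ⟨r, t, h1, h2, hx⟩ := hx
    rw [hx]; exact hgen r h1 h2 t
  | one => rw [Units.val_one, Matrix.one_mulVec, sub_self]; exact PosSupp.zero
  | mul x y hx hy ihx ihy =>
    have hxU := posU_up7 hD x (Uge_le_posU hD (m + 1) (by omega) hx)
    have e : ((x * y : GL D.Idx F) : Matrix D.Idx D.Idx F).mulVec (basisVec D F (D.rank + D.neg m)) -
        basisVec D F (D.rank + D.neg m) =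
        (x : Matrix D.Idx D.Idx F).mulVec ((y : Matrix D.Idx D.Idx F).mulVec
          (basisVec D F (D.rank + D.neg m)) - basisVec D F (D.rank + D.neg m)) +
        ((x : Matrix D.Idx D.Idx F).mulVec (basisVec D F (D.rank + D.neg m)) -
          basisVec D F (D.rank + D.neg m)) := by
      rw [Units.val_mul, ← Matrix.mulVec_mulVec, Matrix.mulVec_sub]; abel
    rw [e]
    exact (PosSupp.mulVec _ hxU ihy).add ihx
  | inv x hx ihx =>
    have hxU := posU_up7 hD x⁻¹ (Uge_le_posU hD (m + 1) (by omega) (inv_mem hx))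
    have e : ((x⁻¹ : GL D.Idx F) : Matrix D.Idx D.Idx F).mulVec (basisVec D F (D.rank + D.neg m)) -
        basisVec D F (D.rank + D.neg m) =
        -(((x⁻¹ : GL D.Idx F) : Matrix D.Idx D.Idx F).mulVec ((x : Matrix D.Idx D.Idx F).mulVec
          (basisVec D F (D.rank + D.neg m)) - basisVec D F (D.rank + D.neg m))) := by
      rw [Matrix.mulVec_sub, Matrix.mulVec_mulVec, ← Units.val_mul, inv_mul_cancel, Units.val_one,
        Matrix.one_mulVec]; abel
    rw [e]
    exact (PosSupp.mulVec _ hxU ihx).neg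

theorem x_entry_cor (hD : Seven D) (m : ℕ) (hm : m < D.nroots) (i : Fin D.rank) (c : F) :
    D.x F m c (Sum.inl i) (Sum.inr ⟨D.neg m, neg_lt7 hD m hm⟩) =
      (((D.coroot.getD m #[]).getD i.val 0 : ℤ) : F) * c := by
  have hne : D.neg m ≠ m := neg_ne7 hD m hm
  have h1 : ¬ ((⟨D.neg m, neg_lt7 hD m hm⟩ : Fin D.nroots) = ⟨m, hm⟩) :=
    fun h => hne (congrArg Fin.val h)
  unfold ChevalleyDatum.x
  rw [dif_pos hm]
  unfold ChevalleyDatum.xMat
  rw [Matrix.of_apply]
  simp only []
  rw [if_neg h1, if_pos (show D.neg m = D.negIdx.getD m 0 from rfl)]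

/-- `x_m(c) ∈ ⟨X_r : r > m⟩` only for `c = 0`. -/
theorem xG_mem_Uge_succ (hD : Seven D) (m : ℕ) (hm : D.nroots / 2 ≤ m) (hm2 : m < D.nroots) (c : F)
    (h : xG hD m c ∈ Uge D F (m + 1)) : c = 0 := by
  have h1 := Uge_moves hD m hm hm2 _ h
  have hlt := neg_lt7 hD m hm2
  have key : ∀ i : Fin D.rank, (((D.coroot.getD m #[]).getD i.val 0 : ℤ) : F) * c = 0 := by
    intro i
    by_contra hne
    have h2 := h1 (Sum.inl i) (by
      rw [Pi.sub_apply, ← entry_eq D _ (D.rank + D.neg m) (Sum.inr ⟨D.neg m, hlt⟩)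
        (basisVec_inr D ⟨D.neg m, hlt⟩) (Sum.inl i), basisVec_apply_inl,
        if_neg (by have := i.2; omega), sub_zero, xG_val, x_entry_cor hD m hm2 i c]
      exact hne)
    have : code D (Sum.inl i) = i.val := rfl
    rw [this] at h2
    have := i.2
    omega
  rcases (unq_of (tabOK_seven D hD) (posOK_seven D hD) m hm hm2).2 with ⟨i, hi, h3⟩ | ⟨i, hi, j, hj, h3⟩
  · have k := key ⟨i, hi⟩
    rcases h3 with h3 | h3
    · rw [show (⟨i, hi⟩ : Fin D.rank).val = i from rfl, h3] at k; simpa using k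
    · rw [show (⟨i, hi⟩ : Fin D.rank).val = i from rfl, h3] at k; simpa using k
  · have k1 := key ⟨i, hi⟩
    have k2 := key ⟨j, hj⟩
    have k3 : ((((D.coroot.getD m #[]).getD i 0 - (D.coroot.getD m #[]).getD j 0 : ℤ)) : F) * c = 0 := by
      push_cast; rw [sub_mul]
      have k1' : (((D.coroot.getD m #[]).getD i 0 : ℤ) : F) * c = 0 := k1
      have k2' : (((D.coroot.getD m #[]).getD j 0 : ℤ) : F) * c = 0 := k2
      rw [k1', k2', sub_zero]
    rcases h3 with h3 | h3
    · rw [h3] at k3; simpa using k3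
    · rw [h3] at k3; simpa using k3

theorem ordWord_unique (hD : Seven D) : ∀ j m, m + j = D.nroots → D.nroots / 2 ≤ m →
    ∀ τ τ' : ℕ → F, wG hD (ordWord τ m j) = wG hD (ordWord τ' m j) →
      ∀ r, m ≤ r → r < D.nroots → τ r = τ' r := by
  intro j
  induction j with
  | zero => intro m hm _ τ τ' _ r h1 h2; omega
  | succ j ih =>
    intro m hm hm2 τ τ' h r h1 h2
    rw [ordWord_succ, ordWord_succ, wG_cons, wG_cons] at h
    have h' : xG hD m (τ m) * wG hD (ordWord τ (m + 1) j) =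
        xG hD m (τ' m) * wG hD (ordWord τ' (m + 1) j) := h
    have hA := ordWord_mem hD τ (m + 1) j (by omega)
    have hA' := ordWord_mem hD τ' (m + 1) j (by omega)
    have hx : xG hD m (τ m - τ' m) ∈ Uge D F (m + 1) := by
      have e : xG hD m (τ m - τ' m) =
          wG hD (ordWord τ' (m + 1) j) * (wG hD (ordWord τ (m + 1) j))⁻¹ := by
        have e0 : xG hD m (τ m - τ' m) = (xG hD m (τ' m))⁻¹ * xG hD m (τ m) := by
          rw [xG_inv, xG_mul]; congr 1; ring
        rw [e0]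
        calc (xG hD m (τ' m))⁻¹ * xG hD m (τ m) =
            (xG hD m (τ' m))⁻¹ * (xG hD m (τ m) * wG hD (ordWord τ (m + 1) j)) *
              (wG hD (ordWord τ (m + 1) j))⁻¹ := by group
          _ = (xG hD m (τ' m))⁻¹ * (xG hD m (τ' m) * wG hD (ordWord τ' (m + 1) j)) *
              (wG hD (ordWord τ (m + 1) j))⁻¹ := by rw [h']
          _ = _ := by group
      rw [e]; exact mul_mem hA' (inv_mem hA)
    have h0 : τ m - τ' m = 0 := xG_mem_Uge_succ hD m hm2 (by omega) _ hx
    have hm_eq : τ m = τ' m := sub_eq_zero.mp h0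
    rcases Nat.eq_or_lt_of_le h1 with e | e
    · rw [← e]; exact hm_eq
    · have hAA : wG hD (ordWord τ (m + 1) j) = wG hD (ordWord τ' (m + 1) j) := by
        rw [hm_eq] at h'; exact mul_left_cancel h'
      exact ih (m + 1) (by omega) (by omega) τ τ' hAA r (by omega) h2

theorem filter_ge_range (n k : ℕ) :
    (List.range n).filter (fun r => decide (k ≤ r)) = List.range' k (n - k) := by
  induction n with
  | zero => simp
  | succ n ih =>
    rw [List.range_succ, List.filter_append, ih]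
    by_cases h : k ≤ n
    · have e : n + 1 - k = (n - k) + 1 := by omega
      rw [e, List.range'_concat]
      simp [h]
    · have e1 : n - k = 0 := by omega
      have e2 : n + 1 - k = 0 := by omega
      simp [h, e1, e2]

theorem posRoots_eq (hD : Seven D) : D.posRoots = List.range' (D.nroots / 2) (D.nroots / 2) := by
  unfold ChevalleyDatum.posRoots
  have h1 : (List.range D.nroots).filter (fun r => decide (D.IsPosRoot r)) =
      (List.range D.nroots).filter (fun r => decide (D.nroots / 2 ≤ r)) := by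
    apply List.filter_congr
    intro r hr
    have := (pos_iff7 hD r (List.mem_range.mp hr)).1
    simp only [decide_eq_decide]; exact this
  rw [h1, filter_ge_range]
  congr 1
  have := nroots_even7 hD; omega

theorem posRoots_word (hD : Seven D) (t : ℕ → F) :
    D.posRoots.map (fun r => (r, t r)) = ordWord t (D.nroots / 2) (D.nroots / 2) := by
  rw [posRoots_eq hD]; rfl

end UStruct

end Cfsg.Agent.Helper11
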