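import Cfsg.Agent.Helper11.ChevBN1
import Cfsg.Agent.Helper11.ChevCore
import Cfsg.Agent.Helper11.ChevU

set_option autoImplicit false

/-!
The `(B, N)`-pair axiom `n_p B n ⊆ B n_p n B ∪ B n B` for the Chevalley groups, and the rank one
parabolic subgroups `B ∪ B n_p B`.
-/

namespace Cfsg.Agent.Helper11

open Cfsg.Lie

section BN2
variable {F : Type*} [Field F] {D : ChevalleyDatum}

/-- `n` conjugates each root subgroup `X_s` onto `X_{f s}`. -/
def NConj (hD : Seven D) (n : GL D.Idx F) (f : ℕ → ℕ) : Prop :=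
  ∀ s < D.nroots, f s < D.nroots ∧
    ∃ c : F, c ≠ 0 ∧ ∀ t : F, n * xG hD s t * n⁻¹ = xG hD (f s) (c * t)

theorem ConjTo.toNConj (hD : Seven D) {n : GL D.Idx F} {f : ℕ → ℕ} (h : ConjTo hD n f) :
    NConj hD n f := by
  intro s hs
  obtain ⟨h1, ε, hε, hc⟩ := h s hs
  refine ⟨h1, ε, ?_, hc⟩
  rintro rfl
  rw [mul_zero] at hε
  exact zero_ne_one hε

theorem NConj.comp (hD : Seven D) {n m : GL D.Idx F} {f g : ℕ → ℕ} (hn : NConj hD n f)
    (hm : NConj hD m g) : NConj hD (m * n) (fun s => g (f s)) := by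
  intro s hs
  obtain ⟨h1, c, hc0, hc⟩ := hn s hs
  obtain ⟨h2, c', hc0', hc'⟩ := hm (f s) h1
  refine ⟨h2, c' * c, mul_ne_zero hc0' hc0, fun t => ?_⟩
  have : m * n * xG hD s t * (m * n)⁻¹ = m * (n * xG hD s t * n⁻¹) * m⁻¹ := by group
  rw [this, hc, hc', mul_assoc]

theorem hsDiag_ne_zero (D : ChevalleyDatum) (c : ℕ → F) (hc : ∀ i < D.rank, c i ≠ 0)
    (s : Fin D.nroots) : hsDiag D c (Sum.inr s) ≠ 0 := by
  show ((List.range D.rank).map (fun i => c i ^ D.cartan i s.val)).prod ≠ 0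
  apply List.prod_ne_zero
  intro h0
  rw [List.mem_map] at h0
  obtain ⟨i, hi, h1⟩ := h0
  exact zpow_ne_zero _ (hc i (List.mem_range.mp hi)) h1

theorem NConj.of_H (hD : Seven D) {h : GL D.Idx F} (hh : h ∈ D.diagonalSubgroup F) :
    NConj hD h (fun s => s) := by
  obtain ⟨c, hc, hval⟩ := H_form hD h hh
  intro s hs
  exact ⟨hs, hsDiag D c (Sum.inr ⟨s, hs⟩), hsDiag_ne_zero D c hc _,
    fun t => H_conj_x hD h c hc hval s hs t⟩

theorem wordApply_reverse (hD : Seven D) : ∀ (v : List ℕ), (∀ i ∈ v, i < D.rank) →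
    ∀ p, p < D.nroots → wordApply D v (wordApply D v.reverse p) = p := by
  intro v
  induction v with
  | nil => intro _ p _; rfl
  | cons i rest ih =>
    intro hv p hp
    have hi := hv i List.mem_cons_self
    have hr : ∀ j ∈ rest, j < D.rank := fun j hj => hv j (List.mem_cons_of_mem _ hj)
    have hp' := reflect_lt7 hD i hi p hp
    rw [List.reverse_cons, wordApply_append, wordApply_cons, wordApply_cons, wordApply_nil,
      wAt_eq7 hD i hi p hp, ih hr _ hp', wAt_eq7 hD i hi _ hp', reflect_invol7 hD i hi p hp]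

/-- Every element of `N` permutes the root subgroups, by a bijection commuting with `r ↦ -r`. -/
theorem N_conj_data (hD : Seven D) (n : GL D.Idx F) (hn : n ∈ D.monomialSubgroup F) :
    ∃ f : ℕ → ℕ, NConj hD n f ∧ (∀ p < D.nroots, ∃ s < D.nroots, f s = p) ∧
      (∀ s < D.nroots, f (D.neg s) = D.neg (f s)) := by
  obtain ⟨h, hh, v, hv, rfl⟩ := N_word_form hD n hn
  refine ⟨wordApply D v, ?_, ?_, ?_⟩
  · exact ((wordN_conj (F := F) hD v hv).toNConj hD).comp hD (NConj.of_H hD hh)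
  · intro p hp
    exact ⟨wordApply D v.reverse p,
      wordApply_lt hD _ (fun i hi => hv i (List.mem_reverse.mp hi)) p hp,
      wordApply_reverse hD v hv p hp⟩
  · intro s hs
    exact wordApply_neg hD v hv s hs

/-- The subgroup `U_p` generated by the positive root subgroups other than `X_p`. -/
def UpS (D : ChevalleyDatum) (F : Type*) [Field F] (i : ℕ) : Subgroup (GL D.Idx F) :=
  Subgroup.closure {g : GL D.Idx F | ∃ (s : ℕ) (t : F), D.IsPosRoot s ∧ s ≠ D.simple i ∧
    (g : Matrix D.Idx D.Idx F) = D.x F s t}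

theorem UpS_le_posU (D : ChevalleyDatum) (i : ℕ) : UpS D F i ≤ D.posUnipotent F := by
  apply Subgroup.closure_mono
  rintro g ⟨s, t, hpos, _, hg⟩
  exact ⟨s, t, hpos, hg⟩

theorem rootSubgroup_form (hD : Seven D) (r : ℕ) (x : GL D.Idx F) (hx : x ∈ D.rootSubgroup F r) :
    ∃ t : F, x = xG hD r t := by
  unfold ChevalleyDatum.rootSubgroup at hx
  induction hx using Subgroup.closure_induction with
  | mem y hy =>
    obtain ⟨t, hy⟩ := hy
    exact ⟨t, eq_xG hD y r t hy⟩
  | one => exact ⟨0, (xG_zero hD r).symm⟩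
  | mul a b _ _ ha hb =>
    obtain ⟨t, rfl⟩ := ha
    obtain ⟨u, rfl⟩ := hb
    exact ⟨t + u, xG_mul hD r t u⟩
  | inv a _ ha =>
    obtain ⟨t, rfl⟩ := ha
    exact ⟨-t, xG_inv hD r t⟩

theorem xG_mem_rootSubgroup (hD : Seven D) (r : ℕ) (t : F) : xG hD r t ∈ D.rootSubgroup F r :=
  Subgroup.subset_closure ⟨t, rfl⟩

theorem nS_conj_UpS (hD : Seven D) (i : ℕ) (hi : i < D.rank) (y : GL D.Idx F)
    (hy : y ∈ UpS D F i) :
    nG hD (D.simple i) 1 * y * (nG hD (D.simple i) 1)⁻¹ ∈ UpS D F i := by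
  have hn : nG hD (D.simple i) (1 : F) ∈
      D.rootSubgroup F (D.simple i) ⊔ D.rootSubgroup F (D.neg (D.simple i)) := by
    rw [nG_eq]
    exact mul_mem (mul_mem (Subgroup.mem_sup_left (xG_mem_rootSubgroup hD _ _))
      (Subgroup.mem_sup_right (xG_mem_rootSubgroup hD _ _)))
      (Subgroup.mem_sup_left (xG_mem_rootSubgroup hD _ _))
  exact ((Subgroup.mem_normalizer_iff.mp (rank1_normalizer hD i hi hn)) y).mp hy

/-- `B = U_p X_p H`. -/
theorem B_form (hD : Seven D) (i : ℕ) (hi : i < D.rank) (b : GL D.Idx F)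
    (hb : b ∈ D.borelSubgroup F) :
    ∃ y ∈ UpS D F i, ∃ t : F, ∃ h ∈ D.diagonalSubgroup F, b = y * xG hD (D.simple i) t * h := by
  obtain ⟨u, hu, h, hh, rfl⟩ := mem_sup_of_normalizes (D.diagonalSubgroup F) (D.posUnipotent F)
    (fun a ha n hn => ((Subgroup.mem_normalizer_iff.mp (H_le_normalizer_posU hD ha)) n).mp hn) b hb
  rw [← rank1_sup hD i hi] at hu
  obtain ⟨y, hy, x, hx, rfl⟩ := mem_sup_of_normalizes (D.rootSubgroup F (D.simple i)) (UpS D F i)
    (fun a ha n hn => ((Subgroup.mem_normalizer_iff.mp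
      (rank1_normalizer hD i hi (Subgroup.mem_sup_left ha))) n).mp hn) u hu
  obtain ⟨t, rfl⟩ := rootSubgroup_form hD _ x hx
  exact ⟨y, hy, t, h, hh, rfl⟩

theorem dc_mem {G : Type*} [Group G] (B : Subgroup G) {a g : G} (x y : G) (hx : x ∈ B)
    (hy : y ∈ B) (e : g = x * a * y) : g ∈ DoubleCoset.doubleCoset a (B : Set G) B := by
  rw [DoubleCoset.mem_doubleCoset]
  exact ⟨x, hx, y, hy, e⟩

theorem BN_core (hD : Seven D) (i : ℕ) (hi : i < D.rank) (n : GL D.Idx F)
    (hn : n ∈ D.monomialSubgroup F) (t : F) :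
    nG hD (D.simple i) 1 * xG hD (D.simple i) t * n ∈
      DoubleCoset.doubleCoset (nG hD (D.simple i) 1 * n) (D.borelSubgroup F : Set (GL D.Idx F))
        (D.borelSubgroup F) ∪
      DoubleCoset.doubleCoset n (D.borelSubgroup F : Set (GL D.Idx F)) (D.borelSubgroup F) := by
  obtain ⟨f, hf, hsurj, hfneg⟩ := N_conj_data hD n hn
  have hp := simple_lt7 hD i hi
  have hev := nroots_even7 hD
  obtain ⟨s, hs, hfs⟩ := hsurj (D.simple i) hp
  obtain ⟨_, c, hc0, hc⟩ := hf s hs
  rw [hfs] at hc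
  have hxn : ∀ t' : F, xG hD (D.simple i) t' * n = n * xG hD s (c⁻¹ * t') := by
    intro t'
    have h1 := hc (c⁻¹ * t')
    rw [← mul_assoc, mul_inv_cancel₀ hc0, one_mul] at h1
    rw [← h1]; group
  by_cases hpos : D.nroots / 2 ≤ s
  · refine Or.inl ?_
    have hsP : D.IsPosRoot s := ((pos_iff7 hD s hs).1).mpr hpos
    refine dc_mem _ 1 (xG hD s (c⁻¹ * t)) (one_mem _)
      (Subgroup.mem_sup_left (xG_mem_posU hD s hsP _)) ?_
    rw [mul_assoc, hxn, one_mul, mul_assoc]
  · by_cases ht : t = 0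
    · refine Or.inl ?_
      refine dc_mem _ 1 1 (one_mem _) (one_mem _) ?_
      rw [ht, xG_zero, mul_one, one_mul, mul_one]
    · refine Or.inr ?_
      have hη := eta_F_cases (F := F) hD i hi (D.simple i) hp
      have h3 := nG_conj_x hD i hi (D.simple i) hp t
      rw [reflect_self] at h3
      obtain ⟨u, hu0, hu⟩ : ∃ u : F, u ≠ 0 ∧ nG hD (D.simple i) 1 * xG hD (D.simple i) t =
          xG hD (D.neg (D.simple i)) u * nG hD (D.simple i) 1 := by
        refine ⟨((etaAt D i (D.simple i) : ℤ) : F) * t, ?_, ?_⟩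
        · rcases hη with h | h <;> rw [h] <;> simp [ht]
        · rw [← h3]; group
      have hu1 : u⁻¹ ≠ 0 := inv_ne_zero hu0
      have h4 : xG hD (D.neg (D.simple i)) u = xG hD (D.simple i) u⁻¹ * hG hD (D.simple i) u⁻¹ *
          (nG hD (D.simple i) 1)⁻¹ * xG hD (D.simple i) u⁻¹ := by
        have h5 := nG_eq hD (D.simple i) (-u⁻¹)
        have e5 : -(-u⁻¹)⁻¹ = u := by rw [inv_neg, neg_neg, inv_inv]
        rw [e5] at h5
        have h6 := nG_neg_mul_one hD (D.simple i) hp u⁻¹ hu1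
        have h7 : xG hD (D.neg (D.simple i)) u =
            xG hD (D.simple i) u⁻¹ * nG hD (D.simple i) (-u⁻¹) * xG hD (D.simple i) u⁻¹ := by
          rw [h5, ← xG_inv]; group
        have h8 : nG hD (D.simple i) (-u⁻¹) = hG hD (D.simple i) u⁻¹ * (nG hD (D.simple i) 1)⁻¹ := by
          rw [← h6]; group
        rw [h7, h8]; group
      have hns := neg_lt7 hD s hs
      obtain ⟨_, c₂, hc₂0, hc₂⟩ := hf (D.neg s) hns
      rw [hfneg s hs, hfs] at hc₂
      have hnp := neg_lt7 hD _ hp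
      have h9 : ∀ t' : F, nG hD (D.simple i) 1 * xG hD (D.neg (D.simple i)) t' *
          (nG hD (D.simple i) 1)⁻¹ =
            xG hD (D.simple i) (((etaAt D i (D.neg (D.simple i)) : ℤ) : F) * t') := by
        intro t'
        have h := nG_conj_x hD i hi (D.neg (D.simple i)) hnp t'
        rw [reflect_neg_self hD i hi] at h
        exact h
      have hη₂ := eta_F_cases (F := F) hD i hi (D.neg (D.simple i)) hnp
      have hη₂0 : ((etaAt D i (D.neg (D.simple i)) : ℤ) : F) ≠ 0 := by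
        rcases hη₂ with h | h <;> rw [h] <;> simp
      have hnegsP : D.IsPosRoot (D.neg s) := by
        apply ((pos_iff7 hD _ hns).1).mpr
        rw [neg_eq7 hD s hs]; omega
      have hx2 : xG hD (D.simple i) u⁻¹ * (nG hD (D.simple i) 1 * n) =
          (nG hD (D.simple i) 1 * n) *
            xG hD (D.neg s) ((((etaAt D i (D.neg (D.simple i)) : ℤ) : F) * c₂)⁻¹ * u⁻¹) := by
        have h10 := hc₂ ((((etaAt D i (D.neg (D.simple i)) : ℤ) : F) * c₂)⁻¹ * u⁻¹)
        have h11 := h9 (c₂ * ((((etaAt D i (D.neg (D.simple i)) : ℤ) : F) * c₂)⁻¹ * u⁻¹))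
        have e12 : ((etaAt D i (D.neg (D.simple i)) : ℤ) : F) *
            (c₂ * ((((etaAt D i (D.neg (D.simple i)) : ℤ) : F) * c₂)⁻¹ * u⁻¹)) = u⁻¹ := by
          rw [← mul_assoc, ← mul_assoc, mul_inv_cancel₀ (mul_ne_zero hη₂0 hc₂0), one_mul]
        rw [e12] at h11
        rw [← h11, ← h10]; group
      refine dc_mem _ (xG hD (D.simple i) u⁻¹ * hG hD (D.simple i) u⁻¹)
        (xG hD (D.neg s) ((((etaAt D i (D.neg (D.simple i)) : ℤ) : F) * c₂)⁻¹ * u⁻¹)) ?_
        (Subgroup.mem_sup_left (xG_mem_posU hD _ hnegsP _)) ?_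
      · exact mul_mem (Subgroup.mem_sup_left (xG_mem_posU hD _ (simple_pos7 hD i hi) _))
          (Subgroup.mem_sup_right (hG_mem_H hD _ hp _ hu1))
      · calc nG hD (D.simple i) 1 * xG hD (D.simple i) t * n
            = xG hD (D.neg (D.simple i)) u * (nG hD (D.simple i) 1 * n) := by rw [hu]; group
          _ = xG hD (D.simple i) u⁻¹ * hG hD (D.simple i) u⁻¹ * (nG hD (D.simple i) 1)⁻¹ *
                (xG hD (D.simple i) u⁻¹ * (nG hD (D.simple i) 1 * n)) := by rw [h4]; group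
          _ = xG hD (D.simple i) u⁻¹ * hG hD (D.simple i) u⁻¹ * (nG hD (D.simple i) 1)⁻¹ *
                ((nG hD (D.simple i) 1 * n) * xG hD (D.neg s)
                  ((((etaAt D i (D.neg (D.simple i)) : ℤ) : F) * c₂)⁻¹ * u⁻¹)) := by rw [hx2]
          _ = _ := by group

/-- The axiom `n_p B n ⊆ B n_p n B ∪ B n B` of a `(B, N)`-pair. -/
theorem BN_axiom (hD : Seven D) (i : ℕ) (hi : i < D.rank) (n : GL D.Idx F)
    (hn : n ∈ D.monomialSubgroup F) (b : GL D.Idx F) (hb : b ∈ D.borelSubgroup F) :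
    nG hD (D.simple i) 1 * b * n ∈
      DoubleCoset.doubleCoset (nG hD (D.simple i) 1 * n) (D.borelSubgroup F : Set (GL D.Idx F))
        (D.borelSubgroup F) ∪
      DoubleCoset.doubleCoset n (D.borelSubgroup F : Set (GL D.Idx F)) (D.borelSubgroup F) := by
  obtain ⟨y, hy, t, h, hh, rfl⟩ := B_form hD i hi b hb
  have hy' := nS_conj_UpS hD i hi y hy
  have hyB : nG hD (D.simple i) 1 * y * (nG hD (D.simple i) 1)⁻¹ ∈ D.borelSubgroup F :=
    Subgroup.mem_sup_left (UpS_le_posU D i hy')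
  have hh' : n⁻¹ * h * n ∈ D.diagonalSubgroup F := by
    have h1 := N_conj_H hD (inv_mem hn) hh
    rwa [inv_inv] at h1
  have hhB : n⁻¹ * h * n ∈ D.borelSubgroup F := Subgroup.mem_sup_right hh'
  have e : nG hD (D.simple i) 1 * (y * xG hD (D.simple i) t * h) * n =
      (nG hD (D.simple i) 1 * y * (nG hD (D.simple i) 1)⁻¹) *
        (nG hD (D.simple i) 1 * xG hD (D.simple i) t * n) * (n⁻¹ * h * n) := by group
  rw [e]
  rcases BN_core hD i hi n hn t with hc | hc
  · refine Or.inl ?_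
    rw [DoubleCoset.mem_doubleCoset] at hc ⊢
    obtain ⟨x, hx, z, hz, ez⟩ := hc
    exact ⟨_, mul_mem hyB hx, _, mul_mem hz hhB, by rw [ez]; group⟩
  · refine Or.inr ?_
    rw [DoubleCoset.mem_doubleCoset] at hc ⊢
    obtain ⟨x, hx, z, hz, ez⟩ := hc
    exact ⟨_, mul_mem hyB hx, _, mul_mem hz hhB, by rw [ez]; group⟩

/-- `B ∪ B n_p B` is a subgroup. -/
theorem rank1_subgroup (hD : Seven D) (i : ℕ) (hi : i < D.rank) :
    ∃ P : Subgroup (GL D.Idx F), (P : Set (GL D.Idx F)) =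
      (D.borelSubgroup F : Set (GL D.Idx F)) ∪
        DoubleCoset.doubleCoset (nG hD (D.simple i) 1) (D.borelSubgroup F : Set (GL D.Idx F))
          (D.borelSubgroup F) := by
  have hp := simple_lt7 hD i hi
  have hnN : nG hD (D.simple i) (1 : F) ∈ D.monomialSubgroup F := nG_mem_N hD _ hp
  have hsqB : nG hD (D.simple i) (1 : F) * nG hD (D.simple i) 1 ∈ D.borelSubgroup F :=
    Subgroup.mem_sup_right (nG_sq_mem_H hD _ hp)
  have key : ∀ b ∈ D.borelSubgroup F, nG hD (D.simple i) 1 * b * nG hD (D.simple i) 1 ∈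
      (D.borelSubgroup F : Set (GL D.Idx F)) ∪
        DoubleCoset.doubleCoset (nG hD (D.simple i) 1) (D.borelSubgroup F : Set (GL D.Idx F))
          (D.borelSubgroup F) := by
    intro b hb
    rcases BN_axiom hD i hi _ hnN b hb with h | h
    · refine Or.inl ?_
      rw [DoubleCoset.mem_doubleCoset] at h
      obtain ⟨x, hx, z, hz, e⟩ := h
      rw [e]
      exact mul_mem (mul_mem hx hsqB) hz
    · exact Or.inr h
  refine ⟨{ carrier := (D.borelSubgroup F : Set (GL D.Idx F)) ∪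
              DoubleCoset.doubleCoset (nG hD (D.simple i) 1)
                (D.borelSubgroup F : Set (GL D.Idx F)) (D.borelSubgroup F)
            mul_mem' := ?_
            one_mem' := Or.inl (one_mem _)
            inv_mem' := ?_ }, rfl⟩
  · rintro a b (ha | ha) (hb | hb)
    · have ha' : a ∈ D.borelSubgroup F := ha
      have hb' : b ∈ D.borelSubgroup F := hb
      exact Or.inl (mul_mem ha' hb')
    · have ha' : a ∈ D.borelSubgroup F := ha
      refine Or.inr ?_
      rw [DoubleCoset.mem_doubleCoset] at hb ⊢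
      obtain ⟨x, hx, z, hz, rfl⟩ := hb
      exact ⟨a * x, mul_mem ha' hx, z, hz, by group⟩
    · have hb' : b ∈ D.borelSubgroup F := hb
      refine Or.inr ?_
      rw [DoubleCoset.mem_doubleCoset] at ha ⊢
      obtain ⟨x, hx, z, hz, rfl⟩ := ha
      exact ⟨x, hx, z * b, mul_mem hz hb', by group⟩
    · rw [DoubleCoset.mem_doubleCoset] at ha hb
      obtain ⟨x, hx, z, hz, rfl⟩ := ha
      obtain ⟨x', hx', z', hz', rfl⟩ := hb
      have e : x * nG hD (D.simple i) 1 * z * (x' * nG hD (D.simple i) 1 * z') =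
          x * (nG hD (D.simple i) 1 * (z * x') * nG hD (D.simple i) 1) * z' := by group
      rcases key (z * x') (mul_mem hz hx') with h | h
      · have h' : nG hD (D.simple i) 1 * (z * x') * nG hD (D.simple i) 1 ∈ D.borelSubgroup F := h
        refine Or.inl ?_
        rw [e]
        exact mul_mem (mul_mem hx h') hz'
      · refine Or.inr ?_
        rw [DoubleCoset.mem_doubleCoset] at h ⊢
        obtain ⟨x₂, hx₂, z₂, hz₂, e₂⟩ := h
        refine ⟨x * x₂, mul_mem hx hx₂, z₂ * z', mul_mem hz₂ hz', ?_⟩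
        rw [e, e₂]; group
  · rintro a (ha | ha)
    · have ha' : a ∈ D.borelSubgroup F := ha
      exact Or.inl (inv_mem ha')
    · refine Or.inr ?_
      rw [DoubleCoset.mem_doubleCoset] at ha ⊢
      obtain ⟨x, hx, z, hz, rfl⟩ := ha
      refine ⟨z⁻¹ * (nG hD (D.simple i) 1 * nG hD (D.simple i) 1)⁻¹,
        mul_mem (inv_mem hz) (inv_mem hsqB), x⁻¹, inv_mem hx, ?_⟩
      group

end BN2

end Cfsg.Agent.Helper11
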