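import Cfsg.Agent.Helper11.ChevBN2
import Cfsg.Prelude.Def_LieExceptional

set_option autoImplicit false

/-!
The `(B, N)`-pair of the Chevalley groups: `B = UH`, `N` the monomial subgroup, and the `n_p`, `p`
fundamental, as distinguished generators.
-/

namespace Cfsg.Agent.Helper11

open Cfsg.Lie

section BN3
variable {F : Type*} [Field F] {D : ChevalleyDatum}

/-- `n_p` as an element of the Chevalley group. -/
noncomputable def sEl (hD : Seven D) (i : ℕ) : ↥(D.group F) :=
  ⟨nG hD (D.simple i) 1, wG_mem_group hD _⟩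

/-- The distinguished generators. -/
def chevS (D : ChevalleyDatum) (F : Type*) [Field F] : Set ↥(D.group F) :=
  {n : ↥(D.group F) | ∃ i < D.rank,
    ((n : GL D.Idx F) : Matrix D.Idx D.Idx F) = D.nMat F (D.simple i) 1}

theorem mem_chevS_iff (hD : Seven D) (s : ↥(D.group F)) :
    s ∈ chevS D F ↔ ∃ i < D.rank, s = sEl hD i := by
  constructor
  · rintro ⟨i, hi, h⟩
    exact ⟨i, hi, Subtype.ext (Units.ext (by rw [h]; exact (nG_val hD _ _).symm))⟩
  · rintro ⟨i, hi, rfl⟩
    exact ⟨i, hi, nG_val hD _ _⟩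

theorem B_conj_posU (hD : Seven D) {b u : GL D.Idx F} (hb : b ∈ D.borelSubgroup F)
    (hu : u ∈ D.posUnipotent F) : b * u * b⁻¹ ∈ D.posUnipotent F := by
  have h : D.borelSubgroup F ≤ Subgroup.normalizer (D.posUnipotent F : Set (GL D.Idx F)) :=
    sup_le Subgroup.le_normalizer (H_le_normalizer_posU hD)
  exact ((Subgroup.mem_normalizer_iff.mp (h hb)) u).mp hu

/-- An element conjugating a positive root subgroup onto a negative one is not in `B`. -/
theorem not_mem_B_of_conj (hD : Seven D) {c : GL D.Idx F} {f : ℕ → ℕ} (hc : ConjTo hD c f) (q : ℕ)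
    (hq : q < D.nroots) (hqpos : D.nroots / 2 ≤ q) (hneg : f q < D.nroots / 2) :
    c ∉ D.borelSubgroup F := by
  intro hcB
  obtain ⟨h1, ε, hε, hconj⟩ := hc q hq
  have hqP : D.IsPosRoot q := ((pos_iff7 hD q hq).1).mpr hqpos
  have h2 := B_conj_posU hD hcB (xG_mem_posU hD q hqP 1)
  rw [hconj] at h2
  have hnegR : D.IsNegRoot (f q) := ((pos_iff7 hD _ h1).2).mpr hneg
  have h3 : xG hD (f q) (ε * 1) ∈ D.borelSubgroup F ⊓ D.negUnipotent F :=
    ⟨Subgroup.mem_sup_left h2, xG_mem_negU hD _ hnegR _⟩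
  rw [B_inf_negU hD] at h3
  have h4 : D.x F (f q) (ε * 1) = 1 := by
    have h5 : ((xG hD (f q) (ε * 1) : GL D.Idx F) : Matrix D.Idx D.Idx F) = 1 := by
      rw [Subgroup.mem_bot.mp h3]; rfl
    exact h5
  have h6 := (x_eq_one_iff7 hD _ h1 _).mp h4
  rw [mul_one] at h6
  rw [h6, mul_zero] at hε
  exact zero_ne_one hε

/-- The Chevalley group has a `(B, N)`-pair. -/
theorem chev_BN_exists (hD : Seven D) :
    ∃ P : Cfsg.BNPair ↥(D.group F),
      P.B = (D.borelSubgroup F).subgroupOf (D.group F) ∧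
      P.N = (D.monomialSubgroup F).subgroupOf (D.group F) ∧
      P.S = {n : ↥(D.group F) | ∃ i < D.rank,
        ((n : GL D.Idx F) : Matrix D.Idx D.Idx F) = D.nMat F (D.simple i) 1} := by
  refine ⟨{ B := (D.borelSubgroup F).subgroupOf (D.group F)
            N := (D.monomialSubgroup F).subgroupOf (D.group F)
            S := chevS D F
            sup_eq_top := ?_
            conj_mem := ?_
            subset := ?_
            sq_mem := ?_
            inj := ?_
            closure_sup := ?_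
            mul_mem_union := ?_
            conj_ne := ?_ }, rfl, rfl, rfl⟩
  · -- sup_eq_top
    rw [← Subgroup.subgroupOf_sup (B_le_group hD) (N_le_group hD), Subgroup.subgroupOf_eq_top]
    refine (Subgroup.closure_le _).mpr ?_
    rintro g ⟨⟨r, hr⟩, t, hg⟩
    have e : g = xG hD r t := Units.ext (by
      rw [hg]; show _ = D.x F r t; unfold ChevalleyDatum.x; rw [dif_pos hr])
    rw [e]; exact xG_mem_BN hD r hr t
  · -- conj_mem
    intro n hn t ht
    rw [Subgroup.mem_subgroupOf] at hn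
    have ht1 : (t : GL D.Idx F) ∈ D.borelSubgroup F :=
      Subgroup.mem_subgroupOf.mp (Subgroup.mem_inf.mp ht).1
    have ht2 : (t : GL D.Idx F) ∈ D.monomialSubgroup F :=
      Subgroup.mem_subgroupOf.mp (Subgroup.mem_inf.mp ht).2
    have htH : (t : GL D.Idx F) ∈ D.diagonalSubgroup F := by
      have h : (t : GL D.Idx F) ∈ D.borelSubgroup F ⊓ D.monomialSubgroup F := ⟨ht1, ht2⟩
      rwa [B_inf_N hD] at h
    rw [Subgroup.mem_subgroupOf]
    exact Subgroup.mem_sup_right (N_conj_H hD hn htH)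
  · -- subset
    rintro s ⟨i, hi, h⟩
    show s ∈ (D.monomialSubgroup F).subgroupOf (D.group F)
    rw [Subgroup.mem_subgroupOf]
    exact Subgroup.mem_sup_right (Subgroup.subset_closure ⟨_, simple_lt7 hD i hi, h⟩)
  · -- sq_mem
    intro s hs
    obtain ⟨i, hi, rfl⟩ := (mem_chevS_iff hD s).mp hs
    rw [Subgroup.mem_subgroupOf]
    exact Subgroup.mem_sup_right (nG_sq_mem_H hD _ (simple_lt7 hD i hi))
  · -- inj
    intro s hs s' hs' h
    obtain ⟨i, hi, rfl⟩ := (mem_chevS_iff hD s).mp hs
    obtain ⟨j, hj, rfl⟩ := (mem_chevS_iff hD s').mp hs'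
    by_cases hij : D.simple j = D.simple i
    · apply Subtype.ext
      show nG hD (D.simple i) (1 : F) = nG hD (D.simple j) 1
      rw [hij]
    · exfalso
      rw [Subgroup.mem_subgroupOf] at h
      have h' : (nG hD (D.simple i) (1 : F))⁻¹ * nG hD (D.simple j) 1 ∈ D.borelSubgroup F := h
      have hc : ConjTo hD ((nG hD (D.simple i) (1 : F))⁻¹ * nG hD (D.simple j) 1)
          (fun s => wAt D i (wAt D j s)) :=
        (ConjTo.simple hD j hj).comp hD (ConjTo.simple_inv hD i hi)
      have hpj := simple_lt7 hD j hj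
      have hposj : D.nroots / 2 ≤ D.simple j :=
        ((pos_iff7 hD _ hpj).1).mp (simple_pos7 hD j hj)
      refine not_mem_B_of_conj hD hc (D.simple j) hpj hposj ?_ h'
      show wAt D i (wAt D j (D.simple j)) < D.nroots / 2
      have hev := nroots_even7 hD
      have hnj := neg_lt7 hD _ hpj
      rw [wAt_eq7 hD j hj _ hpj, reflect_self, wAt_eq7 hD i hi _ hnj, reflect_neg7 hD i hi _ hpj,
        neg_eq7 hD _ (reflect_lt7 hD i hi _ hpj)]
      have h5 := refl_pos7 hD i hi _ hpj hposj hij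
      have h6 := reflect_lt7 hD i hi _ hpj
      omega
  · -- closure_sup
    apply le_antisymm
    · apply sup_le
      · rw [Subgroup.closure_le]
        rintro s ⟨i, hi, h⟩
        show s ∈ (D.monomialSubgroup F).subgroupOf (D.group F)
        rw [Subgroup.mem_subgroupOf]
        exact Subgroup.mem_sup_right (Subgroup.subset_closure ⟨_, simple_lt7 hD i hi, h⟩)
      · exact inf_le_right
    · intro g hg
      rw [Subgroup.mem_subgroupOf] at hg
      obtain ⟨h, hh, v, hv, e⟩ := N_word_form hD _ hg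
      have hw : ∀ v : List ℕ, (∀ i ∈ v, i < D.rank) →
          ∃ w ∈ Subgroup.closure (chevS D F), (w : GL D.Idx F) = wordN hD v := by
        intro v
        induction v with
        | nil => intro _; exact ⟨1, one_mem _, rfl⟩
        | cons i rest ih =>
          intro hv
          obtain ⟨w, hw, e⟩ := ih (fun j hj => hv j (List.mem_cons_of_mem _ hj))
          refine ⟨sEl hD i * w, mul_mem (Subgroup.subset_closure
            ((mem_chevS_iff hD _).mpr ⟨i, hv i List.mem_cons_self, rfl⟩)) hw, ?_⟩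
          show (nG hD (D.simple i) 1 : GL D.Idx F) * (w : GL D.Idx F) = wordN hD (i :: rest)
          rw [wordN_cons, e]
      obtain ⟨w, hw1, hw2⟩ := hw v hv
      have hhG : h ∈ D.group F := H_le_group hD hh
      have e2 : g = ⟨h, hhG⟩ * w := by
        apply Subtype.ext
        show (g : GL D.Idx F) = h * (w : GL D.Idx F)
        rw [e, hw2]
      rw [e2]
      have hm : (⟨h, hhG⟩ : ↥(D.group F)) ∈ (D.borelSubgroup F).subgroupOf (D.group F) ⊓
          (D.monomialSubgroup F).subgroupOf (D.group F) :=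
        Subgroup.mem_inf.mpr ⟨Subgroup.mem_subgroupOf.mpr (Subgroup.mem_sup_right hh),
          Subgroup.mem_subgroupOf.mpr (Subgroup.mem_sup_left hh)⟩
      exact mul_mem (Subgroup.mem_sup_right hm) (Subgroup.mem_sup_left hw1)
  · -- mul_mem_union
    intro s hs n hn b hb
    obtain ⟨i, hi, rfl⟩ := (mem_chevS_iff hD s).mp hs
    rw [Subgroup.mem_subgroupOf] at hn hb
    rcases BN_axiom hD i hi (n : GL D.Idx F) hn (b : GL D.Idx F) hb with h | h
    · refine Or.inl ?_
      rw [DoubleCoset.mem_doubleCoset] at h ⊢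
      obtain ⟨x, hx, z, hz, e⟩ := h
      refine ⟨⟨x, B_le_group hD hx⟩, ?_, ⟨z, B_le_group hD hz⟩, ?_, ?_⟩
      · exact Subgroup.mem_subgroupOf.mpr hx
      · exact Subgroup.mem_subgroupOf.mpr hz
      · exact Subtype.ext e
    · refine Or.inr ?_
      rw [DoubleCoset.mem_doubleCoset] at h ⊢
      obtain ⟨x, hx, z, hz, e⟩ := h
      refine ⟨⟨x, B_le_group hD hx⟩, ?_, ⟨z, B_le_group hD hz⟩, ?_, ?_⟩
      · exact Subgroup.mem_subgroupOf.mpr hx
      · exact Subgroup.mem_subgroupOf.mpr hz
      · exact Subtype.ext e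
  · -- conj_ne
    intro s hs heq
    obtain ⟨i, hi, rfl⟩ := (mem_chevS_iff hD s).mp hs
    have hp := simple_lt7 hD i hi
    have hpP := simple_pos7 hD i hi
    have hxB : (⟨xG hD (D.simple i) 1, xG_mem_group hD _ _⟩ : ↥(D.group F)) ∈
        (D.borelSubgroup F).subgroupOf (D.group F) :=
      Subgroup.mem_subgroupOf.mpr (Subgroup.mem_sup_left (xG_mem_posU hD _ hpP 1))
    have h1 : sEl hD i * (⟨xG hD (D.simple i) 1, xG_mem_group hD _ _⟩ : ↥(D.group F)) * sEl hD i ∈
        (((D.borelSubgroup F).subgroupOf (D.group F) : Subgroup ↥(D.group F)) :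
          Set ↥(D.group F)) := by
      rw [← heq]; exact ⟨_, hxB, rfl⟩
    have h2 : nG hD (D.simple i) (1 : F) * xG hD (D.simple i) 1 * nG hD (D.simple i) 1 ∈
        D.borelSubgroup F := Subgroup.mem_subgroupOf.mp h1
    have h3 := nG_conj_x hD i hi (D.simple i) hp (1 : F)
    rw [reflect_self] at h3
    have hsqB : nG hD (D.simple i) (1 : F) * nG hD (D.simple i) 1 ∈ D.borelSubgroup F :=
      Subgroup.mem_sup_right (nG_sq_mem_H hD _ hp)
    have h4 : xG hD (D.neg (D.simple i)) (((etaAt D i (D.simple i) : ℤ) : F) * 1) ∈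
        D.borelSubgroup F := by
      rw [← h3]
      have e : nG hD (D.simple i) 1 * xG hD (D.simple i) (1 : F) * (nG hD (D.simple i) 1)⁻¹ =
          (nG hD (D.simple i) 1 * xG hD (D.simple i) 1 * nG hD (D.simple i) 1) *
            (nG hD (D.simple i) 1 * nG hD (D.simple i) 1)⁻¹ := by group
      rw [e]
      exact mul_mem h2 (inv_mem hsqB)
    have hnegR : D.IsNegRoot (D.neg (D.simple i)) := by
      apply ((pos_iff7 hD _ (neg_lt7 hD _ hp)).2).mpr
      have h5 := ((pos_iff7 hD _ hp).1).mp hpP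
      have h6 := nroots_even7 hD
      rw [neg_eq7 hD _ hp]; omega
    have h5 : xG hD (D.neg (D.simple i)) (((etaAt D i (D.simple i) : ℤ) : F) * 1) ∈
        D.borelSubgroup F ⊓ D.negUnipotent F := ⟨h4, xG_mem_negU hD _ hnegR _⟩
    rw [B_inf_negU hD] at h5
    have h6 : D.x F (D.neg (D.simple i)) (((etaAt D i (D.simple i) : ℤ) : F) * 1) = 1 := by
      have h7 : ((xG hD (D.neg (D.simple i)) (((etaAt D i (D.simple i) : ℤ) : F) * 1) :
          GL D.Idx F) : Matrix D.Idx D.Idx F) = 1 := by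
        rw [Subgroup.mem_bot.mp h5]; rfl
      exact h7
    have h8 := (x_eq_one_iff7 hD _ (neg_lt7 hD _ hp) _).mp h6
    rcases eta_F_cases (F := F) hD i hi (D.simple i) hp with h | h <;> rw [h] at h8 <;> simp at h8

end BN3

end Cfsg.Agent.Helper11
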