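import Cfsg.Agent.Helper11.ChevGrp

set_option autoImplicit false
set_option maxRecDepth 100000
set_option maxHeartbeats 0
set_option Elab.async false

/-!
Table facts for the `(B, N)`-pair of the Chevalley groups: a fundamental reflection permutes the other
positive roots, and the Dynkin diagram is connected (in the form: along a suitable enumeration of the
fundamental roots, each one is linked to an earlier one, where `i`, `j` are linked when the commutator of
the two reflections makes one of the two fundamental roots negative).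
-/

namespace Cfsg.Agent.Helper11

open Cfsg.Lie

noncomputable def posPermOK (D : ChevalleyDatum) : Bool :=
  allN D.rank (fun i => allN D.nroots (fun s =>
    Nat.blt s (Nat.div D.nroots 2) || (Nat.beq s (D.simple i) ||
      Nat.ble (Nat.div D.nroots 2) (D.reflectRoot i s))))

noncomputable def linkB (D : ChevalleyDatum) (i j : ℕ) : Bool :=
  Nat.blt i D.rank && (Nat.blt j D.rank &&
    (Nat.blt (D.reflectRoot i (D.reflectRoot j (D.reflectRoot i (D.reflectRoot j (D.simple i)))))
        (Nat.div D.nroots 2) ||
     Nat.blt (D.reflectRoot i (D.reflectRoot j (D.reflectRoot i (D.reflectRoot j (D.simple j)))))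
        (Nat.div D.nroots 2)))

noncomputable def connOK (D : ChevalleyDatum) (o : List ℕ) : Bool :=
  allN D.rank (fun i => anyN o.length (fun m => Nat.beq (o.getD m 0) i)) &&
  allN o.length (fun m => Nat.beq m 0 ||
    anyN m (fun m' => linkB D (o.getD m 0) (o.getD m' 0) || linkB D (o.getD m' 0) (o.getD m 0)))

theorem posPerm_spec {D : ChevalleyDatum} (h : posPermOK D = true) (i : ℕ) (hi : i < D.rank) (s : ℕ)
    (hs : s < D.nroots) (hpos : D.nroots / 2 ≤ s) (hne : s ≠ D.simple i) :
    D.nroots / 2 ≤ D.reflectRoot i s := by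
  have h1 := (allN_spec _ _).mp ((allN_spec _ _).mp h i hi) s hs
  rw [Bool.or_eq_true, Bool.or_eq_true] at h1
  rcases h1 with h1 | h1 | h1
  · have h2 : s < D.nroots / 2 := (blt_iff _ _).mp h1
    omega
  · exact absurd ((beq_iff _ _).mp h1) hne
  · exact Nat.le_of_ble_eq_true h1

theorem linkB_spec {D : ChevalleyDatum} (i j : ℕ) (h : linkB D i j = true) :
    i < D.rank ∧ j < D.rank ∧
      (D.reflectRoot i (D.reflectRoot j (D.reflectRoot i (D.reflectRoot j (D.simple i)))) <
          D.nroots / 2 ∨
        D.reflectRoot i (D.reflectRoot j (D.reflectRoot i (D.reflectRoot j (D.simple j)))) <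
          D.nroots / 2) := by
  unfold linkB at h
  rw [Bool.and_eq_true, Bool.and_eq_true, Bool.or_eq_true] at h
  exact ⟨(blt_iff _ _).mp h.1, (blt_iff _ _).mp h.2.1,
    h.2.2.imp (fun h => (blt_iff _ _).mp h) (fun h => (blt_iff _ _).mp h)⟩

theorem conn_spec {D : ChevalleyDatum} (o : List ℕ) (h : connOK D o = true) (C : ℕ → Prop)
    (hC : ∀ i j, linkB D i j = true → (C i ↔ C j)) : ∀ i < D.rank, (C i ↔ C (o.getD 0 0)) := by
  unfold connOK at h
  rw [Bool.and_eq_true] at h
  have key : ∀ m, m < o.length → (C (o.getD m 0) ↔ C (o.getD 0 0)) := by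
    intro m
    induction m using Nat.strong_induction_on with
    | _ m ih =>
      intro hm
      have h1 := (allN_spec _ _).mp h.2 m hm
      rw [Bool.or_eq_true] at h1
      rcases h1 with h1 | h1
      · rw [(beq_iff _ _).mp h1]
      · obtain ⟨m', hm', h2⟩ := (anyN_spec _ _).mp h1
        rw [Bool.or_eq_true] at h2
        have h3 := ih m' hm' (by omega)
        rcases h2 with h2 | h2
        · exact (hC _ _ h2).trans h3
        · exact (hC _ _ h2).symm.trans h3
  intro i hi
  obtain ⟨m, hm, h2⟩ := (anyN_spec _ _).mp ((allN_spec _ _).mp h.1 i hi)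
  rw [← (beq_iff _ _).mp h2]
  exact key m hm

theorem posPermOK_G2 : posPermOK chevG2 = true := by decide +kernel
theorem posPermOK_B2 : posPermOK chevB2 = true := by decide +kernel
theorem posPermOK_D4 : posPermOK chevD4 = true := by decide +kernel
theorem posPermOK_F4 : posPermOK chevF4 = true := by decide +kernel
theorem posPermOK_E6 : posPermOK chevE6 = true := by decide +kernel
theorem posPermOK_E7 : posPermOK chevE7 = true := by decide +kernel
theorem posPermOK_E8 : posPermOK chevE8 = true := by decide +kernel

theorem posPermOK_seven (D : ChevalleyDatum)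
    (hD : D ∈ [chevG2, chevB2, chevD4, chevF4, chevE6, chevE7, chevE8]) : posPermOK D = true :=
  forall_seven (P := fun D => posPermOK D = true) posPermOK_G2 posPermOK_B2 posPermOK_D4 posPermOK_F4
    posPermOK_E6 posPermOK_E7 posPermOK_E8 D hD

theorem connOK_G2 : connOK chevG2 [0, 1] = true := by decide +kernel
theorem connOK_B2 : connOK chevB2 [0, 1] = true := by decide +kernel
theorem connOK_D4 : connOK chevD4 [0, 1, 2, 3] = true := by decide +kernel
theorem connOK_F4 : connOK chevF4 [0, 1, 2, 3] = true := by decide +kernel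
theorem connOK_E6 : connOK chevE6 [0, 2, 3, 1, 4, 5] = true := by decide +kernel
theorem connOK_E7 : connOK chevE7 [0, 2, 3, 1, 4, 5, 6] = true := by decide +kernel
theorem connOK_E8 : connOK chevE8 [0, 2, 3, 1, 4, 5, 6, 7] = true := by decide +kernel

theorem connOK_seven (D : ChevalleyDatum)
    (hD : D ∈ [chevG2, chevB2, chevD4, chevF4, chevE6, chevE7, chevE8]) :
    ∃ o : List ℕ, connOK D o = true :=
  forall_seven (P := fun D => ∃ o : List ℕ, connOK D o = true) ⟨_, connOK_G2⟩ ⟨_, connOK_B2⟩
    ⟨_, connOK_D4⟩ ⟨_, connOK_F4⟩ ⟨_, connOK_E6⟩ ⟨_, connOK_E7⟩ ⟨_, connOK_E8⟩ D hD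

/-- A fundamental reflection permutes the positive roots other than its own root. -/
theorem refl_pos7 {D : ChevalleyDatum} (hD : Seven D) (i : ℕ) (hi : i < D.rank) (s : ℕ)
    (hs : s < D.nroots) (hpos : D.nroots / 2 ≤ s) (hne : s ≠ D.simple i) :
    D.nroots / 2 ≤ D.reflectRoot i s :=
  posPerm_spec (posPermOK_seven D hD) i hi s hs hpos hne

end Cfsg.Agent.Helper11
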