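import Cfsg.Prelude.Def_ChevAutomorphisms
import Mathlib

set_option autoImplicit false

/-!
Symbolic sparse-vector calculus for the matrices `x_r(t)` of a Chevalley datum: vectors are formal sums
of terms `c * t^a * u^b * e_idx` (coded index: `h_i ↦ i`, `e_r ↦ rank + r`), root elements with
polynomial parameters act on them, and equality of the results can be decided by kernel computation.
-/

namespace Cfsg.Agent.Helper11

open Cfsg.Lie

/-- A monomial `c * t^a * u^b`. -/
abbrev Mono := ℤ × ℕ × ℕ
/-- A term: coded basis index and monomial coefficient. -/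
abbrev Term := ℕ × Mono
abbrev Poly := List Mono
abbrev Vec := List Term

def mulMono (m n : Mono) : Mono := (m.1 * n.1, m.2.1 + n.2.1, m.2.2 + n.2.2)
def mulPoly (p q : Poly) : Poly := p.flatMap fun m => q.map (mulMono m)
def powPoly (p : Poly) : ℕ → Poly
  | 0 => [(1, 0, 0)]
  | k + 1 => mulPoly p (powPoly p k)

section Eval
variable {F : Type*} [Field F]

def evalMono (t u : F) (m : Mono) : F := (m.1 : F) * t ^ m.2.1 * u ^ m.2.2
def evalPoly (t u : F) (p : Poly) : F := (p.map (evalMono t u)).sum

theorem evalMono_mul (t u : F) (m n : Mono) :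
    evalMono t u (mulMono m n) = evalMono t u m * evalMono t u n := by
  simp only [evalMono, mulMono, Int.cast_mul, pow_add]; ring

theorem evalPoly_nil (t u : F) : evalPoly t u [] = 0 := rfl
theorem evalPoly_cons (t u : F) (m : Mono) (p : Poly) :
    evalPoly t u (m :: p) = evalMono t u m + evalPoly t u p := by
  simp [evalPoly]
theorem evalPoly_append (t u : F) (p q : Poly) :
    evalPoly t u (p ++ q) = evalPoly t u p + evalPoly t u q := by
  simp [evalPoly]

theorem evalPoly_map_mul (t u : F) (m : Mono) (q : Poly) :
    evalPoly t u (q.map (mulMono m)) = evalMono t u m * evalPoly t u q := by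
  induction q with
  | nil => simp [evalPoly]
  | cons n q ih => rw [List.map_cons, evalPoly_cons, evalPoly_cons, ih, evalMono_mul, mul_add]

theorem evalPoly_mul (t u : F) (p q : Poly) :
    evalPoly t u (mulPoly p q) = evalPoly t u p * evalPoly t u q := by
  induction p with
  | nil => simp [mulPoly, evalPoly]
  | cons m p ih =>
    have : mulPoly (m :: p) q = q.map (mulMono m) ++ mulPoly p q := by simp [mulPoly]
    rw [this, evalPoly_append, evalPoly_map_mul, ih, evalPoly_cons, add_mul]

theorem evalPoly_pow (t u : F) (p : Poly) (k : ℕ) :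
    evalPoly t u (powPoly p k) = evalPoly t u p ^ k := by
  induction k with
  | zero => simp [powPoly, evalPoly, evalMono]
  | succ k ih => rw [powPoly, evalPoly_mul, ih, pow_succ, mul_comm]

/-- The basis vector with coded index `i` (zero if out of range). -/
def basisVec (D : ChevalleyDatum) (F : Type*) [Field F] (i : ℕ) : D.Idx → F :=
  if h : i < D.rank then Pi.single (Sum.inl ⟨i, h⟩) 1
  else if h' : i - D.rank < D.nroots then Pi.single (Sum.inr ⟨i - D.rank, h'⟩) 1 else 0

theorem basisVec_apply_inl (D : ChevalleyDatum) (k : ℕ) (i : Fin D.rank) :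
    basisVec D F k (Sum.inl i) = if i.val = k then 1 else 0 := by
  unfold basisVec
  split_ifs with h1 h2 h3 h4 h5
  · subst h2; simp
  · rw [Pi.single_apply, if_neg]; intro h; apply h2; rw [Sum.inl.injEq] at h; rw [h]
  · exfalso; have := i.2; omega
  · simp
  · exfalso; have := i.2; omega
  · simp

theorem basisVec_apply_inr (D : ChevalleyDatum) (k : ℕ) (u : Fin D.nroots) :
    basisVec D F k (Sum.inr u) = if D.rank + u.val = k then 1 else 0 := by
  unfold basisVec
  split_ifs with h1 h2 h3 h4 h5
  · exfalso; omega
  · simp
  · have : u = ⟨k - D.rank, h3⟩ := by apply Fin.ext; simp; omega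
    subst this; simp
  · rw [Pi.single_apply, if_neg]; intro h; apply h4; rw [Sum.inr.injEq] at h; rw [h]; simp; omega
  · exfalso; have := u.2; omega
  · simp

theorem basisVec_inl (D : ChevalleyDatum) (i : Fin D.rank) :
    basisVec D F i.val = Pi.single (Sum.inl i) 1 := by
  funext j
  rcases j with j | j
  · rw [basisVec_apply_inl, Pi.single_apply]
    simp only [Sum.inl.injEq, Fin.ext_iff]
  · rw [basisVec_apply_inr, Pi.single_apply, if_neg, if_neg]
    · simp
    · have := i.2; omega

theorem basisVec_inr (D : ChevalleyDatum) (s : Fin D.nroots) :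
    basisVec D F (D.rank + s.val) = Pi.single (Sum.inr s) 1 := by
  funext j
  rcases j with j | j
  · rw [basisVec_apply_inl, Pi.single_apply, if_neg, if_neg]
    · simp
    · have := j.2; omega
  · rw [basisVec_apply_inr, Pi.single_apply]
    simp only [Sum.inr.injEq, Fin.ext_iff, Nat.add_left_cancel_iff]

theorem basisVec_of_ge (D : ChevalleyDatum) (k : ℕ) (h : D.rank + D.nroots ≤ k) :
    basisVec D F k = 0 := by
  funext j
  rcases j with j | j
  · rw [basisVec_apply_inl, if_neg]; · rfl
    have := j.2; omega
  · rw [basisVec_apply_inr, if_neg]; · rfl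
    have := j.2; omega

def evalVec (D : ChevalleyDatum) (t u : F) (v : Vec) : D.Idx → F :=
  (v.map fun x => evalMono t u x.2 • basisVec D F x.1).sum

theorem evalVec_nil (D : ChevalleyDatum) (t u : F) : evalVec D t u [] = 0 := rfl
theorem evalVec_cons (D : ChevalleyDatum) (t u : F) (x : Term) (v : Vec) :
    evalVec D t u (x :: v) = evalMono t u x.2 • basisVec D F x.1 + evalVec D t u v := by
  simp [evalVec]
theorem evalVec_append (D : ChevalleyDatum) (t u : F) (v w : Vec) :
    evalVec D t u (v ++ w) = evalVec D t u v + evalVec D t u w := by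
  simp [evalVec]
theorem evalVec_flatMap (D : ChevalleyDatum) (t u : F) {α : Type*} (l : List α) (f : α → Vec) :
    evalVec D t u (l.flatMap f) = (l.map fun a => evalVec D t u (f a)).sum := by
  induction l with
  | nil => rfl
  | cons a l ih => rw [List.flatMap_cons, evalVec_append, ih, List.map_cons, List.sum_cons]

end Eval

/-- The sparse column `v` of `x_r(t) - 1`: list of (target index, power of `t`, integer coefficient). -/
def colN (D : ChevalleyDatum) (r v : ℕ) : List (ℕ × ℕ × ℤ) :=
  if v < D.rank then [(D.rank + r, 1, - (D.cartanSR.getD v #[]).getD r 0)]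
  else if v - D.rank = r then []
  else if v - D.rank = D.negIdx.getD r 0 then
    ((List.range D.rank).map fun i => (i, 1, (D.coroot.getD r #[]).getD i 0)) ++ [(D.rank + r, 2, -1)]
  else ((D.chain.getD r #[]).toList.filter (fun e => e.1 = v - D.rank)).flatMap fun e =>
      e.2.toList.zipIdx.map fun q => (D.rank + q.1.1, q.2 + 1, q.1.2)

section Col
variable {F : Type*} [Field F]

theorem sum_range_single (n : ℕ) (f : ℕ → F) (i : ℕ) (hi : i < n) :
    ((List.range n).map fun j => f j * (if i = j then 1 else 0)).sum = f i := by
  induction n with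
  | zero => omega
  | succ n ih =>
    rw [List.range_succ, List.map_append, List.sum_append]
    by_cases h : i = n
    · subst h
      have : ((List.range i).map fun j => f j * (if i = j then (1:F) else 0)).sum = 0 := by
        apply List.sum_eq_zero
        intro x hx
        rw [List.mem_map] at hx
        obtain ⟨j, hj, rfl⟩ := hx
        rw [List.mem_range] at hj
        rw [if_neg (by omega), mul_zero]
      rw [this]; simp
    · rw [ih (by omega)]; simp [h]

theorem sum_filter_chain (τ : F) (c : ℕ) (u : ℕ) (Z : List ((ℕ × ℤ) × ℕ)) :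
    (((Z.filter (fun q => q.1.1 = u)).map fun q => (q.2 + 1, q.1.2)).map
        fun km : ℕ × ℤ => ((km.2 : ℤ) : F) * τ ^ km.1).sum =
      ((Z.map fun q => (c + q.1.1, q.2 + 1, q.1.2)).map
        fun e : ℕ × ℕ × ℤ => ((e.2.2 : F) * τ ^ e.2.1) * (if c + u = e.1 then 1 else 0)).sum := by
  induction Z with
  | nil => rfl
  | cons q Z ih =>
    by_cases h : q.1.1 = u
    · rw [List.filter_cons_of_pos (by simpa using h)]
      simp only [List.map_cons, List.sum_cons]
      rw [ih, if_pos (by rw [h])]
      simp
    · rw [List.filter_cons_of_neg (by simpa using h)]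
      simp only [List.map_cons, List.sum_cons]
      rw [ih, if_neg (by intro h'; apply h; omega)]
      simp

theorem sum_flatMap_congr {α β γ : Type*} (L : List α) (A : α → List β) (B : α → List γ)
    (f : β → F) (g : γ → F) (h : ∀ e, ((A e).map f).sum = ((B e).map g).sum) :
    ((L.flatMap A).map f).sum = ((L.flatMap B).map g).sum := by
  induction L with
  | nil => rfl
  | cons a L ih =>
    rw [List.flatMap_cons, List.flatMap_cons, List.map_append, List.map_append, List.sum_append,
      List.sum_append, ih, h]

theorem xMat_mulVec_basis (D : ChevalleyDatum) (r : Fin D.nroots) (τ : F) (v : ℕ)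
    (hv : v < D.rank + D.nroots) :
    (D.xMat F r τ).mulVec (basisVec D F v) = basisVec D F v +
      ((colN D r.val v).map fun e => ((e.2.2 : F) * τ ^ e.2.1) • basisVec D F e.1).sum := by
  have key : ∀ (row : D.Idx) (L : List (ℕ × ℕ × ℤ)),
      ((L.map fun e => ((e.2.2 : F) * τ ^ e.2.1) • basisVec D F e.1).sum) row =
        (L.map fun e => ((e.2.2 : F) * τ ^ e.2.1) * basisVec D F e.1 row).sum := by
    intro row L
    induction L with
    | nil => rfl
    | cons a L ih => simp only [List.map_cons, List.sum_cons, Pi.add_apply, Pi.smul_apply, smul_eq_mul, ih]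
  by_cases h : v < D.rank
  · -- column h_v
    have e1 : basisVec D F v = Pi.single (Sum.inl ⟨v, h⟩) 1 := basisVec_inl D ⟨v, h⟩
    have hc : colN D r.val v = [(D.rank + r.val, 1, - (D.cartanSR.getD v #[]).getD r.val 0)] := by
      unfold colN; rw [if_pos h]
    funext row
    rw [Pi.add_apply, key, hc]
    conv_lhs => rw [e1, Matrix.mulVec_single_one]
    rcases row with i' | u
    · simp only [List.map_cons, List.map_nil, List.sum_cons, List.sum_nil, basisVec_apply_inl,
        ChevalleyDatum.xMat, Matrix.of_apply, Matrix.col_apply]
      rw [if_neg (show ¬ (i'.val = D.rank + r.val) by have := i'.2; omega)]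
      by_cases hi : i' = ⟨v, h⟩
      · rw [if_pos hi, if_pos (by rw [hi])]; ring
      · rw [if_neg hi, if_neg (fun h' => hi (Fin.ext h'))]; ring
    · simp only [List.map_cons, List.map_nil, List.sum_cons, List.sum_nil, basisVec_apply_inr,
        ChevalleyDatum.xMat, Matrix.of_apply, Matrix.col_apply]
      rw [if_neg (show ¬ (D.rank + u.val = v) by omega)]
      by_cases hu : u = r
      · rw [if_pos hu, if_pos (by rw [hu])]; push_cast; ring
      · rw [if_neg hu, if_neg (fun h' => hu (Fin.ext (by omega)))]; ring
  · have hs : v - D.rank < D.nroots := by omega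
    have e1 : basisVec D F v = Pi.single (Sum.inr ⟨v - D.rank, hs⟩) 1 := by
      have := basisVec_inr (F := F) D ⟨v - D.rank, hs⟩
      rw [← this]; congr 1; simp; omega
    funext row
    rw [Pi.add_apply, key]
    conv_lhs => rw [e1, Matrix.mulVec_single_one]
    unfold colN
    rw [if_neg h]
    by_cases h1 : v - D.rank = r.val
    · rw [if_pos h1]
      have h1' : (⟨v - D.rank, hs⟩ : Fin D.nroots) = r := Fin.ext h1
      rcases row with i' | u
      · simp only [List.map_nil, List.sum_nil, basisVec_apply_inl, ChevalleyDatum.xMat,
          Matrix.of_apply, Matrix.col_apply]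
        rw [if_pos h1', if_neg (show ¬ (i'.val = v) by have := i'.2; omega)]; ring
      · simp only [List.map_nil, List.sum_nil, basisVec_apply_inr, ChevalleyDatum.xMat,
          Matrix.of_apply, Matrix.col_apply]
        rw [if_pos h1']
        by_cases hu : u = r
        · rw [if_pos hu, if_pos (show D.rank + u.val = v by rw [hu]; omega)]; ring
        · rw [if_neg hu, if_neg (show ¬ (D.rank + u.val = v) from
            fun h' => hu (Fin.ext (by omega)))]; ring
    · rw [if_neg h1]
      have h1' : ¬ (⟨v - D.rank, hs⟩ : Fin D.nroots) = r := fun h' => h1 (by rw [← h'])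
      by_cases h2 : v - D.rank = D.negIdx.getD r.val 0
      · rw [if_pos h2]
        rcases row with i' | u
        · simp only [ChevalleyDatum.xMat, Matrix.of_apply, Matrix.col_apply]
          rw [if_neg h1', if_pos h2]
          simp only [List.map_append, List.map_map, List.sum_append, List.map_cons, List.map_nil,
            List.sum_cons, List.sum_nil, basisVec_apply_inl, Function.comp_def]
          rw [if_neg (show ¬ (i'.val = v) by have := i'.2; omega),
            if_neg (show ¬ (i'.val = D.rank + r.val) by have := i'.2; omega)]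
          have := sum_range_single D.rank
            (fun j => (((D.coroot.getD r.val #[]).getD j 0 : ℤ) : F) * τ ^ 1) i'.val i'.2
          rw [this]; ring
        · simp only [ChevalleyDatum.xMat, Matrix.of_apply, Matrix.col_apply]
          rw [if_neg h1', if_pos h2]
          simp only [List.map_append, List.map_map, List.sum_append, List.map_cons, List.map_nil,
            List.sum_cons, List.sum_nil, basisVec_apply_inr, Function.comp_def]
          have hz : ((List.range D.rank).map (fun i => (((D.coroot.getD r.val #[]).getD i 0 : ℤ) : F)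
              * τ ^ 1 * (if D.rank + u.val = i then (1:F) else 0))).sum = 0 := by
            apply List.sum_eq_zero
            intro x hx
            rw [List.mem_map] at hx
            obtain ⟨j, hj, rfl⟩ := hx
            rw [List.mem_range] at hj
            rw [if_neg (by omega), mul_zero]
          rw [hz]
          by_cases hu : u = ⟨v - D.rank, hs⟩
          · have hur : ¬ (u = r) := fun h' => h1' (by rw [← hu, h'])
            rw [if_pos hu, if_pos (show D.rank + u.val = v by rw [hu]; simp; omega),
              if_neg (show ¬ (D.rank + u.val = D.rank + r.val) from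
                fun h' => hur (Fin.ext (by omega)))]; ring
          · rw [if_neg hu, if_neg (show ¬ (D.rank + u.val = v) from
              fun h' => hu (Fin.ext (by simp; omega)))]
            by_cases hu2 : u = r
            · rw [if_pos hu2, if_pos (show D.rank + u.val = D.rank + r.val by rw [hu2])]; push_cast; ring
            · rw [if_neg hu2, if_neg (show ¬ (D.rank + u.val = D.rank + r.val) from
                fun h' => hu2 (Fin.ext (by omega)))]; ring
      · rw [if_neg h2]
        rcases row with i' | u
        · simp only [ChevalleyDatum.xMat, Matrix.of_apply, Matrix.col_apply]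
          rw [if_neg h1', if_neg h2]
          simp only [basisVec_apply_inl]
          rw [if_neg (show ¬ (i'.val = v) by have := i'.2; omega)]
          symm
          rw [zero_add]
          apply List.sum_eq_zero
          intro x hx
          rw [List.mem_map] at hx
          obtain ⟨e, he, rfl⟩ := hx
          rw [List.mem_flatMap] at he
          obtain ⟨e0, _, he⟩ := he
          rw [List.mem_map] at he
          obtain ⟨q, _, rfl⟩ := he
          rw [if_neg (by have := i'.2; omega), mul_zero]
        · simp only [ChevalleyDatum.xMat, Matrix.of_apply, Matrix.col_apply]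
          rw [if_neg h1', if_neg h2]
          simp only [basisVec_apply_inr]
          congr 1
          · by_cases hu : u = ⟨v - D.rank, hs⟩
            · rw [if_pos hu, if_pos (show D.rank + u.val = v by rw [hu]; simp; omega)]
            · rw [if_neg hu, if_neg (show ¬ (D.rank + u.val = v) from
                fun h' => hu (Fin.ext (by simp; omega)))]
          · unfold ChevalleyDatum.chainCoeff
            apply sum_flatMap_congr
            intro e
            exact sum_filter_chain τ D.rank u.val _

end Col

/-! ### Applying root elements with polynomial parameters -/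

def scaleCol (τ : Poly) (m : Mono) (e : ℕ × ℕ × ℤ) : Vec :=
  (powPoly τ e.2.1).map fun n => (e.1, (n.1 * (e.2.2 * m.1), n.2.1 + m.2.1, n.2.2 + m.2.2))

def applyTerm (D : ChevalleyDatum) (r : ℕ) (τ : Poly) (x : Term) : Vec :=
  if x.1 < D.rank + D.nroots then x :: (colN D r x.1).flatMap (scaleCol τ x.2) else [x]

def applyX (D : ChevalleyDatum) (r : ℕ) (τ : Poly) (v : Vec) : Vec :=
  if r < D.nroots then v.flatMap (applyTerm D r τ) else v

def applyWord (D : ChevalleyDatum) (w : List (ℕ × Poly)) (v : Vec) : Vec :=
  w.foldr (fun p acc => applyX D p.1 p.2 acc) v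

section Sound
variable {F : Type*} [Field F]

def evalWord (t u : F) (w : List (ℕ × Poly)) : List (ℕ × F) := w.map fun p => (p.1, evalPoly t u p.2)

theorem evalVec_scaleCol (D : ChevalleyDatum) (t u : F) (τ : Poly) (m : Mono) (e : ℕ × ℕ × ℤ) :
    evalVec D t u (scaleCol τ m e) =
      (evalMono t u m * ((e.2.2 : F) * evalPoly t u τ ^ e.2.1)) • basisVec D F e.1 := by
  rw [← evalPoly_pow]
  unfold scaleCol
  induction powPoly τ e.2.1 with
  | nil => simp [evalVec, evalPoly]
  | cons n q ih =>
    rw [List.map_cons, evalVec_cons, ih, evalPoly_cons, ← add_smul]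
    congr 1
    simp only [evalMono, Int.cast_mul, pow_add]; ring

theorem mulVec_sum' {D : ChevalleyDatum} (M : Matrix D.Idx D.Idx F) (L : List (D.Idx → F)) :
    M.mulVec L.sum = (L.map fun x => M.mulVec x).sum := by
  induction L with
  | nil => simp
  | cons a L ih => rw [List.sum_cons, Matrix.mulVec_add, ih, List.map_cons, List.sum_cons]

theorem applyTerm_sound (D : ChevalleyDatum) (r : Fin D.nroots) (t u : F) (τ : Poly) (x : Term) :
    (D.xMat F r (evalPoly t u τ)).mulVec (evalMono t u x.2 • basisVec D F x.1) =
      evalVec D t u (applyTerm D r.val τ x) := by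
  unfold applyTerm
  by_cases h : x.1 < D.rank + D.nroots
  · rw [if_pos h, evalVec_cons, evalVec_flatMap, Matrix.mulVec_smul, xMat_mulVec_basis D r _ _ h,
      smul_add]
    congr 1
    rw [List.smul_sum, List.map_map]
    congr 1
    apply List.map_congr_left
    intro e _
    rw [Function.comp_apply, evalVec_scaleCol, smul_smul]
  · rw [if_neg h, evalVec_cons, evalVec_nil, basisVec_of_ge D _ (by omega)]
    simp

theorem applyX_sound (D : ChevalleyDatum) (r : ℕ) (t u : F) (τ : Poly) (v : Vec) :
    (D.x F r (evalPoly t u τ)).mulVec (evalVec D t u v) = evalVec D t u (applyX D r τ v) := by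
  unfold applyX ChevalleyDatum.x
  by_cases h : r < D.nroots
  · rw [dif_pos h, if_pos h, evalVec_flatMap]
    unfold evalVec
    rw [mulVec_sum', List.map_map]
    congr 1
    apply List.map_congr_left
    intro x _
    rw [Function.comp_apply]
    exact applyTerm_sound D ⟨r, h⟩ t u τ x
  · rw [dif_neg h, if_neg h, Matrix.one_mulVec]

theorem applyWord_sound (D : ChevalleyDatum) (t u : F) (w : List (ℕ × Poly)) (v : Vec) :
    (D.wordMat F (evalWord t u w)).mulVec (evalVec D t u v) = evalVec D t u (applyWord D w v) := by
  induction w with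
  | nil => simp [ChevalleyDatum.wordMat, evalWord, applyWord]
  | cons p w ih =>
    have e1 : D.wordMat F (evalWord t u (p :: w)) =
        D.x F p.1 (evalPoly t u p.2) * D.wordMat F (evalWord t u w) := by
      simp [ChevalleyDatum.wordMat, evalWord]
    have e2 : applyWord D (p :: w) v = applyX D p.1 p.2 (applyWord D w v) := rfl
    rw [e1, e2, ← Matrix.mulVec_mulVec, ih, applyX_sound]

end Sound

/-! ### Normal forms and decidable equality of symbolic vectors -/

def insTerm (x : Term) : Vec → Vec
  | [] => [x]
  | y :: ys =>
    if x.1 = y.1 ∧ x.2.2.1 = y.2.2.1 ∧ x.2.2.2 = y.2.2.2 then (y.1, (x.2.1 + y.2.1, y.2.2)) :: ys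
    else y :: insTerm x ys

def normVec (v : Vec) : Vec := (v.foldr insTerm []).filter fun x => decide (x.2.1 ≠ 0)

def negVec (v : Vec) : Vec := v.map fun x => (x.1, (-x.2.1, x.2.2))

def vecEq (v w : Vec) : Bool := (normVec (v ++ negVec w)).isEmpty

def unitVec (v : ℕ) : Vec := [(v, (1, 0, 0))]

def wordEqAt (D : ChevalleyDatum) (w₁ w₂ : List (ℕ × Poly)) (v : ℕ) : Bool :=
  vecEq (applyWord D w₁ (unitVec v)) (applyWord D w₂ (unitVec v))

def wordEq (D : ChevalleyDatum) (w₁ w₂ : List (ℕ × Poly)) : Bool :=
  (List.range (D.rank + D.nroots)).all (wordEqAt D w₁ w₂)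

section Norm
variable {F : Type*} [Field F]

theorem evalVec_insTerm (D : ChevalleyDatum) (t u : F) (x : Term) (ys : Vec) :
    evalVec D t u (insTerm x ys) = evalVec D t u (x :: ys) := by
  induction ys with
  | nil => rfl
  | cons y ys ih =>
    unfold insTerm
    split_ifs with h
    · obtain ⟨h1, h2, h3⟩ := h
      rw [evalVec_cons, evalVec_cons, evalVec_cons, ← add_assoc, ← h1, ← add_smul]
      congr 2
      simp only [evalMono, Int.cast_add, h2, h3]; ring
    · rw [evalVec_cons, ih, evalVec_cons, evalVec_cons, evalVec_cons]; abel

theorem evalVec_filter (D : ChevalleyDatum) (t u : F) (v : Vec) :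
    evalVec D t u (v.filter fun x => decide (x.2.1 ≠ 0)) = evalVec D t u v := by
  induction v with
  | nil => rfl
  | cons x v ih =>
    by_cases h : x.2.1 = 0
    · rw [List.filter_cons_of_neg (by simpa using h), ih, evalVec_cons]
      simp [evalMono, h]
    · rw [List.filter_cons_of_pos (by simpa using h), evalVec_cons, evalVec_cons, ih]

theorem evalVec_normVec (D : ChevalleyDatum) (t u : F) (v : Vec) :
    evalVec D t u (normVec v) = evalVec D t u v := by
  unfold normVec
  rw [evalVec_filter]
  induction v with
  | nil => rfl
  | cons x v ih => rw [List.foldr_cons, evalVec_insTerm, evalVec_cons, ih, evalVec_cons]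

theorem evalVec_negVec (D : ChevalleyDatum) (t u : F) (v : Vec) :
    evalVec D t u (negVec v) = - evalVec D t u v := by
  induction v with
  | nil => simp [negVec, evalVec]
  | cons x v ih =>
    have : negVec (x :: v) = (x.1, (-x.2.1, x.2.2)) :: negVec v := rfl
    rw [this, evalVec_cons, ih, evalVec_cons, neg_add]
    congr 1
    rw [← neg_smul]; congr 1
    simp [evalMono]

theorem vecEq_sound (D : ChevalleyDatum) (t u : F) (v w : Vec) (h : vecEq v w = true) :
    evalVec D t u v = evalVec D t u w := by
  unfold vecEq at h
  rw [List.isEmpty_iff] at h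
  have := evalVec_normVec D t u (v ++ negVec w)
  rw [h, evalVec_append, evalVec_negVec, evalVec_nil] at this
  exact (sub_eq_zero.mp (by rw [sub_eq_add_neg]; exact this.symm))

theorem evalVec_unitVec (D : ChevalleyDatum) (t u : F) (v : ℕ) :
    evalVec D t u (unitVec v) = basisVec D F v := by
  simp [unitVec, evalVec, evalMono]

theorem matrix_ext_basis (D : ChevalleyDatum) (A B : Matrix D.Idx D.Idx F)
    (h : ∀ v < D.rank + D.nroots, A.mulVec (basisVec D F v) = B.mulVec (basisVec D F v)) : A = B := by
  ext i j
  rcases j with k | s
  · have := h k.val (by have := k.2; omega)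
    rw [basisVec_inl, Matrix.mulVec_single_one, Matrix.mulVec_single_one] at this
    exact congrFun this i
  · have := h (D.rank + s.val) (by have := s.2; omega)
    rw [basisVec_inr, Matrix.mulVec_single_one, Matrix.mulVec_single_one] at this
    exact congrFun this i

theorem wordEq_sound (D : ChevalleyDatum) (w₁ w₂ : List (ℕ × Poly)) (h : wordEq D w₁ w₂ = true)
    (t u : F) : D.wordMat F (evalWord t u w₁) = D.wordMat F (evalWord t u w₂) := by
  apply matrix_ext_basis
  intro v hv
  unfold wordEq at h
  rw [List.all_eq_true] at h
  have h1 := h v (List.mem_range.mpr hv)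
  unfold wordEqAt at h1
  have h2 := vecEq_sound D t u _ _ h1
  rw [← applyWord_sound, ← applyWord_sound, evalVec_unitVec] at h2
  exact h2

end Norm

end Cfsg.Agent.Helper11
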