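import Cfsg.Agent.Helper11.ChevBN3
import Cfsg.Agent.Helper2.BN2

set_option autoImplicit false

/-!
The canonical form `g = b n u` (`b ∈ B`, `n ∈ N`, `u ∈ U_n⁻`) of the elements of a Chevalley group:
existence from the Bruhat decomposition and the factorisation `U = U' U''` of `U` along any partition
of the positive roots; uniqueness from the uniqueness of the Bruhat cell and `B ∩ V = 1`.
-/

namespace Cfsg.Agent.Helper11

open Cfsg.Lie

section Canon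
variable {F : Type*} [Field F] {D : ChevalleyDatum}

theorem commWord_mem_Uge (hD : Seven D) (r s : ℕ) (hr : D.nroots / 2 ≤ r) (hr2 : r < D.nroots)
    (hs : D.nroots / 2 ≤ s) (hs2 : s < D.nroots) (hne : s ≠ r) (t u : F) (k : ℕ)
    (hk : k ≤ s + 1) : wG hD (D.commWord F r s t u) ∈ Uge D F k := by
  unfold wG
  apply Subgroup.list_prod_mem
  intro y hy
  rw [List.mem_map] at hy
  obtain ⟨p, hp, rfl⟩ := hy
  unfold ChevalleyDatum.commWord at hp
  rw [List.mem_map] at hp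
  obtain ⟨c', hc', rfl⟩ := hp
  have h3 := commPos7 hD r hr hr2 s hs2 hs hne c' hc'
  exact xG_mem_Uge hD _ _ (by omega) h3.1 _

theorem xG_conj_Uge (hD : Seven D) (k : ℕ) (hk : D.nroots / 2 ≤ k) (r : ℕ)
    (hr : D.nroots / 2 ≤ r) (hr2 : r < D.nroots) (t : F) :
    ∀ g ∈ Uge D F k, xG hD r t * g * (xG hD r t)⁻¹ ∈ Uge D F k := by
  intro g hg
  refine conj_closure_le _ _ _ ?_ g hg
  rintro x ⟨s, c, h1, h2, hx⟩
  rw [eq_xG hD x s c hx]
  by_cases hsr : s = r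
  · rw [hsr, xG_inv, xG_mul, xG_mul]
    exact xG_mem_Uge hD _ r (hsr ▸ h1) hr2 _
  · have hev := nroots_even7 hD
    have hnn : s ≠ D.neg r := by rw [neg_eq7 hD r hr2]; omega
    rw [xG_conj_x hD r s hr2 h2 hsr hnn t c]
    exact mul_mem (xG_mem_Uge hD _ s h1 h2 c)
      (commWord_mem_Uge hD r s hr hr2 (by omega) h2 hsr _ _ k (by omega))

/-- `U` normalises the subgroups `⟨X_r : r ≥ k⟩`. -/
theorem posU_conj_Uge (hD : Seven D) (k : ℕ) (hk : D.nroots / 2 ≤ k) :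
    ∀ c ∈ D.posUnipotent F, ∀ e ∈ Uge D F k, c * e * c⁻¹ ∈ Uge D F k := by
  have hle : D.posUnipotent F ≤ Subgroup.normalizer (Uge D F k : Set (GL D.Idx F)) := by
    unfold ChevalleyDatum.posUnipotent
    rw [Subgroup.closure_le]
    rintro g ⟨r, t, hpos, hg⟩
    rw [eq_xG hD g r t hg]
    have hr2 := hpos.1
    have hr := ((pos_iff7 hD r hr2).1).mp hpos
    apply mem_normalizer_of_conj
    · exact xG_conj_Uge hD k hk r hr hr2 t
    · intro u hu
      have h := xG_conj_Uge hD k hk r hr hr2 (-t) u hu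
      rw [← xG_inv, inv_inv] at h
      exact h
  intro c hc e he
  exact ((Subgroup.mem_normalizer_iff.mp (hle hc)) e).mp he

/-- Conjugation by `U` fixes `x_m(s)` modulo `⟨X_r : r > m⟩`. -/
theorem posU_conj_x_mod (hD : Seven D) (m : ℕ) (hm : D.nroots / 2 ≤ m) (hm2 : m < D.nroots) :
    ∀ c ∈ D.posUnipotent F, ∀ s : F,
      ∃ e ∈ Uge D F (m + 1), c * xG hD m s * c⁻¹ = xG hD m s * e := by
  intro c hc
  unfold ChevalleyDatum.posUnipotent at hc
  induction hc using Subgroup.closure_induction with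
  | mem x hx =>
    obtain ⟨r, t, hpos, hx⟩ := hx
    rw [eq_xG hD x r t hx]
    have hr2 := hpos.1
    have hr := ((pos_iff7 hD r hr2).1).mp hpos
    intro s
    by_cases hmr : m = r
    · refine ⟨1, one_mem _, ?_⟩
      rw [← hmr, xG_inv, xG_mul, xG_mul, mul_one]
      congr 1; ring
    · have hev := nroots_even7 hD
      have hnn : m ≠ D.neg r := by rw [neg_eq7 hD r hr2]; omega
      exact ⟨_, commWord_mem_Uge hD r m hr hr2 hm hm2 hmr _ _ (m + 1) le_rfl,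
        xG_conj_x hD r m hr2 hm2 hmr hnn t s⟩
  | one =>
    intro s
    exact ⟨1, one_mem _, by simp⟩
  | mul c₁ c₂ h₁ h₂ ih₁ ih₂ =>
    intro s
    obtain ⟨e₁, he₁, eq₁⟩ := ih₁ s
    obtain ⟨e₂, he₂, eq₂⟩ := ih₂ s
    refine ⟨e₁ * (c₁ * e₂ * c₁⁻¹),
      mul_mem he₁ (posU_conj_Uge hD (m + 1) (by omega) c₁ h₁ e₂ he₂), ?_⟩
    have e0 : c₁ * c₂ * xG hD m s * (c₁ * c₂)⁻¹ = c₁ * (c₂ * xG hD m s * c₂⁻¹) * c₁⁻¹ := by
      group
    rw [e0, eq₂]
    have e1 : c₁ * (xG hD m s * e₂) * c₁⁻¹ = (c₁ * xG hD m s * c₁⁻¹) * (c₁ * e₂ * c₁⁻¹) := by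
      group
    rw [e1, eq₁, mul_assoc]
  | inv c hc ih =>
    intro s
    obtain ⟨e, he, eq⟩ := ih s
    refine ⟨c⁻¹ * e⁻¹ * (c⁻¹)⁻¹,
      posU_conj_Uge hD (m + 1) (by omega) c⁻¹ (inv_mem hc) e⁻¹ (inv_mem he), ?_⟩
    have h' : c⁻¹ * (xG hD m s * e) * c = xG hD m s := by rw [← eq]; group
    calc c⁻¹ * xG hD m s * (c⁻¹)⁻¹
        = (c⁻¹ * (xG hD m s * e) * c) * (c⁻¹ * e⁻¹ * (c⁻¹)⁻¹) := by group
      _ = xG hD m s * (c⁻¹ * e⁻¹ * (c⁻¹)⁻¹) := by rw [h']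

/-- `U = U' U''` for the subgroups generated by the root subgroups of the two parts of any partition
of the positive roots. -/
theorem posU_split (hD : Seven D) (Ψ : ℕ → Prop) :
    ∀ u ∈ D.posUnipotent F,
      ∃ a ∈ Subgroup.closure {g : GL D.Idx F | ∃ (r : ℕ) (t : F),
        D.IsPosRoot r ∧ Ψ r ∧ g = xG hD r t},
      ∃ c ∈ Subgroup.closure {g : GL D.Idx F | ∃ (r : ℕ) (t : F),
        D.IsPosRoot r ∧ ¬ Ψ r ∧ g = xG hD r t}, u = a * c := by
  have hev := nroots_even7 hD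
  have hCU : Subgroup.closure {g : GL D.Idx F | ∃ (r : ℕ) (t : F),
      D.IsPosRoot r ∧ ¬ Ψ r ∧ g = xG hD r t} ≤ D.posUnipotent F := by
    rw [Subgroup.closure_le]
    rintro g ⟨r, t, hpos, _, rfl⟩
    exact xG_mem_posU hD r hpos t
  have key : ∀ j m, m = D.nroots / 2 + j → m ≤ D.nroots → ∀ u ∈ D.posUnipotent F,
      ∃ a ∈ Subgroup.closure {g : GL D.Idx F | ∃ (r : ℕ) (t : F),
        D.IsPosRoot r ∧ Ψ r ∧ g = xG hD r t},
      ∃ c ∈ Subgroup.closure {g : GL D.Idx F | ∃ (r : ℕ) (t : F),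
        D.IsPosRoot r ∧ ¬ Ψ r ∧ g = xG hD r t},
      ∃ d ∈ Uge D F m, u = a * c * d := by
    intro j
    induction j with
    | zero =>
      intro m hm _ u hu
      refine ⟨1, one_mem _, 1, one_mem _, u, ?_, by rw [one_mul, one_mul]⟩
      rw [hm, Nat.add_zero, ← posU_eq_Uge hD]; exact hu
    | succ j ih =>
      intro m hm hmn u hu
      obtain ⟨a, ha, c, hc, d, hd, rfl⟩ := ih (D.nroots / 2 + j) rfl (by omega) u hu
      have hm1 : D.nroots / 2 ≤ D.nroots / 2 + j := by omega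
      have hm2 : D.nroots / 2 + j < D.nroots := by omega
      obtain ⟨t, d', hd', rfl⟩ := Uge_factor hD _ hm1 hm2 d hd
      have hmP : D.IsPosRoot (D.nroots / 2 + j) := ((pos_iff7 hD _ hm2).1).mpr hm1
      have hd'' : d' ∈ Uge D F m := by rw [hm]; exact hd'
      by_cases hΨ : Ψ (D.nroots / 2 + j)
      · obtain ⟨e, he, hL⟩ := posU_conj_x_mod hD _ hm1 hm2 c⁻¹ (inv_mem (hCU hc)) (-t)
        rw [← xG_inv] at hL
        have he' : e = xG hD (D.nroots / 2 + j) t *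
            (c⁻¹ * (xG hD (D.nroots / 2 + j) t)⁻¹ * (c⁻¹)⁻¹) := by
          rw [hL]; group
        have hconj := Uge_conj hD _ hm1 hm2 (-t) e he
        rw [← xG_inv] at hconj
        refine ⟨a * xG hD (D.nroots / 2 + j) t,
          mul_mem ha (Subgroup.subset_closure ⟨_, t, hmP, hΨ, rfl⟩), c, hc,
          ((xG hD (D.nroots / 2 + j) t)⁻¹ * e * ((xG hD (D.nroots / 2 + j) t)⁻¹)⁻¹) * d', ?_, ?_⟩
        · rw [hm]; exact mul_mem hconj hd'
        · rw [he']; group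
      · refine ⟨a, ha, c * xG hD (D.nroots / 2 + j) t,
          mul_mem hc (Subgroup.subset_closure ⟨_, t, hmP, hΨ, rfl⟩), d', hd'', ?_⟩
        group
  intro u hu
  obtain ⟨a, ha, c, hc, d, hd, rfl⟩ := key (D.nroots / 2) D.nroots (by omega) le_rfl u hu
  have hd1 : d = 1 := by
    have hbot : Uge D F D.nroots = ⊥ := by
      unfold Uge
      rw [Subgroup.closure_eq_bot_iff]
      rintro g ⟨r, t, h1, h2, _⟩
      omega
    rw [hbot, Subgroup.mem_bot] at hd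
    exact hd
  exact ⟨a, ha, c, hc, by rw [hd1, mul_one]⟩

/-- Existence of the canonical form `g = b n u`. -/
theorem canon_exists (hD : Seven D) : ∀ g ∈ D.group F, ∃ b ∈ D.borelSubgroup F,
    ∃ n ∈ D.monomialSubgroup F,
      ∃ u ∈ Subgroup.closure {x : GL D.Idx F | ∃ (r : ℕ) (t : F), D.IsPosRoot r ∧
            (D.rootSubgroup F r).map (MulAut.conj n).toMonoidHom ≤ D.negUnipotent F ∧
            (x : Matrix D.Idx D.Idx F) = D.x F r t},
        g = b * n * u := by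
  intro g hg
  obtain ⟨P, hPB, hPN, hPS⟩ := chev_BN_exists (F := F) hD
  obtain ⟨n', hn', hdc⟩ := Helper2.BN.bruhat_exists_N P ⟨g, hg⟩
  rw [Helper2.BN.mem_dc] at hdc
  obtain ⟨b₁, hb₁, b₂, hb₂, e⟩ := hdc
  rw [hPB, Subgroup.mem_subgroupOf] at hb₁ hb₂
  rw [hPN, Subgroup.mem_subgroupOf] at hn'
  have e' : g = (b₁ : GL D.Idx F) * (n' : GL D.Idx F) * (b₂ : GL D.Idx F) :=
    congrArg Subtype.val e
  obtain ⟨f, hf, hsurj, hfneg⟩ := N_conj_data hD (n' : GL D.Idx F) hn'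
  obtain ⟨u₂, hu₂, h₂, hh₂, eb⟩ := mem_sup_of_normalizes (D.diagonalSubgroup F)
    (D.posUnipotent F)
    (fun a ha n hn => ((Subgroup.mem_normalizer_iff.mp (H_le_normalizer_posU hD ha)) n).mp hn)
    (b₂ : GL D.Idx F) hb₂
  have hu₃ : h₂⁻¹ * u₂ * h₂ ∈ D.posUnipotent F := by
    have h := ((Subgroup.mem_normalizer_iff.mp (H_le_normalizer_posU hD (inv_mem hh₂))) u₂).mp hu₂
    rwa [inv_inv] at h
  obtain ⟨a, ha, c, hc, eu⟩ := posU_split hD (fun r => ¬ (f r < D.nroots / 2)) _ hu₃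
  have hna : (n' : GL D.Idx F) * a * (n' : GL D.Idx F)⁻¹ ∈ D.posUnipotent F := by
    refine conj_closure_le _ _ _ ?_ a ha
    rintro x ⟨r, t, hpos, hΨ, rfl⟩
    have hΨ' : ¬ (f r < D.nroots / 2) := hΨ
    obtain ⟨h1, c', hc0, hconj⟩ := hf r hpos.1
    rw [hconj]
    exact xG_mem_posU hD _ (((pos_iff7 hD _ h1).1).mpr (by omega)) _
  refine ⟨(b₁ : GL D.Idx F) * ((n' : GL D.Idx F) * h₂ * (n' : GL D.Idx F)⁻¹) *
    ((n' : GL D.Idx F) * a * (n' : GL D.Idx F)⁻¹), ?_, (n' : GL D.Idx F), hn', c, ?_, ?_⟩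
  · exact mul_mem (mul_mem hb₁ (Subgroup.mem_sup_right (N_conj_H hD hn' hh₂)))
      (Subgroup.mem_sup_left hna)
  · refine Subgroup.closure_mono ?_ hc
    rintro x ⟨r, t, hpos, hΨ, rfl⟩
    refine ⟨r, t, hpos, ?_, rfl⟩
    have hneg : f r < D.nroots / 2 := not_not.mp hΨ
    obtain ⟨h1, c', hc0, hconj⟩ := hf r hpos.1
    rw [Subgroup.map_le_iff_le_comap]
    unfold ChevalleyDatum.rootSubgroup
    rw [Subgroup.closure_le]
    rintro y ⟨t', hy⟩
    rw [eq_xG hD y r t' hy]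
    show (n' : GL D.Idx F) * xG hD r t' * (n' : GL D.Idx F)⁻¹ ∈ D.negUnipotent F
    rw [hconj]
    exact xG_mem_negU hD _ (((pos_iff7 hD _ h1).2).mpr hneg) _
  · rw [e', eb]
    have e3 : u₂ * h₂ = h₂ * (a * c) := by rw [← eu]; group
    rw [e3]; group

/-- Uniqueness of the canonical form. -/
theorem canon_unique (hD : Seven D) (b b' n n' u u' : GL D.Idx F) (hb : b ∈ D.borelSubgroup F)
    (hb' : b' ∈ D.borelSubgroup F) (hn : n ∈ D.monomialSubgroup F)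
    (hn' : n' ∈ D.monomialSubgroup F)
    (hu : u ∈ Subgroup.closure {x : GL D.Idx F | ∃ (r : ℕ) (t : F), D.IsPosRoot r ∧
      (D.rootSubgroup F r).map (MulAut.conj n).toMonoidHom ≤ D.negUnipotent F ∧
      (x : Matrix D.Idx D.Idx F) = D.x F r t})
    (hu' : u' ∈ Subgroup.closure {x : GL D.Idx F | ∃ (r : ℕ) (t : F), D.IsPosRoot r ∧
      (D.rootSubgroup F r).map (MulAut.conj n').toMonoidHom ≤ D.negUnipotent F ∧
      (x : Matrix D.Idx D.Idx F) = D.x F r t})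
    (e : b * n * u = b' * n' * u') :
    n⁻¹ * n' ∈ D.diagonalSubgroup F ∧ (n = n' → b = b' ∧ u = u') := by
  have hU : ∀ m : GL D.Idx F, Subgroup.closure {x : GL D.Idx F | ∃ (r : ℕ) (t : F),
      D.IsPosRoot r ∧ (D.rootSubgroup F r).map (MulAut.conj m).toMonoidHom ≤ D.negUnipotent F ∧
      (x : Matrix D.Idx D.Idx F) = D.x F r t} ≤ D.posUnipotent F := by
    intro m
    apply Subgroup.closure_mono
    rintro x ⟨r, t, hpos, _, hx⟩
    exact ⟨r, t, hpos, hx⟩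
  have huU := hU n hu
  have hu'U := hU n' hu'
  constructor
  · obtain ⟨P, hPB, hPN, hPS⟩ := chev_BN_exists (F := F) hD
    have hnG := N_le_group hD hn
    have hn'G := N_le_group hD hn'
    have hdc : (⟨n', hn'G⟩ : ↥(D.group F)) ∈ Helper2.BN.dc P ⟨n, hnG⟩ := by
      rw [Helper2.BN.mem_dc]
      refine ⟨⟨b'⁻¹ * b, B_le_group hD (mul_mem (inv_mem hb') hb)⟩, ?_,
        ⟨u * u'⁻¹, B_le_group hD (Subgroup.mem_sup_left (mul_mem huU (inv_mem hu'U)))⟩, ?_, ?_⟩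
      · rw [hPB]; exact Subgroup.mem_subgroupOf.mpr (mul_mem (inv_mem hb') hb)
      · rw [hPB]
        exact Subgroup.mem_subgroupOf.mpr (Subgroup.mem_sup_left (mul_mem huU (inv_mem hu'U)))
      · apply Subtype.ext
        show n' = b'⁻¹ * b * n * (u * u'⁻¹)
        have e4 : b'⁻¹ * b * n * (u * u'⁻¹) = b'⁻¹ * (b * n * u) * u'⁻¹ := by group
        rw [e4, e]; group
    have h1 := Helper2.BN.bruhat_unique P (by rw [hPN]; exact Subgroup.mem_subgroupOf.mpr hn)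
      (by rw [hPN]; exact Subgroup.mem_subgroupOf.mpr hn') hdc
    rw [hPB, Subgroup.mem_subgroupOf] at h1
    have h2 : n⁻¹ * n' ∈ D.borelSubgroup F ⊓ D.monomialSubgroup F :=
      Subgroup.mem_inf.mpr ⟨h1, mul_mem (inv_mem hn) hn'⟩
    rwa [B_inf_N hD] at h2
  · rintro rfl
    have h1 : n * (u * u'⁻¹) * n⁻¹ = b⁻¹ * b' := by
      have e4 : n * (u * u'⁻¹) * n⁻¹ = b⁻¹ * (b * n * u) * u'⁻¹ * n⁻¹ := by group
      rw [e4, e]; group
    have h2 : n * (u * u'⁻¹) * n⁻¹ ∈ D.negUnipotent F := by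
      refine conj_closure_le _ _ n ?_ (u * u'⁻¹) (mul_mem hu (inv_mem hu'))
      rintro x ⟨r, t, hpos, hmap, hx⟩
      apply hmap
      exact ⟨x, Subgroup.subset_closure ⟨t, hx⟩, rfl⟩
    have h3a : n * (u * u'⁻¹) * n⁻¹ ∈ D.borelSubgroup F := by
      rw [h1]; exact mul_mem (inv_mem hb) hb'
    have h3 : n * (u * u'⁻¹) * n⁻¹ ∈ D.borelSubgroup F ⊓ D.negUnipotent F :=
      Subgroup.mem_inf.mpr ⟨h3a, h2⟩
    rw [B_inf_negU hD, Subgroup.mem_bot] at h3
    have h4 : u = u' := by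
      have h5 : u * u'⁻¹ = 1 := by
        have e5 : u * u'⁻¹ = n⁻¹ * (n * (u * u'⁻¹) * n⁻¹) * n := by group
        rw [e5, h3]; group
      exact mul_inv_eq_one.mp h5
    refine ⟨?_, h4⟩
    rw [h4] at e
    exact mul_right_cancel (mul_right_cancel e)

end Canon

end Cfsg.Agent.Helper11
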