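import Cfsg.Agent.Helper11.ChevFast

set_option autoImplicit false

/-!
The chain table of a datum through the packed tables: `D.chainEntry` (hence `chainRoot`, `chainM`,
`commTerms`) computed by constant-time lookups.
-/

namespace Cfsg.Agent.Helper11

open Cfsg.Lie

/-- Fast version of `D.chainEntry r s` (falls back to the table outside the range). -/
noncomputable def chainEntryF (D : ChevalleyDatum) (r s : ℕ) : List (ℕ × ℤ) :=
  cond (Nat.blt r D.nroots)
    (cond (Nat.blt s D.nroots) (mapR (fun x => (Nat.sub x.1 D.rank, x.2.2)) (chainCol D r s)) [])
    (D.chainEntry r s)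

theorem zipIdx_back (rank : ℕ) (l : List (ℕ × ℤ)) (k : ℕ) :
    ((l.zipIdx k).map (fun q => (rank + q.1.1, q.2 + 1, q.1.2))).map (fun x => (x.1 - rank, x.2.2)) = l := by
  induction l generalizing k with
  | nil => rfl
  | cons a l ih =>
    rw [List.zipIdx_cons, List.map_cons, List.map_cons, ih]
    simp

theorem find_filterMap_range {γ : Type} (c : ℕ → List γ) (n s : ℕ) :
    ((List.range n).filterMap (fun s => if (c s).isEmpty then none else some (s, c s))).find?
        (fun x => decide (x.1 = s)) =
      if s < n ∧ (c s).isEmpty = false then some (s, c s) else none := by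
  induction n with
  | zero => simp
  | succ n ih =>
    rw [List.range_succ, List.filterMap_append, List.find?_append, ih]
    have hs : ([n].filterMap (fun s => if (c s).isEmpty then none else some (s, c s))) =
        if (c n).isEmpty then [] else [(n, c n)] := by
      cases hb : (c n).isEmpty with
      | true => rw [List.filterMap_cons, List.filterMap_nil]; simp only [hb, ↓reduceIte]
      | false =>
        rw [List.filterMap_cons, List.filterMap_nil]; simp only [hb, Bool.false_eq_true, ↓reduceIte]
    rw [hs]
    by_cases h1 : s < n ∧ (c s).isEmpty = false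
    · rw [if_pos h1, if_pos (show s < n + 1 ∧ (c s).isEmpty = false from ⟨by omega, h1.2⟩)]; rfl
    · rw [if_neg h1]
      simp only [Option.none_or]
      cases hb : (c n).isEmpty with
      | true =>
        simp only [↓reduceIte, List.find?_nil]
        rw [if_neg]
        rintro ⟨h2, h3⟩
        by_cases h4 : s = n
        · subst h4; rw [hb] at h3; exact absurd h3 (by simp)
        · exact h1 ⟨by omega, h3⟩
      | false =>
        simp only [Bool.false_eq_true, ↓reduceIte]
        by_cases h4 : n = s
        · subst h4
          rw [List.find?_cons, if_pos (show n < n + 1 ∧ (c n).isEmpty = false from ⟨by omega, hb⟩)]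
          simp
        · rw [List.find?_cons, List.find?_nil, if_neg]
          · simp [h4]
          · rintro ⟨h2, h3⟩
            exact h1 ⟨by omega, h3⟩

theorem chainEntryF_eq {D : ChevalleyDatum} (hT : tabOK D = true) (r s : ℕ) :
    chainEntryF D r s = D.chainEntry r s := by
  unfold chainEntryF
  by_cases hr : r < D.nroots
  · rw [(blt_iff _ _).mpr hr]
    show cond (Nat.blt s D.nroots) _ _ = _
    unfold tabOK at hT
    simp only [Bool.and_eq_true] at hT
    have h1 := of_decide_eq_true ((allN_spec _ _).mp hT.2.2.2 r hr)
    have h2 := congrArg (fun l => l.find? (fun x => decide (x.1 = s))) h1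
    rw [find_filterMap_range (chainCol D r) D.nroots s, List.find?_map] at h2
    have e : ((fun x : ℕ × List (ℕ × ℕ × ℤ) => decide (x.1 = s)) ∘
        fun e : ℕ × Array (ℕ × ℤ) =>
          (e.1, List.map (fun q => (D.rank + q.1.1, q.2 + 1, q.1.2)) e.2.toList.zipIdx)) =
        fun e => decide (e.1 = s) := rfl
    rw [e] at h2
    unfold ChevalleyDatum.chainEntry
    by_cases hs : s < D.nroots ∧ (chainCol D r s).isEmpty = false
    · rw [if_pos hs] at h2
      rw [(blt_iff _ _).mpr hs.1]
      cases hf : (D.chain.getD r #[]).toList.find? (fun e => decide (e.1 = s)) with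
      | none => rw [hf] at h2; simp at h2
      | some e0 =>
        rw [hf] at h2
        simp only [Option.map_some, Option.some.injEq] at h2
        have h3 : chainCol D r s = List.map (fun q => (D.rank + q.1.1, q.2 + 1, q.1.2)) e0.2.toList.zipIdx :=
          (congrArg Prod.snd h2)
        show mapR _ (chainCol D r s) = e0.2.toList
        rw [mapR_eq, h3]
        exact zipIdx_back D.rank e0.2.toList 0
    · rw [if_neg hs] at h2
      cases hf : (D.chain.getD r #[]).toList.find? (fun e => decide (e.1 = s)) with
      | some e0 => rw [hf] at h2; simp at h2
      | none =>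
        show cond (Nat.blt s D.nroots) _ _ = []
        by_cases hs1 : s < D.nroots
        · rw [(blt_iff _ _).mpr hs1]
          have : (chainCol D r s).isEmpty = true := by
            cases hb : (chainCol D r s).isEmpty with
            | true => rfl
            | false => exact absurd ⟨hs1, hb⟩ hs
          show mapR _ (chainCol D r s) = []
          rw [List.isEmpty_iff.mp this]; rfl
        · rw [blt_false_of_not hs1]; rfl
  · rw [blt_false_of_not hr]; rfl

end Cfsg.Agent.Helper11
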