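import Cfsg.Agent.Helper11.ChevOps

set_option autoImplicit false

/-!
The elements `h_r(c)` are diagonal: `h_r(c) = diag(1, …, 1, c^{⟨r, s⟩})`, reduced to a kernel-checkable
statement `hOK D r` about Laurent monomials.
-/

namespace Cfsg.Agent.Helper11

open Cfsg.Lie

/-- The word `h_r(t)` with `t` the first variable and `t⁻¹` the second. -/
noncomputable def hw (D : ChevalleyDatum) (r : ℕ) : List (ℕ × Poly) :=
  [(r, [(1, 1, 0)]), (D.neg r, [(-1, 0, 1)]), (r, [(1, 1, 0)]),
   (r, [(-1, 0, 0)]), (D.neg r, [(1, 0, 0)]), (r, [(-1, 0, 0)])]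

/-- Fast version of `D.pairing r s`. -/
noncomputable def pairF (D : ChevalleyDatum) (r s : ℕ) : ℤ :=
  @Nat.rec (fun _ => ℤ) 0 (fun i ih => Int.add ih (Int.mul (corAt D r i) (cartAt D i s))) D.rank

noncomputable def expH (D : ChevalleyDatum) (r v : ℕ) : Vec :=
  cond (Nat.blt v D.rank) [(v, (1, 0, 0))] [(v, zmono (pairF D r (Nat.sub v D.rank)))]

noncomputable def hOK (D : ChevalleyDatum) (r : ℕ) : Bool :=
  allN (Nat.add D.rank D.nroots) (fun v =>
    cond (trivW D (hw D r) v) (vecEqF [(v, (1, 0, 0))] (expH D r v))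
      (vecEqF (cancelV (applyWordN D (hw D r) [(v, (1, 0, 0))])) (expH D r v)))

theorem pairF_eq {D : ChevalleyDatum} (hT : tabOK D = true) (r s : ℕ) (hr : r < D.nroots)
    (hs : s < D.nroots) : pairF D r s = D.pairing r s := by
  have key : ∀ n, n ≤ D.rank →
      @Nat.rec (fun _ => ℤ) 0 (fun i ih => Int.add ih (Int.mul (corAt D r i) (cartAt D i s))) n =
        ((List.range n).map fun i => (D.coroot.getD r #[]).getD i 0 * D.cartan i s).sum := by
    intro n
    induction n with
    | zero => intro _; rfl
    | succ n ih =>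
      intro hn
      rw [List.range_succ, List.map_append, List.sum_append, ← ih (by omega)]
      show Int.add _ (Int.mul (corAt D r n) (cartAt D n s)) = _
      rw [tabOK_cor hT r n hr (by omega), tabOK_cart hT n s (by omega) hs]
      simp only [List.map_cons, List.map_nil, List.sum_cons, List.sum_nil, add_zero]
      rfl
  exact key D.rank le_rfl

section HSound
variable {F : Type*} [Field F]

theorem hMat_eq_word (D : ChevalleyDatum) (r : ℕ) (c : F) :
    D.hMat F r c = D.wordMat F (evalWord c c⁻¹ (hw D r)) := by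
  have : D.hWord r c = evalWord c c⁻¹ (hw D r) := by
    simp [ChevalleyDatum.hWord, ChevalleyDatum.nWord, hw, evalWord, evalPoly, evalMono, inv_neg]
  rw [ChevalleyDatum.hMat, this]

theorem hMat_diag {D : ChevalleyDatum} (hT : tabOK D = true) (r : ℕ) (h : hOK D r = true) (c : F)
    (hc : c ≠ 0) :
    D.hMat F r c =
      Matrix.diagonal (Sum.elim (fun _ => (1 : F)) (fun s : Fin D.nroots => c ^ (pairF D r s.val))) := by
  rw [hMat_eq_word]
  apply matrix_ext_basis
  intro v hv
  have h1 := (allN_spec _ _).mp h v hv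
  have e : ([(v, ((1 : ℤ), 0, 0))] : Vec) = unitVec v := rfl
  have key : (D.wordMat F (evalWord c c⁻¹ (hw D r))).mulVec (basisVec D F v) =
      evalVec D c c⁻¹ (expH D r v) := by
    cases h3 : trivW D (hw D r) v with
    | true =>
      rw [h3] at h1
      have h4 := applyWordF_triv D (hw D r) (v, (1, 0, 0)) h3
      rw [← vecEqF_sound D c c⁻¹ _ _ h1, ← h4, applyWordF_eq hT, e, ← applyWord_sound,
        evalVec_unitVec]
    | false =>
      rw [h3] at h1
      have := vecEqF_sound D c c⁻¹ _ _ h1
      rw [evalVec_cancelV D c c⁻¹ (mul_inv_cancel₀ hc), applyWordN_sound hT, e, evalVec_unitVec] at this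
      exact this
  rw [key]
  funext row
  rw [Matrix.mulVec_diagonal]
  unfold expH
  by_cases hvr : v < D.rank
  · rw [(blt_iff _ _).mpr hvr]
    show evalVec D c c⁻¹ [(v, (1, 0, 0))] row = _
    rw [evalVec_cons, evalVec_nil, add_zero, Pi.smul_apply, smul_eq_mul]
    rcases row with i | s
    · rw [basisVec_apply_inl]; simp [evalMono]
    · rw [basisVec_apply_inr, if_neg (by omega)]; simp
  · rw [blt_false_of_not hvr]
    show evalVec D c c⁻¹ [(v, zmono (pairF D r (Nat.sub v D.rank)))] row = _
    rw [evalVec_cons, evalVec_nil, add_zero, Pi.smul_apply, evalMono_zmono, smul_eq_mul]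
    rcases row with i | s
    · rw [basisVec_apply_inl, if_neg (by have := i.2; omega)]; simp
    · rw [basisVec_apply_inr]
      simp only [Sum.elim_inr]
      by_cases e2 : D.rank + s.val = v
      · rw [if_pos e2]
        have : Nat.sub v D.rank = s.val := by show v - D.rank = s.val; omega
        rw [this, mul_one]
      · rw [if_neg e2]; simp

end HSound

end Cfsg.Agent.Helper11
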