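import Cfsg.Agent.Helper11.ChevChain
import Cfsg.Agent.Helper11.ChevH

set_option autoImplicit false

/-!
Cartan integers are additive along the chain table and odd under `r ↦ -r` (kernel-checkable condition
`cartAddOK`), hence `s ↦ c^{⟨r₀, s⟩}` is a character of the root lattice.
-/

namespace Cfsg.Agent.Helper11

open Cfsg.Lie

noncomputable def headOK (l : List (ℕ × ℤ)) (p : ℕ → Bool) : Bool :=
  @List.rec (ℕ × ℤ) (fun _ => Bool) true (fun x _ _ => p x.1) l

noncomputable def cartAddOK (D : ChevalleyDatum) (r : ℕ) : Bool :=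
  Nat.blt (negAt D r) D.nroots &&
    (allN D.rank (fun i => decide (cartAt D i (negAt D r) = Int.neg (cartAt D i r))) &&
      allN D.nroots (fun s => headOK (chainEntryF D r s) (fun k => Nat.blt k D.nroots &&
        allN D.rank (fun i => decide (cartAt D i k = Int.add (cartAt D i r) (cartAt D i s))))))

section CharLemmas
variable {D : ChevalleyDatum}

theorem cartan_neg_of (hT : tabOK D = true) (r : ℕ) (hr : r < D.nroots) (h : cartAddOK D r = true) :
    D.neg r < D.nroots ∧ ∀ i < D.rank, D.cartan i (D.neg r) = - D.cartan i r := by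
  unfold cartAddOK at h
  simp only [Bool.and_eq_true] at h
  have e : negAt D r = D.neg r := tabOK_neg hT r hr
  rw [e] at h
  have h1 : D.neg r < D.nroots := (blt_iff _ _).mp h.1
  refine ⟨h1, fun i hi => ?_⟩
  have h2 := of_decide_eq_true ((allN_spec _ _).mp h.2.1 i hi)
  rw [tabOK_cart hT i _ hi h1, tabOK_cart hT i r hi hr] at h2
  exact h2

theorem cartan_add_of (hT : tabOK D = true) (r : ℕ) (hr : r < D.nroots) (h : cartAddOK D r = true)
    (s k : ℕ) (hs : s < D.nroots) (hk : D.chainRoot r s 1 = some k) :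
    k < D.nroots ∧ ∀ i < D.rank, D.cartan i k = D.cartan i r + D.cartan i s := by
  unfold cartAddOK at h
  simp only [Bool.and_eq_true] at h
  have h1 := (allN_spec _ _).mp h.2.2 s hs
  rw [chainEntryF_eq hT] at h1
  unfold ChevalleyDatum.chainRoot at hk
  cases hl : D.chainEntry r s with
  | nil => rw [hl] at hk; simp at hk
  | cons x rest =>
    rw [hl] at hk h1
    simp only [Nat.sub_self, List.getElem?_cons_zero, Option.map_some, Option.some.injEq] at hk
    have h2 : (Nat.blt x.1 D.nroots &&
        allN D.rank (fun i => decide (cartAt D i x.1 = Int.add (cartAt D i r) (cartAt D i s)))) = true := h1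
    rw [Bool.and_eq_true, hk] at h2
    have hk' : k < D.nroots := (blt_iff _ _).mp h2.1
    refine ⟨hk', fun i hi => ?_⟩
    have h3 := of_decide_eq_true ((allN_spec _ _).mp h2.2 i hi)
    rw [tabOK_cart hT i k hi hk', tabOK_cart hT i r hi hr, tabOK_cart hT i s hi hs] at h3
    exact h3

theorem pairing_lin (D : ChevalleyDatum) (r₀ k : ℕ) (g : ℕ → ℤ)
    (h : ∀ i < D.rank, D.cartan i k = g i) :
    D.pairing r₀ k = ((List.range D.rank).map fun i => (D.coroot.getD r₀ #[]).getD i 0 * g i).sum := by
  unfold ChevalleyDatum.pairing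
  congr 1
  apply List.map_congr_left
  intro i hi
  rw [h i (List.mem_range.mp hi)]

theorem pairing_add_of (D : ChevalleyDatum) (r₀ a b k : ℕ)
    (h : ∀ i < D.rank, D.cartan i k = D.cartan i a + D.cartan i b) :
    D.pairing r₀ k = D.pairing r₀ a + D.pairing r₀ b := by
  rw [pairing_lin D r₀ k _ h]
  unfold ChevalleyDatum.pairing
  rw [← List.sum_map_add]
  congr 1
  apply List.map_congr_left
  intro i _
  ring

theorem pairing_neg_of (D : ChevalleyDatum) (r₀ a k : ℕ)
    (h : ∀ i < D.rank, D.cartan i k = - D.cartan i a) :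
    D.pairing r₀ k = - D.pairing r₀ a := by
  rw [pairing_lin D r₀ k _ h]
  unfold ChevalleyDatum.pairing
  induction (List.range D.rank) with
  | nil => simp
  | cons i l ih => simp only [List.map_cons, List.sum_cons]; rw [ih]; ring

theorem rootChar_of_weight {F : Type*} [Field F] (D : ChevalleyDatum) (ω : ℕ → ℤ) (c : F) (hc : c ≠ 0)
    (hneg : ∀ r, r < D.nroots → ω (D.neg r) = - ω r)
    (hadd : ∀ r s k, r < D.nroots → s < D.nroots → D.chainRoot r s 1 = some k → ω k = ω r + ω s) :
    D.IsRootCharacter (fun s => Units.mk0 (c ^ ω s) (zpow_ne_zero _ hc)) := by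
  constructor
  · intro r hr
    apply Units.ext
    simp [hneg r hr, zpow_neg]
  · intro r s k hr hs hk
    apply Units.ext
    simp [hadd r s k hr hs hk, zpow_add₀ hc]

end CharLemmas

end Cfsg.Agent.Helper11
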