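import Cfsg.Agent.Helper11.ChevAux
import Cfsg.Agent.Helper11.ChevTab
import Cfsg.Agent.Helper11.ChevChar

set_option autoImplicit false

/-! Kernel checks of `cartAddOK` for the seven tabulated data. -/

namespace Cfsg.Agent.Helper11

open Cfsg.Lie

set_option maxRecDepth 100000
set_option maxHeartbeats 0
set_option Elab.async false

theorem cartAdd_G2_0 : allRange 0 12 (cartAddOK chevG2) = true := by decide +kernel
theorem cartAdd_B2_0 : allRange 0 8 (cartAddOK chevB2) = true := by decide +kernel
theorem cartAdd_D4_0 : allRange 0 24 (cartAddOK chevD4) = true := by decide +kernel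
theorem cartAdd_F4_0 : allRange 0 48 (cartAddOK chevF4) = true := by decide +kernel
theorem cartAdd_E6_0 : allRange 0 72 (cartAddOK chevE6) = true := by decide +kernel
theorem cartAdd_E7_0 : allRange 0 42 (cartAddOK chevE7) = true := by decide +kernel
theorem cartAdd_E7_1 : allRange 42 42 (cartAddOK chevE7) = true := by decide +kernel
theorem cartAdd_E7_2 : allRange 84 42 (cartAddOK chevE7) = true := by decide +kernel
theorem cartAdd_E8_0 : allRange 0 40 (cartAddOK chevE8) = true := by decide +kernel
theorem cartAdd_E8_1 : allRange 40 40 (cartAddOK chevE8) = true := by decide +kernel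
theorem cartAdd_E8_2 : allRange 80 40 (cartAddOK chevE8) = true := by decide +kernel
theorem cartAdd_E8_3 : allRange 120 40 (cartAddOK chevE8) = true := by decide +kernel
theorem cartAdd_E8_4 : allRange 160 40 (cartAddOK chevE8) = true := by decide +kernel
theorem cartAdd_E8_5 : allRange 200 40 (cartAddOK chevE8) = true := by decide +kernel

theorem cartAdd_G2 (s : ℕ) (hs : s < 12) : cartAddOK chevG2 s = true := by
  refine allChunks (cartAddOK chevG2) 12 1 ?_ s hs
  intro j hj
  interval_cases j
  · exact cartAdd_G2_0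

theorem cartAdd_B2 (s : ℕ) (hs : s < 8) : cartAddOK chevB2 s = true := by
  refine allChunks (cartAddOK chevB2) 8 1 ?_ s hs
  intro j hj
  interval_cases j
  · exact cartAdd_B2_0

theorem cartAdd_D4 (s : ℕ) (hs : s < 24) : cartAddOK chevD4 s = true := by
  refine allChunks (cartAddOK chevD4) 24 1 ?_ s hs
  intro j hj
  interval_cases j
  · exact cartAdd_D4_0

theorem cartAdd_F4 (s : ℕ) (hs : s < 48) : cartAddOK chevF4 s = true := by
  refine allChunks (cartAddOK chevF4) 48 1 ?_ s hs
  intro j hj
  interval_cases j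
  · exact cartAdd_F4_0

theorem cartAdd_E6 (s : ℕ) (hs : s < 72) : cartAddOK chevE6 s = true := by
  refine allChunks (cartAddOK chevE6) 72 1 ?_ s hs
  intro j hj
  interval_cases j
  · exact cartAdd_E6_0

theorem cartAdd_E7 (s : ℕ) (hs : s < 126) : cartAddOK chevE7 s = true := by
  refine allChunks (cartAddOK chevE7) 42 3 ?_ s hs
  intro j hj
  interval_cases j
  · exact cartAdd_E7_0
  · exact cartAdd_E7_1
  · exact cartAdd_E7_2

theorem cartAdd_E8 (s : ℕ) (hs : s < 240) : cartAddOK chevE8 s = true := by
  refine allChunks (cartAddOK chevE8) 40 6 ?_ s hs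
  intro j hj
  interval_cases j
  · exact cartAdd_E8_0
  · exact cartAdd_E8_1
  · exact cartAdd_E8_2
  · exact cartAdd_E8_3
  · exact cartAdd_E8_4
  · exact cartAdd_E8_5

theorem cartAdd_seven (D : ChevalleyDatum)
    (hD : D ∈ [chevG2, chevB2, chevD4, chevF4, chevE6, chevE7, chevE8]) (r : ℕ) (hr : r < D.nroots) :
    cartAddOK D r = true :=
  forall_seven (P := fun D => ∀ r, r < D.nroots → cartAddOK D r = true) cartAdd_G2 cartAdd_B2 cartAdd_D4 cartAdd_F4
    cartAdd_E6 cartAdd_E7 cartAdd_E8 D hD r hr

end Cfsg.Agent.Helper11
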