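import Cfsg.Agent.Helper11.ChevGrp

set_option autoImplicit false

/-!
Chevalley's commutator formula `x_s(u) x_r(t) = x_r(t) x_s(u) ∏ x_{ir+js}(C_{ijrs} (-t)^i u^j)` for the
seven tabulated data. The pairs `(r, s)` are reduced, by conjugation with the elements `n_p`, to a few
pairs with `r` dominant, for which the formula is checked directly by the symbolic calculus; the
reduction step needs only the equivariance of the table of constants, a kernel-checkable condition.
-/

namespace Cfsg.Agent.Helper11

open Cfsg.Lie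

/-- `D.commTerms` with the chain entries supplied by a function. -/
def commTermsG (ce : ℕ → ℕ → List (ℕ × ℤ)) (r s : ℕ) : List (ℕ × ℤ × ℕ × ℕ) :=
  let cr : ℕ → ℕ → ℕ → Option ℕ := fun r s i => ((ce r s)[i - 1]?).map Prod.fst
  let cm : ℕ → ℕ → ℕ → ℤ := fun r s i => (((ce r s)[i - 1]?).map Prod.snd).getD 0
  let rs := cr r s 1
  let cands : List (Option ℕ × ℤ × ℕ × ℕ) :=
    [ (cr r s 1, cm r s 1, 1, 1),
      (cr r s 2, cm r s 2, 2, 1),
      (cr s r 2, cm s r 2, 1, 2),
      (cr r s 3, cm r s 3, 3, 1),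
      (cr s r 3, - cm s r 3, 1, 3),
      ((cr r s 3).bind fun k => cr k s 1, (rs.map fun k => cm k r 2 / 3).getD 0, 3, 2),
      ((cr s r 3).bind fun k => cr k r 1, (rs.map fun k => -2 * cm k s 2 / 3).getD 0, 2, 3) ]
  cands.filterMap fun c => c.1.map fun k => (k, c.2)

theorem commTerms_eq_G (D : ChevalleyDatum) (r s : ℕ) :
    D.commTerms r s = commTermsG D.chainEntry r s := rfl

noncomputable def commTermsF (D : ChevalleyDatum) (r s : ℕ) : List (ℕ × ℤ × ℕ × ℕ) :=
  commTermsG (chainEntryF D) r s

theorem commTermsF_eq {D : ChevalleyDatum} (hT : tabOK D = true) (r s : ℕ) :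
    commTermsF D r s = D.commTerms r s := by
  have : chainEntryF D = D.chainEntry := by funext a b; exact chainEntryF_eq hT a b
  unfold commTermsF; rw [this]; rfl

noncomputable def pickN (n : ℕ) (p : ℕ → Bool) (d : ℕ) : ℕ :=
  @Nat.rec (fun _ => ℕ) d (fun k ih => cond (p k) k ih) n

theorem pickN_le (n : ℕ) (p : ℕ → Bool) (d m : ℕ) (hn : n ≤ m) (hd : d ≤ m) : pickN n p d ≤ m := by
  induction n with
  | zero => exact hd
  | succ k ih =>
    have e : pickN (k + 1) p d = cond (p k) k (pickN k p d) := rfl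
    rw [e]
    cases p k with
    | true => show k ≤ m; omega
    | false => exact ih (by omega)

noncomputable def cartRaw (D : ChevalleyDatum) (i r : ℕ) : ℕ :=
  fget (fget (cartBig D) (Nat.mul 4 D.nroots) i) 4 r

/-- The index of the fundamental reflection used to reduce the pair `(r, s)`; `D.rank` if there is none. -/
noncomputable def redIdx (D : ChevalleyDatum) (r s : ℕ) : ℕ :=
  pickN D.rank (fun i => Nat.blt (cartRaw D i r) 8)
    (pickN D.rank (fun i => Nat.beq (cartRaw D i r) 8 && Nat.blt (cartRaw D i s) 8) D.rank)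

theorem redIdx_le (D : ChevalleyDatum) (r s : ℕ) : redIdx D r s ≤ D.rank :=
  pickN_le _ _ _ _ le_rfl (pickN_le _ _ _ _ le_rfl le_rfl)

noncomputable def sgnPow (a : ℕ) : ℤ := cond (Nat.beq (Nat.mod a 2) 0) 1 (-1)
noncomputable def powS (η : ℤ) (a : ℕ) : ℤ := cond (Nat.beq (Nat.mod a 2) 0) 1 η

theorem sgnPow_eq (a : ℕ) : sgnPow a = (-1) ^ a := by
  unfold sgnPow
  rcases Nat.mod_two_eq_zero_or_one a with h | h
  · have : Nat.beq (Nat.mod a 2) 0 = true := (beq_iff _ _).mpr h
    rw [this]
    show (1 : ℤ) = _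
    rw [Even.neg_one_pow (Nat.even_iff.mpr h)]
  · have : Nat.beq (Nat.mod a 2) 0 = false := beq_false_of_ne (by show a % 2 ≠ 0; omega)
    rw [this]
    show (-1 : ℤ) = _
    rw [Odd.neg_one_pow (Nat.odd_iff.mpr h)]

theorem powS_eq (η : ℤ) (hη : η = 1 ∨ η = -1) (a : ℕ) : powS η a = η ^ a := by
  unfold powS
  rcases Nat.mod_two_eq_zero_or_one a with h | h
  · have : Nat.beq (Nat.mod a 2) 0 = true := (beq_iff _ _).mpr h
    rw [this]
    show (1 : ℤ) = _
    rcases hη with rfl | rfl
    · simp
    · rw [Even.neg_one_pow (Nat.even_iff.mpr h)]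
  · have : Nat.beq (Nat.mod a 2) 0 = false := beq_false_of_ne (by show a % 2 ≠ 0; omega)
    rw [this]
    show η = _
    rcases hη with rfl | rfl
    · simp
    · rw [Odd.neg_one_pow (Nat.odd_iff.mpr h)]

noncomputable def mapTerms (D : ChevalleyDatum) (i r' s' : ℕ) (l : List (ℕ × ℤ × ℕ × ℕ)) :
    List (ℕ × ℤ × ℕ × ℕ) :=
  mapR (fun c => (wAt D i c.1,
    Int.mul (Int.mul (Int.mul (etaAt D i c.1) (powS (etaAt D i r') c.2.2.1))
      (powS (etaAt D i s') c.2.2.2)) c.2.1, c.2.2.1, c.2.2.2)) l

noncomputable def stepOK (D : ChevalleyDatum) (i r s : ℕ) : Bool :=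
  (Nat.blt r (wAt D i r) || (Nat.beq r (wAt D i r) && Nat.blt s (wAt D i s))) &&
  (allL (fun c => Nat.blt c.1 D.nroots) (commTermsF D (wAt D i r) (wAt D i s)) &&
   decide (commTermsF D r s =
     mapTerms D i (wAt D i r) (wAt D i s) (commTermsF D (wAt D i r) (wAt D i s))))

noncomputable def commWP (l : List (ℕ × ℤ × ℕ × ℕ)) : List (ℕ × Poly) :=
  mapR (fun c => (c.1, [(Int.mul c.2.1 (sgnPow c.2.2.1), c.2.2.1, c.2.2.2)])) l

noncomputable def baseOK (D : ChevalleyDatum) (r s : ℕ) : Bool :=
  wordEqS D [(s, [(1, 0, 1)]), (r, [(1, 1, 0)])]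
    ((r, [(1, 1, 0)]) :: (s, [(1, 0, 1)]) :: commWP (commTermsF D r s))

/-- The check for the pair `(r, s)`, active when its reduction index is `i` (the index is passed
separately so that the kernel sees it as a literal). -/
noncomputable def commOK2 (D : ChevalleyDatum) (i r s : ℕ) : Bool :=
  cond (Nat.beq s r) true (cond (Nat.beq s (negAt D r)) true
    (cond (Nat.beq (redIdx D r s) i)
      (cond (Nat.blt i D.rank) (stepOK D i r s) (baseOK D r s)) true))

section CommSound
variable {F : Type*} [Field F] {D : ChevalleyDatum}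

theorem wordMat_cons' (D : ChevalleyDatum) (p : ℕ × F) (w : List (ℕ × F)) :
    D.wordMat F (p :: w) = D.x F p.1 p.2 * D.wordMat F w := by
  simp [ChevalleyDatum.wordMat]

theorem wordMat_nil' (D : ChevalleyDatum) : D.wordMat F [] = 1 := by
  simp [ChevalleyDatum.wordMat]

theorem base_sound (hT : tabOK D = true) (r s : ℕ) (h : baseOK D r s = true) (t u : F) :
    D.x F s u * D.x F r t = D.x F r t * D.x F s u * D.wordMat F (D.commWord F r s t u) := by
  have h2 := wordEqS_sound hT _ _ h t u
  have e1 : evalWord t u [(s, [((1 : ℤ), 0, 1)]), (r, [((1 : ℤ), 1, 0)])] = [(s, u), (r, t)] := by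
    simp [evalWord, evalPoly, evalMono]
  have e2 : evalWord t u ((r, [((1 : ℤ), 1, 0)]) :: (s, [((1 : ℤ), 0, 1)]) ::
      commWP (commTermsF D r s)) = (r, t) :: (s, u) :: D.commWord F r s t u := by
    rw [commTermsF_eq hT]
    unfold commWP ChevalleyDatum.commWord evalWord
    rw [mapR_eq]
    simp only [List.map_cons, List.map_map]
    congr 1
    · simp [evalPoly, evalMono]
    congr 1
    · simp [evalPoly, evalMono]
    apply List.map_congr_left
    intro c _
    simp only [Function.comp_apply, evalPoly, evalMono, List.map_cons, List.map_nil, List.sum_cons,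
      List.sum_nil, add_zero]
    rw [show Int.mul c.2.1 (sgnPow c.2.2.1) = c.2.1 * (-1) ^ c.2.2.1 from by rw [sgnPow_eq]; rfl]
    push_cast
    rw [neg_pow]; ring
  rw [e1, e2] at h2
  rw [wordMat_cons', wordMat_cons', wordMat_nil', wordMat_cons', wordMat_cons', mul_one] at h2
  rw [h2, mul_assoc]

theorem nG_conj_wG (hD : Seven D) (i : ℕ) (hi : i < D.rank) (w : List (ℕ × F))
    (hw : ∀ p ∈ w, p.1 < D.nroots) :
    nG hD (D.simple i) 1 * wG hD w * (nG hD (D.simple i) 1)⁻¹ =
      wG hD (w.map fun p => (D.reflectRoot i p.1, (etaAt D i p.1 : F) * p.2)) := by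
  induction w with
  | nil => simp [wG_nil]
  | cons p w ih =>
    rw [wG_cons, List.map_cons, wG_cons, ← ih (fun q hq => hw q (List.mem_cons_of_mem _ hq)),
      ← nG_conj_x hD i hi p.1 (hw p List.mem_cons_self) p.2]
    group

theorem comm_elem (ek er es C t u : F) (a b : ℕ) :
    ek * (C * (-(er * t)) ^ a * (es * u) ^ b) = (ek * er ^ a * es ^ b * C) * (-t) ^ a * u ^ b := by
  rw [show -(er * t) = er * (-t) by ring, mul_pow, mul_pow]; ring

theorem step_sound (hD : Seven D) (i : ℕ) (hi : i < D.rank) (r s : ℕ) (hr : r < D.nroots)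
    (hs : s < D.nroots)
    (hterms : D.commTerms r s = (D.commTerms (D.reflectRoot i r) (D.reflectRoot i s)).map (fun c =>
        (D.reflectRoot i c.1, etaAt D i c.1 * etaAt D i (D.reflectRoot i r) ^ c.2.2.1 *
          etaAt D i (D.reflectRoot i s) ^ c.2.2.2 * c.2.1, c.2.2.1, c.2.2.2)))
    (hlt : ∀ c ∈ D.commTerms (D.reflectRoot i r) (D.reflectRoot i s), c.1 < D.nroots)
    (ih : ∀ t u : F, D.x F (D.reflectRoot i s) u * D.x F (D.reflectRoot i r) t =
        D.x F (D.reflectRoot i r) t * D.x F (D.reflectRoot i s) u *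
          D.wordMat F (D.commWord F (D.reflectRoot i r) (D.reflectRoot i s) t u))
    (t u : F) :
    D.x F s u * D.x F r t = D.x F r t * D.x F s u * D.wordMat F (D.commWord F r s t u) := by
  have hr'lt : D.reflectRoot i r < D.nroots := reflect_lt7 hD i hi r hr
  have hs'lt : D.reflectRoot i s < D.nroots := reflect_lt7 hD i hi s hs
  have hwr : D.reflectRoot i (D.reflectRoot i r) = r := reflect_invol7 hD i hi r hr
  have hws : D.reflectRoot i (D.reflectRoot i s) = s := reflect_invol7 hD i hi s hs
  obtain ⟨r', hr'⟩ : ∃ r', r' = D.reflectRoot i r := ⟨_, rfl⟩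
  obtain ⟨s', hs'⟩ : ∃ s', s' = D.reflectRoot i s := ⟨_, rfl⟩
  rw [← hr', ← hs'] at hterms hlt ih
  rw [← hr'] at hr'lt hwr
  rw [← hs'] at hs'lt hws
  obtain ⟨er, her⟩ : ∃ e : F, e = ((etaAt D i r' : ℤ) : F) := ⟨_, rfl⟩
  obtain ⟨es, hes⟩ : ∃ e : F, e = ((etaAt D i s' : ℤ) : F) := ⟨_, rfl⟩
  have her2 : er * er = 1 := by
    rw [her]; rcases eta_F_cases (F := F) hD i hi r' hr'lt with h | h <;> rw [h] <;> simp
  have hes2 : es * es = 1 := by
    rw [hes]; rcases eta_F_cases (F := F) hD i hi s' hs'lt with h | h <;> rw [h] <;> simp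
  have ihG : xG hD s' (es * u) * xG hD r' (er * t) =
      xG hD r' (er * t) * xG hD s' (es * u) * wG hD (D.commWord F r' s' (er * t) (es * u)) := by
    apply Units.ext
    rw [Units.val_mul, Units.val_mul, Units.val_mul, xG_val, xG_val, wG_val]
    exact ih (er * t) (es * u)
  have c1 := nG_conj_x hD i hi s' hs'lt (es * u)
  have c2 := nG_conj_x hD i hi r' hr'lt (er * t)
  rw [hws, ← hes, ← mul_assoc, hes2, one_mul] at c1
  rw [hwr, ← her, ← mul_assoc, her2, one_mul] at c2
  have c3 := nG_conj_wG hD i hi (D.commWord F r' s' (er * t) (es * u)) (by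
    intro p hp
    unfold ChevalleyDatum.commWord at hp
    rw [List.mem_map] at hp
    obtain ⟨c, hc, rfl⟩ := hp
    exact hlt c hc)
  have e3 : (D.commWord F r' s' (er * t) (es * u)).map
      (fun p => (D.reflectRoot i p.1, ((etaAt D i p.1 : ℤ) : F) * p.2)) = D.commWord F r s t u := by
    unfold ChevalleyDatum.commWord
    rw [hterms, List.map_map, List.map_map]
    apply List.map_congr_left
    intro c hc
    simp only [Function.comp_apply]
    rw [Prod.mk.injEq]
    refine ⟨rfl, ?_⟩
    push_cast
    rw [← her, ← hes]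
    exact comm_elem _ er es _ t u _ _
  rw [e3] at c3
  have hconj : nG hD (D.simple i) 1 * (xG hD s' (es * u) * xG hD r' (er * t)) *
      (nG hD (D.simple i) 1)⁻¹ = nG hD (D.simple i) 1 * (xG hD r' (er * t) * xG hD s' (es * u) *
        wG hD (D.commWord F r' s' (er * t) (es * u))) * (nG hD (D.simple i) 1)⁻¹ := by
    rw [ihG]
  have e1 : nG hD (D.simple i) 1 * (xG hD s' (es * u) * xG hD r' (er * t)) *
      (nG hD (D.simple i) 1)⁻¹ = xG hD s u * xG hD r t := by
    rw [← c1, ← c2]; group
  have e2 : nG hD (D.simple i) 1 * (xG hD r' (er * t) * xG hD s' (es * u) *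
      wG hD (D.commWord F r' s' (er * t) (es * u))) * (nG hD (D.simple i) 1)⁻¹ =
      xG hD r t * xG hD s u * wG hD (D.commWord F r s t u) := by
    rw [← c1, ← c2, ← c3]; group
  rw [e1, e2] at hconj
  have := congrArg Units.val hconj
  rw [Units.val_mul, Units.val_mul, Units.val_mul, xG_val, xG_val, wG_val] at this
  exact this

/-- The commutator formula, from the kernel-checkable condition. -/
theorem comm_of_OK (hD : Seven D)
    (hC : ∀ i ≤ D.rank, ∀ r < D.nroots, ∀ s < D.nroots, commOK2 D i r s = true)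
    (r s : ℕ) (hr : r < D.nroots) (hs : s < D.nroots) (hsr : s ≠ r) (hsn : s ≠ D.neg r) (t u : F) :
    D.x F s u * D.x F r t = D.x F r t * D.x F s u * D.wordMat F (D.commWord F r s t u) := by
  have hT := tabOK_seven D hD
  have key : ∀ n r s, (D.nroots - r) * (D.nroots + 1) + (D.nroots - s) = n → r < D.nroots →
      s < D.nroots → s ≠ r → s ≠ D.neg r → ∀ t u : F,
      D.x F s u * D.x F r t = D.x F r t * D.x F s u * D.wordMat F (D.commWord F r s t u) := by
    intro n
    induction n using Nat.strong_induction_on with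
    | _ n ih =>
      intro r s hn hr hs hsr hsn t u
      have h := hC (redIdx D r s) (redIdx_le D r s) r hr s hs
      unfold commOK2 at h
      have hneg : negAt D r = D.neg r := tabOK_neg hT r hr
      rw [beq_false_of_ne hsr, hneg, beq_false_of_ne hsn,
        (beq_iff (redIdx D r s) (redIdx D r s)).mpr rfl] at h
      have h' : cond (Nat.blt (redIdx D r s) D.rank) (stepOK D (redIdx D r s) r s) (baseOK D r s) =
          true := h
      by_cases hi : redIdx D r s < D.rank
      · rw [(blt_iff _ _).mpr hi] at h'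
        have h'' : stepOK D (redIdx D r s) r s = true := h'
        obtain ⟨i, hi_eq⟩ : ∃ i, i = redIdx D r s := ⟨_, rfl⟩
        rw [← hi_eq] at h'' hi
        unfold stepOK at h''
        rw [wAt_eq7 hD i hi r hr, wAt_eq7 hD i hi s hs] at h''
        simp only [Bool.and_eq_true, Bool.or_eq_true, decide_eq_true_eq] at h''
        obtain ⟨hmeas, hall, hterms⟩ := h''
        have hr' := reflect_lt7 hD i hi r hr
        have hs' := reflect_lt7 hD i hi s hs
        have hlt : ∀ c ∈ D.commTerms (D.reflectRoot i r) (D.reflectRoot i s), c.1 < D.nroots := by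
          intro c hc
          rw [← commTermsF_eq hT] at hc
          exact (blt_iff _ _).mp ((allL_spec _ _).mp hall c hc)
        have hm : (D.nroots - D.reflectRoot i r) * (D.nroots + 1) +
            (D.nroots - D.reflectRoot i s) < n := by
          rw [← hn]
          rcases hmeas with h1 | ⟨h1, h2⟩
          · have h1' := (blt_iff _ _).mp h1
            have h3 : (D.nroots - D.reflectRoot i r) + 1 ≤ D.nroots - r := by omega
            have h4 := Nat.mul_le_mul_right (D.nroots + 1) h3
            rw [Nat.add_mul, Nat.one_mul] at h4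
            omega
          · have h1' := (beq_iff _ _).mp h1
            have h2' := (blt_iff _ _).mp h2
            rw [← h1']; omega
        have hne1 : D.reflectRoot i s ≠ D.reflectRoot i r := by
          intro he; apply hsr
          rw [← reflect_invol7 hD i hi s hs, he, reflect_invol7 hD i hi r hr]
        have hne2 : D.reflectRoot i s ≠ D.neg (D.reflectRoot i r) := by
          intro he; apply hsn
          rw [← reflect_neg7 hD i hi r hr] at he
          rw [← reflect_invol7 hD i hi s hs, he, reflect_invol7 hD i hi _ (neg_lt7 hD r hr)]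
        have ih' := ih _ hm (D.reflectRoot i r) (D.reflectRoot i s) rfl hr' hs' hne1 hne2
        refine step_sound hD i hi r s hr hs ?_ hlt ih' t u
        rw [commTermsF_eq hT, commTermsF_eq hT] at hterms
        rw [hterms]
        unfold mapTerms
        rw [mapR_eq]
        apply List.map_congr_left
        intro c hc
        rw [wAt_eq7 hD i hi c.1 (hlt c hc), powS_eq _ (eta_cases7 hD i hi _ hr'),
          powS_eq _ (eta_cases7 hD i hi _ hs')]
        rfl
      · rw [blt_false_of_not hi] at h'
        exact base_sound hT r s h' t u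
  exact key _ r s rfl hr hs hsr hsn t u

end CommSound

end Cfsg.Agent.Helper11
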