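import Cfsg.Agent.Helper11.ChevComm

set_option autoImplicit false

/-! Kernel checks for the commutator formula (part of the seven tabulated data). -/

namespace Cfsg.Agent.Helper11

open Cfsg.Lie

set_option maxRecDepth 100000
set_option maxHeartbeats 0
set_option Elab.async false

theorem commOK_E7_0 : allN 126 (fun r => allN 126 (fun s => commOK2 chevE7 0 r s)) = true := by
  decide +kernel
theorem commOK_E7_1 : allN 126 (fun r => allN 126 (fun s => commOK2 chevE7 1 r s)) = true := by
  decide +kernel
theorem commOK_E7_2 : allN 126 (fun r => allN 126 (fun s => commOK2 chevE7 2 r s)) = true := by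
  decide +kernel
theorem commOK_E7_3 : allN 126 (fun r => allN 126 (fun s => commOK2 chevE7 3 r s)) = true := by
  decide +kernel
theorem commOK_E7_4 : allN 126 (fun r => allN 126 (fun s => commOK2 chevE7 4 r s)) = true := by
  decide +kernel
theorem commOK_E7_5 : allN 126 (fun r => allN 126 (fun s => commOK2 chevE7 5 r s)) = true := by
  decide +kernel
theorem commOK_E7_6 : allN 126 (fun r => allN 126 (fun s => commOK2 chevE7 6 r s)) = true := by
  decide +kernel
theorem commOK_E7_7 : allN 126 (fun r => allN 126 (fun s => commOK2 chevE7 7 r s)) = true := by
  decide +kernel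

end Cfsg.Agent.Helper11
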