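import Cfsg.Agent.Helper11.ChevComm

set_option autoImplicit false

/-! Kernel checks for the commutator formula (part of the seven tabulated data). -/

namespace Cfsg.Agent.Helper11

open Cfsg.Lie

set_option maxRecDepth 100000
set_option maxHeartbeats 0
set_option Elab.async false

theorem commOK_E8_6 : allN 240 (fun r => allN 240 (fun s => commOK2 chevE8 6 r s)) = true := by
  decide +kernel
theorem commOK_E8_7 : allN 240 (fun r => allN 240 (fun s => commOK2 chevE8 7 r s)) = true := by
  decide +kernel
theorem commOK_E8_8 : allN 240 (fun r => allN 240 (fun s => commOK2 chevE8 8 r s)) = true := by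
  decide +kernel

end Cfsg.Agent.Helper11
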