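import Cfsg.Agent.Helper11.ChevCommSmall
import Cfsg.Agent.Helper11.ChevCommE7
import Cfsg.Agent.Helper11.ChevCommE8a
import Cfsg.Agent.Helper11.ChevCommE8b
import Cfsg.Agent.Helper11.ChevCommE8c

set_option autoImplicit false

/-! The commutator formula for the seven tabulated data. -/

namespace Cfsg.Agent.Helper11

open Cfsg.Lie

set_option maxRecDepth 100000
set_option maxHeartbeats 0
set_option Elab.async false

theorem commOK_G2 (i : ℕ) (hi : i ≤ 2) (r : ℕ) (hr : r < 12) (s : ℕ) (hs : s < 12) :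
    commOK2 chevG2 i r s = true :=
  (allN_spec _ _).mp ((allN_spec _ _).mp ((allN_spec _ _).mp commOK_G2_all i (by omega)) r hr) s hs

theorem commOK_B2 (i : ℕ) (hi : i ≤ 2) (r : ℕ) (hr : r < 8) (s : ℕ) (hs : s < 8) :
    commOK2 chevB2 i r s = true :=
  (allN_spec _ _).mp ((allN_spec _ _).mp ((allN_spec _ _).mp commOK_B2_all i (by omega)) r hr) s hs

theorem commOK_D4 (i : ℕ) (hi : i ≤ 4) (r : ℕ) (hr : r < 24) (s : ℕ) (hs : s < 24) :
    commOK2 chevD4 i r s = true :=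
  (allN_spec _ _).mp ((allN_spec _ _).mp ((allN_spec _ _).mp commOK_D4_all i (by omega)) r hr) s hs

theorem commOK_F4 (i : ℕ) (hi : i ≤ 4) (r : ℕ) (hr : r < 48) (s : ℕ) (hs : s < 48) :
    commOK2 chevF4 i r s = true :=
  (allN_spec _ _).mp ((allN_spec _ _).mp ((allN_spec _ _).mp commOK_F4_all i (by omega)) r hr) s hs

theorem commOK_E6 (i : ℕ) (hi : i ≤ 6) (r : ℕ) (hr : r < 72) (s : ℕ) (hs : s < 72) :
    commOK2 chevE6 i r s = true :=
  (allN_spec _ _).mp ((allN_spec _ _).mp ((allN_spec _ _).mp commOK_E6_all i (by omega)) r hr) s hs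

theorem commOK_E7 (i : ℕ) (hi : i ≤ 7) (r : ℕ) (hr : r < 126) (s : ℕ) (hs : s < 126) :
    commOK2 chevE7 i r s = true := by
  interval_cases i
  · exact (allN_spec _ _).mp ((allN_spec _ _).mp commOK_E7_0 r hr) s hs
  · exact (allN_spec _ _).mp ((allN_spec _ _).mp commOK_E7_1 r hr) s hs
  · exact (allN_spec _ _).mp ((allN_spec _ _).mp commOK_E7_2 r hr) s hs
  · exact (allN_spec _ _).mp ((allN_spec _ _).mp commOK_E7_3 r hr) s hs
  · exact (allN_spec _ _).mp ((allN_spec _ _).mp commOK_E7_4 r hr) s hs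
  · exact (allN_spec _ _).mp ((allN_spec _ _).mp commOK_E7_5 r hr) s hs
  · exact (allN_spec _ _).mp ((allN_spec _ _).mp commOK_E7_6 r hr) s hs
  · exact (allN_spec _ _).mp ((allN_spec _ _).mp commOK_E7_7 r hr) s hs

theorem commOK_E8 (i : ℕ) (hi : i ≤ 8) (r : ℕ) (hr : r < 240) (s : ℕ) (hs : s < 240) :
    commOK2 chevE8 i r s = true := by
  interval_cases i
  · exact (allN_spec _ _).mp ((allN_spec _ _).mp commOK_E8_0 r hr) s hs
  · exact (allN_spec _ _).mp ((allN_spec _ _).mp commOK_E8_1 r hr) s hs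
  · exact (allN_spec _ _).mp ((allN_spec _ _).mp commOK_E8_2 r hr) s hs
  · exact (allN_spec _ _).mp ((allN_spec _ _).mp commOK_E8_3 r hr) s hs
  · exact (allN_spec _ _).mp ((allN_spec _ _).mp commOK_E8_4 r hr) s hs
  · exact (allN_spec _ _).mp ((allN_spec _ _).mp commOK_E8_5 r hr) s hs
  · exact (allN_spec _ _).mp ((allN_spec _ _).mp commOK_E8_6 r hr) s hs
  · exact (allN_spec _ _).mp ((allN_spec _ _).mp commOK_E8_7 r hr) s hs
  · exact (allN_spec _ _).mp ((allN_spec _ _).mp commOK_E8_8 r hr) s hs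

theorem commOK_seven (D : ChevalleyDatum)
    (hD : D ∈ [chevG2, chevB2, chevD4, chevF4, chevE6, chevE7, chevE8]) (i : ℕ) (hi : i ≤ D.rank)
    (r : ℕ) (hr : r < D.nroots) (s : ℕ) (hs : s < D.nroots) : commOK2 D i r s = true :=
  forall_seven (P := fun D => ∀ i, i ≤ D.rank → ∀ r, r < D.nroots → ∀ s, s < D.nroots →
      commOK2 D i r s = true)
    commOK_G2 commOK_B2 commOK_D4 commOK_F4 commOK_E6 commOK_E7 commOK_E8 D hD i hi r hr s hs

/-- Chevalley's commutator formula. -/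
theorem comm7 {F : Type*} [Field F] {D : ChevalleyDatum} (hD : Seven D) (r s : ℕ) (hr : r < D.nroots)
    (hs : s < D.nroots) (hsr : s ≠ r) (hsn : s ≠ D.neg r) (t u : F) :
    D.x F s u * D.x F r t = D.x F r t * D.x F s u * D.wordMat F (D.commWord F r s t u) :=
  comm_of_OK hD (fun i hi r hr s hs => commOK_seven D hD i hi r hr s hs) r s hr hs hsr hsn t u

end Cfsg.Agent.Helper11
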