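import Cfsg.Agent.Helper11.ChevComm

set_option autoImplicit false

/-! Kernel checks for the commutator formula (part of the seven tabulated data). -/

namespace Cfsg.Agent.Helper11

open Cfsg.Lie

set_option maxRecDepth 100000
set_option maxHeartbeats 0
set_option Elab.async false

theorem commOK_G2_all : allN 3 (fun i => allN 12 (fun r => allN 12 (fun s => commOK2 chevG2 i r s))) = true := by
  decide +kernel
theorem commOK_B2_all : allN 3 (fun i => allN 8 (fun r => allN 8 (fun s => commOK2 chevB2 i r s))) = true := by
  decide +kernel
theorem commOK_D4_all : allN 5 (fun i => allN 24 (fun r => allN 24 (fun s => commOK2 chevD4 i r s))) = true := by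
  decide +kernel
theorem commOK_F4_all : allN 5 (fun i => allN 48 (fun r => allN 48 (fun s => commOK2 chevF4 i r s))) = true := by
  decide +kernel
theorem commOK_E6_all : allN 7 (fun i => allN 72 (fun r => allN 72 (fun s => commOK2 chevE6 i r s))) = true := by
  decide +kernel

end Cfsg.Agent.Helper11
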