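import Cfsg.Agent.Helper11.ChevN

set_option autoImplicit false

/-!
Conjugation of root elements by `n_p`: `n_p x_s(t) = x_{w_p(s)}(η_s t) n_p`, reduced to a
kernel-checkable condition `conjOK D i s`.
-/

namespace Cfsg.Agent.Helper11

open Cfsg.Lie

noncomputable def trivVec (D : ChevalleyDatum) (r : ℕ) (vec : Vec) : Bool :=
  @List.rec Term (fun _ => Bool) true (fun y _ ih => cond (isNilB (colF D r y.1)) ih false) vec

theorem applyXF_trivVec (D : ChevalleyDatum) (r : ℕ) (τ : Poly) (vec : Vec)
    (h : trivVec D r vec = true) : applyXF D r τ vec = vec := by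
  unfold applyXF
  cases Nat.blt r D.nroots with
  | false => rfl
  | true =>
    show @List.rec Term (fun _ => Vec) [] _ vec = vec
    induction vec with
    | nil => rfl
    | cons x vec ih =>
      have e : trivVec D r (x :: vec) = cond (isNilB (colF D r x.1)) (trivVec D r vec) false := rfl
      rw [e] at h
      cases hz : isNilB (colF D r x.1) with
      | false => rw [hz] at h; exact absurd h (by simp)
      | true =>
        rw [hz] at h
        show applyTermF (Nat.add D.rank D.nroots) (colF D r) τ _ _ _ x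
          (@List.rec Term (fun _ => Vec) [] _ vec) = x :: vec
        rw [ih h]
        unfold applyTermF
        rw [isNilB_eq _ hz]
        cases Nat.blt x.1 (Nat.add D.rank D.nroots) <;> rfl

noncomputable def conjL (D : ChevalleyDatum) (i s v : ℕ) : Vec :=
  applyOp (Nat.add D.rank D.nroots) (nBig D i) (applyXF D s [(1, 1, 0)] [(v, (1, 0, 0))])

noncomputable def conjR (D : ChevalleyDatum) (i s v : ℕ) : Vec :=
  applyXF D (wAt D i s) [(etaAt D i s, 1, 0)]
    (applyOp (Nat.add D.rank D.nroots) (nBig D i) [(v, (1, 0, 0))])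

noncomputable def conjOK (D : ChevalleyDatum) (i s : ℕ) : Bool :=
  allN (Nat.add D.rank D.nroots) (fun v =>
    cond (isNilB (colF D s v))
      (cond (trivVec D (wAt D i s) (applyOp (Nat.add D.rank D.nroots) (nBig D i) [(v, (1, 0, 0))])) true
        (vecEqF (conjL D i s v) (conjR D i s v)))
      (vecEqF (conjL D i s v) (conjR D i s v)))

theorem conj_sound {F : Type*} [Field F] {D : ChevalleyDatum} (hT : tabOK D = true) (i : ℕ)
    (hN : nOK D i = true) (s : ℕ) (h : conjOK D i s = true) (t : F) :
    D.nMat F (D.simple i) 1 * D.x F s t =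
      D.x F (wAt D i s) ((etaAt D i s : F) * t) * D.nMat F (D.simple i) 1 := by
  apply matrix_ext_basis
  intro v hv
  have hM := nOK_op (F := F) hT i hN t 0
  have e : ([(v, ((1 : ℤ), 0, 0))] : Vec) = unitVec v := rfl
  have e1 : t = evalPoly t (0 : F) [(1, 1, 0)] := by simp [evalPoly, evalMono]
  have e2 : (etaAt D i s : F) * t = evalPoly t (0 : F) [(etaAt D i s, 1, 0)] := by
    simp [evalPoly, evalMono]
  have hL : evalVec D t 0 (conjL D i s v) =
      (D.nMat F (D.simple i) 1 * D.x F s t).mulVec (basisVec D F v) := by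
    unfold conjL
    rw [applyOp_sound D t 0 _ _ hM, applyXF_eq hT, e, ← applyX_sound, evalVec_unitVec, ← e1,
      Matrix.mulVec_mulVec]
  have hR : evalVec D t 0 (conjR D i s v) =
      (D.x F (wAt D i s) ((etaAt D i s : F) * t) * D.nMat F (D.simple i) 1).mulVec (basisVec D F v) := by
    unfold conjR
    rw [applyXF_eq hT, ← applyX_sound, applyOp_sound D t 0 _ _ hM, e, evalVec_unitVec, ← e2,
      Matrix.mulVec_mulVec]
  rw [← hL, ← hR]
  have h1 := (allN_spec _ _).mp h v hv
  cases h3 : isNilB (colF D s v) with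
  | false => rw [h3] at h1; exact vecEqF_sound D t 0 _ _ h1
  | true =>
    rw [h3] at h1
    cases h4 : trivVec D (wAt D i s) (applyOp (Nat.add D.rank D.nroots) (nBig D i) [(v, (1, 0, 0))]) with
    | false => rw [h4] at h1; exact vecEqF_sound D t 0 _ _ h1
    | true =>
      unfold conjL conjR
      rw [applyXF_trivVec D _ _ _ h4, applyXF_triv D s _ (v, (1, 0, 0)) (isNilB_eq _ h3)]

end Cfsg.Agent.Helper11
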