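import Cfsg.Agent.Helper11.ChevConj
import Cfsg.Agent.Helper11.ChevTab

set_option autoImplicit false

/-! Kernel-checked conjugation n_p x_s(t) = x_{w_p s}(η t) n_p (part of the seven tabulated data). -/

namespace Cfsg.Agent.Helper11

open Cfsg.Lie

set_option maxRecDepth 100000
set_option maxHeartbeats 0
set_option Elab.async false

theorem conjOK_E8_1_0 : allRange 0 40 (conjOK chevE8 1) = true := by decide +kernel
theorem conjOK_E8_1_1 : allRange 40 40 (conjOK chevE8 1) = true := by decide +kernel
theorem conjOK_E8_1_2 : allRange 80 40 (conjOK chevE8 1) = true := by decide +kernel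
theorem conjOK_E8_1_3 : allRange 120 40 (conjOK chevE8 1) = true := by decide +kernel
theorem conjOK_E8_1_4 : allRange 160 40 (conjOK chevE8 1) = true := by decide +kernel
theorem conjOK_E8_1_5 : allRange 200 40 (conjOK chevE8 1) = true := by decide +kernel

end Cfsg.Agent.Helper11
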