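import Cfsg.Agent.Helper11.ChevConj
import Cfsg.Agent.Helper11.ChevTab

set_option autoImplicit false

/-! Kernel-checked conjugation n_p x_s(t) = x_{w_p s}(η t) n_p (part of the seven tabulated data). -/

namespace Cfsg.Agent.Helper11

open Cfsg.Lie

set_option maxRecDepth 100000
set_option maxHeartbeats 0
set_option Elab.async false

theorem conjOK_G2_0_0 : allRange 0 12 (conjOK chevG2 0) = true := by decide +kernel
theorem conjOK_G2_1_0 : allRange 0 12 (conjOK chevG2 1) = true := by decide +kernel
theorem conjOK_B2_0_0 : allRange 0 8 (conjOK chevB2 0) = true := by decide +kernel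
theorem conjOK_B2_1_0 : allRange 0 8 (conjOK chevB2 1) = true := by decide +kernel
theorem conjOK_D4_0_0 : allRange 0 24 (conjOK chevD4 0) = true := by decide +kernel
theorem conjOK_D4_1_0 : allRange 0 24 (conjOK chevD4 1) = true := by decide +kernel
theorem conjOK_D4_2_0 : allRange 0 24 (conjOK chevD4 2) = true := by decide +kernel
theorem conjOK_D4_3_0 : allRange 0 24 (conjOK chevD4 3) = true := by decide +kernel
theorem conjOK_F4_0_0 : allRange 0 48 (conjOK chevF4 0) = true := by decide +kernel
theorem conjOK_F4_1_0 : allRange 0 48 (conjOK chevF4 1) = true := by decide +kernel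
theorem conjOK_F4_2_0 : allRange 0 48 (conjOK chevF4 2) = true := by decide +kernel
theorem conjOK_F4_3_0 : allRange 0 48 (conjOK chevF4 3) = true := by decide +kernel
theorem conjOK_E6_0_0 : allRange 0 72 (conjOK chevE6 0) = true := by decide +kernel
theorem conjOK_E6_1_0 : allRange 0 72 (conjOK chevE6 1) = true := by decide +kernel
theorem conjOK_E6_2_0 : allRange 0 72 (conjOK chevE6 2) = true := by decide +kernel
theorem conjOK_E6_3_0 : allRange 0 72 (conjOK chevE6 3) = true := by decide +kernel
theorem conjOK_E6_4_0 : allRange 0 72 (conjOK chevE6 4) = true := by decide +kernel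
theorem conjOK_E6_5_0 : allRange 0 72 (conjOK chevE6 5) = true := by decide +kernel

end Cfsg.Agent.Helper11
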