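import Cfsg.Agent.Helper11.ChevAux
import Cfsg.Agent.Helper11.ChevConjSmall
import Cfsg.Agent.Helper11.ChevConjE7a
import Cfsg.Agent.Helper11.ChevConjE7b
import Cfsg.Agent.Helper11.ChevConjE8x0
import Cfsg.Agent.Helper11.ChevConjE8x1
import Cfsg.Agent.Helper11.ChevConjE8x2
import Cfsg.Agent.Helper11.ChevConjE8x3
import Cfsg.Agent.Helper11.ChevConjE8x4
import Cfsg.Agent.Helper11.ChevConjE8x5
import Cfsg.Agent.Helper11.ChevConjE8x6
import Cfsg.Agent.Helper11.ChevConjE8x7

set_option autoImplicit false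

/-! Conjugation of root elements by n_p for the seven tabulated data. -/

namespace Cfsg.Agent.Helper11

open Cfsg.Lie

set_option maxRecDepth 100000
set_option maxHeartbeats 0
set_option Elab.async false

theorem conjOK_G2_0 (s : ℕ) (hs : s < 12) : conjOK chevG2 0 s = true := by
  refine allChunks (conjOK chevG2 0) 12 1 ?_ s hs
  intro j hj
  interval_cases j
  · exact conjOK_G2_0_0

theorem conjOK_G2_1 (s : ℕ) (hs : s < 12) : conjOK chevG2 1 s = true := by
  refine allChunks (conjOK chevG2 1) 12 1 ?_ s hs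
  intro j hj
  interval_cases j
  · exact conjOK_G2_1_0

theorem conjOK_G2 (i : ℕ) (hi : i < 2) (s : ℕ) (hs : s < 12) : conjOK chevG2 i s = true := by
  interval_cases i
  · exact conjOK_G2_0 s hs
  · exact conjOK_G2_1 s hs

theorem conjOK_B2_0 (s : ℕ) (hs : s < 8) : conjOK chevB2 0 s = true := by
  refine allChunks (conjOK chevB2 0) 8 1 ?_ s hs
  intro j hj
  interval_cases j
  · exact conjOK_B2_0_0

theorem conjOK_B2_1 (s : ℕ) (hs : s < 8) : conjOK chevB2 1 s = true := by
  refine allChunks (conjOK chevB2 1) 8 1 ?_ s hs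
  intro j hj
  interval_cases j
  · exact conjOK_B2_1_0

theorem conjOK_B2 (i : ℕ) (hi : i < 2) (s : ℕ) (hs : s < 8) : conjOK chevB2 i s = true := by
  interval_cases i
  · exact conjOK_B2_0 s hs
  · exact conjOK_B2_1 s hs

theorem conjOK_D4_0 (s : ℕ) (hs : s < 24) : conjOK chevD4 0 s = true := by
  refine allChunks (conjOK chevD4 0) 24 1 ?_ s hs
  intro j hj
  interval_cases j
  · exact conjOK_D4_0_0

theorem conjOK_D4_1 (s : ℕ) (hs : s < 24) : conjOK chevD4 1 s = true := by
  refine allChunks (conjOK chevD4 1) 24 1 ?_ s hs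
  intro j hj
  interval_cases j
  · exact conjOK_D4_1_0

theorem conjOK_D4_2 (s : ℕ) (hs : s < 24) : conjOK chevD4 2 s = true := by
  refine allChunks (conjOK chevD4 2) 24 1 ?_ s hs
  intro j hj
  interval_cases j
  · exact conjOK_D4_2_0

theorem conjOK_D4_3 (s : ℕ) (hs : s < 24) : conjOK chevD4 3 s = true := by
  refine allChunks (conjOK chevD4 3) 24 1 ?_ s hs
  intro j hj
  interval_cases j
  · exact conjOK_D4_3_0

theorem conjOK_D4 (i : ℕ) (hi : i < 4) (s : ℕ) (hs : s < 24) : conjOK chevD4 i s = true := by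
  interval_cases i
  · exact conjOK_D4_0 s hs
  · exact conjOK_D4_1 s hs
  · exact conjOK_D4_2 s hs
  · exact conjOK_D4_3 s hs

theorem conjOK_F4_0 (s : ℕ) (hs : s < 48) : conjOK chevF4 0 s = true := by
  refine allChunks (conjOK chevF4 0) 48 1 ?_ s hs
  intro j hj
  interval_cases j
  · exact conjOK_F4_0_0

theorem conjOK_F4_1 (s : ℕ) (hs : s < 48) : conjOK chevF4 1 s = true := by
  refine allChunks (conjOK chevF4 1) 48 1 ?_ s hs
  intro j hj
  interval_cases j
  · exact conjOK_F4_1_0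

theorem conjOK_F4_2 (s : ℕ) (hs : s < 48) : conjOK chevF4 2 s = true := by
  refine allChunks (conjOK chevF4 2) 48 1 ?_ s hs
  intro j hj
  interval_cases j
  · exact conjOK_F4_2_0

theorem conjOK_F4_3 (s : ℕ) (hs : s < 48) : conjOK chevF4 3 s = true := by
  refine allChunks (conjOK chevF4 3) 48 1 ?_ s hs
  intro j hj
  interval_cases j
  · exact conjOK_F4_3_0

theorem conjOK_F4 (i : ℕ) (hi : i < 4) (s : ℕ) (hs : s < 48) : conjOK chevF4 i s = true := by
  interval_cases i
  · exact conjOK_F4_0 s hs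
  · exact conjOK_F4_1 s hs
  · exact conjOK_F4_2 s hs
  · exact conjOK_F4_3 s hs

theorem conjOK_E6_0 (s : ℕ) (hs : s < 72) : conjOK chevE6 0 s = true := by
  refine allChunks (conjOK chevE6 0) 72 1 ?_ s hs
  intro j hj
  interval_cases j
  · exact conjOK_E6_0_0

theorem conjOK_E6_1 (s : ℕ) (hs : s < 72) : conjOK chevE6 1 s = true := by
  refine allChunks (conjOK chevE6 1) 72 1 ?_ s hs
  intro j hj
  interval_cases j
  · exact conjOK_E6_1_0

theorem conjOK_E6_2 (s : ℕ) (hs : s < 72) : conjOK chevE6 2 s = true := by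
  refine allChunks (conjOK chevE6 2) 72 1 ?_ s hs
  intro j hj
  interval_cases j
  · exact conjOK_E6_2_0

theorem conjOK_E6_3 (s : ℕ) (hs : s < 72) : conjOK chevE6 3 s = true := by
  refine allChunks (conjOK chevE6 3) 72 1 ?_ s hs
  intro j hj
  interval_cases j
  · exact conjOK_E6_3_0

theorem conjOK_E6_4 (s : ℕ) (hs : s < 72) : conjOK chevE6 4 s = true := by
  refine allChunks (conjOK chevE6 4) 72 1 ?_ s hs
  intro j hj
  interval_cases j
  · exact conjOK_E6_4_0

theorem conjOK_E6_5 (s : ℕ) (hs : s < 72) : conjOK chevE6 5 s = true := by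
  refine allChunks (conjOK chevE6 5) 72 1 ?_ s hs
  intro j hj
  interval_cases j
  · exact conjOK_E6_5_0

theorem conjOK_E6 (i : ℕ) (hi : i < 6) (s : ℕ) (hs : s < 72) : conjOK chevE6 i s = true := by
  interval_cases i
  · exact conjOK_E6_0 s hs
  · exact conjOK_E6_1 s hs
  · exact conjOK_E6_2 s hs
  · exact conjOK_E6_3 s hs
  · exact conjOK_E6_4 s hs
  · exact conjOK_E6_5 s hs

theorem conjOK_E7_0 (s : ℕ) (hs : s < 126) : conjOK chevE7 0 s = true := by
  refine allChunks (conjOK chevE7 0) 63 2 ?_ s hs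
  intro j hj
  interval_cases j
  · exact conjOK_E7_0_0
  · exact conjOK_E7_0_1

theorem conjOK_E7_1 (s : ℕ) (hs : s < 126) : conjOK chevE7 1 s = true := by
  refine allChunks (conjOK chevE7 1) 63 2 ?_ s hs
  intro j hj
  interval_cases j
  · exact conjOK_E7_1_0
  · exact conjOK_E7_1_1

theorem conjOK_E7_2 (s : ℕ) (hs : s < 126) : conjOK chevE7 2 s = true := by
  refine allChunks (conjOK chevE7 2) 63 2 ?_ s hs
  intro j hj
  interval_cases j
  · exact conjOK_E7_2_0
  · exact conjOK_E7_2_1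

theorem conjOK_E7_3 (s : ℕ) (hs : s < 126) : conjOK chevE7 3 s = true := by
  refine allChunks (conjOK chevE7 3) 63 2 ?_ s hs
  intro j hj
  interval_cases j
  · exact conjOK_E7_3_0
  · exact conjOK_E7_3_1

theorem conjOK_E7_4 (s : ℕ) (hs : s < 126) : conjOK chevE7 4 s = true := by
  refine allChunks (conjOK chevE7 4) 63 2 ?_ s hs
  intro j hj
  interval_cases j
  · exact conjOK_E7_4_0
  · exact conjOK_E7_4_1

theorem conjOK_E7_5 (s : ℕ) (hs : s < 126) : conjOK chevE7 5 s = true := by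
  refine allChunks (conjOK chevE7 5) 63 2 ?_ s hs
  intro j hj
  interval_cases j
  · exact conjOK_E7_5_0
  · exact conjOK_E7_5_1

theorem conjOK_E7_6 (s : ℕ) (hs : s < 126) : conjOK chevE7 6 s = true := by
  refine allChunks (conjOK chevE7 6) 63 2 ?_ s hs
  intro j hj
  interval_cases j
  · exact conjOK_E7_6_0
  · exact conjOK_E7_6_1

theorem conjOK_E7 (i : ℕ) (hi : i < 7) (s : ℕ) (hs : s < 126) : conjOK chevE7 i s = true := by
  interval_cases i
  · exact conjOK_E7_0 s hs
  · exact conjOK_E7_1 s hs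
  · exact conjOK_E7_2 s hs
  · exact conjOK_E7_3 s hs
  · exact conjOK_E7_4 s hs
  · exact conjOK_E7_5 s hs
  · exact conjOK_E7_6 s hs

theorem conjOK_E8_0 (s : ℕ) (hs : s < 240) : conjOK chevE8 0 s = true := by
  refine allChunks (conjOK chevE8 0) 40 6 ?_ s hs
  intro j hj
  interval_cases j
  · exact conjOK_E8_0_0
  · exact conjOK_E8_0_1
  · exact conjOK_E8_0_2
  · exact conjOK_E8_0_3
  · exact conjOK_E8_0_4
  · exact conjOK_E8_0_5

theorem conjOK_E8_1 (s : ℕ) (hs : s < 240) : conjOK chevE8 1 s = true := by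
  refine allChunks (conjOK chevE8 1) 40 6 ?_ s hs
  intro j hj
  interval_cases j
  · exact conjOK_E8_1_0
  · exact conjOK_E8_1_1
  · exact conjOK_E8_1_2
  · exact conjOK_E8_1_3
  · exact conjOK_E8_1_4
  · exact conjOK_E8_1_5

theorem conjOK_E8_2 (s : ℕ) (hs : s < 240) : conjOK chevE8 2 s = true := by
  refine allChunks (conjOK chevE8 2) 40 6 ?_ s hs
  intro j hj
  interval_cases j
  · exact conjOK_E8_2_0
  · exact conjOK_E8_2_1
  · exact conjOK_E8_2_2
  · exact conjOK_E8_2_3
  · exact conjOK_E8_2_4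
  · exact conjOK_E8_2_5

theorem conjOK_E8_3 (s : ℕ) (hs : s < 240) : conjOK chevE8 3 s = true := by
  refine allChunks (conjOK chevE8 3) 40 6 ?_ s hs
  intro j hj
  interval_cases j
  · exact conjOK_E8_3_0
  · exact conjOK_E8_3_1
  · exact conjOK_E8_3_2
  · exact conjOK_E8_3_3
  · exact conjOK_E8_3_4
  · exact conjOK_E8_3_5

theorem conjOK_E8_4 (s : ℕ) (hs : s < 240) : conjOK chevE8 4 s = true := by
  refine allChunks (conjOK chevE8 4) 40 6 ?_ s hs
  intro j hj
  interval_cases j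
  · exact conjOK_E8_4_0
  · exact conjOK_E8_4_1
  · exact conjOK_E8_4_2
  · exact conjOK_E8_4_3
  · exact conjOK_E8_4_4
  · exact conjOK_E8_4_5

theorem conjOK_E8_5 (s : ℕ) (hs : s < 240) : conjOK chevE8 5 s = true := by
  refine allChunks (conjOK chevE8 5) 40 6 ?_ s hs
  intro j hj
  interval_cases j
  · exact conjOK_E8_5_0
  · exact conjOK_E8_5_1
  · exact conjOK_E8_5_2
  · exact conjOK_E8_5_3
  · exact conjOK_E8_5_4
  · exact conjOK_E8_5_5

theorem conjOK_E8_6 (s : ℕ) (hs : s < 240) : conjOK chevE8 6 s = true := by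
  refine allChunks (conjOK chevE8 6) 40 6 ?_ s hs
  intro j hj
  interval_cases j
  · exact conjOK_E8_6_0
  · exact conjOK_E8_6_1
  · exact conjOK_E8_6_2
  · exact conjOK_E8_6_3
  · exact conjOK_E8_6_4
  · exact conjOK_E8_6_5

theorem conjOK_E8_7 (s : ℕ) (hs : s < 240) : conjOK chevE8 7 s = true := by
  refine allChunks (conjOK chevE8 7) 40 6 ?_ s hs
  intro j hj
  interval_cases j
  · exact conjOK_E8_7_0
  · exact conjOK_E8_7_1
  · exact conjOK_E8_7_2
  · exact conjOK_E8_7_3
  · exact conjOK_E8_7_4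
  · exact conjOK_E8_7_5

theorem conjOK_E8 (i : ℕ) (hi : i < 8) (s : ℕ) (hs : s < 240) : conjOK chevE8 i s = true := by
  interval_cases i
  · exact conjOK_E8_0 s hs
  · exact conjOK_E8_1 s hs
  · exact conjOK_E8_2 s hs
  · exact conjOK_E8_3 s hs
  · exact conjOK_E8_4 s hs
  · exact conjOK_E8_5 s hs
  · exact conjOK_E8_6 s hs
  · exact conjOK_E8_7 s hs

theorem conjOK_seven (D : ChevalleyDatum)
    (hD : D ∈ [chevG2, chevB2, chevD4, chevF4, chevE6, chevE7, chevE8]) (i : ℕ) (hi : i < D.rank) (s : ℕ)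
    (hs : s < D.nroots) : conjOK D i s = true :=
  forall_seven (P := fun D => ∀ i, i < D.rank → ∀ s, s < D.nroots → conjOK D i s = true) conjOK_G2
    conjOK_B2 conjOK_D4 conjOK_F4 conjOK_E6 conjOK_E7 conjOK_E8 D hD i hi s hs

end Cfsg.Agent.Helper11
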