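import Cfsg.Agent.Helper11.ChevBN2

set_option autoImplicit false

/-!
Tables for the Weyl group `N/H` as a Coxeter group: orders of the products of two fundamental
reflections (`coxOK`) and distinctness of the root subgroups (`distOK`).
-/

namespace Cfsg.Agent.Helper11

open Cfsg.Lie

noncomputable def mOfProd (n : ℕ) : ℕ :=
  @Nat.rec (fun _ => ℕ) 2 (fun k _ => @Nat.rec (fun _ => ℕ) 3
    (fun k' _ => @Nat.rec (fun _ => ℕ) 4 (fun _ _ => 6) k') k) n

/-- The order of the product of the `i`-th and `j`-th fundamental reflections, read off the Cartan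
integers. -/
noncomputable def mOf (D : ChevalleyDatum) (i j : ℕ) : ℕ :=
  cond (Nat.beq i j) 1
    (mOfProd (Int.toNat (Int.mul (cartAt D i (D.simple j)) (cartAt D j (D.simple i)))))

/-- `(w_i w_j)^k` applied to the root `s`. -/
noncomputable def iterW (D : ChevalleyDatum) (i j k s : ℕ) : ℕ :=
  @Nat.rec (fun _ => ℕ) s (fun _ ih => wAt D i (wAt D j ih)) k

noncomputable def coxOK (D : ChevalleyDatum) : Bool :=
  allN D.rank (fun i => allN D.rank (fun j =>
    (cond (Nat.beq i j) true (cond (Nat.beq (D.simple i) (D.simple j)) false true)) &&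
    (Nat.blt 0 (mOf D i j) &&
    (allN D.nroots (fun s => Nat.beq (iterW D i j (mOf D i j) s) s) &&
    allN (mOf D i j) (fun k => cond (Nat.beq k 0) true
      (anyN D.nroots (fun s => cond (Nat.beq (iterW D i j k s) s) false true)))))))

/-- For roots `q ≠ p`, the matrix of `x_q(t)` has entry zero at `(e_p, e_{-p})`. -/
noncomputable def distOK (D : ChevalleyDatum) : Bool :=
  allN D.nroots (fun p => allN D.nroots (fun q => cond (Nat.beq q p) true
    (allL (fun e => cond (Nat.beq e.1 (Nat.add D.rank p)) false true)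
      (colF D q (Nat.add D.rank (negAt D p))))))

section CoxSound
variable {F : Type*} [Field F] {D : ChevalleyDatum}

theorem coxOK_spec (h : coxOK D = true) (i j : ℕ) (hi : i < D.rank) (hj : j < D.rank) :
    (i ≠ j → D.simple i ≠ D.simple j) ∧ 0 < mOf D i j ∧
    (∀ s < D.nroots, iterW D i j (mOf D i j) s = s) ∧
    ∀ k, 0 < k → k < mOf D i j → ∃ s < D.nroots, iterW D i j k s ≠ s := by
  have h1 := (allN_spec _ _).mp ((allN_spec _ _).mp h i hi) j hj
  rw [Bool.and_eq_true, Bool.and_eq_true, Bool.and_eq_true] at h1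
  obtain ⟨h1, h2, h3, h4⟩ := h1
  refine ⟨fun hij he => ?_, (blt_iff _ _).mp h2,
    fun s hs => (beq_iff _ _).mp ((allN_spec _ _).mp h3 s hs), fun k hk0 hk => ?_⟩
  · rw [beq_false_of_ne hij, cond_false, (beq_iff _ _).mpr he, cond_true] at h1
    exact absurd h1 (by simp)
  · have h5 := (allN_spec _ _).mp h4 k hk
    rw [beq_false_of_ne (show k ≠ 0 by omega), cond_false] at h5
    obtain ⟨s, hs, h6⟩ := (anyN_spec _ _).mp h5
    refine ⟨s, hs, fun he => ?_⟩
    rw [(beq_iff _ _).mpr he, cond_true] at h6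
    exact absurd h6 (by simp)

theorem distOK_spec (hT : tabOK D = true) (h : distOK D = true) (p q : ℕ) (hp : p < D.nroots)
    (hq : q < D.nroots) (hne : q ≠ p) :
    ∀ e ∈ colN D q (D.rank + D.neg p), e.1 ≠ D.rank + p := by
  intro e he hep
  have h1 := (allN_spec _ _).mp ((allN_spec _ _).mp h p hp) q hq
  rw [beq_false_of_ne hne, cond_false, tabOK_neg hT p hp] at h1
  rw [← colF_eq hT q hq] at he
  have h2 := (allL_spec _ _).mp h1 e he
  rw [show Nat.beq e.1 (Nat.add D.rank p) = true from (beq_iff _ _).mpr hep, cond_true] at h2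
  exact absurd h2 (by simp)

/-- Distinct roots have distinct root elements. -/
theorem xG_root_inj (hD : Seven D) (hdist : distOK D = true) (p q : ℕ) (hp : p < D.nroots)
    (hq : q < D.nroots) (a b : F) (ha : a ≠ 0) (h : xG hD p a = xG hD q b) : p = q := by
  by_contra hne
  have hnp := neg_lt7 hD p hp
  have h1 := x_entry_neg hD p hp a
  have h2 : D.x F p a = D.x F q b := by rw [← xG_val hD p a, ← xG_val hD q b, h]
  rw [h2] at h1
  have hoff : (Sum.inr ⟨p, hp⟩ : D.Idx) ≠ Sum.inr ⟨D.neg p, hnp⟩ := by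
    intro he
    exact neg_ne7 hD p hp (congrArg Fin.val (Sum.inr.inj he)).symm
  have h3 : (D.x F q b - 1) (Sum.inr ⟨p, hp⟩) (Sum.inr ⟨D.neg p, hnp⟩) ≠ 0 := by
    rw [Matrix.sub_apply, Matrix.one_apply_ne hoff, sub_zero, h1]
    exact neg_ne_zero.mpr (pow_ne_zero 2 ha)
  obtain ⟨e, he, hea⟩ := x_sub_one_entry D q hq b _ _ h3
  exact distOK_spec (tabOK_seven D hD) hdist p q hp hq (fun h' => hne h'.symm) e he hea

end CoxSound

end Cfsg.Agent.Helper11
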