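import Cfsg.Agent.Helper11.ChevCoxAll
import Cfsg.Agent.Helper2.Cox2

set_option autoImplicit false

/-!
`N/H` is the Coxeter group of the type: the quotient `N/H` acts faithfully on the roots, the images
of the `n_p` (`p` fundamental) are involutions satisfying the exchange condition (via the descent
predicate "`w⁻¹ p` is negative"), and the orders of their products are read off the tables.
-/

namespace Cfsg.Agent.Helper11

open Cfsg.Lie

section CoxGrp
variable {F : Type*} [Field F] {D : ChevalleyDatum}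

theorem xG_root_inj7 (hD : Seven D) (p q : ℕ) (hp : p < D.nroots) (hq : q < D.nroots) (a b : F)
    (ha : a ≠ 0) (h : xG hD p a = xG hD q b) : p = q :=
  xG_root_inj hD (distOK_seven D hD) p q hp hq a b ha h

theorem wordN_H_imp (hD : Seven D) (v v' : List ℕ) (hv : ∀ i ∈ v, i < D.rank)
    (hv' : ∀ i ∈ v', i < D.rank)
    (h : (wordN (F := F) hD v)⁻¹ * wordN hD v' ∈ D.diagonalSubgroup F) :
    ∀ s < D.nroots, wordApply D v s = wordApply D v' s := by
  intro s hs
  obtain ⟨_, c, hc0, hc⟩ := NConj.of_H hD h s hs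
  have hc' : ∀ t : F, ((wordN hD v)⁻¹ * wordN hD v') * xG hD s t *
      ((wordN hD v)⁻¹ * wordN hD v')⁻¹ = xG hD s (c * t) := hc
  obtain ⟨h1, ε, hε, he⟩ := wordN_conj (F := F) hD v hv s hs
  obtain ⟨h1', ε', hε', he'⟩ := wordN_conj (F := F) hD v' hv' s hs
  have e : wordN hD v' * xG hD s (1 : F) * (wordN hD v')⁻¹ =
      wordN hD v * (((wordN hD v)⁻¹ * wordN hD v') * xG hD s 1 *
        ((wordN hD v)⁻¹ * wordN hD v')⁻¹) * (wordN hD v)⁻¹ := by group
  rw [he', hc', he] at e
  have hε'0 : ε' * 1 ≠ 0 := by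
    rw [mul_one]; rintro rfl; rw [mul_zero] at hε'; exact zero_ne_one hε'
  exact (xG_root_inj7 hD _ _ h1' h1 _ _ hε'0 e).symm

theorem wordN_H_of (hD : Seven D) (v v' : List ℕ) (hv : ∀ i ∈ v, i < D.rank)
    (hv' : ∀ i ∈ v', i < D.rank)
    (h : ∀ s < D.nroots, wordApply D v s = wordApply D v' s) :
    (wordN (F := F) hD v)⁻¹ * wordN hD v' ∈ D.diagonalSubgroup F := by
  obtain ⟨h0, hh0, v'', hv'', e0⟩ := wordN_inv_form (F := F) hD v hv
  have hu : ∀ i ∈ v'' ++ v', i < D.rank := by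
    intro i hi
    rcases List.mem_append.mp hi with h1 | h1
    · exact hv'' i h1
    · exact hv' i h1
  have e1 : (wordN hD v)⁻¹ * wordN hD v' = h0 * wordN hD (v'' ++ v') := by
    rw [e0, wordN_append, mul_assoc]
  rw [e1]
  refine mul_mem hh0 (wordN_mem_H_of_B hD _ (v'' ++ v') rfl hu ?_)
  intro s hpos hs t
  have e2 : wordN hD (v'' ++ v') = h0⁻¹ * ((wordN hD v)⁻¹ * wordN hD v') := by rw [e1]; group
  obtain ⟨h1, ε, hε, he⟩ := wordN_conj (F := F) hD v hv s hs
  obtain ⟨h1', ε', hε', he'⟩ := wordN_conj (F := F) hD v' hv' s hs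
  have e3 : (wordN hD v)⁻¹ * xG hD (wordApply D v s) (ε' * t) * wordN hD v =
      xG hD s (ε * (ε' * t)) := by
    have h2 := he (ε * (ε' * t))
    have e4 : ε * (ε * (ε' * t)) = ε' * t := by rw [← mul_assoc, hε, one_mul]
    rw [e4] at h2
    rw [← h2]; group
  obtain ⟨_, c, _, hc⟩ := NConj.of_H hD (inv_mem hh0) s hs
  have hc' : ∀ t : F, h0⁻¹ * xG hD s t * (h0⁻¹)⁻¹ = xG hD s (c * t) := hc
  have e5 : wordN hD (v'' ++ v') * xG hD s t * (wordN hD (v'' ++ v'))⁻¹ =
      h0⁻¹ * ((wordN hD v)⁻¹ * (wordN hD v' * xG hD s t * (wordN hD v')⁻¹) * wordN hD v) *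
        (h0⁻¹)⁻¹ := by
    rw [e2]; group
  rw [e5, he', ← h s hs, e3, hc']
  exact Subgroup.mem_sup_left (xG_mem_posU hD s (((pos_iff7 hD s hs).1).mpr hpos) _)

/-- `H` as a subgroup of `N`. -/
abbrev HN (D : ChevalleyDatum) (F : Type*) [Field F] : Subgroup ↥(D.monomialSubgroup F) :=
  (D.diagonalSubgroup F).subgroupOf (D.monomialSubgroup F)

theorem HN_normal (hD : Seven D) : (HN D F).Normal := by
  constructor
  intro n hn g
  rw [Subgroup.mem_subgroupOf] at hn ⊢
  exact N_conj_H hD g.2 hn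

theorem vals_lt (ω : List (Fin D.rank)) : ∀ i ∈ ω.map Fin.val, i < D.rank := fun i hi => by
  obtain ⟨j, _, rfl⟩ := List.mem_map.mp hi
  exact j.2

theorem exists_fin_word (D : ChevalleyDatum) (v : List ℕ) (hv : ∀ i ∈ v, i < D.rank) :
    ∃ ω : List (Fin D.rank), ω.map Fin.val = v := by
  induction v with
  | nil => exact ⟨[], rfl⟩
  | cons i v ih =>
    obtain ⟨ω, hω⟩ := ih (fun j hj => hv j (List.mem_cons_of_mem _ hj))
    exact ⟨⟨i, hv i List.mem_cons_self⟩ :: ω, by rw [List.map_cons, hω]⟩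

/-- The element of `N` of a word in the fundamental reflections. -/
noncomputable def nW (hD : Seven D) (ω : List (Fin D.rank)) : ↥(D.monomialSubgroup F) :=
  ⟨wordN hD (ω.map Fin.val), wordN_mem hD _ (vals_lt ω)⟩

theorem nW_nil (hD : Seven D) : nW (F := F) hD [] = 1 := Subtype.ext rfl

theorem nW_cons (hD : Seven D) (i : Fin D.rank) (ω : List (Fin D.rank)) :
    nW (F := F) hD (i :: ω) = nW hD [i] * nW hD ω := by
  apply Subtype.ext
  show wordN hD ((i :: ω).map Fin.val) = wordN hD ([i].map Fin.val) * wordN hD (ω.map Fin.val)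
  rw [List.map_cons, List.map_cons, List.map_nil, wordN_cons, wordN_cons, wordN_nil, mul_one]

theorem nW_append (hD : Seven D) (ω ω' : List (Fin D.rank)) :
    nW (F := F) hD (ω ++ ω') = nW hD ω * nW hD ω' := by
  apply Subtype.ext
  show wordN hD ((ω ++ ω').map Fin.val) = wordN hD (ω.map Fin.val) * wordN hD (ω'.map Fin.val)
  rw [List.map_append, wordN_append]

theorem mk_nW_eq_iff (hD : Seven D) (ω ω' : List (Fin D.rank)) :
    (QuotientGroup.mk (nW hD ω) : ↥(D.monomialSubgroup F) ⧸ HN D F) = QuotientGroup.mk (nW hD ω') ↔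
      ∀ s < D.nroots, wordApply D (ω.map Fin.val) s = wordApply D (ω'.map Fin.val) s := by
  rw [QuotientGroup.eq, Subgroup.mem_subgroupOf]
  constructor
  · intro h
    exact wordN_H_imp hD _ _ (vals_lt ω) (vals_lt ω') h
  · intro h
    exact wordN_H_of hD _ _ (vals_lt ω) (vals_lt ω') h

theorem exists_word (hD : Seven D) (w : ↥(D.monomialSubgroup F) ⧸ HN D F) :
    ∃ ω : List (Fin D.rank),
      (QuotientGroup.mk (nW hD ω) : ↥(D.monomialSubgroup F) ⧸ HN D F) = w := by
  obtain ⟨n, rfl⟩ := QuotientGroup.mk_surjective w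
  obtain ⟨h, hh, v, hv, e⟩ := N_word_form hD n.1 n.2
  obtain ⟨ω, hω⟩ := exists_fin_word D v hv
  refine ⟨ω, ?_⟩
  rw [QuotientGroup.eq, Subgroup.mem_subgroupOf]
  show (wordN hD (ω.map Fin.val))⁻¹ * n.1 ∈ D.diagonalSubgroup F
  rw [hω, e]
  have h1 := N_conj_H hD (inv_mem (wordN_mem (F := F) hD v hv)) hh
  rw [inv_inv] at h1
  rw [← mul_assoc]
  exact h1

/-- The action of `N/H` on the roots. -/
noncomputable def actW (hD : Seven D) (w : ↥(D.monomialSubgroup F) ⧸ HN D F) (s : ℕ) : ℕ :=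
  wordApply D ((Classical.choose (exists_word hD w)).map Fin.val) s

theorem actW_mk (hD : Seven D) (ω : List (Fin D.rank)) (s : ℕ) (hs : s < D.nroots) :
    actW hD (QuotientGroup.mk (nW hD ω) : ↥(D.monomialSubgroup F) ⧸ HN D F) s =
      wordApply D (ω.map Fin.val) s :=
  (mk_nW_eq_iff hD _ _).mp
    (Classical.choose_spec (exists_word hD (QuotientGroup.mk (nW hD ω)))) s hs

/-- The descent predicate: `w⁻¹ p_i` is a negative root. -/
def Dsc (hD : Seven D) (i : Fin D.rank) (w : ↥(D.monomialSubgroup F) ⧸ HN D F) : Prop :=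
  ∃ q, q < D.nroots / 2 ∧ actW hD w q = D.simple i

/-- The alternating word `(i j)^k`. -/
def repW (i j : Fin D.rank) : ℕ → List (Fin D.rank)
  | 0 => []
  | k + 1 => i :: j :: repW i j k

theorem repW_apply (i j : Fin D.rank) (k s : ℕ) :
    wordApply D ((repW i j k).map Fin.val) s = iterW D i j k s := by
  induction k with
  | zero => rfl
  | succ k ih =>
    show wAt D i (wAt D j (wordApply D ((repW i j k).map Fin.val) s)) =
      wAt D i (wAt D j (iterW D i j k s))
    rw [ih]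

section Quot
variable (hD : Seven D) [hNorm : (HN D F).Normal]

/-- The images of the `n_p` in `N/H`. -/
noncomputable def sigW (i : Fin D.rank) : ↥(D.monomialSubgroup F) ⧸ HN D F :=
  QuotientGroup.mk (nW hD [i])

theorem one_eq_mk : (1 : ↥(D.monomialSubgroup F) ⧸ HN D F) = QuotientGroup.mk (nW hD []) := by
  rw [nW_nil]; rfl

theorem sig_mul_mk (i : Fin D.rank) (ω : List (Fin D.rank)) :
    sigW hD i * (QuotientGroup.mk (nW hD ω) : ↥(D.monomialSubgroup F) ⧸ HN D F) =
      QuotientGroup.mk (nW hD (i :: ω)) := by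
  rw [nW_cons]; rfl

theorem mk_mul_sig (j : Fin D.rank) (ω : List (Fin D.rank)) :
    (QuotientGroup.mk (nW hD ω) : ↥(D.monomialSubgroup F) ⧸ HN D F) * sigW hD j =
      QuotientGroup.mk (nW hD (ω ++ [j])) := by
  rw [nW_append]; rfl

theorem wp_sigW (ω : List (Fin D.rank)) :
    Cfsg.Agent.Helper2.Cox.wp (sigW (F := F) hD) ω = QuotientGroup.mk (nW hD ω) := by
  induction ω with
  | nil => rw [Cfsg.Agent.Helper2.Cox.wp_nil, one_eq_mk hD]
  | cons i ω ih => rw [Cfsg.Agent.Helper2.Cox.wp_cons, ih, sig_mul_mk]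

theorem sigW_sq (i : Fin D.rank) : sigW (F := F) hD i * sigW hD i = 1 := by
  show (QuotientGroup.mk (nW hD [i] * nW hD [i]) : ↥(D.monomialSubgroup F) ⧸ HN D F) = 1
  rw [QuotientGroup.eq_one_iff, Subgroup.mem_subgroupOf]
  show wordN hD [i.val] * wordN hD [i.val] ∈ D.diagonalSubgroup F
  rw [wordN_cons, wordN_nil, mul_one]
  exact nG_sq_mem_H hD _ (simple_lt7 hD i i.2)

theorem sigW_gen (w : ↥(D.monomialSubgroup F) ⧸ HN D F) :
    ∃ ω, Cfsg.Agent.Helper2.Cox.wp (sigW (F := F) hD) ω = w := by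
  obtain ⟨ω, rfl⟩ := exists_word hD w
  exact ⟨ω, wp_sigW hD ω⟩

theorem sigW_inj : Function.Injective (sigW (F := F) hD) := by
  intro i j h
  by_contra hne
  have hij : i.val ≠ j.val := fun e => hne (Fin.ext e)
  have hp := simple_lt7 hD i i.2
  have h1 := (mk_nW_eq_iff hD [i] [j]).mp h (D.simple i) hp
  have h2 : wAt D i (D.simple i) = wAt D j (D.simple i) := h1
  rw [wAt_eq7 hD i i.2 _ hp, wAt_eq7 hD j j.2 _ hp, reflect_self] at h2
  have hsne : D.simple i ≠ D.simple j := (coxOK_spec (coxOK_seven D hD) i j i.2 j.2).1 hij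
  have h5 := ((pos_iff7 hD _ hp).1).mp (simple_pos7 hD i i.2)
  have h3 := refl_pos7 hD j j.2 (D.simple i) hp h5 hsne
  rw [← h2] at h3
  have h4 := neg_eq7 hD _ hp
  have hev := nroots_even7 hD
  omega

theorem dsc_one (i : Fin D.rank) : ¬ Dsc (F := F) hD i 1 := by
  rintro ⟨q, hq, he⟩
  have hev := nroots_even7 hD
  rw [one_eq_mk hD, actW_mk hD [] q (by omega)] at he
  have h2 : q = D.simple i := he
  have h3 := ((pos_iff7 hD _ (simple_lt7 hD i i.2)).1).mp (simple_pos7 hD i i.2)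
  omega

theorem dsc_mul_left (i : Fin D.rank) (w : ↥(D.monomialSubgroup F) ⧸ HN D F)
    (h : ¬ Dsc hD i w) : Dsc hD i (sigW hD i * w) := by
  obtain ⟨ω, rfl⟩ := exists_word hD w
  have hev := nroots_even7 hD
  have hv := vals_lt ω
  have hp := simple_lt7 hD i i.2
  have hrev : ∀ j ∈ (ω.map Fin.val).reverse, j < D.rank :=
    fun j hj => hv j (List.mem_reverse.mp hj)
  have hq' := wordApply_lt hD (ω.map Fin.val).reverse hrev (D.simple i) hp
  have hfix := wordApply_reverse hD (ω.map Fin.val) hv (D.simple i) hp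
  have hpos : D.nroots / 2 ≤ wordApply D (ω.map Fin.val).reverse (D.simple i) := by
    by_contra hlt
    exact h ⟨wordApply D (ω.map Fin.val).reverse (D.simple i), by omega,
      by rw [actW_mk hD ω _ hq']; exact hfix⟩
  have hnq := neg_lt7 hD _ hq'
  refine ⟨D.neg (wordApply D (ω.map Fin.val).reverse (D.simple i)), ?_, ?_⟩
  · have := neg_eq7 hD _ hq'
    omega
  · rw [sig_mul_mk, actW_mk hD (i :: ω) _ hnq]
    show wordApply D (i.val :: ω.map Fin.val)
      (D.neg (wordApply D (ω.map Fin.val).reverse (D.simple i))) = D.simple i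
    rw [wordApply_cons, wordApply_neg hD _ hv _ hq', hfix,
      wAt_eq7 hD i i.2 _ (neg_lt7 hD _ hp), reflect_neg_self hD i i.2]

theorem dsc_mul_right (i j : Fin D.rank) (w : ↥(D.monomialSubgroup F) ⧸ HN D F)
    (h1 : ¬ Dsc hD i w) (h2 : Dsc hD i (w * sigW hD j)) : sigW hD i * w = w * sigW hD j := by
  obtain ⟨ω, rfl⟩ := exists_word hD w
  have hev := nroots_even7 hD
  have hv := vals_lt ω
  have hpi := simple_lt7 hD i i.2
  have hpj := simple_lt7 hD j j.2
  rw [mk_mul_sig] at h2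
  obtain ⟨q, hq, he⟩ := h2
  have hqn : q < D.nroots := by omega
  rw [actW_mk hD (ω ++ [j]) q hqn, List.map_append, wordApply_append] at he
  have he' : wordApply D (ω.map Fin.val) (wAt D j q) = D.simple i := he
  rw [wAt_eq7 hD j j.2 q hqn] at he'
  have hq'n := reflect_lt7 hD j j.2 q hqn
  have hq'pos : D.nroots / 2 ≤ D.reflectRoot j q := by
    by_contra hlt
    exact h1 ⟨D.reflectRoot j q, by omega, by rw [actW_mk hD ω _ hq'n]; exact he'⟩
  have hq'eq : D.reflectRoot j q = D.simple j := by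
    by_contra hne
    have h3 := refl_pos7 hD j j.2 _ hq'n hq'pos hne
    rw [reflect_invol7 hD j j.2 q hqn] at h3
    omega
  rw [hq'eq] at he'
  rw [sig_mul_mk, mk_mul_sig, QuotientGroup.eq, Subgroup.mem_subgroupOf]
  show (wordN hD ((i :: ω).map Fin.val))⁻¹ * wordN hD ((ω ++ [j]).map Fin.val) ∈
    D.diagonalSubgroup F
  have e3 : wordN (F := F) hD ([j].map Fin.val) = nG hD (D.simple j) 1 := by
    show wordN hD [j.val] = _
    rw [wordN_cons, wordN_nil, mul_one]
  rw [List.map_cons, List.map_append, wordN_cons, wordN_append, e3]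
  obtain ⟨ε, hε, hconj⟩ := wordN_conj_n (F := F) hD (ω.map Fin.val) hv (D.simple j) hpj
  have hc := hconj 1
  rw [he'] at hc
  have e4 : (nG hD (D.simple i) (1 : F) * wordN hD (ω.map Fin.val))⁻¹ *
      (wordN hD (ω.map Fin.val) * nG hD (D.simple j) (1 : F)) =
      (wordN hD (ω.map Fin.val))⁻¹ * ((nG hD (D.simple i) (1 : F))⁻¹ *
        (wordN hD (ω.map Fin.val) * nG hD (D.simple j) (1 : F) * (wordN hD (ω.map Fin.val))⁻¹)) *
        ((wordN hD (ω.map Fin.val))⁻¹)⁻¹ := by group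
  rw [e4, hc]
  apply N_conj_H hD (inv_mem (wordN_mem hD _ hv))
  rcases mul_self_eq_one_iff.mp hε with h | h
  · rw [h, mul_one, inv_mul_cancel]
    exact one_mem _
  · rw [h, mul_one, ← nG_inv, ← mul_inv_rev]
    exact inv_mem (nG_sq_mem_H hD _ hpi)

theorem sig_pow (i j : Fin D.rank) (k : ℕ) :
    (sigW (F := F) hD i * sigW hD j) ^ k = QuotientGroup.mk (nW hD (repW i j k)) := by
  induction k with
  | zero => rw [pow_zero]; exact one_eq_mk hD
  | succ k ih =>
    rw [pow_succ', ih, mul_assoc, sig_mul_mk, sig_mul_mk]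
    rfl

theorem sig_pow_eq_one_iff (i j : Fin D.rank) (k : ℕ) :
    (sigW (F := F) hD i * sigW hD j) ^ k = 1 ↔ ∀ s < D.nroots, iterW D i j k s = s := by
  rw [sig_pow, one_eq_mk hD, mk_nW_eq_iff]
  constructor
  · intro h s hs
    rw [← repW_apply]
    exact h s hs
  · intro h s hs
    rw [repW_apply]
    exact h s hs

theorem sig_order (i j : Fin D.rank) :
    orderOf (sigW (F := F) hD i * sigW hD j) = mOf D i j := by
  obtain ⟨_, hpos, hfix, hmin⟩ := coxOK_spec (coxOK_seven D hD) i j i.2 j.2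
  rw [orderOf_eq_iff hpos]
  refine ⟨(sig_pow_eq_one_iff hD i j _).mpr hfix, fun m hm hm0 h => ?_⟩
  obtain ⟨s, hs, hne⟩ := hmin m hm0 hm
  exact hne ((sig_pow_eq_one_iff hD i j m).mp h s hs)

end Quot

theorem cox_main (hD : Seven D) (n : ℕ) (hn : D.rank = n) (M : CoxeterMatrix (Fin n))
    (hM : ∀ i j : Fin n, M i j = mOf D i j) :
    ∃ φ : ↥(D.monomialSubgroup F) →* M.Group, Function.Surjective φ ∧
      φ.ker = (D.diagonalSubgroup F).subgroupOf (D.monomialSubgroup F) ∧
      ∀ (i : Fin n) (g : ↥(D.monomialSubgroup F)),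
        ((g : GL D.Idx F) : Matrix D.Idx D.Idx F) = D.nMat F (D.simple i) 1 →
          φ g = M.simple i := by
  subst hn
  have : (HN D F).Normal := HN_normal hD
  obtain ⟨M', cs, hM', hcs⟩ := Cfsg.Agent.Helper2.Cox.exists_coxeterSystem' (sigW (F := F) hD)
    (sigW_sq hD) (sigW_inj hD) (sigW_gen hD)
    (Cfsg.Agent.Helper2.Cox.exchange_of_descent (sigW (F := F) hD) (sigW_sq hD) (Dsc hD)
      (dsc_one hD) (dsc_mul_left hD) (dsc_mul_right hD))
  have hMM : M' = M := by
    apply CoxeterMatrix.ext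
    funext i j
    rw [hM' i j, sig_order hD i j]
    exact (hM i j).symm
  subst hMM
  refine ⟨cs.mulEquiv.toMonoidHom.comp (QuotientGroup.mk' (HN D F)), ?_, ?_, ?_⟩
  · exact cs.mulEquiv.surjective.comp (QuotientGroup.mk'_surjective _)
  · ext x
    rw [MonoidHom.mem_ker]
    show cs.mulEquiv (QuotientGroup.mk x) = 1 ↔ x ∈ HN D F
    rw [MulEquiv.map_eq_one_iff, QuotientGroup.eq_one_iff]
  · intro i g hg
    have hgi : g = nW hD [i] := by
      apply Subtype.ext
      apply Units.ext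
      rw [hg]
      show _ = ((wordN hD [i.val] : GL D.Idx F) : Matrix D.Idx D.Idx F)
      rw [wordN_cons, wordN_nil, mul_one, nG_val]
    show cs.mulEquiv (QuotientGroup.mk g) = _
    rw [hgi]
    have h1 : (QuotientGroup.mk (nW hD [i]) : ↥(D.monomialSubgroup F) ⧸ HN D F) = cs.simple i :=
      (hcs i).symm
    rw [h1]
    exact cs.mulEquiv.apply_symm_apply _

end CoxGrp

end Cfsg.Agent.Helper11
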