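import Cfsg.Agent.Helper11.ChevCox
import Cfsg.Prelude.Def_ChevStructure

set_option autoImplicit false

/-! Kernel checks of the Coxeter tables for the seven tabulated data. -/

namespace Cfsg.Agent.Helper11

open Cfsg.Lie

set_option maxRecDepth 100000
set_option maxHeartbeats 0
set_option Elab.async false

theorem coxOK_G2 : coxOK chevG2 = true := by decide +kernel
theorem coxOK_B2 : coxOK chevB2 = true := by decide +kernel
theorem coxOK_D4 : coxOK chevD4 = true := by decide +kernel
theorem coxOK_F4 : coxOK chevF4 = true := by decide +kernel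
theorem coxOK_E6 : coxOK chevE6 = true := by decide +kernel
theorem coxOK_E7 : coxOK chevE7 = true := by decide +kernel
theorem coxOK_E8 : coxOK chevE8 = true := by decide +kernel

theorem distOK_G2 : distOK chevG2 = true := by decide +kernel
theorem distOK_B2 : distOK chevB2 = true := by decide +kernel
theorem distOK_D4 : distOK chevD4 = true := by decide +kernel
theorem distOK_F4 : distOK chevF4 = true := by decide +kernel
theorem distOK_E6 : distOK chevE6 = true := by decide +kernel
theorem distOK_E7 : distOK chevE7 = true := by decide +kernel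
theorem distOK_E8 : distOK chevE8 = true := by decide +kernel

theorem coxOK_seven (D : ChevalleyDatum)
    (hD : D ∈ [chevG2, chevB2, chevD4, chevF4, chevE6, chevE7, chevE8]) : coxOK D = true :=
  forall_seven (P := fun D => coxOK D = true) coxOK_G2 coxOK_B2 coxOK_D4 coxOK_F4 coxOK_E6
    coxOK_E7 coxOK_E8 D hD

theorem distOK_seven (D : ChevalleyDatum)
    (hD : D ∈ [chevG2, chevB2, chevD4, chevF4, chevE6, chevE7, chevE8]) : distOK D = true :=
  forall_seven (P := fun D => distOK D = true) distOK_G2 distOK_B2 distOK_D4 distOK_F4 distOK_E6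
    distOK_E7 distOK_E8 D hD

theorem coxM_G2 : ∀ i j : Fin 2, CoxeterMatrix.G₂ i j = mOf chevG2 i j := by
  intro i j; fin_cases i <;> fin_cases j <;> decide +kernel
theorem coxM_B2 : ∀ i j : Fin 2, CoxeterMatrix.B 2 i j = mOf chevB2 i j := by
  intro i j; fin_cases i <;> fin_cases j <;> decide +kernel
theorem coxM_D4 : ∀ i j : Fin 4, Cfsg.Lie.coxeterD4 i j = mOf chevD4 i j := by
  intro i j; fin_cases i <;> fin_cases j <;> decide +kernel
theorem coxM_F4 : ∀ i j : Fin 4, CoxeterMatrix.F₄ i j = mOf chevF4 i j := by
  intro i j; fin_cases i <;> fin_cases j <;> decide +kernel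
theorem coxM_E6 : ∀ i j : Fin 6, CoxeterMatrix.E₆ i j = mOf chevE6 i j := by
  intro i j; fin_cases i <;> fin_cases j <;> decide +kernel
theorem coxM_E7 : ∀ i j : Fin 7, CoxeterMatrix.E₇ i j = mOf chevE7 i j := by
  intro i j; fin_cases i <;> fin_cases j <;> decide +kernel
theorem coxM_E8 : ∀ i j : Fin 8, CoxeterMatrix.E₈ i j = mOf chevE8 i j := by
  intro i j; fin_cases i <;> fin_cases j <;> decide +kernel

end Cfsg.Agent.Helper11
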