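import Cfsg.Agent.Helper11.ChevCalc

set_option autoImplicit false

/-!
Kernel-efficient versions of the symbolic calculus of `ChevCalc`: list functions written with raw
recursors, and the tables of a Chevalley datum packed into big natural numbers (constant-time lookups
by shifting), together with the proofs that they agree with the specification versions.
-/

namespace Cfsg.Agent.Helper11

open Cfsg.Lie

section Prims
universe u v
variable {α : Type u} {β : Type v}

noncomputable def mapR (f : α → β) (l : List α) : List β :=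
  @List.rec α (fun _ => List β) [] (fun a _ ih => f a :: ih) l
noncomputable def appR (l m : List α) : List α :=
  @List.rec α (fun _ => List α) m (fun a _ ih => a :: ih) l
noncomputable def allN (n : ℕ) (p : ℕ → Bool) : Bool :=
  @Nat.rec (fun _ => Bool) true (fun k ih => cond (p k) ih false) n

theorem mapR_eq (f : α → β) (l : List α) : mapR f l = l.map f := by
  induction l with
  | nil => rfl
  | cons a l ih => show f a :: mapR f l = _; rw [ih]; rfl

theorem appR_eq (l m : List α) : appR l m = l ++ m := by
  induction l with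
  | nil => rfl
  | cons a l ih => show a :: appR l m = _; rw [ih]; rfl

theorem allN_spec (n : ℕ) (p : ℕ → Bool) : allN n p = true ↔ ∀ k < n, p k = true := by
  induction n with
  | zero => exact ⟨fun _ k hk => absurd hk (Nat.not_lt_zero k), fun _ => rfl⟩
  | succ n ih =>
    have e : allN (n + 1) p = cond (p n) (allN n p) false := rfl
    rw [e]
    constructor
    · intro h k hk
      cases hp : p n with
      | false => rw [hp] at h; exact absurd h (by simp)
      | true =>
        rw [hp] at h
        rcases Nat.lt_succ_iff_lt_or_eq.mp hk with h1 | h1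
        · exact ih.mp h k h1
        · rw [h1]; exact hp
    · intro h
      rw [h n (Nat.lt_succ_self n)]
      exact ih.mpr (fun k hk => h k (Nat.lt_succ_of_lt hk))

/-- `p (a + j)` for all `j < k`. -/
noncomputable def allRange (a k : ℕ) (p : ℕ → Bool) : Bool := allN k (fun j => p (Nat.add a j))

theorem allRange_spec (a k : ℕ) (p : ℕ → Bool) (h : allRange a k p = true) (r : ℕ) (h1 : a ≤ r)
    (h2 : r < a + k) : p r = true := by
  have := (allN_spec _ _).mp h (r - a) (by omega)
  have e : Nat.add a (r - a) = r := by show a + (r - a) = r; omega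
  rw [e] at this
  exact this

theorem nat_sub_eq (a b : ℕ) : Nat.sub a b = a - b := rfl
theorem nat_add_eq (a b : ℕ) : Nat.add a b = a + b := rfl

theorem beq_iff (a b : ℕ) : Nat.beq a b = true ↔ a = b :=
  ⟨Nat.eq_of_beq_eq_true, fun h => h ▸ Nat.beq_refl a⟩

theorem beq_false_of_ne {a b : ℕ} (h : a ≠ b) : Nat.beq a b = false := by
  cases hb : Nat.beq a b with
  | false => rfl
  | true => exact absurd ((beq_iff a b).mp hb) h

theorem blt_iff (a b : ℕ) : Nat.blt a b = true ↔ a < b := by
  rw [Nat.blt_eq]

theorem blt_false_of_not {a b : ℕ} (h : ¬ a < b) : Nat.blt a b = false := by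
  cases hb : Nat.blt a b with
  | false => rfl
  | true => exact absurd ((blt_iff a b).mp hb) h

end Prims

/-! ### Packed tables -/

/-- The `i`-th field of width `W` bits of a packed table. -/
def fget (big W i : ℕ) : ℕ := Nat.mod (Nat.shiftRight big (Nat.mul W i)) (Nat.pow 2 W)

noncomputable def encChain (l : List (ℕ × ℤ)) : ℕ :=
  @List.rec (ℕ × ℤ) (fun _ => ℕ) 0
    (fun x _ ih => Nat.add (Nat.add (Nat.add x.1 1) (Nat.mul 512 (Int.toNat (Int.add x.2 8)))) (Nat.mul 8192 ih)) l

noncomputable def rowPack (row : List (ℕ × Array (ℕ × ℤ))) : ℕ :=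
  @List.rec (ℕ × Array (ℕ × ℤ)) (fun _ => ℕ) 0
    (fun e _ ih => Nat.add ih (Nat.shiftLeft (encChain e.2.toList) (Nat.mul 40 e.1))) row

noncomputable def chainBig (D : ChevalleyDatum) : ℕ :=
  @List.rec (Array (ℕ × Array (ℕ × ℤ))) (fun _ => ℕ) 0
    (fun row _ ih => Nat.add (rowPack row.toList) (Nat.shiftLeft ih (Nat.mul 40 D.nroots))) D.chain.toList

noncomputable def decCol (rank : ℕ) (fuel : ℕ) : ℕ → ℕ → List (ℕ × ℕ × ℤ) :=
  @Nat.rec (fun _ => ℕ → ℕ → List (ℕ × ℕ × ℤ)) (fun _ _ => [])
    (fun _ ih c k => cond (Nat.beq c 0) []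
      ((Nat.add rank (Nat.sub (Nat.mod c 512) 1), k, Int.subNatNat (Nat.mod (Nat.div c 512) 16) 8) ::
        ih (Nat.div c 8192) (Nat.add k 1))) fuel

noncomputable def chainCol (D : ChevalleyDatum) (r s : ℕ) : List (ℕ × ℕ × ℤ) :=
  decCol D.rank 3 (fget (fget (chainBig D) (Nat.mul 40 D.nroots) r) 40 s) 1

noncomputable def negBig (D : ChevalleyDatum) : ℕ :=
  @List.rec ℕ (fun _ => ℕ) 0 (fun x _ ih => Nat.add x (Nat.mul 512 ih)) D.negIdx.toList

noncomputable def negAt (D : ChevalleyDatum) (r : ℕ) : ℕ := fget (negBig D) 9 r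

noncomputable def packInts (l : List ℤ) : ℕ :=
  @List.rec ℤ (fun _ => ℕ) 0 (fun x _ ih => Nat.add (Int.toNat (Int.add x 8)) (Nat.mul 16 ih)) l

noncomputable def cartBig (D : ChevalleyDatum) : ℕ :=
  @List.rec (Array ℤ) (fun _ => ℕ) 0
    (fun row _ ih => Nat.add (packInts row.toList) (Nat.shiftLeft ih (Nat.mul 4 D.nroots))) D.cartanSR.toList

noncomputable def cartAt (D : ChevalleyDatum) (i r : ℕ) : ℤ :=
  Int.subNatNat (fget (fget (cartBig D) (Nat.mul 4 D.nroots) i) 4 r) 8

noncomputable def corBig (D : ChevalleyDatum) : ℕ :=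
  @List.rec (Array ℤ) (fun _ => ℕ) 0
    (fun row _ ih => Nat.add (packInts row.toList) (Nat.shiftLeft ih (Nat.mul 4 D.rank))) D.coroot.toList

noncomputable def corAt (D : ChevalleyDatum) (r i : ℕ) : ℤ :=
  Int.subNatNat (fget (fget (corBig D) (Nat.mul 4 D.rank) r) 4 i) 8

noncomputable def corCol (D : ChevalleyDatum) (r : ℕ) : List (ℕ × ℕ × ℤ) :=
  appR (mapR (fun i => (i, 1, corAt D r i)) (List.range D.rank)) [(Nat.add D.rank r, 2, -1)]

/-- Fast version of `colN`. -/
noncomputable def colF (D : ChevalleyDatum) (r v : ℕ) : List (ℕ × ℕ × ℤ) :=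
  cond (Nat.blt v D.rank) [(Nat.add D.rank r, 1, Int.neg (cartAt D v r))]
    (cond (Nat.beq (Nat.sub v D.rank) r) []
      (cond (Nat.beq (Nat.sub v D.rank) (negAt D r)) (corCol D r)
        (cond (Nat.blt (Nat.sub v D.rank) D.nroots) (chainCol D r (Nat.sub v D.rank)) [])))

noncomputable def negOK (D : ChevalleyDatum) : Bool :=
  allN D.nroots (fun r => Nat.beq (negAt D r) (D.negIdx.getD r 0))

noncomputable def cartOK (D : ChevalleyDatum) : Bool :=
  allN D.rank (fun i => allN D.nroots (fun r => decide (cartAt D i r = (D.cartanSR.getD i #[]).getD r 0)))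

noncomputable def corOK (D : ChevalleyDatum) : Bool :=
  allN D.nroots (fun r => allN D.rank (fun i => decide (corAt D r i = (D.coroot.getD r #[]).getD i 0)))

noncomputable def chainOKF (D : ChevalleyDatum) : Bool :=
  allN D.nroots (fun r => decide (
    (List.range D.nroots).filterMap
        (fun s => if (chainCol D r s).isEmpty then none else some (s, chainCol D r s)) =
      (D.chain.getD r #[]).toList.map
        (fun e => (e.1, e.2.toList.zipIdx.map (fun q => (D.rank + q.1.1, q.2 + 1, q.1.2))))))

noncomputable def tabOK (D : ChevalleyDatum) : Bool :=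
  negOK D && (cartOK D && (corOK D && chainOKF D))

section TabLemmas

theorem filterMap_range_lookup {γ : Type} (c : ℕ → List γ) (n s : ℕ) :
    ((((List.range n).filterMap (fun s => if (c s).isEmpty then none else some (s, c s))).filter
      (fun e => decide (e.1 = s))).flatMap Prod.snd) = if s < n then c s else [] := by
  induction n with
  | zero => simp
  | succ n ih =>
    rw [List.range_succ, List.filterMap_append, List.filter_append, List.flatMap_append, ih]
    have hs : ([n].filterMap (fun s => if (c s).isEmpty then none else some (s, c s))) =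
        if (c n).isEmpty then [] else [(n, c n)] := by
      cases hb : (c n).isEmpty with
      | true => rw [List.filterMap_cons, List.filterMap_nil]; simp only [hb, ↓reduceIte]
      | false =>
        rw [List.filterMap_cons, List.filterMap_nil]; simp only [hb, Bool.false_eq_true, ↓reduceIte]
    rw [hs]
    by_cases h2 : (c n).isEmpty
    · rw [if_pos h2]
      have hcn : c n = [] := List.isEmpty_iff.mp h2
      simp only [List.filter_nil, List.flatMap_nil, List.append_nil]
      by_cases h1 : s < n
      · rw [if_pos h1, if_pos (by omega)]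
      · rw [if_neg h1]
        by_cases h3 : s = n
        · subst h3; rw [if_pos (by omega), hcn]
        · rw [if_neg (by omega)]
    · rw [if_neg h2]
      by_cases h3 : n = s
      · subst h3
        rw [List.filter_cons_of_pos (by simp), List.filter_nil, if_neg (by omega), if_pos (by omega)]
        simp
      · rw [List.filter_cons_of_neg (by simpa using h3), List.filter_nil]
        simp only [List.flatMap_nil, List.append_nil]
        by_cases h1 : s < n
        · rw [if_pos h1, if_pos (by omega)]
        · rw [if_neg h1, if_neg (by omega)]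

variable {D : ChevalleyDatum}

theorem tabOK_neg (h : tabOK D = true) (r : ℕ) (hr : r < D.nroots) :
    negAt D r = D.negIdx.getD r 0 := by
  unfold tabOK at h
  rw [Bool.and_eq_true] at h
  have h1 := (allN_spec _ _).mp h.1 r hr
  exact (beq_iff _ _).mp h1

theorem tabOK_cart (h : tabOK D = true) (i r : ℕ) (hi : i < D.rank) (hr : r < D.nroots) :
    cartAt D i r = (D.cartanSR.getD i #[]).getD r 0 := by
  unfold tabOK at h
  simp only [Bool.and_eq_true] at h
  have h1 := (allN_spec _ _).mp ((allN_spec _ _).mp h.2.1 i hi) r hr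
  exact of_decide_eq_true h1

theorem tabOK_cor (h : tabOK D = true) (r i : ℕ) (hr : r < D.nroots) (hi : i < D.rank) :
    corAt D r i = (D.coroot.getD r #[]).getD i 0 := by
  unfold tabOK at h
  simp only [Bool.and_eq_true] at h
  have h1 := (allN_spec _ _).mp ((allN_spec _ _).mp h.2.2.1 r hr) i hi
  exact of_decide_eq_true h1

theorem tabOK_chain (h : tabOK D = true) (r s : ℕ) (hr : r < D.nroots) :
    ((D.chain.getD r #[]).toList.filter (fun e => e.1 = s)).flatMap
        (fun e => e.2.toList.zipIdx.map fun q => (D.rank + q.1.1, q.2 + 1, q.1.2)) =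
      if s < D.nroots then chainCol D r s else [] := by
  unfold tabOK at h
  simp only [Bool.and_eq_true] at h
  have h1 := of_decide_eq_true ((allN_spec _ _).mp h.2.2.2 r hr)
  rw [← filterMap_range_lookup (chainCol D r) D.nroots s, h1, List.filter_map, List.flatMap_map]
  rfl

theorem colF_eq (h : tabOK D = true) (r : ℕ) (hr : r < D.nroots) (v : ℕ) :
    colF D r v = colN D r v := by
  unfold colF colN
  simp only [nat_sub_eq, nat_add_eq]
  by_cases h1 : v < D.rank
  · rw [(blt_iff _ _).mpr h1, if_pos h1, tabOK_cart h v r h1 hr]; rfl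
  · rw [blt_false_of_not h1, if_neg h1]
    by_cases h2 : v - D.rank = r
    · rw [(beq_iff _ _).mpr h2, if_pos h2]; rfl
    · rw [beq_false_of_ne h2, if_neg h2, tabOK_neg h r hr]
      by_cases h3 : v - D.rank = D.negIdx.getD r 0
      · rw [(beq_iff _ _).mpr h3, if_pos h3]
        show corCol D r = _
        unfold corCol
        rw [appR_eq, mapR_eq]
        congr 1
        apply List.map_congr_left
        intro i hi
        rw [tabOK_cor h r i hr (List.mem_range.mp hi)]
      · rw [beq_false_of_ne h3, if_neg h3, tabOK_chain h r (v - D.rank) hr]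
        by_cases h4 : v - D.rank < D.nroots
        · rw [(blt_iff _ _).mpr h4, if_pos h4]; rfl
        · rw [blt_false_of_not h4, if_neg h4]; rfl

end TabLemmas

/-! ### The fast engine -/

noncomputable def powSel (τ p1 p2 p3 : Poly) (k : ℕ) : Poly :=
  cond (Nat.beq k 1) p1 (cond (Nat.beq k 2) p2 (cond (Nat.beq k 3) p3 (powPoly τ k)))

noncomputable def scaleF (idx : ℕ) (c : ℤ) (a b : ℕ) (p : Poly) (rest : Vec) : Vec :=
  @List.rec Mono (fun _ => Vec) rest
    (fun n _ ih => (idx, (Int.mul n.1 c, Nat.add n.2.1 a, Nat.add n.2.2 b)) :: ih) p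

noncomputable def applyColF (τ p1 p2 p3 : Poly) (x : Term) (rest : Vec) (l : List (ℕ × ℕ × ℤ)) : Vec :=
  @List.rec (ℕ × ℕ × ℤ) (fun _ => Vec) rest
    (fun e _ ih => scaleF e.1 (Int.mul e.2.2 x.2.1) x.2.2.1 x.2.2.2 (powSel τ p1 p2 p3 e.2.1) ih) l

noncomputable def applyTermF (n : ℕ) (col : ℕ → List (ℕ × ℕ × ℤ)) (τ p1 p2 p3 : Poly) (x : Term)
    (rest : Vec) : Vec :=
  cond (Nat.blt x.1 n) (x :: applyColF τ p1 p2 p3 x rest (col x.1)) (x :: rest)

noncomputable def applyXF (D : ChevalleyDatum) (r : ℕ) (τ : Poly) (v : Vec) : Vec :=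
  cond (Nat.blt r D.nroots)
    (@List.rec Term (fun _ => Vec) []
      (fun x _ ih => applyTermF (Nat.add D.rank D.nroots) (colF D r) τ (powPoly τ 1) (powPoly τ 2)
        (powPoly τ 3) x ih) v)
    v

noncomputable def applyWordF (D : ChevalleyDatum) (w : List (ℕ × Poly)) (v : Vec) : Vec :=
  @List.rec (ℕ × Poly) (fun _ => Vec) v (fun p _ ih => applyXF D p.1 p.2 ih) w

theorem powSel_eq (τ : Poly) (k : ℕ) :
    powSel τ (powPoly τ 1) (powPoly τ 2) (powPoly τ 3) k = powPoly τ k := by
  unfold powSel
  by_cases h1 : k = 1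
  · rw [(beq_iff _ _).mpr h1, h1]; rfl
  · rw [beq_false_of_ne h1]
    by_cases h2 : k = 2
    · rw [(beq_iff _ _).mpr h2, h2]; rfl
    · rw [beq_false_of_ne h2]
      by_cases h3 : k = 3
      · rw [(beq_iff _ _).mpr h3, h3]; rfl
      · rw [beq_false_of_ne h3]; rfl

theorem scaleF_eq (idx : ℕ) (c : ℤ) (a b : ℕ) (p : Poly) (rest : Vec) :
    scaleF idx c a b p rest = p.map (fun n => (idx, (n.1 * c, n.2.1 + a, n.2.2 + b))) ++ rest := by
  induction p with
  | nil => rfl
  | cons n p ih =>
    show (idx, (Int.mul n.1 c, Nat.add n.2.1 a, Nat.add n.2.2 b)) :: scaleF idx c a b p rest = _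
    rw [ih]; rfl

theorem applyCol_eq (τ : Poly) (x : Term) (rest : Vec) (l : List (ℕ × ℕ × ℤ)) :
    applyColF τ (powPoly τ 1) (powPoly τ 2) (powPoly τ 3) x rest l =
      l.flatMap (scaleCol τ x.2) ++ rest := by
  induction l with
  | nil => rfl
  | cons e l ih =>
    show scaleF e.1 (Int.mul e.2.2 x.2.1) x.2.2.1 x.2.2.2 (powSel τ _ _ _ e.2.1)
      (applyColF τ (powPoly τ 1) (powPoly τ 2) (powPoly τ 3) x rest l) = _
    rw [ih, scaleF_eq, powSel_eq, List.flatMap_cons, List.append_assoc]
    rfl

theorem applyTermF_eq (n : ℕ) (col : ℕ → List (ℕ × ℕ × ℤ)) (τ : Poly) (x : Term) (rest : Vec) :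
    applyTermF n col τ (powPoly τ 1) (powPoly τ 2) (powPoly τ 3) x rest =
      (if x.1 < n then x :: (col x.1).flatMap (scaleCol τ x.2) else [x]) ++ rest := by
  unfold applyTermF
  by_cases h : x.1 < n
  · rw [(blt_iff _ _).mpr h, if_pos h, cond_true, applyCol_eq]
    rfl
  · rw [blt_false_of_not h, if_neg h]; rfl

theorem applyXF_eq {D : ChevalleyDatum} (hT : tabOK D = true) (r : ℕ) (τ : Poly) (v : Vec) :
    applyXF D r τ v = applyX D r τ v := by
  unfold applyXF applyX
  by_cases h : r < D.nroots
  · rw [(blt_iff _ _).mpr h, if_pos h]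
    show @List.rec Term (fun _ => Vec) [] _ v = _
    induction v with
    | nil => rfl
    | cons x v ih =>
      show applyTermF (Nat.add D.rank D.nroots) (colF D r) τ _ _ _ x _ = _
      rw [ih, applyTermF_eq, List.flatMap_cons, colF_eq hT r h]
      rfl
  · rw [blt_false_of_not h, if_neg h]; rfl

theorem applyWordF_eq {D : ChevalleyDatum} (hT : tabOK D = true) (w : List (ℕ × Poly)) (v : Vec) :
    applyWordF D w v = applyWord D w v := by
  induction w with
  | nil => rfl
  | cons p w ih =>
    show applyXF D p.1 p.2 (applyWordF D w v) = applyX D p.1 p.2 (applyWord D w v)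
    rw [ih, applyXF_eq hT]

/-! ### Fast comparison -/

noncomputable def isZ (c : ℤ) : Bool := @Int.rec (fun _ => Bool) (fun n => Nat.beq n 0) (fun _ => false) c

noncomputable def insF (x : Term) (l : Vec) : Vec :=
  @List.rec Term (fun _ => Vec) [x]
    (fun y ys ih => cond (Nat.beq x.1 y.1)
      (cond (Nat.beq x.2.2.1 y.2.2.1)
        (cond (Nat.beq x.2.2.2 y.2.2.2) ((y.1, (Int.add x.2.1 y.2.1, y.2.2)) :: ys) (y :: ih))
        (y :: ih))
      (y :: ih)) l

noncomputable def allZ (l : Vec) : Bool :=
  @List.rec Term (fun _ => Bool) true (fun x _ ih => cond (isZ x.2.1) ih false) l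

noncomputable def insAll (v acc : Vec) : Vec :=
  @List.rec Term (fun _ => Vec) acc (fun x _ ih => insF x ih) v

noncomputable def insAllNeg (w acc : Vec) : Vec :=
  @List.rec Term (fun _ => Vec) acc (fun y _ ih => insF (y.1, (Int.neg y.2.1, y.2.2)) ih) w

noncomputable def vecEqF (v w : Vec) : Bool := allZ (insAllNeg w (insAll v []))

noncomputable def wordEqF (D : ChevalleyDatum) (w₁ w₂ : List (ℕ × Poly)) : Bool :=
  allN (Nat.add D.rank D.nroots) (fun v =>
    vecEqF (applyWordF D w₁ [(v, (1, 0, 0))]) (applyWordF D w₂ [(v, (1, 0, 0))]))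

section FastSound
variable {F : Type*} [Field F]

theorem isZ_eq (c : ℤ) (h : isZ c = true) : c = 0 := by
  cases c with
  | ofNat n =>
    have : Nat.beq n 0 = true := h
    rw [(beq_iff _ _).mp this]; rfl
  | negSucc n => exact absurd h (by show ¬ (false = true); simp)

theorem evalVec_insF (D : ChevalleyDatum) (t u : F) (x : Term) (l : Vec) :
    evalVec D t u (insF x l) = evalVec D t u (x :: l) := by
  induction l with
  | nil => rfl
  | cons y ys ih =>
    have e : insF x (y :: ys) = cond (Nat.beq x.1 y.1)
      (cond (Nat.beq x.2.2.1 y.2.2.1)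
        (cond (Nat.beq x.2.2.2 y.2.2.2) ((y.1, (Int.add x.2.1 y.2.1, y.2.2)) :: ys) (y :: insF x ys))
        (y :: insF x ys))
      (y :: insF x ys) := rfl
    have hno : evalVec D t u (y :: insF x ys) = evalVec D t u (x :: y :: ys) := by
      rw [evalVec_cons, ih, evalVec_cons, evalVec_cons, evalVec_cons]; abel
    rw [e]
    by_cases h1 : x.1 = y.1
    · rw [(beq_iff _ _).mpr h1]
      by_cases h2 : x.2.2.1 = y.2.2.1
      · rw [(beq_iff _ _).mpr h2]
        by_cases h3 : x.2.2.2 = y.2.2.2
        · rw [(beq_iff _ _).mpr h3]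
          show evalVec D t u ((y.1, (Int.add x.2.1 y.2.1, y.2.2)) :: ys) = _
          rw [evalVec_cons, evalVec_cons, evalVec_cons, ← add_assoc, h1, ← add_smul]
          congr 2
          have : Int.add x.2.1 y.2.1 = x.2.1 + y.2.1 := rfl
          simp only [evalMono, this, Int.cast_add, h2, h3]; ring
        · rw [beq_false_of_ne h3]; exact hno
      · rw [beq_false_of_ne h2]; exact hno
    · rw [beq_false_of_ne h1]; exact hno

theorem evalVec_allZ (D : ChevalleyDatum) (t u : F) (l : Vec) (h : allZ l = true) :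
    evalVec D t u l = 0 := by
  induction l with
  | nil => rfl
  | cons x l ih =>
    have e : allZ (x :: l) = cond (isZ x.2.1) (allZ l) false := rfl
    rw [e] at h
    cases hz : isZ x.2.1 with
    | false => rw [hz] at h; exact absurd h (by simp)
    | true =>
      rw [hz] at h
      rw [evalVec_cons, ih h, isZ_eq _ hz |> fun h0 => show evalMono t u x.2 = 0 by
        simp [evalMono, h0]]
      simp

theorem evalVec_insAll (D : ChevalleyDatum) (t u : F) (v acc : Vec) :
    evalVec D t u (insAll v acc) = evalVec D t u v + evalVec D t u acc := by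
  induction v with
  | nil => simp [insAll, evalVec_nil]
  | cons x v ih =>
    show evalVec D t u (insF x (insAll v acc)) = _
    rw [evalVec_insF, evalVec_cons, ih, evalVec_cons, add_assoc]

theorem evalVec_insAllNeg (D : ChevalleyDatum) (t u : F) (w acc : Vec) :
    evalVec D t u (insAllNeg w acc) = evalVec D t u acc - evalVec D t u w := by
  induction w with
  | nil => simp [insAllNeg, evalVec_nil]
  | cons y w ih =>
    show evalVec D t u (insF (y.1, (Int.neg y.2.1, y.2.2)) (insAllNeg w acc)) = _
    rw [evalVec_insF, evalVec_cons, ih, evalVec_cons]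
    have : evalMono t u (Int.neg y.2.1, y.2.2) = - evalMono t u y.2 := by
      have h0 : Int.neg y.2.1 = - y.2.1 := rfl
      simp [evalMono, h0]
    rw [this, neg_smul]; abel

theorem vecEqF_sound (D : ChevalleyDatum) (t u : F) (v w : Vec) (h : vecEqF v w = true) :
    evalVec D t u v = evalVec D t u w := by
  have := evalVec_allZ D t u _ h
  rw [evalVec_insAllNeg, evalVec_insAll, evalVec_nil, add_zero] at this
  exact sub_eq_zero.mp this

theorem wordEqF_sound {D : ChevalleyDatum} (hT : tabOK D = true) (w₁ w₂ : List (ℕ × Poly))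
    (h : wordEqF D w₁ w₂ = true) (t u : F) :
    D.wordMat F (evalWord t u w₁) = D.wordMat F (evalWord t u w₂) := by
  apply matrix_ext_basis
  intro v hv
  have h1 := (allN_spec _ _).mp h v hv
  have h2 := vecEqF_sound D t u _ _ h1
  rw [applyWordF_eq hT, applyWordF_eq hT] at h2
  have e : ([(v, ((1 : ℤ), 0, 0))] : Vec) = unitVec v := rfl
  rw [e, ← applyWord_sound, ← applyWord_sound, evalVec_unitVec] at h2
  exact h2

end FastSound

/-! ### Word identities, skipping the columns on which every letter acts trivially -/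

noncomputable def isNilB {α : Type} (l : List α) : Bool := @List.rec α (fun _ => Bool) true (fun _ _ _ => false) l

theorem isNilB_eq {α : Type} (l : List α) (h : isNilB l = true) : l = [] := by
  cases l with
  | nil => rfl
  | cons a l => exact absurd h (by show ¬ (false = true); simp)

noncomputable def trivW (D : ChevalleyDatum) (w : List (ℕ × Poly)) (v : ℕ) : Bool :=
  @List.rec (ℕ × Poly) (fun _ => Bool) true (fun p _ ih => cond (isNilB (colF D p.1 v)) ih false) w

theorem applyXF_triv (D : ChevalleyDatum) (r : ℕ) (τ : Poly) (x : Term) (h : colF D r x.1 = []) :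
    applyXF D r τ [x] = [x] := by
  unfold applyXF
  cases Nat.blt r D.nroots with
  | false => rfl
  | true =>
    show applyTermF (Nat.add D.rank D.nroots) (colF D r) τ _ _ _ x [] = [x]
    unfold applyTermF
    rw [h]
    cases Nat.blt x.1 (Nat.add D.rank D.nroots) <;> rfl

theorem applyWordF_triv (D : ChevalleyDatum) (w : List (ℕ × Poly)) (x : Term)
    (h : trivW D w x.1 = true) : applyWordF D w [x] = [x] := by
  induction w with
  | nil => rfl
  | cons p w ih =>
    have e : trivW D (p :: w) x.1 = cond (isNilB (colF D p.1 x.1)) (trivW D w x.1) false := rfl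
    rw [e] at h
    cases hz : isNilB (colF D p.1 x.1) with
    | false => rw [hz] at h; exact absurd h (by simp)
    | true =>
      rw [hz] at h
      show applyXF D p.1 p.2 (applyWordF D w [x]) = [x]
      rw [ih h, applyXF_triv D p.1 p.2 x (isNilB_eq _ hz)]

noncomputable def wordEqS (D : ChevalleyDatum) (w₁ w₂ : List (ℕ × Poly)) : Bool :=
  allN (Nat.add D.rank D.nroots) (fun v =>
    cond (trivW D w₁ v)
      (cond (trivW D w₂ v) true
        (vecEqF (applyWordF D w₁ [(v, (1, 0, 0))]) (applyWordF D w₂ [(v, (1, 0, 0))])))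
      (vecEqF (applyWordF D w₁ [(v, (1, 0, 0))]) (applyWordF D w₂ [(v, (1, 0, 0))])))

theorem wordEqS_sound {F : Type*} [Field F] {D : ChevalleyDatum} (hT : tabOK D = true)
    (w₁ w₂ : List (ℕ × Poly)) (h : wordEqS D w₁ w₂ = true) (t u : F) :
    D.wordMat F (evalWord t u w₁) = D.wordMat F (evalWord t u w₂) := by
  apply matrix_ext_basis
  intro v hv
  have h1 := (allN_spec _ _).mp h v hv
  have e : ([(v, ((1 : ℤ), 0, 0))] : Vec) = unitVec v := rfl
  have key : evalVec D t u (applyWordF D w₁ [(v, (1, 0, 0))]) =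
      evalVec D t u (applyWordF D w₂ [(v, (1, 0, 0))]) := by
    cases h3 : trivW D w₁ v with
    | false => rw [h3] at h1; exact vecEqF_sound D t u _ _ h1
    | true =>
      rw [h3] at h1
      cases h4 : trivW D w₂ v with
      | false => rw [h4] at h1; exact vecEqF_sound D t u _ _ h1
      | true =>
        rw [applyWordF_triv D w₁ (v, (1, 0, 0)) h3, applyWordF_triv D w₂ (v, (1, 0, 0)) h4]
  rw [applyWordF_eq hT, applyWordF_eq hT, e, ← applyWord_sound, ← applyWord_sound,
    evalVec_unitVec] at key
  exact key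

end Cfsg.Agent.Helper11
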