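import Cfsg.Agent.Helper11.ChevLvl

set_option autoImplicit false

/-!
Word identities modulo a prime: the comparison of `ChevFast` with the coefficients read modulo `p`,
sound over the fields in which `p = 0`; and the integer entries of the matrix of a word whose
parameters are constants.
-/

namespace Cfsg.Agent.Helper11

open Cfsg.Lie

/-- All the coefficients are divisible by `p`. -/
noncomputable def allZp (p : ℤ) (l : Vec) : Bool :=
  @List.rec Term (fun _ => Bool) true (fun x _ ih => cond (isZ (Int.emod x.2.1 p)) ih false) l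

noncomputable def vecEqP (p : ℤ) (v w : Vec) : Bool := allZp p (insAllNeg w (insAll v []))

noncomputable def wordEqP (p : ℤ) (D : ChevalleyDatum) (w₁ w₂ : List (ℕ × Poly)) : Bool :=
  allN (Nat.add D.rank D.nroots) (fun v =>
    cond (trivW D w₁ v)
      (cond (trivW D w₂ v) true
        (vecEqP p (applyWordF D w₁ [(v, (1, 0, 0))]) (applyWordF D w₂ [(v, (1, 0, 0))])))
      (vecEqP p (applyWordF D w₁ [(v, (1, 0, 0))]) (applyWordF D w₂ [(v, (1, 0, 0))])))

/-- The coefficient of the `i`-th basis vector in a symbolic vector (at `t = u = 1`). -/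
noncomputable def coefZ (i : ℕ) (v : Vec) : ℤ :=
  @List.rec Term (fun _ => ℤ) 0 (fun x _ ih => cond (Nat.beq x.1 i) (Int.add x.2.1 ih) ih) v

/-- Apply a word, merging like terms after each letter. -/
noncomputable def applyWordNF (D : ChevalleyDatum) (w : List (ℕ × Poly)) (v : Vec) : Vec :=
  @List.rec (ℕ × Poly) (fun _ => Vec) v (fun p _ ih => insAll (applyXF D p.1 p.2 ih) []) w

noncomputable def wordEqPN (p : ℤ) (D : ChevalleyDatum) (w₁ w₂ : List (ℕ × Poly)) : Bool :=
  allN (Nat.add D.rank D.nroots) (fun v =>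
    vecEqP p (applyWordNF D w₁ [(v, (1, 0, 0))]) (applyWordNF D w₂ [(v, (1, 0, 0))]))

section ModP
variable {F : Type*} [Field F]

theorem evalVec_allZp (D : ChevalleyDatum) (p : ℤ) (hp : ((p : ℤ) : F) = 0) (t u : F) (l : Vec)
    (h : allZp p l = true) : evalVec D t u l = 0 := by
  induction l with
  | nil => rfl
  | cons x l ih =>
    have e : allZp p (x :: l) = cond (isZ (Int.emod x.2.1 p)) (allZp p l) false := rfl
    rw [e] at h
    cases hz : isZ (Int.emod x.2.1 p) with
    | false => rw [hz] at h; exact absurd h (by simp)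
    | true =>
      rw [hz] at h
      have h0 : x.2.1 % p = 0 := isZ_eq _ hz
      obtain ⟨k, hk⟩ := Int.dvd_of_emod_eq_zero h0
      have hx : evalMono t u x.2 = 0 := by
        simp only [evalMono]
        rw [hk, Int.cast_mul, hp, zero_mul, zero_mul, zero_mul]
      rw [evalVec_cons, ih h, hx]
      simp

theorem vecEqP_sound (D : ChevalleyDatum) (p : ℤ) (hp : ((p : ℤ) : F) = 0) (t u : F) (v w : Vec)
    (h : vecEqP p v w = true) : evalVec D t u v = evalVec D t u w := by
  have := evalVec_allZp D p hp t u _ h
  rw [evalVec_insAllNeg, evalVec_insAll, evalVec_nil, add_zero] at this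
  exact sub_eq_zero.mp this

theorem wordEqP_sound {D : ChevalleyDatum} (hT : tabOK D = true) (p : ℤ) (hp : ((p : ℤ) : F) = 0)
    (w₁ w₂ : List (ℕ × Poly)) (h : wordEqP p D w₁ w₂ = true) (t u : F) :
    D.wordMat F (evalWord t u w₁) = D.wordMat F (evalWord t u w₂) := by
  apply matrix_ext_basis
  intro v hv
  have h1 := (allN_spec _ _).mp h v hv
  have e : ([(v, ((1 : ℤ), 0, 0))] : Vec) = unitVec v := rfl
  have key : evalVec D t u (applyWordF D w₁ [(v, (1, 0, 0))]) =
      evalVec D t u (applyWordF D w₂ [(v, (1, 0, 0))]) := by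
    cases h3 : trivW D w₁ v with
    | false => rw [h3] at h1; exact vecEqP_sound D p hp t u _ _ h1
    | true =>
      rw [h3] at h1
      cases h4 : trivW D w₂ v with
      | false => rw [h4] at h1; exact vecEqP_sound D p hp t u _ _ h1
      | true =>
        rw [applyWordF_triv D w₁ (v, (1, 0, 0)) h3, applyWordF_triv D w₂ (v, (1, 0, 0)) h4]
  rw [applyWordF_eq hT, applyWordF_eq hT, e, ← applyWord_sound, ← applyWord_sound,
    evalVec_unitVec] at key
  exact key

theorem evalVec_apply_one (D : ChevalleyDatum) (v : Vec) (a : D.Idx) :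
    evalVec D (1 : F) 1 v a = ((coefZ (code D a) v : ℤ) : F) := by
  induction v with
  | nil =>
    rw [evalVec_nil]
    show (0 : F) = ((0 : ℤ) : F)
    exact Int.cast_zero.symm
  | cons x v ih =>
    have e : coefZ (code D a) (x :: v) = cond (Nat.beq x.1 (code D a))
        (Int.add x.2.1 (coefZ (code D a) v)) (coefZ (code D a) v) := rfl
    rw [evalVec_cons, Pi.add_apply, Pi.smul_apply, ih, e, basisVec_apply_code, smul_eq_mul]
    by_cases h : x.1 = code D a
    · rw [(beq_iff _ _).mpr h, if_pos h.symm, cond_true]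
      have : Int.add x.2.1 (coefZ (code D a) v) = x.2.1 + coefZ (code D a) v := rfl
      rw [this, Int.cast_add]
      simp only [evalMono, one_pow, mul_one]
    · rw [beq_false_of_ne h, if_neg (fun h' => h h'.symm), cond_false, mul_zero, zero_add]

/-- The entries of the matrix of a word with constant parameters. -/
theorem wordMat_entry {D : ChevalleyDatum} (hT : tabOK D = true) (w : List (ℕ × Poly))
    (a b : D.Idx) :
    D.wordMat F (evalWord (1 : F) 1 w) a b =
      ((coefZ (code D a) (applyWordF D w [(code D b, (1, 0, 0))]) : ℤ) : F) := by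
  have e : ([(code D b, ((1 : ℤ), 0, 0))] : Vec) = unitVec (code D b) := rfl
  rw [← evalVec_apply_one, applyWordF_eq hT, e, ← applyWord_sound, evalVec_unitVec, basisVec_code,
    Matrix.mulVec_single_one]
  rfl

theorem applyWordNF_sound {D : ChevalleyDatum} (hT : tabOK D = true) (t u : F)
    (w : List (ℕ × Poly)) (v : Vec) :
    (D.wordMat F (evalWord t u w)).mulVec (evalVec D t u v) =
      evalVec D t u (applyWordNF D w v) := by
  induction w with
  | nil =>
    show (D.wordMat F (evalWord t u [])).mulVec (evalVec D t u v) = evalVec D t u v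
    simp [ChevalleyDatum.wordMat, evalWord]
  | cons p w ih =>
    have e1 : D.wordMat F (evalWord t u (p :: w)) =
        D.x F p.1 (evalPoly t u p.2) * D.wordMat F (evalWord t u w) := by
      simp [ChevalleyDatum.wordMat, evalWord]
    have e2 : applyWordNF D (p :: w) v = insAll (applyXF D p.1 p.2 (applyWordNF D w v)) [] := rfl
    rw [e1, e2, ← Matrix.mulVec_mulVec, ih, evalVec_insAll, evalVec_nil, add_zero, applyXF_eq hT,
      applyX_sound]

theorem wordEqPN_sound {D : ChevalleyDatum} (hT : tabOK D = true) (p : ℤ) (hp : ((p : ℤ) : F) = 0)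
    (w₁ w₂ : List (ℕ × Poly)) (h : wordEqPN p D w₁ w₂ = true) (t u : F) :
    D.wordMat F (evalWord t u w₁) = D.wordMat F (evalWord t u w₂) := by
  apply matrix_ext_basis
  intro v hv
  have h1 := (allN_spec _ _).mp h v hv
  have h2 := vecEqP_sound D p hp t u _ _ h1
  have e : ([(v, ((1 : ℤ), 0, 0))] : Vec) = unitVec v := rfl
  rw [e, ← applyWordNF_sound hT, ← applyWordNF_sound hT, evalVec_unitVec] at h2
  exact h2

end ModP

end Cfsg.Agent.Helper11
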