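import Cfsg.Agent.Helper11.ChevRootWordsTab
import Cfsg.Prelude.Def_ChevAutomorphisms

set_option autoImplicit false

/-!
The fundamental root elements `x_{±p_i}(t)` generate the Chevalley group; homomorphisms agreeing on
them agree; field and graph automorphisms commute.
-/

namespace Cfsg.Agent.Helper11

open Cfsg.Lie

section Gen
variable {F : Type*} [Field F] {D : ChevalleyDatum}

/-- The fundamental root elements. -/
def fundSet (hD : Seven D) : Set (GL D.Idx F) :=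
  {g | ∃ i < D.rank, ∃ t : F, g = xG hD (D.simple i) t ∨ g = xG hD (D.neg (D.simple i)) t}

theorem fundSet_le (hD : Seven D) : Subgroup.closure (fundSet (F := F) hD) ≤ D.group F := by
  rw [Subgroup.closure_le]
  rintro g ⟨i, _, t, rfl | rfl⟩
  · exact xG_mem_group hD _ t
  · exact xG_mem_group hD _ t

theorem nG_mem_fund (hD : Seven D) (i : ℕ) (hi : i < D.rank) :
    nG (F := F) hD (D.simple i) 1 ∈ Subgroup.closure (fundSet (F := F) hD) := by
  rw [nG_eq]
  have h1 : ∀ t : F, xG hD (D.simple i) t ∈ Subgroup.closure (fundSet (F := F) hD) :=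
    fun t => Subgroup.subset_closure ⟨i, hi, t, Or.inl rfl⟩
  have h2 : ∀ t : F, xG hD (D.neg (D.simple i)) t ∈ Subgroup.closure (fundSet (F := F) hD) :=
    fun t => Subgroup.subset_closure ⟨i, hi, t, Or.inr rfl⟩
  exact mul_mem (mul_mem (h1 _) (h2 _)) (h1 _)

theorem wordN_mem_fund (hD : Seven D) (v : List ℕ) (hv : ∀ i ∈ v, i < D.rank) :
    wordN (F := F) hD v ∈ Subgroup.closure (fundSet (F := F) hD) := by
  induction v with
  | nil => exact one_mem _
  | cons i rest ih =>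
    exact mul_mem (nG_mem_fund hD i (hv i List.mem_cons_self))
      (ih (fun j hj => hv j (List.mem_cons_of_mem _ hj)))

theorem xG_conj_word (hD : Seven D) (v : List ℕ) (hv : ∀ i ∈ v, i < D.rank) (s : ℕ)
    (hs : s < D.nroots) :
    ∃ ε : F, ε * ε = 1 ∧ ∀ t : F,
      xG hD (wordApply D v s) t = wordN hD v * xG hD s (ε * t) * (wordN hD v)⁻¹ := by
  obtain ⟨_, ε, hε, hc⟩ := wordN_conj (F := F) hD v hv s hs
  refine ⟨ε, hε, fun t => ?_⟩
  rw [hc, ← mul_assoc, hε, one_mul]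

theorem xG_mem_fund (hD : Seven D) (hW : RootWords D) (r : ℕ) (hr : r < D.nroots) (t : F) :
    xG hD r t ∈ Subgroup.closure (fundSet (F := F) hD) := by
  obtain ⟨v, j, hv, hj, rfl⟩ := hW r hr
  obtain ⟨ε, _, hc⟩ := xG_conj_word (F := F) hD v hv (D.simple j) (simple_lt7 hD j hj)
  rw [hc]
  have hw := wordN_mem_fund (F := F) hD v hv
  exact mul_mem (mul_mem hw (Subgroup.subset_closure ⟨j, hj, _, Or.inl rfl⟩)) (inv_mem hw)

theorem group_eq_fund (hD : Seven D) (hW : RootWords D) :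
    D.group F = Subgroup.closure (fundSet (F := F) hD) := by
  apply le_antisymm _ (fundSet_le hD)
  unfold ChevalleyDatum.group
  rw [Subgroup.closure_le]
  rintro g ⟨r, t, hg⟩
  have : g = xG hD r.val t := by
    apply eq_xG
    rw [hg]; unfold ChevalleyDatum.x; rw [dif_pos r.isLt]
  rw [this]
  exact xG_mem_fund hD hW r.val r.isLt t

/-- Two endomorphisms of the Chevalley group that agree on the fundamental root elements agree. -/
theorem hom_ext_fund (hD : Seven D) (hW : RootWords D) (a b : ↥(D.group F) →* ↥(D.group F))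
    (h : ∀ g ∈ fundSet (F := F) hD, ∀ hg : g ∈ D.group F, a ⟨g, hg⟩ = b ⟨g, hg⟩)
    (y : ↥(D.group F)) : a y = b y := by
  have hle := fundSet_le (F := F) hD
  have key : ∀ x ∈ Subgroup.closure (fundSet (F := F) hD),
      ∀ hx' : x ∈ D.group F, a ⟨x, hx'⟩ = b ⟨x, hx'⟩ := by
    intro x hx
    induction hx using Subgroup.closure_induction with
    | mem x hx => exact h x hx
    | one =>
      intro h1
      have e : (⟨1, h1⟩ : ↥(D.group F)) = 1 := rfl
      rw [e, map_one, map_one]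
    | mul x y hx hy ihx ihy =>
      intro h'
      have e : (⟨x * y, h'⟩ : ↥(D.group F)) = ⟨x, hle hx⟩ * ⟨y, hle hy⟩ := rfl
      rw [e, map_mul, map_mul, ihx, ihy]
    | inv x hx ih =>
      intro h'
      have e : (⟨x⁻¹, h'⟩ : ↥(D.group F)) = (⟨x, hle hx⟩ : ↥(D.group F))⁻¹ := rfl
      rw [e, map_inv, map_inv, ih]
  exact key y.1 (by rw [← group_eq_fund hD hW]; exact y.2) y.2

/-- A field automorphism commutes with a graph automorphism. -/
theorem field_graph_comm (hD : Seven D) (f g : ↥(D.group F) ≃* ↥(D.group F))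
    (hf : D.IsFieldAut f) (hg : D.IsGraphAut g) (y : ↥(D.group F)) : f (g y) = g (f y) := by
  obtain ⟨σ, hσ⟩ := hf
  obtain ⟨π, _, hπ⟩ := hg
  have main := hom_ext_fund hD (rootWords7 D hD) (f.toMonoidHom.comp g.toMonoidHom)
    (g.toMonoidHom.comp f.toMonoidHom) ?_ y
  · exact main
  rintro x ⟨i, hi, t, rfl | rfl⟩ hx
  · show f (g ⟨_, hx⟩) = g (f ⟨_, hx⟩)
    have h1 := (hπ ⟨xG hD (D.simple i) t, hx⟩ ⟨i, hi⟩ t).1 rfl
    have h2 := hσ (g ⟨xG hD (D.simple i) t, hx⟩) _ _ (simple_lt7 hD _ (π ⟨i, hi⟩).isLt) h1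
    have h3 := hσ ⟨xG hD (D.simple i) t, hx⟩ (D.simple i) t (simple_lt7 hD i hi) rfl
    have h4 := (hπ (f ⟨xG hD (D.simple i) t, hx⟩) ⟨i, hi⟩ (σ t)).1 h3
    rw [map_pow] at h2
    exact Subtype.ext (Units.ext (h2.trans h4.symm))
  · show f (g ⟨_, hx⟩) = g (f ⟨_, hx⟩)
    have h1 := (hπ ⟨xG hD (D.neg (D.simple i)) t, hx⟩ ⟨i, hi⟩ t).2 rfl
    have h2 := hσ (g ⟨xG hD (D.neg (D.simple i)) t, hx⟩) _ _
      (neg_lt7 hD _ (simple_lt7 hD _ (π ⟨i, hi⟩).isLt)) h1
    have h3 := hσ ⟨xG hD (D.neg (D.simple i)) t, hx⟩ (D.neg (D.simple i)) t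
      (neg_lt7 hD _ (simple_lt7 hD i hi)) rfl
    have h4 := (hπ (f ⟨xG hD (D.neg (D.simple i)) t, hx⟩) ⟨i, hi⟩ (σ t)).2 h3
    rw [map_pow] at h2
    exact Subtype.ext (Units.ext (h2.trans h4.symm))

end Gen

end Cfsg.Agent.Helper11
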