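import Cfsg.Agent.Helper11.ChevRootWords2

set_option autoImplicit false
set_option maxRecDepth 100000
set_option maxHeartbeats 0
set_option Elab.async false

/-! Generated tables for generation by `N` and one or two root subgroups (tools/gen_gen.py). -/

namespace Cfsg.Agent.Helper11

open Cfsg.Lie

noncomputable def baseW2_B2 : List (List ℕ × ℕ) := [([0, 1], 4), ([1, 0], 5), ([0], 5), ([1], 4), ([], 4), ([], 5), ([1], 5), ([0], 4)]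

theorem baseWords2_B2 : BaseWords chevB2 (fun s => Nat.beq s 5 || Nat.beq s 4) :=
  baseWordsAux_spec _ _ baseW2_B2 (by decide +kernel)

theorem pair_B2 : pairOK chevB2 0 1 = true := by decide +kernel

noncomputable def baseW2_F4 : List (List ℕ × ℕ) := [([3, 2, 1, 2, 3, 0, 1, 2], 25), ([2, 1, 2, 3, 0, 1, 2], 25), ([1, 2, 3, 0, 1, 2], 25), ([0, 1, 2, 3, 1, 2, 0, 1], 27), ([2, 3, 0, 1, 2], 25), ([3, 0, 1, 2], 25), ([0, 1, 2], 25), ([1, 2, 3, 1, 2, 0, 1], 27), ([2, 3, 1, 2, 0, 1], 27), ([3, 1, 2, 0, 1], 27), ([1, 2, 0, 1], 27), ([3, 2, 0, 1], 27), ([2, 0, 1], 27), ([0, 1], 27), ([0, 1, 0], 27), ([2, 3, 1, 2], 25), ([3, 1, 2], 25), ([1, 2], 25), ([3, 2, 1], 27), ([2, 1], 27), ([1], 27), ([3, 2], 25), ([2], 25), ([2,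 3, 2], 25), ([2, 3], 25), ([], 25), ([3], 25), ([], 27), ([2], 27), ([3, 2], 27), ([1], 25), ([3, 1], 25), ([2, 3, 1], 25), ([1, 0], 27), ([0], 27), ([2, 0], 27), ([3, 2, 0], 27), ([1, 2, 0], 27), ([3, 1, 2, 0], 27), ([2, 3, 1, 2, 0], 27), ([1, 2, 3, 1, 2, 0], 27), ([0, 1], 25), ([3, 0, 1], 25), ([2, 3, 0, 1], 25), ([0, 1, 2, 3, 1, 2, 0], 27), ([1, 2, 3, 0, 1], 25), ([2, 1, 2, 3, 0, 1], 25), ([3, 2, 1, 2, 3, 0, 1], 25)]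

theorem baseWords2_F4 : BaseWords chevF4 (fun s => Nat.beq s 27 || Nat.beq s 25) :=
  baseWordsAux_spec _ _ baseW2_F4 (by decide +kernel)

theorem pair_F4 : pairOK chevF4 1 2 = true := by decide +kernel

noncomputable def baseW2_G2 : List (List ℕ × ℕ) := [([1, 0, 1], 6), ([0, 1], 6), ([0, 1, 0], 7), ([1, 0], 7), ([0], 7), ([1], 6), ([], 6), ([], 7), ([1], 7), ([0, 1], 7), ([0], 6), ([1, 0], 6)]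

theorem baseWords2_G2 : BaseWords chevG2 (fun s => Nat.beq s 7 || Nat.beq s 6) :=
  baseWordsAux_spec _ _ baseW2_G2 (by decide +kernel)

theorem pair_G2 : pairOK chevG2 0 1 = true := by decide +kernel

noncomputable def gen1W_D4 : List (List ℕ × ℕ) := [([1, 3, 2, 1, 0], 18), ([3, 2, 1, 0], 18), ([2, 1, 0], 18), ([3, 1, 0], 18), ([1, 0], 18), ([0], 18), ([3, 2, 0, 1, 0], 18), ([2, 0, 1, 0], 18), ([3, 0, 1, 0], 18), ([0, 1, 0], 18), ([1, 2, 0, 1, 0], 18), ([1, 3, 0, 1, 0], 18), ([1, 3, 0, 1], 18), ([1, 2, 0, 1], 18), ([0, 1], 18), ([3, 0, 1], 18), ([2, 0, 1], 18), ([3, 2, 0, 1], 18), ([], 18), ([1], 18), ([3, 1], 18), ([2, 1], 18), ([3, 2, 1], 18), ([1, 3, 2, 1], 18)]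

noncomputable def gen1U_D4 : List (List ℕ) := [[], [1, 0], [1, 0, 2, 1], [1, 0, 3, 1]]

theorem gen1OK_D4 : gen1OK chevD4 18 gen1W_D4 gen1U_D4 = true := by decide +kernel

noncomputable def gen1W_E6 : List (List ℕ × ℕ) := [([1, 3, 4, 5, 2, 3, 4, 1, 3, 2, 0], 56), ([3, 4, 5, 2, 3, 4, 1, 3, 2, 0], 56), ([4, 5, 2, 3, 4, 1, 3, 2, 0], 56), ([5, 2, 3, 4, 1, 3, 2, 0], 56), ([2, 3, 4, 1, 3, 2, 0], 56), ([4, 5, 3, 4, 1, 3, 2, 0], 56), ([5, 3, 4, 1, 3, 2, 0], 56), ([3, 4, 1, 3, 2, 0], 56), ([5, 4, 1, 3, 2, 0], 56), ([4, 1, 3, 2, 0], 56), ([1, 3, 2, 0], 56), ([5, 4, 3, 2, 0], 56), ([4, 3, 2, 0], 56), ([3, 2, 0], 56), ([2, 0], 56), ([0], 56), ([4, 5, 3, 4, 1, 3, 0, 2, 0], 56), ([5, 3, 4, 1, 3, 0, 2, 0], 56), ([3, 4, 1, 3,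 0, 2, 0], 56), ([5, 4, 1, 3, 0, 2, 0], 56), ([4, 1, 3, 0, 2, 0], 56), ([1, 3, 0, 2, 0], 56), ([5, 4, 2, 1, 3, 0, 2, 0], 56), ([4, 2, 1, 3, 0, 2, 0], 56), ([2, 1, 3, 0, 2, 0], 56), ([3, 2, 1, 3, 0, 2, 0], 56), ([5, 4, 3, 0, 2, 0], 56), ([4, 3, 0, 2, 0], 56), ([3, 0, 2, 0], 56), ([0, 2, 0], 56), ([5, 4, 2, 3, 0, 2, 0], 56), ([4, 2, 3, 0, 2, 0], 56), ([2, 3, 0, 2, 0], 56), ([5, 3, 4, 2, 3, 0, 2, 0], 56), ([3, 4, 2, 3, 0, 2, 0], 56), ([4, 5, 3, 4, 2, 3, 0, 2, 0], 56), ([4, 5, 3, 4, 2, 3, 0, 2], 56), ([3, 4, 2, 3, 0, 2], 56), ([5, 3, 4, 2, 3, 0, 2], 56), ([2, 3, 0, 2], 56), ([4, 2, 3, 0, 2], 56), ([5, 4, 2, 3, 0, 2], 56), ([0, 2], 56), ([3, 0, 2], 56), ([4, 3, 0, 2], 56), ([5, 4, 3, 0, 2], 56), ([3, 2, 1, 3, 0, 2], 56),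 ([2, 1, 3, 0, 2], 56), ([4, 2, 1, 3, 0, 2], 56), ([5, 4, 2, 1, 3, 0, 2], 56), ([1, 3, 0, 2], 56), ([4, 1, 3, 0, 2], 56), ([5, 4, 1, 3, 0, 2], 56), ([3, 4, 1, 3, 0, 2], 56), ([5, 3, 4, 1, 3, 0, 2], 56), ([4, 5, 3, 4, 1, 3, 0, 2], 56), ([], 56), ([2], 56), ([3, 2], 56), ([4, 3, 2], 56), ([5, 4, 3, 2], 56), ([1, 3, 2], 56), ([4, 1, 3, 2], 56), ([5, 4, 1, 3, 2], 56), ([3, 4, 1, 3, 2], 56), ([5, 3, 4, 1, 3, 2], 56), ([4, 5, 3, 4, 1, 3, 2], 56), ([2, 3, 4, 1, 3, 2], 56), ([5, 2, 3, 4, 1, 3, 2], 56), ([4, 5, 2, 3, 4, 1, 3, 2], 56), ([3, 4, 5, 2, 3, 4, 1, 3, 2], 56), ([1, 3, 4, 5, 2, 3, 4, 1, 3, 2], 56)]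

noncomputable def gen1U_E6 : List (List ℕ) := [[], [2, 0, 3, 1, 2, 3], [2, 0], [2, 0, 3, 2], [2, 0, 3, 2, 4, 3], [2, 0, 3, 2, 4, 3, 5, 4]]

theorem gen1OK_E6 : gen1OK chevE6 56 gen1W_E6 gen1U_E6 = true := by decide +kernel

noncomputable def gen1W_E7 : List (List ℕ × ℕ) := [([0, 2, 3, 4, 5, 6, 1, 3, 4, 5, 2, 3, 4, 1, 3, 2, 0], 93), ([2, 3, 4, 5, 6, 1, 3, 4, 5, 2, 3, 4, 1, 3, 2, 0], 93), ([3, 4, 5, 6, 1, 3, 4, 5, 2, 3, 4, 1, 3, 2, 0], 93), ([4, 5, 6, 1, 3, 4, 5, 2, 3, 4, 1, 3, 2, 0], 93), ([5, 6, 1, 3, 4, 5, 2, 3, 4, 1, 3, 2, 0], 93), ([6, 1, 3, 4, 5, 2, 3, 4, 1, 3, 2, 0], 93), ([1, 3, 4, 5, 2, 3, 4, 1, 3, 2, 0], 93), ([4, 5, 6, 3, 4, 5, 2, 3, 4, 1, 3, 2, 0], 93), ([5, 6, 3, 4, 5, 2, 3, 4, 1, 3, 2, 0], 93), ([6,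 3, 4, 5, 2, 3, 4, 1, 3, 2, 0], 93), ([3, 4, 5, 2, 3, 4, 1, 3, 2, 0], 93), ([5, 6, 4, 5, 2, 3, 4, 1, 3, 2, 0], 93), ([6, 4, 5, 2, 3, 4, 1, 3, 2, 0], 93), ([4, 5, 2, 3, 4, 1, 3, 2, 0], 93), ([6, 5, 2, 3, 4, 1, 3, 2, 0], 93), ([5, 2, 3, 4, 1, 3, 2, 0], 93), ([2, 3, 4, 1, 3, 2, 0], 93), ([5, 6, 4, 5, 3, 4, 1, 3, 2, 0], 93), ([6, 4, 5, 3, 4, 1, 3, 2, 0], 93), ([4, 5, 3, 4, 1, 3, 2, 0], 93), ([6, 5, 3, 4, 1, 3, 2, 0], 93), ([5, 3, 4, 1, 3, 2, 0], 93), ([3, 4, 1, 3, 2, 0], 93), ([6, 5, 4, 1, 3, 2, 0], 93), ([5, 4, 1, 3, 2, 0], 93), ([4, 1, 3, 2, 0], 93), ([1, 3, 2, 0], 93), ([6, 5, 4, 3, 2, 0], 93), ([5, 4, 3, 2, 0], 93), ([4, 3, 2, 0], 93), ([3, 2, 0], 93), ([2, 0], 93), ([0], 93), ([5, 6, 4, 5, 3, 4, 1, 3, 0, 2, 0],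 93), ([6, 4, 5, 3, 4, 1, 3, 0, 2, 0], 93), ([4, 5, 3, 4, 1, 3, 0, 2, 0], 93), ([6, 5, 3, 4, 1, 3, 0, 2, 0], 93), ([5, 3, 4, 1, 3, 0, 2, 0], 93), ([3, 4, 1, 3, 0, 2, 0], 93), ([6, 5, 4, 1, 3, 0, 2, 0], 93), ([5, 4, 1, 3, 0, 2, 0], 93), ([4, 1, 3, 0, 2, 0], 93), ([1, 3, 0, 2, 0], 93), ([6, 5, 4, 2, 1, 3, 0, 2, 0], 93), ([5, 4, 2, 1, 3, 0, 2, 0], 93), ([4, 2, 1, 3, 0, 2, 0], 93), ([2, 1, 3, 0, 2, 0], 93), ([3, 2, 1, 3, 0, 2, 0], 93), ([6, 5, 4, 3, 0, 2, 0], 93), ([5, 4, 3, 0, 2, 0], 93), ([4, 3, 0, 2, 0], 93), ([3, 0, 2, 0], 93), ([0, 2, 0], 93), ([6, 5, 4, 2, 3, 0, 2, 0], 93), ([5, 4, 2, 3, 0, 2, 0], 93), ([4, 2, 3, 0, 2, 0], 93), ([2, 3, 0, 2, 0], 93), ([6, 5, 3, 4, 2, 3, 0, 2, 0], 93), ([5, 3, 4, 2, 3, 0, 2, 0],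 93), ([3, 4, 2, 3, 0, 2, 0], 93), ([6, 4, 5, 3, 4, 2, 3, 0, 2, 0], 93), ([4, 5, 3, 4, 2, 3, 0, 2, 0], 93), ([5, 6, 4, 5, 3, 4, 2, 3, 0, 2, 0], 93), ([5, 6, 4, 5, 3, 4, 2, 3, 0, 2], 93), ([4, 5, 3, 4, 2, 3, 0, 2], 93), ([6, 4, 5, 3, 4, 2, 3, 0, 2], 93), ([3, 4, 2, 3, 0, 2], 93), ([5, 3, 4, 2, 3, 0, 2], 93), ([6, 5, 3, 4, 2, 3, 0, 2], 93), ([2, 3, 0, 2], 93), ([4, 2, 3, 0, 2], 93), ([5, 4, 2, 3, 0, 2], 93), ([6, 5, 4, 2, 3, 0, 2], 93), ([0, 2], 93), ([3, 0, 2], 93), ([4, 3, 0, 2], 93), ([5, 4, 3, 0, 2], 93), ([6, 5, 4, 3, 0, 2], 93), ([3, 2, 1, 3, 0, 2], 93), ([2, 1, 3, 0, 2], 93), ([4, 2, 1, 3, 0, 2], 93), ([5, 4, 2, 1, 3, 0, 2], 93), ([6, 5, 4, 2, 1, 3, 0, 2], 93), ([1, 3, 0, 2], 93), ([4, 1, 3, 0, 2], 93), ([5,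 4, 1, 3, 0, 2], 93), ([6, 5, 4, 1, 3, 0, 2], 93), ([3, 4, 1, 3, 0, 2], 93), ([5, 3, 4, 1, 3, 0, 2], 93), ([6, 5, 3, 4, 1, 3, 0, 2], 93), ([4, 5, 3, 4, 1, 3, 0, 2], 93), ([6, 4, 5, 3, 4, 1, 3, 0, 2], 93), ([5, 6, 4, 5, 3, 4, 1, 3, 0, 2], 93), ([], 93), ([2], 93), ([3, 2], 93), ([4, 3, 2], 93), ([5, 4, 3, 2], 93), ([6, 5, 4, 3, 2], 93), ([1, 3, 2], 93), ([4, 1, 3, 2], 93), ([5, 4, 1, 3, 2], 93), ([6, 5, 4, 1, 3, 2], 93), ([3, 4, 1, 3, 2], 93), ([5, 3, 4, 1, 3, 2], 93), ([6, 5, 3, 4, 1, 3, 2], 93), ([4, 5, 3, 4, 1, 3, 2], 93), ([6, 4, 5, 3, 4, 1, 3, 2], 93), ([5, 6, 4, 5, 3, 4, 1, 3, 2], 93), ([2, 3, 4, 1, 3, 2], 93), ([5, 2, 3, 4, 1, 3, 2], 93), ([6, 5, 2, 3, 4, 1, 3, 2], 93), ([4, 5, 2, 3, 4, 1, 3, 2], 93), ([6,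 4, 5, 2, 3, 4, 1, 3, 2], 93), ([5, 6, 4, 5, 2, 3, 4, 1, 3, 2], 93), ([3, 4, 5, 2, 3, 4, 1, 3, 2], 93), ([6, 3, 4, 5, 2, 3, 4, 1, 3, 2], 93), ([5, 6, 3, 4, 5, 2, 3, 4, 1, 3, 2], 93), ([4, 5, 6, 3, 4, 5, 2, 3, 4, 1, 3, 2], 93), ([1, 3, 4, 5, 2, 3, 4, 1, 3, 2], 93), ([6, 1, 3, 4, 5, 2, 3, 4, 1, 3, 2], 93), ([5, 6, 1, 3, 4, 5, 2, 3, 4, 1, 3, 2], 93), ([4, 5, 6, 1, 3, 4, 5, 2, 3, 4, 1, 3, 2], 93), ([3, 4, 5, 6, 1, 3, 4, 5, 2, 3, 4, 1, 3, 2], 93), ([2, 3, 4, 5, 6, 1, 3, 4, 5, 2, 3, 4, 1, 3, 2], 93), ([0, 2, 3, 4, 5, 6, 1, 3, 4, 5, 2, 3, 4, 1, 3, 2], 93)]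

noncomputable def gen1U_E7 : List (List ℕ) := [[], [2, 0, 3, 1, 2, 3], [2, 0], [2, 0, 3, 2], [2, 0, 3, 2, 4, 3], [2, 0, 3, 2, 4, 3, 5, 4], [2, 0, 3, 2, 4, 3, 5, 4, 6, 5]]

theorem gen1OK_E7 : gen1OK chevE7 93 gen1W_E7 gen1U_E7 = true := by decide +kernel

noncomputable def gen1W_E8 : List (List ℕ × ℕ) := [([7, 6, 5, 4, 3, 2, 1, 3, 4, 5, 6, 7, 0, 2, 3, 4, 5, 6, 1, 3, 4, 5, 2, 3, 4, 1, 3, 2, 0], 162), ([6, 5, 4, 3, 2, 1, 3, 4, 5, 6, 7, 0, 2, 3, 4, 5, 6, 1, 3, 4, 5, 2, 3, 4, 1, 3, 2, 0], 162), ([5, 4, 3, 2, 1, 3, 4, 5, 6, 7, 0, 2, 3, 4, 5, 6, 1, 3, 4, 5, 2, 3, 4, 1, 3, 2, 0], 162), ([4, 3, 2, 1, 3, 4, 5, 6, 7, 0, 2, 3, 4, 5, 6, 1, 3, 4, 5, 2, 3, 4, 1, 3, 2, 0], 162), ([3, 2, 1, 3, 4, 5, 6, 7, 0, 2, 3, 4, 5, 6, 1,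 3, 4, 5, 2, 3, 4, 1, 3, 2, 0], 162), ([2, 1, 3, 4, 5, 6, 7, 0, 2, 3, 4, 5, 6, 1, 3, 4, 5, 2, 3, 4, 1, 3, 2, 0], 162), ([1, 3, 4, 5, 6, 7, 0, 2, 3, 4, 5, 6, 1, 3, 4, 5, 2, 3, 4, 1, 3, 2, 0], 162), ([2, 3, 4, 5, 6, 7, 0, 2, 3, 4, 5, 6, 1, 3, 4, 5, 2, 3, 4, 1, 3, 2, 0], 162), ([3, 4, 5, 6, 7, 0, 2, 3, 4, 5, 6, 1, 3, 4, 5, 2, 3, 4, 1, 3, 2, 0], 162), ([4, 5, 6, 7, 0, 2, 3, 4, 5, 6, 1, 3, 4, 5, 2, 3, 4, 1, 3, 2, 0], 162), ([5, 6, 7, 0, 2, 3, 4, 5, 6, 1, 3, 4, 5, 2, 3, 4, 1, 3, 2, 0], 162), ([6, 7, 0, 2, 3, 4, 5, 6, 1, 3, 4, 5, 2, 3, 4, 1, 3, 2, 0], 162), ([7, 0, 2, 3, 4, 5, 6, 1, 3, 4, 5, 2, 3, 4, 1, 3, 2, 0], 162), ([0, 2, 3, 4, 5, 6, 1, 3, 4, 5, 2, 3, 4, 1, 3, 2, 0], 162), ([1, 3, 4, 5, 6, 7, 2, 3, 4, 5, 6, 1, 3, 4,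 5, 2, 3, 4, 1, 3, 2, 0], 162), ([3, 4, 5, 6, 7, 2, 3, 4, 5, 6, 1, 3, 4, 5, 2, 3, 4, 1, 3, 2, 0], 162), ([4, 5, 6, 7, 2, 3, 4, 5, 6, 1, 3, 4, 5, 2, 3, 4, 1, 3, 2, 0], 162), ([5, 6, 7, 2, 3, 4, 5, 6, 1, 3, 4, 5, 2, 3, 4, 1, 3, 2, 0], 162), ([6, 7, 2, 3, 4, 5, 6, 1, 3, 4, 5, 2, 3, 4, 1, 3, 2, 0], 162), ([7, 2, 3, 4, 5, 6, 1, 3, 4, 5, 2, 3, 4, 1, 3, 2, 0], 162), ([2, 3, 4, 5, 6, 1, 3, 4, 5, 2, 3, 4, 1, 3, 2, 0], 162), ([4, 5, 6, 7, 3, 4, 5, 6, 1, 3, 4, 5, 2, 3, 4, 1, 3, 2, 0], 162), ([5, 6, 7, 3, 4, 5, 6, 1, 3, 4, 5, 2, 3, 4, 1, 3, 2, 0], 162), ([6, 7, 3, 4, 5, 6, 1, 3, 4, 5, 2, 3, 4, 1, 3, 2, 0], 162), ([7, 3, 4, 5, 6, 1, 3, 4, 5, 2, 3, 4, 1, 3, 2, 0], 162), ([3, 4, 5, 6, 1, 3, 4, 5, 2, 3, 4, 1, 3, 2, 0], 162), ([5,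 6, 7, 4, 5, 6, 1, 3, 4, 5, 2, 3, 4, 1, 3, 2, 0], 162), ([6, 7, 4, 5, 6, 1, 3, 4, 5, 2, 3, 4, 1, 3, 2, 0], 162), ([7, 4, 5, 6, 1, 3, 4, 5, 2, 3, 4, 1, 3, 2, 0], 162), ([4, 5, 6, 1, 3, 4, 5, 2, 3, 4, 1, 3, 2, 0], 162), ([6, 7, 5, 6, 1, 3, 4, 5, 2, 3, 4, 1, 3, 2, 0], 162), ([7, 5, 6, 1, 3, 4, 5, 2, 3, 4, 1, 3, 2, 0], 162), ([5, 6, 1, 3, 4, 5, 2, 3, 4, 1, 3, 2, 0], 162), ([7, 6, 1, 3, 4, 5, 2, 3, 4, 1, 3, 2, 0], 162), ([6, 1, 3, 4, 5, 2, 3, 4, 1, 3, 2, 0], 162), ([1, 3, 4, 5, 2, 3, 4, 1, 3, 2, 0], 162), ([5, 6, 7, 4, 5, 6, 3, 4, 5, 2, 3, 4, 1, 3, 2, 0], 162), ([6, 7, 4, 5, 6, 3, 4, 5, 2, 3, 4, 1, 3, 2, 0], 162), ([7, 4, 5, 6, 3, 4, 5, 2, 3, 4, 1, 3, 2, 0], 162), ([4, 5, 6, 3, 4, 5, 2, 3, 4, 1, 3, 2, 0], 162), ([6, 7,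 5, 6, 3, 4, 5, 2, 3, 4, 1, 3, 2, 0], 162), ([7, 5, 6, 3, 4, 5, 2, 3, 4, 1, 3, 2, 0], 162), ([5, 6, 3, 4, 5, 2, 3, 4, 1, 3, 2, 0], 162), ([7, 6, 3, 4, 5, 2, 3, 4, 1, 3, 2, 0], 162), ([6, 3, 4, 5, 2, 3, 4, 1, 3, 2, 0], 162), ([3, 4, 5, 2, 3, 4, 1, 3, 2, 0], 162), ([6, 7, 5, 6, 4, 5, 2, 3, 4, 1, 3, 2, 0], 162), ([7, 5, 6, 4, 5, 2, 3, 4, 1, 3, 2, 0], 162), ([5, 6, 4, 5, 2, 3, 4, 1, 3, 2, 0], 162), ([7, 6, 4, 5, 2, 3, 4, 1, 3, 2, 0], 162), ([6, 4, 5, 2, 3, 4, 1, 3, 2, 0], 162), ([4, 5, 2, 3, 4, 1, 3, 2, 0], 162), ([7, 6, 5, 2, 3, 4, 1, 3, 2, 0], 162), ([6, 5, 2, 3, 4, 1, 3, 2, 0], 162), ([5, 2, 3, 4, 1, 3, 2, 0], 162), ([2, 3, 4, 1, 3, 2, 0], 162), ([6, 7, 5, 6, 4, 5, 3, 4, 1, 3, 2, 0], 162), ([7, 5, 6, 4, 5, 3, 4, 1,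 3, 2, 0], 162), ([5, 6, 4, 5, 3, 4, 1, 3, 2, 0], 162), ([7, 6, 4, 5, 3, 4, 1, 3, 2, 0], 162), ([6, 4, 5, 3, 4, 1, 3, 2, 0], 162), ([4, 5, 3, 4, 1, 3, 2, 0], 162), ([7, 6, 5, 3, 4, 1, 3, 2, 0], 162), ([6, 5, 3, 4, 1, 3, 2, 0], 162), ([5, 3, 4, 1, 3, 2, 0], 162), ([3, 4, 1, 3, 2, 0], 162), ([7, 6, 5, 4, 1, 3, 2, 0], 162), ([6, 5, 4, 1, 3, 2, 0], 162), ([5, 4, 1, 3, 2, 0], 162), ([4, 1, 3, 2, 0], 162), ([1, 3, 2, 0], 162), ([7, 6, 5, 4, 3, 2, 0], 162), ([6, 5, 4, 3, 2, 0], 162), ([5, 4, 3, 2, 0], 162), ([4, 3, 2, 0], 162), ([3, 2, 0], 162), ([2, 0], 162), ([0], 162), ([6, 7, 5, 6, 4, 5, 3, 4, 1, 3, 0, 2, 0], 162), ([7, 5, 6, 4, 5, 3, 4, 1, 3, 0, 2, 0], 162), ([5, 6, 4, 5, 3, 4, 1, 3, 0, 2, 0], 162), ([7, 6, 4, 5, 3,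 4, 1, 3, 0, 2, 0], 162), ([6, 4, 5, 3, 4, 1, 3, 0, 2, 0], 162), ([4, 5, 3, 4, 1, 3, 0, 2, 0], 162), ([7, 6, 5, 3, 4, 1, 3, 0, 2, 0], 162), ([6, 5, 3, 4, 1, 3, 0, 2, 0], 162), ([5, 3, 4, 1, 3, 0, 2, 0], 162), ([3, 4, 1, 3, 0, 2, 0], 162), ([7, 6, 5, 4, 1, 3, 0, 2, 0], 162), ([6, 5, 4, 1, 3, 0, 2, 0], 162), ([5, 4, 1, 3, 0, 2, 0], 162), ([4, 1, 3, 0, 2, 0], 162), ([1, 3, 0, 2, 0], 162), ([7, 6, 5, 4, 2, 1, 3, 0, 2, 0], 162), ([6, 5, 4, 2, 1, 3, 0, 2, 0], 162), ([5, 4, 2, 1, 3, 0, 2, 0], 162), ([4, 2, 1, 3, 0, 2, 0], 162), ([2, 1, 3, 0, 2, 0], 162), ([3, 2, 1, 3, 0, 2, 0], 162), ([7, 6, 5, 4, 3, 0, 2, 0], 162), ([6, 5, 4, 3, 0, 2, 0], 162), ([5, 4, 3, 0, 2, 0], 162), ([4, 3, 0, 2, 0], 162), ([3, 0, 2, 0], 162), ([0,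 2, 0], 162), ([7, 6, 5, 4, 2, 3, 0, 2, 0], 162), ([6, 5, 4, 2, 3, 0, 2, 0], 162), ([5, 4, 2, 3, 0, 2, 0], 162), ([4, 2, 3, 0, 2, 0], 162), ([2, 3, 0, 2, 0], 162), ([7, 6, 5, 3, 4, 2, 3, 0, 2, 0], 162), ([6, 5, 3, 4, 2, 3, 0, 2, 0], 162), ([5, 3, 4, 2, 3, 0, 2, 0], 162), ([3, 4, 2, 3, 0, 2, 0], 162), ([7, 6, 4, 5, 3, 4, 2, 3, 0, 2, 0], 162), ([6, 4, 5, 3, 4, 2, 3, 0, 2, 0], 162), ([4, 5, 3, 4, 2, 3, 0, 2, 0], 162), ([7, 5, 6, 4, 5, 3, 4, 2, 3, 0, 2, 0], 162), ([5, 6, 4, 5, 3, 4, 2, 3, 0, 2, 0], 162), ([6, 7, 5, 6, 4, 5, 3, 4, 2, 3, 0, 2, 0], 162), ([6, 7, 5, 6, 4, 5, 3, 4, 2, 3, 0, 2], 162), ([5, 6, 4, 5, 3, 4, 2, 3, 0, 2], 162), ([7, 5, 6, 4, 5, 3, 4, 2, 3, 0, 2], 162), ([4, 5, 3, 4, 2, 3, 0, 2], 162), ([6, 4, 5,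 3, 4, 2, 3, 0, 2], 162), ([7, 6, 4, 5, 3, 4, 2, 3, 0, 2], 162), ([3, 4, 2, 3, 0, 2], 162), ([5, 3, 4, 2, 3, 0, 2], 162), ([6, 5, 3, 4, 2, 3, 0, 2], 162), ([7, 6, 5, 3, 4, 2, 3, 0, 2], 162), ([2, 3, 0, 2], 162), ([4, 2, 3, 0, 2], 162), ([5, 4, 2, 3, 0, 2], 162), ([6, 5, 4, 2, 3, 0, 2], 162), ([7, 6, 5, 4, 2, 3, 0, 2], 162), ([0, 2], 162), ([3, 0, 2], 162), ([4, 3, 0, 2], 162), ([5, 4, 3, 0, 2], 162), ([6, 5, 4, 3, 0, 2], 162), ([7, 6, 5, 4, 3, 0, 2], 162), ([3, 2, 1, 3, 0, 2], 162), ([2, 1, 3, 0, 2], 162), ([4, 2, 1, 3, 0, 2], 162), ([5, 4, 2, 1, 3, 0, 2], 162), ([6, 5, 4, 2, 1, 3, 0, 2], 162), ([7, 6, 5, 4, 2, 1, 3, 0, 2], 162), ([1, 3, 0, 2], 162), ([4, 1, 3, 0, 2], 162), ([5, 4, 1, 3, 0, 2], 162), ([6, 5, 4, 1,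 3, 0, 2], 162), ([7, 6, 5, 4, 1, 3, 0, 2], 162), ([3, 4, 1, 3, 0, 2], 162), ([5, 3, 4, 1, 3, 0, 2], 162), ([6, 5, 3, 4, 1, 3, 0, 2], 162), ([7, 6, 5, 3, 4, 1, 3, 0, 2], 162), ([4, 5, 3, 4, 1, 3, 0, 2], 162), ([6, 4, 5, 3, 4, 1, 3, 0, 2], 162), ([7, 6, 4, 5, 3, 4, 1, 3, 0, 2], 162), ([5, 6, 4, 5, 3, 4, 1, 3, 0, 2], 162), ([7, 5, 6, 4, 5, 3, 4, 1, 3, 0, 2], 162), ([6, 7, 5, 6, 4, 5, 3, 4, 1, 3, 0, 2], 162), ([], 162), ([2], 162), ([3, 2], 162), ([4, 3, 2], 162), ([5, 4, 3, 2], 162), ([6, 5, 4, 3, 2], 162), ([7, 6, 5, 4, 3, 2], 162), ([1, 3, 2], 162), ([4, 1, 3, 2], 162), ([5, 4, 1, 3, 2], 162), ([6, 5, 4, 1, 3, 2], 162), ([7, 6, 5, 4, 1, 3, 2], 162), ([3, 4, 1, 3, 2], 162), ([5, 3, 4, 1, 3, 2], 162), ([6, 5, 3, 4,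 1, 3, 2], 162), ([7, 6, 5, 3, 4, 1, 3, 2], 162), ([4, 5, 3, 4, 1, 3, 2], 162), ([6, 4, 5, 3, 4, 1, 3, 2], 162), ([7, 6, 4, 5, 3, 4, 1, 3, 2], 162), ([5, 6, 4, 5, 3, 4, 1, 3, 2], 162), ([7, 5, 6, 4, 5, 3, 4, 1, 3, 2], 162), ([6, 7, 5, 6, 4, 5, 3, 4, 1, 3, 2], 162), ([2, 3, 4, 1, 3, 2], 162), ([5, 2, 3, 4, 1, 3, 2], 162), ([6, 5, 2, 3, 4, 1, 3, 2], 162), ([7, 6, 5, 2, 3, 4, 1, 3, 2], 162), ([4, 5, 2, 3, 4, 1, 3, 2], 162), ([6, 4, 5, 2, 3, 4, 1, 3, 2], 162), ([7, 6, 4, 5, 2, 3, 4, 1, 3, 2], 162), ([5, 6, 4, 5, 2, 3, 4, 1, 3, 2], 162), ([7, 5, 6, 4, 5, 2, 3, 4, 1, 3, 2], 162), ([6, 7, 5, 6, 4, 5, 2, 3, 4, 1, 3, 2], 162), ([3, 4, 5, 2, 3, 4, 1, 3, 2], 162), ([6, 3, 4, 5, 2, 3, 4, 1, 3, 2], 162), ([7, 6, 3, 4, 5, 2, 3,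 4, 1, 3, 2], 162), ([5, 6, 3, 4, 5, 2, 3, 4, 1, 3, 2], 162), ([7, 5, 6, 3, 4, 5, 2, 3, 4, 1, 3, 2], 162), ([6, 7, 5, 6, 3, 4, 5, 2, 3, 4, 1, 3, 2], 162), ([4, 5, 6, 3, 4, 5, 2, 3, 4, 1, 3, 2], 162), ([7, 4, 5, 6, 3, 4, 5, 2, 3, 4, 1, 3, 2], 162), ([6, 7, 4, 5, 6, 3, 4, 5, 2, 3, 4, 1, 3, 2], 162), ([5, 6, 7, 4, 5, 6, 3, 4, 5, 2, 3, 4, 1, 3, 2], 162), ([1, 3, 4, 5, 2, 3, 4, 1, 3, 2], 162), ([6, 1, 3, 4, 5, 2, 3, 4, 1, 3, 2], 162), ([7, 6, 1, 3, 4, 5, 2, 3, 4, 1, 3, 2], 162), ([5, 6, 1, 3, 4, 5, 2, 3, 4, 1, 3, 2], 162), ([7, 5, 6, 1, 3, 4, 5, 2, 3, 4, 1, 3, 2], 162), ([6, 7, 5, 6, 1, 3, 4, 5, 2, 3, 4, 1, 3, 2], 162), ([4, 5, 6, 1, 3, 4, 5, 2, 3, 4, 1, 3, 2], 162), ([7, 4, 5, 6, 1, 3, 4, 5, 2, 3, 4, 1, 3, 2], 162),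 ([6, 7, 4, 5, 6, 1, 3, 4, 5, 2, 3, 4, 1, 3, 2], 162), ([5, 6, 7, 4, 5, 6, 1, 3, 4, 5, 2, 3, 4, 1, 3, 2], 162), ([3, 4, 5, 6, 1, 3, 4, 5, 2, 3, 4, 1, 3, 2], 162), ([7, 3, 4, 5, 6, 1, 3, 4, 5, 2, 3, 4, 1, 3, 2], 162), ([6, 7, 3, 4, 5, 6, 1, 3, 4, 5, 2, 3, 4, 1, 3, 2], 162), ([5, 6, 7, 3, 4, 5, 6, 1, 3, 4, 5, 2, 3, 4, 1, 3, 2], 162), ([4, 5, 6, 7, 3, 4, 5, 6, 1, 3, 4, 5, 2, 3, 4, 1, 3, 2], 162), ([2, 3, 4, 5, 6, 1, 3, 4, 5, 2, 3, 4, 1, 3, 2], 162), ([7, 2, 3, 4, 5, 6, 1, 3, 4, 5, 2, 3, 4, 1, 3, 2], 162), ([6, 7, 2, 3, 4, 5, 6, 1, 3, 4, 5, 2, 3, 4, 1, 3, 2], 162), ([5, 6, 7, 2, 3, 4, 5, 6, 1, 3, 4, 5, 2, 3, 4, 1, 3, 2], 162), ([4, 5, 6, 7, 2, 3, 4, 5, 6, 1, 3, 4, 5, 2, 3, 4, 1, 3, 2], 162), ([3, 4, 5, 6, 7, 2, 3, 4,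 5, 6, 1, 3, 4, 5, 2, 3, 4, 1, 3, 2], 162), ([1, 3, 4, 5, 6, 7, 2, 3, 4, 5, 6, 1, 3, 4, 5, 2, 3, 4, 1, 3, 2], 162), ([0, 2, 3, 4, 5, 6, 1, 3, 4, 5, 2, 3, 4, 1, 3, 2], 162), ([7, 0, 2, 3, 4, 5, 6, 1, 3, 4, 5, 2, 3, 4, 1, 3, 2], 162), ([6, 7, 0, 2, 3, 4, 5, 6, 1, 3, 4, 5, 2, 3, 4, 1, 3, 2], 162), ([5, 6, 7, 0, 2, 3, 4, 5, 6, 1, 3, 4, 5, 2, 3, 4, 1, 3, 2], 162), ([4, 5, 6, 7, 0, 2, 3, 4, 5, 6, 1, 3, 4, 5, 2, 3, 4, 1, 3, 2], 162), ([3, 4, 5, 6, 7, 0, 2, 3, 4, 5, 6, 1, 3, 4, 5, 2, 3, 4, 1, 3, 2], 162), ([2, 3, 4, 5, 6, 7, 0, 2, 3, 4, 5, 6, 1, 3, 4, 5, 2, 3, 4, 1, 3, 2], 162), ([1, 3, 4, 5, 6, 7, 0, 2, 3, 4, 5, 6, 1, 3, 4, 5, 2, 3, 4, 1, 3, 2], 162), ([2, 1, 3, 4, 5, 6, 7, 0, 2, 3, 4, 5, 6, 1, 3, 4, 5, 2, 3, 4, 1, 3, 2],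 162), ([3, 2, 1, 3, 4, 5, 6, 7, 0, 2, 3, 4, 5, 6, 1, 3, 4, 5, 2, 3, 4, 1, 3, 2], 162), ([4, 3, 2, 1, 3, 4, 5, 6, 7, 0, 2, 3, 4, 5, 6, 1, 3, 4, 5, 2, 3, 4, 1, 3, 2], 162), ([5, 4, 3, 2, 1, 3, 4, 5, 6, 7, 0, 2, 3, 4, 5, 6, 1, 3, 4, 5, 2, 3, 4, 1, 3, 2], 162), ([6, 5, 4, 3, 2, 1, 3, 4, 5, 6, 7, 0, 2, 3, 4, 5, 6, 1, 3, 4, 5, 2, 3, 4, 1, 3, 2], 162), ([7, 6, 5, 4, 3, 2, 1, 3, 4, 5, 6, 7, 0, 2, 3, 4, 5, 6, 1, 3, 4, 5, 2, 3, 4, 1, 3, 2], 162)]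

noncomputable def gen1U_E8 : List (List ℕ) := [[], [2, 0, 3, 1, 2, 3], [2, 0], [2, 0, 3, 2], [2, 0, 3, 2, 4, 3], [2, 0, 3, 2, 4, 3, 5, 4], [2, 0, 3, 2, 4, 3, 5, 4, 6, 5], [2, 0, 3, 2, 4, 3, 5, 4, 6, 5, 7, 6]]

theorem gen1OK_E8 : gen1OK chevE8 162 gen1W_E8 gen1U_E8 = true := by decide +kernel

noncomputable def gen2W_G2 : List (List ℕ × ℕ) := [([], 0), ([1], 0), ([0, 1, 0], 7), ([1, 0], 7), ([0], 7), ([0, 1], 0), ([1, 0, 1], 0), ([], 7), ([1], 7), ([0, 1], 7), ([0, 1, 0, 1], 0), ([1, 0, 1, 0, 1], 0)]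

noncomputable def gen2U_G2 : List (List ℕ) := [[], []]

theorem gen2OK_G2 : gen2OK chevG2 7 3 0 2 3 [0, 1, 0] [1, 0] gen2W_G2 gen2U_G2 = true := by decide +kernel

noncomputable def gen2W_B2 : List (List ℕ × ℕ) := [([], 0), ([1, 0], 5), ([0], 5), ([0], 0), ([1, 0], 0), ([], 5), ([1], 5), ([0, 1, 0], 0)]

noncomputable def gen2U_B2 : List (List ℕ) := [[], []]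

theorem gen2OK_B2 : gen2OK chevB2 5 2 0 1 2 [1, 0] [0] gen2W_B2 gen2U_B2 = true := by decide +kernel

noncomputable def gen2W_F4 : List (List ℕ × ℕ) := [([], 0), ([3], 0), ([2, 3], 0), ([0, 1, 2, 3, 1, 2, 1, 0], 33), ([1, 2, 3], 0), ([2, 1, 2, 3], 0), ([3, 2, 1, 2, 3], 0), ([1, 2, 3, 1, 2, 1, 0], 33), ([2, 3, 1, 2, 1, 0], 33), ([3, 1, 2, 1, 0], 33), ([1, 2, 1, 0], 33), ([3, 2, 1, 0], 33), ([2, 1, 0], 33), ([1, 0], 33), ([0], 33), ([0, 1, 2, 3], 0), ([2, 0, 1, 2, 3], 0), ([3, 2, 0, 1, 2, 3], 0), ([3, 2, 0, 1, 0], 33), ([2, 0, 1, 0], 33), ([0, 1, 0], 33), ([1, 2, 0, 1, 2, 3], 0), ([3, 1, 2, 0, 1, 2, 3], 0), ([2, 1, 2, 0, 1, 2, 3], 0), ([3, 2, 1, 2, 0, 1, 2, 3], 0), ([2, 3, 1, 2, 0, 1, 2, 3], 0), ([2, 3, 2, 1, 2,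 0, 1, 2, 3], 0), ([0, 1], 33), ([2, 0, 1], 33), ([3, 2, 0, 1], 33), ([1, 2, 3, 1, 2, 0, 1, 2, 3], 0), ([1, 2, 3, 2, 1, 2, 0, 1, 2, 3], 0), ([2, 1, 2, 3, 2, 1, 2, 0, 1, 2, 3], 0), ([], 33), ([1], 33), ([2, 1], 33), ([3, 2, 1], 33), ([1, 2, 1], 33), ([3, 1, 2, 1], 33), ([2, 3, 1, 2, 1], 33), ([1, 2, 3, 1, 2, 1], 33), ([0, 1, 2, 3, 1, 2, 0, 1, 2, 3], 0), ([0, 1, 2, 3, 2, 1, 2, 0, 1, 2, 3], 0), ([2, 0, 1, 2, 3, 2, 1, 2, 0, 1, 2, 3], 0), ([0, 1, 2, 3, 1, 2, 1], 33), ([1, 2, 0, 1, 2, 3, 2, 1, 2, 0, 1, 2, 3], 0), ([2, 1, 2, 0, 1, 2, 3, 2, 1, 2, 0, 1, 2, 3], 0), ([3, 2, 1, 2, 0, 1, 2, 3, 2, 1, 2, 0, 1, 2, 3], 0)]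

noncomputable def gen2U_F4 : List (List ℕ) := [[], [1, 0], [], []]

theorem gen2OK_F4 : gen2OK chevF4 33 2 0 3 18 [0, 1, 2, 3, 1, 2, 1, 0] [3, 2, 0, 1, 0] gen2W_F4 gen2U_F4 = true := by decide +kernel

end Cfsg.Agent.Helper11
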