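import Cfsg.Agent.Helper11.ChevLvl

set_option autoImplicit false
set_option maxRecDepth 100000
set_option maxHeartbeats 0
set_option Elab.async false

/-! Kernel checks of the triangularity tables for the seven tabulated data. -/

namespace Cfsg.Agent.Helper11

open Cfsg.Lie

theorem lvlOK_G2 : lvlOK chevG2 = true := by decide +kernel
theorem lvlOK_B2 : lvlOK chevB2 = true := by decide +kernel
theorem lvlOK_D4 : lvlOK chevD4 = true := by decide +kernel
theorem lvlOK_F4 : lvlOK chevF4 = true := by decide +kernel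
theorem lvlOK_E6 : lvlOK chevE6 = true := by decide +kernel
theorem lvlOK_E7 : lvlOK chevE7 = true := by decide +kernel
theorem lvlOK_E8 : lvlOK chevE8 = true := by decide +kernel
theorem posIdxOK_G2 : posIdxOK chevG2 = true := by decide +kernel
theorem posIdxOK_B2 : posIdxOK chevB2 = true := by decide +kernel
theorem posIdxOK_D4 : posIdxOK chevD4 = true := by decide +kernel
theorem posIdxOK_F4 : posIdxOK chevF4 = true := by decide +kernel
theorem posIdxOK_E6 : posIdxOK chevE6 = true := by decide +kernel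
theorem posIdxOK_E7 : posIdxOK chevE7 = true := by decide +kernel
theorem posIdxOK_E8 : posIdxOK chevE8 = true := by decide +kernel

theorem lvlOK_seven (D : ChevalleyDatum)
    (hD : D ∈ [chevG2, chevB2, chevD4, chevF4, chevE6, chevE7, chevE8]) : lvlOK D = true :=
  forall_seven (P := fun D => lvlOK D = true) lvlOK_G2 lvlOK_B2 lvlOK_D4 lvlOK_F4 lvlOK_E6
    lvlOK_E7 lvlOK_E8 D hD

theorem posIdxOK_seven (D : ChevalleyDatum)
    (hD : D ∈ [chevG2, chevB2, chevD4, chevF4, chevE6, chevE7, chevE8]) : posIdxOK D = true :=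
  forall_seven (P := fun D => posIdxOK D = true) posIdxOK_G2 posIdxOK_B2 posIdxOK_D4 posIdxOK_F4
    posIdxOK_E6 posIdxOK_E7 posIdxOK_E8 D hD

section Lvl7
variable {F : Type*} [Field F] {D : ChevalleyDatum}

theorem pos_iff7 (hD : D ∈ [chevG2, chevB2, chevD4, chevF4, chevE6, chevE7, chevE8]) (r : ℕ)
    (hr : r < D.nroots) :
    (D.IsPosRoot r ↔ D.nroots / 2 ≤ r) ∧ (D.IsNegRoot r ↔ r < D.nroots / 2) :=
  pos_iff_of (posIdxOK_seven D hD) r hr

theorem x_pos_up7 (hD : D ∈ [chevG2, chevB2, chevD4, chevF4, chevE6, chevE7, chevE8]) (r : ℕ)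
    (hpos : D.IsPosRoot r) (t : F) : UpK (lvlI D) 1 (D.x F r t - 1) :=
  x_pos_up (tabOK_seven D hD) (posIdxOK_seven D hD) (lvlOK_seven D hD) r hpos t

theorem x_neg_down7 (hD : D ∈ [chevG2, chevB2, chevD4, chevF4, chevE6, chevE7, chevE8]) (r : ℕ)
    (hneg : D.IsNegRoot r) (t : F) : UpK (lvlR D) 1 (D.x F r t - 1) :=
  x_neg_down (tabOK_seven D hD) (posIdxOK_seven D hD) (lvlOK_seven D hD) r hneg t

/-- Elements of `U` are unitriangular. -/
theorem posU_up7 (hD : D ∈ [chevG2, chevB2, chevD4, chevF4, chevE6, chevE7, chevE8])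
    (g : GL D.Idx F) (hg : g ∈ D.posUnipotent F) : UpK (lvlI D) 1 ((g : Matrix D.Idx D.Idx F) - 1) := by
  have hle : D.posUnipotent F ≤ UT (R := F) (lvlI D) (D.rank + D.nroots) (lvlI_lt D) 1 le_rfl := by
    unfold ChevalleyDatum.posUnipotent
    rw [Subgroup.closure_le]
    rintro g ⟨r, t, hpos, hgx⟩
    show UpK (lvlI D) 1 ((g : Matrix D.Idx D.Idx F) - 1)
    rw [hgx]
    exact x_pos_up7 hD r hpos t
  exact hle hg

/-- Elements of `V` are lower unitriangular. -/
theorem negU_down7 (hD : D ∈ [chevG2, chevB2, chevD4, chevF4, chevE6, chevE7, chevE8])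
    (g : GL D.Idx F) (hg : g ∈ D.negUnipotent F) : UpK (lvlR D) 1 ((g : Matrix D.Idx D.Idx F) - 1) := by
  have hle : D.negUnipotent F ≤ UT (R := F) (lvlR D) (D.rank + D.nroots) (lvlR_lt D) 1 le_rfl := by
    unfold ChevalleyDatum.negUnipotent
    rw [Subgroup.closure_le]
    rintro g ⟨r, t, hneg, hgx⟩
    show UpK (lvlR D) 1 ((g : Matrix D.Idx D.Idx F) - 1)
    rw [hgx]
    exact x_neg_down7 hD r hneg t
  exact hle hg

end Lvl7

end Cfsg.Agent.Helper11
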