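import Cfsg.Agent.Helper11.ChevLvl

set_option autoImplicit false
set_option linter.unusedSectionVars false

/-!
Diagonal and triangular matrix groups with respect to a level function, and solvability of groups of
triangular matrices; a few general lemmas on conjugation and normalizers.
-/

namespace Cfsg.Agent.Helper11

section Conj
variable {G : Type*} [Group G]

theorem conj_closure_le (S : Set G) (K : Subgroup G) (g : G) (h : ∀ x ∈ S, g * x * g⁻¹ ∈ K) :
    ∀ u ∈ Subgroup.closure S, g * u * g⁻¹ ∈ K := by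
  intro u hu
  induction hu using Subgroup.closure_induction with
  | mem x hx => exact h x hx
  | one => simp
  | mul a b _ _ ha hb =>
    have : g * (a * b) * g⁻¹ = (g * a * g⁻¹) * (g * b * g⁻¹) := by group
    rw [this]; exact mul_mem ha hb
  | inv a _ ha =>
    have : g * a⁻¹ * g⁻¹ = (g * a * g⁻¹)⁻¹ := by group
    rw [this]; exact inv_mem ha

theorem conj_closure_le' (S : Set G) (K : Subgroup G) (g : G) (h : ∀ x ∈ S, g⁻¹ * x * g ∈ K) :
    ∀ u ∈ Subgroup.closure S, g⁻¹ * u * g ∈ K := by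
  have := conj_closure_le S K g⁻¹ (by simpa using h)
  simpa using this

theorem mem_normalizer_of_conj (K : Subgroup G) (g : G) (h1 : ∀ u ∈ K, g * u * g⁻¹ ∈ K)
    (h2 : ∀ u ∈ K, g⁻¹ * u * g ∈ K) : g ∈ Subgroup.normalizer (K : Set G) := by
  rw [Subgroup.mem_normalizer_iff]
  intro h
  constructor
  · exact h1 h
  · intro hh
    have := h2 _ hh
    have e : g⁻¹ * (g * h * g⁻¹) * g = h := by group
    rwa [e] at this

end Conj

section Tri
variable {ι : Type*} [Fintype ι] [DecidableEq ι] {F : Type*} [Field F]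

/-- Invertible diagonal matrices. -/
def diagGL (ι : Type*) [Fintype ι] [DecidableEq ι] (F : Type*) [Field F] : Subgroup (GL ι F) where
  carrier := {g | ∀ a b, a ≠ b → (g : Matrix ι ι F) a b = 0}
  mul_mem' := by
    intro g h hg hh a b hab
    rw [Units.val_mul, Matrix.mul_apply]
    apply Finset.sum_eq_zero
    intro c _
    by_cases hc : a = c
    · subst hc; rw [hh a b hab, mul_zero]
    · rw [hg a c hc, zero_mul]
  one_mem' := fun a b hab => Matrix.one_apply_ne hab
  inv_mem' := by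
    intro g hg a b hab
    have h1 : ((g : Matrix ι ι F) * ((g⁻¹ : GL ι F) : Matrix ι ι F)) a b = 0 := by
      rw [← Units.val_mul, mul_inv_cancel, Units.val_one]; exact Matrix.one_apply_ne hab
    have h2 : ((g : Matrix ι ι F) * ((g⁻¹ : GL ι F) : Matrix ι ι F)) a a = 1 := by
      rw [← Units.val_mul, mul_inv_cancel, Units.val_one]; exact Matrix.one_apply_eq a
    rw [Matrix.mul_apply, Finset.sum_eq_single a
      (fun c _ hc => by rw [hg a c (Ne.symm hc), zero_mul]) (by simp)] at h1 h2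
    have h3 : (g : Matrix ι ι F) a a ≠ 0 := by
      intro h0; rw [h0, zero_mul] at h2; exact zero_ne_one h2
    exact (mul_eq_zero.mp h1).resolve_left h3

theorem UpK.of_diag {ℓ : ι → ℕ} (M : Matrix ι ι F) (h : ∀ a b, a ≠ b → M a b = 0) : UpK ℓ 0 M := by
  intro a b hab
  by_cases e : a = b
  · rw [e]; omega
  · exact absurd (h a b e) hab

/-- Invertible matrices that are upper triangular together with their inverses. -/
def upGL (ℓ : ι → ℕ) : Subgroup (GL ι F) where
  carrier := {g | UpK ℓ 0 (g : Matrix ι ι F) ∧ UpK ℓ 0 ((g⁻¹ : GL ι F) : Matrix ι ι F)}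
  mul_mem' := by
    intro g h hg hh
    show UpK ℓ 0 ((g * h : GL ι F) : Matrix ι ι F) ∧
      UpK ℓ 0 (((g * h)⁻¹ : GL ι F) : Matrix ι ι F)
    refine ⟨?_, ?_⟩
    · rw [Units.val_mul]; exact hg.1.mul hh.1
    · rw [mul_inv_rev, Units.val_mul]; exact hh.2.mul hg.2
  one_mem' := by
    show UpK ℓ 0 ((1 : GL ι F) : Matrix ι ι F) ∧ UpK ℓ 0 (((1 : GL ι F)⁻¹ : GL ι F) : Matrix ι ι F)
    refine ⟨?_, ?_⟩
    · rw [Units.val_one]; exact UpK.one
    · rw [inv_one, Units.val_one]; exact UpK.one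
  inv_mem' := by
    intro g hg
    show UpK ℓ 0 ((g⁻¹ : GL ι F) : Matrix ι ι F) ∧ UpK ℓ 0 (((g⁻¹)⁻¹ : GL ι F) : Matrix ι ι F)
    refine ⟨hg.2, ?_⟩
    rw [inv_inv]; exact hg.1

theorem UpK.diag_mul {ℓ : ι → ℕ} (hinj : Function.Injective ℓ) {M N : Matrix ι ι F}
    (hM : UpK ℓ 0 M) (hN : UpK ℓ 0 N) (a : ι) : (M * N) a a = M a a * N a a := by
  rw [Matrix.mul_apply]
  apply Finset.sum_eq_single a
  · intro c _ hc
    by_contra h
    have h1 : M a c ≠ 0 := left_ne_zero_of_mul h
    have h2 : N c a ≠ 0 := right_ne_zero_of_mul h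
    have := hM a c h1
    have := hN c a h2
    exact hc (hinj (by omega))
  · intro h; exact absurd (Finset.mem_univ a) h

/-- A group of upper triangular matrices (for an injective level function) is solvable. -/
theorem isSolvable_of_upper {ℓ : ι → ℕ} {L : ℕ} (hL : ∀ a, ℓ a < L) (hinj : Function.Injective ℓ)
    (B : Subgroup (GL ι F)) (hB : ∀ g ∈ B, UpK ℓ 0 (g : Matrix ι ι F)) : Group.IsSolvable B := by
  let δ : B →* (ι → F) :=
    { toFun := fun g a => ((g : GL ι F) : Matrix ι ι F) a a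
      map_one' := by funext a; simp
      map_mul' := by
        intro g h; funext a
        show (((g * h : B) : GL ι F) : Matrix ι ι F) a a = _
        rw [Subgroup.coe_mul, Units.val_mul, UpK.diag_mul hinj (hB g g.2) (hB h h.2)]; rfl }
  let φ : B →* (ι → F)ˣ := (Units.map δ).comp (toUnits (G := B)).toMonoidHom
  have hU : ∀ g ∈ (B ⊓ UT (R := F) ℓ L hL 1 le_rfl), UpK ℓ 1 ((g : Matrix ι ι F) - 1) :=
    fun g hg => hg.2
  haveI : Group.IsNilpotent ↥(B ⊓ UT (R := F) ℓ L hL 1 le_rfl) := isNilpotent_of_UpK hL _ hU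
  refine Group.isSolvable_of_ker_le_range
    (Subgroup.inclusion (inf_le_left : B ⊓ UT (R := F) ℓ L hL 1 le_rfl ≤ B)) φ ?_
  intro g hg
  rw [MonoidHom.mem_ker] at hg
  have hδ : δ g = 1 := congrArg Units.val hg
  have hgU : UpK ℓ 1 (((g : GL ι F) : Matrix ι ι F) - 1) := by
    intro a b hab
    have hdiag : ((g : GL ι F) : Matrix ι ι F) a a = 1 := congrFun hδ a
    by_cases e : a = b
    · subst e
      rw [Matrix.sub_apply, hdiag, Matrix.one_apply_eq, sub_self] at hab
      exact absurd rfl hab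
    · rw [Matrix.sub_apply, Matrix.one_apply_ne e, sub_zero] at hab
      have := hB g g.2 a b hab
      have hne : ℓ a ≠ ℓ b := fun h => e (hinj h)
      omega
  exact MonoidHom.mem_range.mpr ⟨⟨(g : GL ι F), ⟨g.2, hgU⟩⟩, Subtype.ext rfl⟩

end Tri

end Cfsg.Agent.Helper11
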