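import Cfsg.Agent.Helper11.ChevW

set_option autoImplicit false
set_option maxRecDepth 100000
set_option maxHeartbeats 0
set_option Elab.async false

/-! Kernel checks of the reflection tables for the seven tabulated data. -/

namespace Cfsg.Agent.Helper11

open Cfsg.Lie

theorem wOK_G2 : wOK chevG2 = true := by decide +kernel
theorem wOK_B2 : wOK chevB2 = true := by decide +kernel
theorem wOK_D4 : wOK chevD4 = true := by decide +kernel
theorem wOK_F4 : wOK chevF4 = true := by decide +kernel
theorem wOK_E6 : wOK chevE6 = true := by decide +kernel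
theorem wOK_E7 : wOK chevE7 = true := by decide +kernel
theorem wOK_E8 : wOK chevE8 = true := by decide +kernel

theorem wOK_seven (D : ChevalleyDatum)
    (hD : D ∈ [chevG2, chevB2, chevD4, chevF4, chevE6, chevE7, chevE8]) : wOK D = true :=
  forall_seven (P := fun D => wOK D = true) wOK_G2 wOK_B2 wOK_D4 wOK_F4 wOK_E6 wOK_E7 wOK_E8 D hD

end Cfsg.Agent.Helper11
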