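import Cfsg.Agent.Helper11.ChevRel
import Cfsg.Agent.Helper11.ChevWAll
import Cfsg.Agent.Helper11.ChevLvlAll
import Cfsg.Agent.Helper11.ChevCharAll
import Cfsg.Agent.Helper11.ChevTri
import Cfsg.Agent.S2157

set_option autoImplicit false

/-!
Group-level relations in the Chevalley groups of the seven tabulated data: the root elements, `n_r(t)`
and `h_r(t)` as elements of `GL`, their conjugation formulas, and first consequences for the subgroups
`U`, `V`, `H`, `N`, `B`.
-/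

namespace Cfsg.Agent.Helper11

open Cfsg.Lie

/-- The seven tabulated data. -/
abbrev Seven (D : ChevalleyDatum) : Prop :=
  D ∈ [chevG2, chevB2, chevD4, chevF4, chevE6, chevE7, chevE8]

section Grp
variable {F : Type*} [Field F] {D : ChevalleyDatum}

theorem neg_lt7 (hD : Seven D) (r : ℕ) (hr : r < D.nroots) : D.neg r < D.nroots :=
  wOK_neg_lt (wOK_seven D hD) r hr

theorem neg_ne7 (hD : Seven D) (r : ℕ) (hr : r < D.nroots) : D.neg r ≠ r :=
  wOK_neg_ne (wOK_seven D hD) r hr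

theorem neg_neg7 (hD : Seven D) (r : ℕ) (hr : r < D.nroots) : D.neg (D.neg r) = r :=
  wOK_neg_neg (wOK_seven D hD) r hr

theorem neg_eq7 (hD : Seven D) (r : ℕ) (hr : r < D.nroots) : D.neg r = D.nroots - 1 - r :=
  wOK_neg (wOK_seven D hD) r hr

theorem nroots_even7 (hD : Seven D) : D.nroots % 2 = 0 := wOK_even (wOK_seven D hD)

theorem simple_pos7 (hD : Seven D) (i : ℕ) (hi : i < D.rank) : D.IsPosRoot (D.simple i) :=
  ((pos_iff7 hD _ (simple_lt7 hD i hi)).1).mpr (wOK_simple (wOK_seven D hD) i hi).1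

theorem reflect_neg7 (hD : Seven D) (i : ℕ) (hi : i < D.rank) (s : ℕ) (hs : s < D.nroots) :
    D.reflectRoot i (D.neg s) = D.neg (D.reflectRoot i s) :=
  (wOK_reflect (wOK_seven D hD) i hi s hs).2.1

theorem reflect_invol7 (hD : Seven D) (i : ℕ) (hi : i < D.rank) (s : ℕ) (hs : s < D.nroots) :
    D.reflectRoot i (D.reflectRoot i s) = s :=
  (wOK_reflect (wOK_seven D hD) i hi s hs).2.2

/-- Induction along fundamental reflections. -/
theorem reach7 (hD : Seven D) (P : ℕ → Prop) (h0 : ∀ i < D.rank, P (D.simple i))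
    (hstep : ∀ i < D.rank, ∀ s < D.nroots, P (D.reflectRoot i s) → P s) : ∀ s < D.nroots, P s :=
  wOK_reach (wOK_seven D hD) P h0 hstep

/-! ### `x_r(t) = 1` only for `t = 0` -/

theorem x_entry_neg (hD : Seven D) (r : ℕ) (hr : r < D.nroots) (t : F) :
    D.x F r t (Sum.inr ⟨r, hr⟩) (Sum.inr ⟨D.neg r, neg_lt7 hD r hr⟩) = -(t ^ 2) := by
  have hne : D.neg r ≠ r := neg_ne7 hD r hr
  have h1 : ¬ ((⟨D.neg r, neg_lt7 hD r hr⟩ : Fin D.nroots) = ⟨r, hr⟩) := fun h => hne (congrArg Fin.val h)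
  have h2 : ¬ ((⟨r, hr⟩ : Fin D.nroots) = ⟨D.neg r, neg_lt7 hD r hr⟩) := fun h => hne (congrArg Fin.val h).symm
  unfold ChevalleyDatum.x
  rw [dif_pos hr]
  unfold ChevalleyDatum.xMat
  rw [Matrix.of_apply]
  simp only []
  rw [if_neg h1, if_pos (show D.neg r = D.negIdx.getD r 0 from rfl), if_neg h2]
  simp

theorem x_eq_one_iff7 (hD : Seven D) (r : ℕ) (hr : r < D.nroots) (t : F) : D.x F r t = 1 ↔ t = 0 := by
  constructor
  · intro h
    have h1 := x_entry_neg hD r hr t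
    rw [h, Matrix.one_apply_ne (fun h2 => neg_ne7 hD r hr (congrArg Fin.val (Sum.inr.inj h2)).symm)] at h1
    have h3 : t ^ 2 = 0 := neg_eq_zero.mp h1.symm
    exact pow_eq_zero_iff (two_ne_zero) |>.mp h3
  · rintro rfl; exact x_zero D r

/-! ### Elements of `GL` -/

/-- `x_r(t)` as an element of `GL`. -/
noncomputable def xG (hD : Seven D) (r : ℕ) (t : F) : GL D.Idx F :=
  ⟨D.x F r t, D.x F r (-t), x_mul_neg7 hD r t, x_neg_mul7 hD r t⟩

theorem xG_val (hD : Seven D) (r : ℕ) (t : F) :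
    ((xG hD r t : GL D.Idx F) : Matrix D.Idx D.Idx F) = D.x F r t := rfl

theorem xG_mul (hD : Seven D) (r : ℕ) (t u : F) : xG hD r t * xG hD r u = xG hD r (t + u) :=
  Units.ext (x_add7' hD r t u)

theorem xG_zero (hD : Seven D) (r : ℕ) : xG hD r (0 : F) = 1 := Units.ext (x_zero D r)

theorem xG_inv (hD : Seven D) (r : ℕ) (t : F) : (xG hD r t)⁻¹ = xG hD r (-t) :=
  inv_eq_of_mul_eq_one_right (by rw [xG_mul, add_neg_cancel, xG_zero])

theorem eq_xG (hD : Seven D) (g : GL D.Idx F) (r : ℕ) (t : F)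
    (h : (g : Matrix D.Idx D.Idx F) = D.x F r t) : g = xG hD r t := Units.ext h

theorem xG_mem_group (hD : Seven D) (r : ℕ) (t : F) : xG hD r t ∈ D.group F := by
  by_cases hr : r < D.nroots
  · apply Subgroup.subset_closure
    refine ⟨⟨r, hr⟩, t, ?_⟩
    show D.x F r t = _
    unfold ChevalleyDatum.x; rw [dif_pos hr]
  · have : xG hD r t = 1 := Units.ext (by
      show D.x F r t = 1
      unfold ChevalleyDatum.x; rw [dif_neg hr])
    rw [this]; exact one_mem _

/-- A word in root elements as an element of `GL`. -/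
noncomputable def wG (hD : Seven D) (w : List (ℕ × F)) : GL D.Idx F :=
  (w.map fun p => xG hD p.1 p.2).prod

theorem wG_nil (hD : Seven D) : wG hD ([] : List (ℕ × F)) = 1 := rfl

theorem wG_cons (hD : Seven D) (p : ℕ × F) (w : List (ℕ × F)) :
    wG hD (p :: w) = xG hD p.1 p.2 * wG hD w := by
  simp [wG]

theorem wG_append (hD : Seven D) (w w' : List (ℕ × F)) : wG hD (w ++ w') = wG hD w * wG hD w' := by
  simp [wG]

theorem wG_val (hD : Seven D) (w : List (ℕ × F)) :
    ((wG hD w : GL D.Idx F) : Matrix D.Idx D.Idx F) = D.wordMat F w := by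
  induction w with
  | nil => simp [wG, ChevalleyDatum.wordMat]
  | cons p w ih =>
    rw [wG_cons, Units.val_mul, ih, xG_val]
    simp [ChevalleyDatum.wordMat]

theorem wG_mem_group (hD : Seven D) (w : List (ℕ × F)) : wG hD w ∈ D.group F := by
  unfold wG
  apply Subgroup.list_prod_mem
  intro g hg
  rw [List.mem_map] at hg
  obtain ⟨p, _, rfl⟩ := hg
  exact xG_mem_group hD _ _

theorem mem_group_of_val_word (hD : Seven D) (g : GL D.Idx F) (w : List (ℕ × F))
    (h : (g : Matrix D.Idx D.Idx F) = D.wordMat F w) : g ∈ D.group F := by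
  have : g = wG hD w := Units.ext (by rw [h, wG_val])
  rw [this]; exact wG_mem_group hD w

/-- `n_r(t)` as an element of `GL`. -/
noncomputable def nG (hD : Seven D) (r : ℕ) (t : F) : GL D.Idx F := wG hD (D.nWord r t)

/-- `h_r(t)` as an element of `GL`. -/
noncomputable def hG (hD : Seven D) (r : ℕ) (t : F) : GL D.Idx F := wG hD (D.hWord r t)

theorem nG_val (hD : Seven D) (r : ℕ) (t : F) :
    ((nG hD r t : GL D.Idx F) : Matrix D.Idx D.Idx F) = D.nMat F r t := wG_val hD _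

theorem hG_val (hD : Seven D) (r : ℕ) (t : F) :
    ((hG hD r t : GL D.Idx F) : Matrix D.Idx D.Idx F) = D.hMat F r t := wG_val hD _

theorem nG_eq (hD : Seven D) (r : ℕ) (t : F) :
    nG hD r t = xG hD r t * xG hD (D.neg r) (-t⁻¹) * xG hD r t := by
  simp [nG, wG, ChevalleyDatum.nWord, mul_assoc]

theorem hG_eq (hD : Seven D) (r : ℕ) (t : F) : hG hD r t = nG hD r t * nG hD r (-1) := by
  unfold hG nG ChevalleyDatum.hWord; rw [wG_append]

theorem nG_inv (hD : Seven D) (r : ℕ) (t : F) : (nG hD r t)⁻¹ = nG hD r (-t) := by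
  rw [nG_eq, nG_eq, mul_inv_rev, mul_inv_rev, xG_inv, xG_inv, inv_neg, mul_assoc]

theorem xG_mem_posU (hD : Seven D) (r : ℕ) (hr : D.IsPosRoot r) (t : F) :
    xG hD r t ∈ D.posUnipotent F :=
  Subgroup.subset_closure ⟨r, t, hr, rfl⟩

theorem xG_mem_negU (hD : Seven D) (r : ℕ) (hr : D.IsNegRoot r) (t : F) :
    xG hD r t ∈ D.negUnipotent F :=
  Subgroup.subset_closure ⟨r, t, hr, rfl⟩

theorem hG_mem_H (hD : Seven D) (r : ℕ) (hr : r < D.nroots) (t : F) (ht : t ≠ 0) :
    hG hD r t ∈ D.diagonalSubgroup F :=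
  Subgroup.subset_closure ⟨r, t, hr, ht, hG_val hD r t⟩

theorem nG_mem_N (hD : Seven D) (r : ℕ) (hr : r < D.nroots) :
    nG hD r (1 : F) ∈ D.monomialSubgroup F :=
  Subgroup.mem_sup_right (Subgroup.subset_closure ⟨r, hr, nG_val hD r 1⟩)

theorem posU_le_group (hD : Seven D) : D.posUnipotent F ≤ D.group F := by
  unfold ChevalleyDatum.posUnipotent; rw [Subgroup.closure_le]
  rintro g ⟨r, t, _, hg⟩
  rw [eq_xG hD g r t hg]; exact xG_mem_group hD r t

theorem negU_le_group (hD : Seven D) : D.negUnipotent F ≤ D.group F := by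
  unfold ChevalleyDatum.negUnipotent; rw [Subgroup.closure_le]
  rintro g ⟨r, t, _, hg⟩
  rw [eq_xG hD g r t hg]; exact xG_mem_group hD r t

theorem H_le_group (hD : Seven D) : D.diagonalSubgroup F ≤ D.group F := by
  unfold ChevalleyDatum.diagonalSubgroup; rw [Subgroup.closure_le]
  rintro g ⟨r, t, _, _, hg⟩
  exact mem_group_of_val_word hD g _ hg

theorem N_le_group (hD : Seven D) : D.monomialSubgroup F ≤ D.group F := by
  unfold ChevalleyDatum.monomialSubgroup
  rw [sup_le_iff]; refine ⟨H_le_group hD, ?_⟩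
  rw [Subgroup.closure_le]
  rintro g ⟨r, _, hg⟩
  exact mem_group_of_val_word hD g _ hg

theorem B_le_group (hD : Seven D) : D.borelSubgroup F ≤ D.group F :=
  sup_le (posU_le_group hD) (H_le_group hD)

/-! ### The elements `h_r(c)` -/

theorem pairing_char7 (hD : Seven D) (r₀ : ℕ) (c : F) (hc : c ≠ 0) :
    D.IsRootCharacter (fun s => Units.mk0 (c ^ D.pairing r₀ s) (zpow_ne_zero _ hc)) := by
  have hT := tabOK_seven D hD
  apply rootChar_of_weight D (fun s => D.pairing r₀ s) c hc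
  · intro r hr
    have h1 := cartan_neg_of hT r hr (cartAdd_seven D hD r hr)
    exact pairing_neg_of D r₀ r (D.neg r) h1.2
  · intro r s k hr hs hk
    have h1 := cartan_add_of hT r hr (cartAdd_seven D hD r hr) s k hs hk
    exact pairing_add_of D r₀ r s k h1.2

/-- `h_r(c) x_s(t) = x_s(c^⟨r,s⟩ t) h_r(c)`. -/
theorem h_conj7 (hD : Seven D) (r : ℕ) (hr : r < D.nroots) (s : ℕ) (hs : s < D.nroots) (c : F)
    (hc : c ≠ 0) (t : F) :
    D.hMat F r c * D.x F s t = D.x F s (c ^ D.pairing r s * t) * D.hMat F r c := by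
  obtain ⟨χ, hχ⟩ : ∃ χ : ℕ → Fˣ, χ = fun s => Units.mk0 (c ^ D.pairing r s) (zpow_ne_zero _ hc) :=
    ⟨_, rfl⟩
  have hchar : D.IsRootCharacter χ := by rw [hχ]; exact pairing_char7 hD r c hc
  have h1 := Cfsg.Agent.S2157.result D hD χ hchar s hs t
  have h2 : D.charDiag F (fun s => (χ s)⁻¹) * D.charDiag F χ = 1 := by
    unfold ChevalleyDatum.charDiag
    rw [Matrix.diagonal_mul_diagonal, ← Matrix.diagonal_one]
    congr 1; funext j; rcases j with j | u <;> simp
  have h3 : D.hMat F r c = D.charDiag F χ := by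
    rw [hMat_diag7 hD r hr c hc, hχ]; rfl
  have h4 : ((χ s : Fˣ) : F) = c ^ D.pairing r s := by rw [hχ]; rfl
  rw [h3, ← h4, ← h1]
  simp only [mul_assoc]
  rw [h2, mul_one]

theorem hG_mul (hD : Seven D) (r : ℕ) (hr : r < D.nroots) (a b : F) (ha : a ≠ 0) (hb : b ≠ 0) :
    hG hD r a * hG hD r b = hG hD r (a * b) := by
  apply Units.ext
  rw [Units.val_mul, hG_val, hG_val, hG_val, hMat_diag7 hD r hr a ha, hMat_diag7 hD r hr b hb,
    hMat_diag7 hD r hr (a * b) (mul_ne_zero ha hb), Matrix.diagonal_mul_diagonal]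
  congr 1
  funext j
  rcases j with j | s
  · simp
  · simp only [Sum.elim_inr]; rw [mul_zpow]

theorem hG_conj_x (hD : Seven D) (r : ℕ) (hr : r < D.nroots) (s : ℕ) (hs : s < D.nroots) (c : F)
    (hc : c ≠ 0) (t : F) :
    hG hD r c * xG hD s t * (hG hD r c)⁻¹ = xG hD s (c ^ D.pairing r s * t) := by
  rw [mul_inv_eq_iff_eq_mul]
  apply Units.ext
  rw [Units.val_mul, Units.val_mul, hG_val, xG_val, xG_val]
  exact h_conj7 hD r hr s hs c hc t

theorem hG_conj_x' (hD : Seven D) (r : ℕ) (hr : r < D.nroots) (s : ℕ) (hs : s < D.nroots) (c : F)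
    (hc : c ≠ 0) (t : F) :
    (hG hD r c)⁻¹ * xG hD s t * hG hD r c = xG hD s ((c ^ D.pairing r s)⁻¹ * t) := by
  have h := hG_conj_x hD r hr s hs c hc ((c ^ D.pairing r s)⁻¹ * t)
  rw [← mul_assoc, mul_inv_cancel₀ (zpow_ne_zero _ hc), one_mul] at h
  rw [← h]; group

theorem H_le_diag (hD : Seven D) : D.diagonalSubgroup F ≤ diagGL D.Idx F := by
  unfold ChevalleyDatum.diagonalSubgroup
  rw [Subgroup.closure_le]
  rintro g ⟨r, c, hr, hc, hg⟩
  show ∀ a b, a ≠ b → (g : Matrix D.Idx D.Idx F) a b = 0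
  intro a b hab
  rw [hg, hMat_diag7 hD r hr c hc, Matrix.diagonal_apply_ne _ hab]

theorem H_le_normalizer_posU (hD : Seven D) :
    D.diagonalSubgroup F ≤ Subgroup.normalizer (D.posUnipotent F : Set (GL D.Idx F)) := by
  unfold ChevalleyDatum.diagonalSubgroup
  rw [Subgroup.closure_le]
  rintro g ⟨r, c, hr, hc, hg⟩
  have hgG : g = hG hD r c := Units.ext (by rw [hg, hG_val])
  rw [hgG]
  apply mem_normalizer_of_conj
  · intro u hu
    refine conj_closure_le _ _ _ ?_ u hu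
    rintro x ⟨s, t, hpos, hx⟩
    rw [eq_xG hD x s t hx, hG_conj_x hD r hr s hpos.1 c hc t]
    exact xG_mem_posU hD s hpos _
  · intro u hu
    refine conj_closure_le' _ _ _ ?_ u hu
    rintro x ⟨s, t, hpos, hx⟩
    rw [eq_xG hD x s t hx, hG_conj_x' hD r hr s hpos.1 c hc t]
    exact xG_mem_posU hD s hpos _

theorem posU_inf_H (hD : Seven D) : D.posUnipotent F ⊓ D.diagonalSubgroup F = ⊥ := by
  rw [eq_bot_iff]
  rintro g ⟨hgU, hgH⟩
  have h1 := posU_up7 hD g hgU
  have h2 := H_le_diag hD hgH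
  rw [Subgroup.mem_bot]
  apply Units.ext
  rw [Units.val_one]
  apply sub_eq_zero.mp
  ext a b
  by_contra hne
  have h3 := h1 a b hne
  by_cases e : a = b
  · subst e; omega
  · apply hne
    rw [Matrix.sub_apply, h2 a b e, Matrix.one_apply_ne e, sub_zero]; rfl

theorem B_le_up (hD : Seven D) : D.borelSubgroup F ≤ upGL (F := F) (lvlI D) := by
  unfold ChevalleyDatum.borelSubgroup
  rw [sup_le_iff]
  constructor
  · intro g hg
    have h1 := posU_up7 hD g hg
    have h2 := posU_up7 hD g⁻¹ (inv_mem hg)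
    refine ⟨?_, ?_⟩
    · have := (h1.mono (Nat.zero_le 1)).add (UpK.one (ℓ := lvlI D) (R := F))
      rwa [sub_add_cancel] at this
    · have := (h2.mono (Nat.zero_le 1)).add (UpK.one (ℓ := lvlI D) (R := F))
      rwa [sub_add_cancel] at this
  · intro g hg
    have h1 := H_le_diag hD hg
    have h2 := H_le_diag hD (inv_mem hg)
    exact ⟨UpK.of_diag _ h1, UpK.of_diag _ h2⟩

/-! ### Conjugation by `n_p`, `p` fundamental -/

theorem nG_conj_x (hD : Seven D) (i : ℕ) (hi : i < D.rank) (s : ℕ) (hs : s < D.nroots) (t : F) :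
    nG hD (D.simple i) 1 * xG hD s t * (nG hD (D.simple i) 1)⁻¹ =
      xG hD (D.reflectRoot i s) ((etaAt D i s : F) * t) := by
  rw [mul_inv_eq_iff_eq_mul]
  apply Units.ext
  rw [Units.val_mul, Units.val_mul, nG_val, xG_val, xG_val]
  exact n_conj7 hD i hi s hs t

theorem eta_F_cases (hD : Seven D) (i : ℕ) (hi : i < D.rank) (s : ℕ) (hs : s < D.nroots) :
    ((etaAt D i s : ℤ) : F) = 1 ∨ ((etaAt D i s : ℤ) : F) = -1 := by
  rcases eta_cases7 hD i hi s hs with h | h <;> rw [h] <;> simp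

theorem eta_neg7 (hD : Seven D) (i : ℕ) (hi : i < D.rank) (s : ℕ) (hs : s < D.nroots) :
    etaAt D i (D.neg s) = etaAt D i s := by
  have h1 := (eta_mul_reflect7 hD i hi s hs).2
  rcases eta_cases7 hD i hi s hs with h | h
  · rw [h] at h1 ⊢; omega
  · rw [h] at h1 ⊢; omega

theorem nG_conj_n (hD : Seven D) (i : ℕ) (hi : i < D.rank) (s : ℕ) (hs : s < D.nroots) (t : F) :
    nG hD (D.simple i) 1 * nG hD s t * (nG hD (D.simple i) 1)⁻¹ =
      nG hD (D.reflectRoot i s) ((etaAt D i s : F) * t) := by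
  have hns := neg_lt7 hD s hs
  have c1 := nG_conj_x hD i hi s hs t
  have c2 := nG_conj_x hD i hi (D.neg s) hns (-t⁻¹)
  rw [reflect_neg7 hD i hi s hs, eta_neg7 hD i hi s hs] at c2
  have e : nG hD (D.simple i) 1 * nG hD s t * (nG hD (D.simple i) 1)⁻¹ =
      (nG hD (D.simple i) 1 * xG hD s t * (nG hD (D.simple i) 1)⁻¹) *
        (nG hD (D.simple i) 1 * xG hD (D.neg s) (-t⁻¹) * (nG hD (D.simple i) 1)⁻¹) *
        (nG hD (D.simple i) 1 * xG hD s t * (nG hD (D.simple i) 1)⁻¹) := by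
    rw [nG_eq hD s t]; group
  rw [e, c1, c2, nG_eq hD (D.reflectRoot i s)]
  rcases eta_F_cases (F := F) hD i hi s hs with h | h
  · rw [h]; simp only [one_mul]
  · rw [h]; simp only [neg_one_mul, neg_neg, inv_neg]

theorem nG_neg_mul_one (hD : Seven D) (r : ℕ) (hr : r < D.nroots) (t : F) (ht : t ≠ 0) :
    nG hD r (-t) * nG hD r 1 = hG hD r t := by
  have h1 : hG hD r (-t) = nG hD r (-t) * nG hD r (-1) := hG_eq hD r (-t)
  have h2 : hG hD r (-1 : F) = nG hD r (-1) * nG hD r (-1) := hG_eq hD r (-1)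
  have h3 : (nG hD r (-1 : F))⁻¹ = nG hD r 1 := by rw [nG_inv, neg_neg]
  have h4 : hG hD r t * hG hD r (-1) = hG hD r (-t) := by
    rw [hG_mul hD r hr t (-1) ht (neg_ne_zero.mpr one_ne_zero), mul_neg_one]
  have h5 : hG hD r t = hG hD r (-t) * (hG hD r (-1))⁻¹ := by rw [← h4]; group
  rw [h5, h1, h2, ← h3]; group

theorem nG_conj_h (hD : Seven D) (i : ℕ) (hi : i < D.rank) (s : ℕ) (hs : s < D.nroots) (t : F)
    (ht : t ≠ 0) :
    nG hD (D.simple i) 1 * hG hD s t * (nG hD (D.simple i) 1)⁻¹ = hG hD (D.reflectRoot i s) t := by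
  have c1 := nG_conj_n hD i hi s hs t
  have c2 := nG_conj_n hD i hi s hs (-1 : F)
  have e : nG hD (D.simple i) 1 * hG hD s t * (nG hD (D.simple i) 1)⁻¹ =
      (nG hD (D.simple i) 1 * nG hD s t * (nG hD (D.simple i) 1)⁻¹) *
        (nG hD (D.simple i) 1 * nG hD s (-1) * (nG hD (D.simple i) 1)⁻¹) := by
    rw [hG_eq hD s t]; group
  rw [e, c1, c2]
  rcases eta_F_cases (F := F) hD i hi s hs with h | h
  · rw [h, one_mul, one_mul, ← hG_eq]
  · rw [h, neg_one_mul, neg_one_mul, neg_neg]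
    exact nG_neg_mul_one hD _ (reflect_lt7 hD i hi s hs) t ht

theorem nG_sq_mem_H (hD : Seven D) (r : ℕ) (hr : r < D.nroots) :
    nG hD r (1 : F) * nG hD r 1 ∈ D.diagonalSubgroup F := by
  have h2 : hG hD r (-1 : F) = nG hD r (-1) * nG hD r (-1) := hG_eq hD r (-1)
  have h3 : (nG hD r (-1 : F))⁻¹ = nG hD r 1 := by rw [nG_inv, neg_neg]
  have : nG hD r (1 : F) * nG hD r 1 = (hG hD r (-1))⁻¹ := by rw [h2, ← h3]; group
  rw [this]; exact inv_mem (hG_mem_H hD r hr (-1) (neg_ne_zero.mpr one_ne_zero))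

theorem nS_mem_normalizer_H (hD : Seven D) (i : ℕ) (hi : i < D.rank) :
    nG hD (D.simple i) (1 : F) ∈ Subgroup.normalizer (D.diagonalSubgroup F : Set (GL D.Idx F)) := by
  have hmap : ∀ u ∈ D.diagonalSubgroup F,
      nG hD (D.simple i) 1 * u * (nG hD (D.simple i) 1)⁻¹ ∈ D.diagonalSubgroup F := by
    intro u hu
    refine conj_closure_le _ _ _ ?_ u hu
    rintro x ⟨s, t, hs, ht, hx⟩
    have : x = hG hD s t := Units.ext (by rw [hx, hG_val])
    rw [this, nG_conj_h hD i hi s hs t ht]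
    exact hG_mem_H hD _ (reflect_lt7 hD i hi s hs) t ht
  apply mem_normalizer_of_conj _ _ hmap
  intro u hu
  have hsq := nG_sq_mem_H (F := F) hD (D.simple i) (simple_lt7 hD i hi)
  have : (nG hD (D.simple i) (1 : F))⁻¹ * u * nG hD (D.simple i) 1 =
      nG hD (D.simple i) 1 * ((nG hD (D.simple i) 1 * nG hD (D.simple i) 1)⁻¹ * u *
        (nG hD (D.simple i) 1 * nG hD (D.simple i) 1)) * (nG hD (D.simple i) 1)⁻¹ := by group
  rw [this]
  exact hmap _ (mul_mem (mul_mem (inv_mem hsq) hu) hsq)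

/-- A subgroup containing the `n_p`, `p` fundamental, contains all `n_r`. -/
theorem nG_mem_of_simple (hD : Seven D) (K : Subgroup (GL D.Idx F))
    (hK : ∀ i < D.rank, nG hD (D.simple i) (1 : F) ∈ K) : ∀ s < D.nroots, nG hD s (1 : F) ∈ K := by
  refine reach7 hD (fun s => nG hD s (1 : F) ∈ K) hK ?_
  intro i hi s hs ih
  have c := nG_conj_n hD i hi s hs (1 : F)
  rw [mul_one] at c
  have hn := hK i hi
  have e : nG hD s (1 : F) = (nG hD (D.simple i) 1)⁻¹ *
      (nG hD (D.simple i) 1 * nG hD s 1 * (nG hD (D.simple i) 1)⁻¹) * nG hD (D.simple i) 1 := by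
    group
  rw [e, c]
  refine mul_mem (mul_mem (inv_mem hn) ?_) hn
  rcases eta_F_cases (F := F) hD i hi s hs with h | h
  · rw [h]; exact ih
  · rw [h, ← nG_inv]; exact inv_mem ih

theorem N_le_normalizer_H (hD : Seven D) :
    D.monomialSubgroup F ≤ Subgroup.normalizer (D.diagonalSubgroup F : Set (GL D.Idx F)) := by
  unfold ChevalleyDatum.monomialSubgroup
  rw [sup_le_iff]
  refine ⟨Subgroup.le_normalizer, ?_⟩
  rw [Subgroup.closure_le]
  rintro g ⟨r, hr, hg⟩
  have : g = nG hD r 1 := Units.ext (by rw [hg, nG_val])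
  rw [this]
  exact nG_mem_of_simple hD _ (fun i hi => nS_mem_normalizer_H hD i hi) r hr

/-- Every root element lies in `⟨B, N⟩`. -/
theorem xG_mem_BN (hD : Seven D) (s : ℕ) (hs : s < D.nroots) :
    ∀ t : F, xG hD s t ∈ D.borelSubgroup F ⊔ D.monomialSubgroup F := by
  refine reach7 hD (fun s => ∀ t : F, xG hD s t ∈ D.borelSubgroup F ⊔ D.monomialSubgroup F) ?_ ?_ s hs
  · intro i hi t
    exact Subgroup.mem_sup_left (Subgroup.mem_sup_left (xG_mem_posU hD _ (simple_pos7 hD i hi) t))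
  · intro i hi s hs ih t
    have hc := nG_conj_x hD i hi s hs t
    have hn : nG hD (D.simple i) (1 : F) ∈ D.borelSubgroup F ⊔ D.monomialSubgroup F :=
      Subgroup.mem_sup_right (nG_mem_N hD _ (simple_lt7 hD i hi))
    have : xG hD s t = (nG hD (D.simple i) 1)⁻¹ *
        xG hD (D.reflectRoot i s) ((etaAt D i s : F) * t) * nG hD (D.simple i) 1 := by
      rw [← hc]; group
    rw [this]
    exact mul_mem (mul_mem (inv_mem hn) (ih _)) hn

end Grp

end Cfsg.Agent.Helper11
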