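import Cfsg.Agent.Helper11.ChevH
import Cfsg.Agent.Helper11.ChevTab

set_option autoImplicit false

/-! Kernel-checked diagonal form of the elements h_r(c) (part of the seven tabulated data). -/

namespace Cfsg.Agent.Helper11

open Cfsg.Lie

set_option maxRecDepth 100000
set_option maxHeartbeats 0
set_option Elab.async false

theorem hOK_E7_0 : allRange 0 14 (hOK chevE7) = true := by decide +kernel
theorem hOK_E7_1 : allRange 14 14 (hOK chevE7) = true := by decide +kernel
theorem hOK_E7_2 : allRange 28 14 (hOK chevE7) = true := by decide +kernel
theorem hOK_E7_3 : allRange 42 14 (hOK chevE7) = true := by decide +kernel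
theorem hOK_E7_4 : allRange 56 14 (hOK chevE7) = true := by decide +kernel

end Cfsg.Agent.Helper11
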