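import Cfsg.Agent.Helper11.ChevH
import Cfsg.Agent.Helper11.ChevTab

set_option autoImplicit false

/-! Kernel-checked diagonal form of the elements h_r(c) (part of the seven tabulated data). -/

namespace Cfsg.Agent.Helper11

open Cfsg.Lie

set_option maxRecDepth 100000
set_option maxHeartbeats 0
set_option Elab.async false

theorem hOK_G2_0 : allRange 0 12 (hOK chevG2) = true := by decide +kernel
theorem hOK_B2_0 : allRange 0 8 (hOK chevB2) = true := by decide +kernel
theorem hOK_D4_0 : allRange 0 24 (hOK chevD4) = true := by decide +kernel
theorem hOK_F4_0 : allRange 0 24 (hOK chevF4) = true := by decide +kernel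
theorem hOK_F4_1 : allRange 24 24 (hOK chevF4) = true := by decide +kernel
theorem hOK_E6_0 : allRange 0 18 (hOK chevE6) = true := by decide +kernel
theorem hOK_E6_1 : allRange 18 18 (hOK chevE6) = true := by decide +kernel
theorem hOK_E6_2 : allRange 36 18 (hOK chevE6) = true := by decide +kernel
theorem hOK_E6_3 : allRange 54 18 (hOK chevE6) = true := by decide +kernel

end Cfsg.Agent.Helper11
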