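import Cfsg.Agent.Helper11.ChevAux
import Cfsg.Agent.Helper11.ChevHSmall
import Cfsg.Agent.Helper11.ChevHE7a
import Cfsg.Agent.Helper11.ChevHE7b
import Cfsg.Agent.Helper11.ChevHE8a
import Cfsg.Agent.Helper11.ChevHE8b
import Cfsg.Agent.Helper11.ChevHE8c
import Cfsg.Agent.Helper11.ChevHE8d
import Cfsg.Agent.Helper11.ChevHE8e
import Cfsg.Agent.Helper11.ChevHE8f

set_option autoImplicit false

/-! The diagonal form of h_r(c) for all roots of the seven tabulated data. -/

namespace Cfsg.Agent.Helper11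

open Cfsg.Lie

set_option maxRecDepth 100000
set_option maxHeartbeats 0
set_option Elab.async false

theorem hOK_G2 (s : ℕ) (hs : s < 12) : hOK chevG2 s = true := by
  refine allChunks (hOK chevG2) 12 1 ?_ s hs
  intro j hj
  interval_cases j
  · exact hOK_G2_0

theorem hOK_B2 (s : ℕ) (hs : s < 8) : hOK chevB2 s = true := by
  refine allChunks (hOK chevB2) 8 1 ?_ s hs
  intro j hj
  interval_cases j
  · exact hOK_B2_0

theorem hOK_D4 (s : ℕ) (hs : s < 24) : hOK chevD4 s = true := by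
  refine allChunks (hOK chevD4) 24 1 ?_ s hs
  intro j hj
  interval_cases j
  · exact hOK_D4_0

theorem hOK_F4 (s : ℕ) (hs : s < 48) : hOK chevF4 s = true := by
  refine allChunks (hOK chevF4) 24 2 ?_ s hs
  intro j hj
  interval_cases j
  · exact hOK_F4_0
  · exact hOK_F4_1

theorem hOK_E6 (s : ℕ) (hs : s < 72) : hOK chevE6 s = true := by
  refine allChunks (hOK chevE6) 18 4 ?_ s hs
  intro j hj
  interval_cases j
  · exact hOK_E6_0
  · exact hOK_E6_1
  · exact hOK_E6_2
  · exact hOK_E6_3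

theorem hOK_E7 (s : ℕ) (hs : s < 126) : hOK chevE7 s = true := by
  refine allChunks (hOK chevE7) 14 9 ?_ s hs
  intro j hj
  interval_cases j
  · exact hOK_E7_0
  · exact hOK_E7_1
  · exact hOK_E7_2
  · exact hOK_E7_3
  · exact hOK_E7_4
  · exact hOK_E7_5
  · exact hOK_E7_6
  · exact hOK_E7_7
  · exact hOK_E7_8

theorem hOK_E8 (s : ℕ) (hs : s < 240) : hOK chevE8 s = true := by
  refine allChunks (hOK chevE8) 8 30 ?_ s hs
  intro j hj
  interval_cases j
  · exact hOK_E8_0
  · exact hOK_E8_1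
  · exact hOK_E8_2
  · exact hOK_E8_3
  · exact hOK_E8_4
  · exact hOK_E8_5
  · exact hOK_E8_6
  · exact hOK_E8_7
  · exact hOK_E8_8
  · exact hOK_E8_9
  · exact hOK_E8_10
  · exact hOK_E8_11
  · exact hOK_E8_12
  · exact hOK_E8_13
  · exact hOK_E8_14
  · exact hOK_E8_15
  · exact hOK_E8_16
  · exact hOK_E8_17
  · exact hOK_E8_18
  · exact hOK_E8_19
  · exact hOK_E8_20
  · exact hOK_E8_21
  · exact hOK_E8_22
  · exact hOK_E8_23
  · exact hOK_E8_24
  · exact hOK_E8_25
  · exact hOK_E8_26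
  · exact hOK_E8_27
  · exact hOK_E8_28
  · exact hOK_E8_29

theorem hOK_seven (D : ChevalleyDatum)
    (hD : D ∈ [chevG2, chevB2, chevD4, chevF4, chevE6, chevE7, chevE8]) (r : ℕ) (hr : r < D.nroots) :
    hOK D r = true :=
  forall_seven (P := fun D => ∀ r, r < D.nroots → hOK D r = true) hOK_G2 hOK_B2 hOK_D4 hOK_F4 hOK_E6
    hOK_E7 hOK_E8 D hD r hr

end Cfsg.Agent.Helper11
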