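import Cfsg.Agent.Helper11.ChevTab

set_option autoImplicit false
set_option linter.unusedSectionVars false

/-!
Triangularity of root elements: with the coordinates ordered as (negative root vectors, fundamental
coroots, positive root vectors), `x_r(t) - 1` is strictly triangular (upper for positive `r`, lower for
negative `r`). The abstract part treats matrices whose non-zero entries raise a level function.
-/

namespace Cfsg.Agent.Helper11

open Cfsg.Lie

section UpK
variable {ι : Type*} [Fintype ι] [DecidableEq ι] {R : Type*} [CommRing R]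

/-- `M` raises the level by at least `k`: non-zero entries `(a, b)` have `ℓ b + k ≤ ℓ a`. -/
def UpK (ℓ : ι → ℕ) (k : ℕ) (M : Matrix ι ι R) : Prop := ∀ a b, M a b ≠ 0 → ℓ b + k ≤ ℓ a

variable {ℓ : ι → ℕ}

theorem UpK.mono {k k' : ℕ} {M : Matrix ι ι R} (h : UpK ℓ k M) (hk : k' ≤ k) : UpK ℓ k' M :=
  fun a b hab => le_trans (by omega) (h a b hab)

theorem UpK.zero (k : ℕ) : UpK ℓ k (0 : Matrix ι ι R) := fun a b h => absurd (Matrix.zero_apply a b) h

theorem UpK.one : UpK ℓ 0 (1 : Matrix ι ι R) := by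
  intro a b h
  by_cases e : a = b
  · subst e; simp
  · exact absurd (Matrix.one_apply_ne e) h

theorem UpK.add {k : ℕ} {M N : Matrix ι ι R} (hM : UpK ℓ k M) (hN : UpK ℓ k N) :
    UpK ℓ k (M + N) := by
  intro a b h
  by_cases h1 : M a b = 0
  · apply hN a b; intro h2; apply h; rw [Matrix.add_apply, h1, h2, add_zero]
  · exact hM a b h1

theorem UpK.neg {k : ℕ} {M : Matrix ι ι R} (hM : UpK ℓ k M) : UpK ℓ k (-M) := by
  intro a b h
  apply hM a b; intro h1; apply h; rw [Matrix.neg_apply, h1, neg_zero]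

theorem UpK.sub {k : ℕ} {M N : Matrix ι ι R} (hM : UpK ℓ k M) (hN : UpK ℓ k N) :
    UpK ℓ k (M - N) := by
  rw [sub_eq_add_neg]; exact hM.add hN.neg

theorem UpK.mul {j k : ℕ} {M N : Matrix ι ι R} (hM : UpK ℓ j M) (hN : UpK ℓ k N) :
    UpK ℓ (j + k) (M * N) := by
  intro a b h
  rw [Matrix.mul_apply] at h
  obtain ⟨c, _, hc⟩ := Finset.exists_ne_zero_of_sum_ne_zero h
  have h1 : M a c ≠ 0 := left_ne_zero_of_mul hc
  have h2 : N c b ≠ 0 := right_ne_zero_of_mul hc
  have := hM a c h1
  have := hN c b h2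
  omega

theorem UpK.pow {k : ℕ} {M : Matrix ι ι R} (hM : UpK ℓ k M) (n : ℕ) : UpK ℓ (n * k) (M ^ n) := by
  induction n with
  | zero => rw [pow_zero, Nat.zero_mul]; exact UpK.one
  | succ n ih => rw [pow_succ, Nat.succ_mul]; exact ih.mul hM

theorem UpK.sum {k : ℕ} {α : Type*} (s : Finset α) (f : α → Matrix ι ι R)
    (h : ∀ i ∈ s, UpK ℓ k (f i)) : UpK ℓ k (∑ i ∈ s, f i) := by
  classical
  induction s using Finset.induction_on with
  | empty => rw [Finset.sum_empty]; exact UpK.zero k
  | insert a s ha ih =>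
    rw [Finset.sum_insert ha]
    exact (h a (Finset.mem_insert_self a s)).add (ih fun i hi => h i (Finset.mem_insert_of_mem hi))

theorem UpK.eq_zero {L : ℕ} (hL : ∀ a, ℓ a < L) {M : Matrix ι ι R} (hM : UpK ℓ L M) : M = 0 := by
  ext a b
  by_contra h
  have := hM a b h
  have := hL a
  omega

theorem UpK.inv_sub_one {L k : ℕ} (hL : ∀ a, ℓ a < L) (hk : 1 ≤ k) (g : GL ι R)
    (h : UpK ℓ k ((g : Matrix ι ι R) - 1)) : UpK ℓ k (((g⁻¹ : GL ι R) : Matrix ι ι R) - 1) := by
  obtain ⟨N, hN⟩ : ∃ N : Matrix ι ι R, N = -((g : Matrix ι ι R) - 1) := ⟨_, rfl⟩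
  have hNup : UpK ℓ k N := by rw [hN]; exact h.neg
  have hNL : N ^ L = 0 := by
    apply UpK.eq_zero hL
    have := (hNup.mono hk).pow L
    rwa [Nat.mul_one] at this
  have hg : (g : Matrix ι ι R) = 1 - N := by rw [hN]; abel
  have hmul : (g : Matrix ι ι R) * ∑ i ∈ Finset.range L, N ^ i = 1 := by
    rw [hg, mul_neg_geom_sum, hNL, sub_zero]
  have hinv : ((g⁻¹ : GL ι R) : Matrix ι ι R) = ∑ i ∈ Finset.range L, N ^ i :=
    Units.inv_eq_of_mul_eq_one_right hmul
  rw [hinv]
  cases L with
  | zero => intro a; exact absurd (hL a) (Nat.not_lt_zero _)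
  | succ L' =>
    rw [Finset.sum_range_succ', pow_zero, add_sub_cancel_right]
    apply UpK.sum
    intro i _
    have := hNup.pow (i + 1)
    exact this.mono (by nlinarith)

/-- The group of matrices `g` with `g - 1` raising levels by at least `k` (`k ≥ 1`, bounded levels). -/
def UT (ℓ : ι → ℕ) (L : ℕ) (hL : ∀ a, ℓ a < L) (k : ℕ) (hk : 1 ≤ k) : Subgroup (GL ι R) where
  carrier := {g | UpK ℓ k ((g : Matrix ι ι R) - 1)}
  mul_mem' := by
    intro g h hg hh
    show UpK ℓ k (((g * h : GL ι R) : Matrix ι ι R) - 1)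
    have e : ((g * h : GL ι R) : Matrix ι ι R) - 1 =
        ((g : Matrix ι ι R) - 1) * ((h : Matrix ι ι R) - 1) + ((g : Matrix ι ι R) - 1) +
          ((h : Matrix ι ι R) - 1) := by
      rw [Units.val_mul]; noncomm_ring
    rw [e]
    have hg' : UpK ℓ k ((g : Matrix ι ι R) - 1) := hg
    have hh' : UpK ℓ k ((h : Matrix ι ι R) - 1) := hh
    exact (((hg'.mul hh').mono (by omega)).add hg').add hh'
  one_mem' := by
    show UpK ℓ k (((1 : GL ι R) : Matrix ι ι R) - 1)
    rw [Units.val_one, sub_self]; exact UpK.zero k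
  inv_mem' := by
    intro g hg
    exact UpK.inv_sub_one hL hk g hg

theorem mem_UT (L : ℕ) (hL : ∀ a, ℓ a < L) (k : ℕ) (hk : 1 ≤ k) (g : GL ι R) :
    g ∈ UT (R := R) ℓ L hL k hk ↔ UpK ℓ k ((g : Matrix ι ι R) - 1) := Iff.rfl

theorem UpK.of_inv {L k : ℕ} (hL : ∀ a, ℓ a < L) (hk : 1 ≤ k) (g : GL ι R)
    (h : UpK ℓ k ((g : Matrix ι ι R) - 1)) : UpK ℓ 0 ((g⁻¹ : GL ι R) : Matrix ι ι R) := by
  have h1 := (UpK.inv_sub_one hL hk g h).mono (Nat.zero_le k)
  have h2 := h1.add (UpK.one (ℓ := ℓ) (R := R))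
  rwa [sub_add_cancel] at h2

theorem UpK.comm {L j k : ℕ} (hL : ∀ a, ℓ a < L) (hj : 1 ≤ j) (hk : 1 ≤ k) (x g : GL ι R)
    (hx : UpK ℓ j ((x : Matrix ι ι R) - 1)) (hg : UpK ℓ k ((g : Matrix ι ι R) - 1)) :
    UpK ℓ (j + k) (((x * g * x⁻¹ * g⁻¹ : GL ι R) : Matrix ι ι R) - 1) := by
  have h1 : (x : Matrix ι ι R) * ((x⁻¹ : GL ι R) : Matrix ι ι R) = 1 := by
    rw [← Units.val_mul, mul_inv_cancel, Units.val_one]
  have h2 : (g : Matrix ι ι R) * ((g⁻¹ : GL ι R) : Matrix ι ι R) = 1 := by
    rw [← Units.val_mul, mul_inv_cancel, Units.val_one]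
  have h3 : ((x : Matrix ι ι R) - 1) * ((g : Matrix ι ι R) - 1) -
      ((g : Matrix ι ι R) - 1) * ((x : Matrix ι ι R) - 1) =
        (x : Matrix ι ι R) * (g : Matrix ι ι R) - (g : Matrix ι ι R) * (x : Matrix ι ι R) := by
    noncomm_ring
  have e : ((x * g * x⁻¹ * g⁻¹ : GL ι R) : Matrix ι ι R) - 1 =
      (((x : Matrix ι ι R) - 1) * ((g : Matrix ι ι R) - 1) -
        ((g : Matrix ι ι R) - 1) * ((x : Matrix ι ι R) - 1)) *
        (((x⁻¹ : GL ι R) : Matrix ι ι R) * ((g⁻¹ : GL ι R) : Matrix ι ι R)) := by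
    rw [h3, sub_mul]
    simp only [Units.val_mul, mul_assoc]
    rw [← mul_assoc (x : Matrix ι ι R) ((x⁻¹ : GL ι R) : Matrix ι ι R), h1, one_mul, h2]
  rw [e]
  have a1 : UpK ℓ (j + k) (((x : Matrix ι ι R) - 1) * ((g : Matrix ι ι R) - 1) -
      ((g : Matrix ι ι R) - 1) * ((x : Matrix ι ι R) - 1)) :=
    (hx.mul hg).sub (by have := hg.mul hx; rwa [Nat.add_comm] at this)
  have a2 : UpK ℓ 0 (((x⁻¹ : GL ι R) : Matrix ι ι R) * ((g⁻¹ : GL ι R) : Matrix ι ι R)) := by
    have := (UpK.of_inv hL hj x hx).mul (UpK.of_inv hL hk g hg)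
    exact this
  exact a1.mul a2

/-- A group of matrices `g` with `g - 1` strictly level-raising is nilpotent. -/
theorem isNilpotent_of_UpK {L : ℕ} (hL : ∀ a, ℓ a < L) (U : Subgroup (GL ι R))
    (hU : ∀ g ∈ U, UpK ℓ 1 ((g : Matrix ι ι R) - 1)) : Group.IsNilpotent U := by
  rw [Subgroup.nilpotent_iff_finite_descending_central_series]
  refine ⟨L, fun n => (UT (R := R) ℓ L hL (n + 1) (by omega)).subgroupOf U, ⟨?_, ?_⟩, ?_⟩
  · rw [eq_top_iff]
    intro g _
    rw [Subgroup.mem_subgroupOf]
    exact hU g g.2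
  · intro x n hx g
    rw [Subgroup.mem_subgroupOf] at hx ⊢
    exact UpK.comm hL (j := n + 1) (k := 1) (by omega) le_rfl (x : GL ι R) (g : GL ι R) hx
      (hU g g.2)
  · rw [eq_bot_iff]
    intro g hg
    rw [Subgroup.mem_subgroupOf] at hg
    have hg' : UpK ℓ (L + 1) (((g : GL ι R) : Matrix ι ι R) - 1) := hg
    have : (g : GL ι R) = 1 := by
      apply Units.ext
      have := UpK.eq_zero hL (hg'.mono (by omega))
      rw [Units.val_one]
      exact sub_eq_zero.mp this
    rw [Subgroup.mem_bot]; exact Subtype.ext this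

end UpK

/-! ### Coded indices and the level function of a Chevalley datum -/

/-- Coded index of a coordinate: `h_i ↦ i`, `e_s ↦ rank + s`. -/
def code (D : ChevalleyDatum) : D.Idx → ℕ := Sum.elim (fun i => i.val) (fun s => D.rank + s.val)

theorem code_lt (D : ChevalleyDatum) (b : D.Idx) : code D b < D.rank + D.nroots := by
  rcases b with i | s
  · have := i.2; show i.val < _; omega
  · have := s.2; show D.rank + s.val < _; omega

theorem code_inj (D : ChevalleyDatum) (a b : D.Idx) (h : code D a = code D b) : a = b := by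
  rcases a with i | s <;> rcases b with j | u
  · have : i.val = j.val := h
    rw [Fin.ext this]
  · have : i.val = D.rank + u.val := h
    have := i.2; omega
  · have : D.rank + s.val = j.val := h
    have := j.2; omega
  · have : D.rank + s.val = D.rank + u.val := h
    rw [Fin.ext (by omega : s.val = u.val)]

section Code
variable {F : Type*} [Field F]

theorem basisVec_code (D : ChevalleyDatum) (b : D.Idx) :
    basisVec D F (code D b) = Pi.single b 1 := by
  rcases b with i | s
  · exact basisVec_inl D i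
  · exact basisVec_inr D s

theorem basisVec_apply_code (D : ChevalleyDatum) (k : ℕ) (a : D.Idx) :
    basisVec D F k a = if code D a = k then 1 else 0 := by
  rcases a with i | s
  · exact basisVec_apply_inl D k i
  · exact basisVec_apply_inr D k s

theorem exists_of_sum_apply_ne_zero {κ α : Type*} (L : List α) (f : α → κ → F) (a : κ)
    (h : (L.map f).sum a ≠ 0) : ∃ e ∈ L, f e a ≠ 0 := by
  induction L with
  | nil => simp at h
  | cons x L ih =>
    rw [List.map_cons, List.sum_cons, Pi.add_apply] at h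
    by_cases hx : f x a = 0
    · rw [hx, zero_add] at h
      obtain ⟨e, he, hne⟩ := ih h
      exact ⟨e, List.mem_cons_of_mem _ he, hne⟩
    · exact ⟨x, List.mem_cons_self, hx⟩

/-- A non-zero entry `(a, b)` of `x_r(t) - 1` comes from an entry of the sparse column. -/
theorem x_sub_one_entry (D : ChevalleyDatum) (r : ℕ) (hr : r < D.nroots) (t : F) (a b : D.Idx)
    (h : (D.x F r t - 1) a b ≠ 0) : ∃ e ∈ colN D r (code D b), e.1 = code D a := by
  have h1 := xMat_mulVec_basis D ⟨r, hr⟩ t (code D b) (code_lt D b)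
  rw [basisVec_code, Matrix.mulVec_single_one] at h1
  have hx : D.x F r t = D.xMat F ⟨r, hr⟩ t := by unfold ChevalleyDatum.x; rw [dif_pos hr]
  have h2 : (D.x F r t - 1) a b =
      ((colN D r (code D b)).map fun e => ((e.2.2 : F) * t ^ e.2.1) • basisVec D F e.1).sum a := by
    have h3 := congrFun h1 a
    rw [Matrix.sub_apply, Matrix.one_apply, hx]
    have h4 : (D.xMat F ⟨r, hr⟩ t) a b = _ := h3
    rw [h4, Pi.add_apply, Pi.single_apply]; ring
  rw [h2] at h
  obtain ⟨e, he, hne⟩ := exists_of_sum_apply_ne_zero _ _ a h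
  refine ⟨e, he, ?_⟩
  rw [Pi.smul_apply, basisVec_apply_code] at hne
  by_contra hcon
  rw [if_neg (fun h' => hcon h'.symm)] at hne
  simp at hne

end Code

/-- The level of a coded index: negative root vectors, then fundamental coroots, then positive root
vectors. -/
noncomputable def lvl (D : ChevalleyDatum) (v : ℕ) : ℕ :=
  cond (Nat.blt v D.rank) (Nat.add (Nat.div D.nroots 2) v)
    (cond (Nat.blt (Nat.sub v D.rank) (Nat.div D.nroots 2)) (Nat.sub v D.rank) v)

theorem lvl_spec (D : ChevalleyDatum) (v : ℕ) :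
    lvl D v = if v < D.rank then D.nroots / 2 + v
      else if v - D.rank < D.nroots / 2 then v - D.rank else v := by
  unfold lvl
  by_cases h1 : v < D.rank
  · rw [(blt_iff _ _).mpr h1, if_pos h1]; rfl
  · rw [blt_false_of_not h1, if_neg h1]
    show cond (Nat.blt (v - D.rank) (D.nroots / 2)) (v - D.rank) v = _
    by_cases h2 : v - D.rank < D.nroots / 2
    · rw [(blt_iff _ _).mpr h2, if_pos h2]; rfl
    · rw [blt_false_of_not h2, if_neg h2]; rfl

theorem lvl_lt (D : ChevalleyDatum) (v : ℕ) (hv : v < D.rank + D.nroots) :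
    lvl D v < D.rank + D.nroots := by
  rw [lvl_spec]; split_ifs <;> omega

theorem lvl_inj (D : ChevalleyDatum) (v w : ℕ) (hv : v < D.rank + D.nroots)
    (hw : w < D.rank + D.nroots) (h : lvl D v = lvl D w) : v = w := by
  have := hv; have := hw
  rw [lvl_spec, lvl_spec] at h; split_ifs at h <;> omega

/-- The level of a coordinate. -/
noncomputable def lvlI (D : ChevalleyDatum) (a : D.Idx) : ℕ := lvl D (code D a)

/-- The reversed level of a coordinate. -/
noncomputable def lvlR (D : ChevalleyDatum) (a : D.Idx) : ℕ := D.rank + D.nroots - 1 - lvl D (code D a)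

theorem lvlI_lt (D : ChevalleyDatum) (a : D.Idx) : lvlI D a < D.rank + D.nroots :=
  lvl_lt D _ (code_lt D a)

theorem lvlR_lt (D : ChevalleyDatum) (a : D.Idx) : lvlR D a < D.rank + D.nroots := by
  have := lvl_lt D _ (code_lt D a)
  unfold lvlR; omega

theorem lvlI_inj (D : ChevalleyDatum) (a b : D.Idx) (h : lvlI D a = lvlI D b) : a = b :=
  code_inj D a b (lvl_inj D _ _ (code_lt D a) (code_lt D b) h)

noncomputable def allL {α : Type} (p : α → Bool) (l : List α) : Bool :=
  @List.rec α (fun _ => Bool) true (fun a _ ih => cond (p a) ih false) l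

theorem allL_spec {α : Type} (p : α → Bool) (l : List α) :
    allL p l = true ↔ ∀ a ∈ l, p a = true := by
  induction l with
  | nil => exact ⟨fun _ a ha => absurd ha (List.not_mem_nil), fun _ => rfl⟩
  | cons x l ih =>
    have e : allL p (x :: l) = cond (p x) (allL p l) false := rfl
    rw [e]
    constructor
    · intro h a ha
      cases hp : p x with
      | false => rw [hp] at h; exact absurd h (by simp)
      | true =>
        rw [hp] at h
        rcases List.mem_cons.mp ha with h1 | h1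
        · rw [h1]; exact hp
        · exact ih.mp h a h1
    · intro h
      rw [h x List.mem_cons_self]
      exact ih.mpr (fun a ha => h a (List.mem_cons_of_mem _ ha))

noncomputable def lvlUp (D : ChevalleyDatum) (r : ℕ) : Bool :=
  allN (Nat.add D.rank D.nroots) (fun v => allL (fun e => Nat.blt (lvl D v) (lvl D e.1)) (colF D r v))

noncomputable def lvlDown (D : ChevalleyDatum) (r : ℕ) : Bool :=
  allN (Nat.add D.rank D.nroots) (fun v => allL (fun e => Nat.blt (lvl D e.1) (lvl D v)) (colF D r v))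

/-- Root elements of the second half of the roots are strictly upper triangular, those of the first
half strictly lower triangular. -/
noncomputable def lvlOK (D : ChevalleyDatum) : Bool :=
  allN D.nroots (fun r => cond (Nat.blt r (Nat.div D.nroots 2)) (lvlDown D r) (lvlUp D r))

/-- The positive roots are exactly those of the second half. -/
noncomputable def posIdxOK (D : ChevalleyDatum) : Bool :=
  allN D.nroots (fun r => decide ((D.IsPosRoot r ↔ D.nroots / 2 ≤ r) ∧ (D.IsNegRoot r ↔ r < D.nroots / 2)))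

section LvlSound
variable {F : Type*} [Field F] {D : ChevalleyDatum}

theorem pos_iff_of (hP : posIdxOK D = true) (r : ℕ) (hr : r < D.nroots) :
    (D.IsPosRoot r ↔ D.nroots / 2 ≤ r) ∧ (D.IsNegRoot r ↔ r < D.nroots / 2) :=
  of_decide_eq_true ((allN_spec _ _).mp hP r hr)

theorem x_pos_up (hT : tabOK D = true) (hP : posIdxOK D = true) (hL : lvlOK D = true) (r : ℕ)
    (hpos : D.IsPosRoot r) (t : F) : UpK (lvlI D) 1 (D.x F r t - 1) := by
  intro a b h
  obtain ⟨e, he, hea⟩ := x_sub_one_entry D r hpos.1 t a b h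
  rw [← colF_eq hT r hpos.1] at he
  have h0 := (allN_spec _ _).mp hL r hpos.1
  have h5 : ¬ r < D.nroots / 2 := by
    have := ((pos_iff_of hP r hpos.1).1).mp hpos; omega
  have h6 : Nat.blt r (Nat.div D.nroots 2) = false := blt_false_of_not h5
  rw [h6] at h0
  have h1 := (allL_spec _ _).mp ((allN_spec _ _).mp h0 (code D b) (code_lt D b)) e he
  have h2 := (blt_iff _ _).mp h1
  rw [hea] at h2
  show lvl D (code D b) + 1 ≤ lvl D (code D a)
  omega

theorem x_neg_down (hT : tabOK D = true) (hP : posIdxOK D = true) (hL : lvlOK D = true) (r : ℕ)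
    (hneg : D.IsNegRoot r) (t : F) : UpK (lvlR D) 1 (D.x F r t - 1) := by
  intro a b h
  obtain ⟨e, he, hea⟩ := x_sub_one_entry D r hneg.1 t a b h
  rw [← colF_eq hT r hneg.1] at he
  have h0 := (allN_spec _ _).mp hL r hneg.1
  have h5 : r < D.nroots / 2 := ((pos_iff_of hP r hneg.1).2).mp hneg
  have h6 : Nat.blt r (Nat.div D.nroots 2) = true := (blt_iff _ _).mpr h5
  rw [h6] at h0
  have h1 := (allL_spec _ _).mp ((allN_spec _ _).mp h0 (code D b) (code_lt D b)) e he
  have h2 := (blt_iff _ _).mp h1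
  rw [hea] at h2
  have := lvl_lt D _ (code_lt D b)
  show D.rank + D.nroots - 1 - lvl D (code D b) + 1 ≤ D.rank + D.nroots - 1 - lvl D (code D a)
  omega

end LvlSound

end Cfsg.Agent.Helper11
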