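import Cfsg.Agent.Helper11.ChevH
import Cfsg.Agent.Helper11.ChevTab

set_option autoImplicit false

/-! Small kernel-checked table facts about the fundamental roots of the seven tabulated data. -/

namespace Cfsg.Agent.Helper11

open Cfsg.Lie

/-- Each fundamental root is a root index, and its pairing with every root is the Cartan integer. -/
noncomputable def simpOK (D : ChevalleyDatum) : Bool :=
  allN D.rank (fun i => Nat.blt (D.simple i) D.nroots &&
    allN D.nroots (fun s => decide (pairF D (D.simple i) s = cartAt D i s)))

set_option maxRecDepth 100000
set_option maxHeartbeats 0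
set_option Elab.async false

theorem simpOK_G2 : simpOK chevG2 = true := by decide +kernel
theorem simpOK_B2 : simpOK chevB2 = true := by decide +kernel
theorem simpOK_D4 : simpOK chevD4 = true := by decide +kernel
theorem simpOK_F4 : simpOK chevF4 = true := by decide +kernel
theorem simpOK_E6 : simpOK chevE6 = true := by decide +kernel
theorem simpOK_E7 : simpOK chevE7 = true := by decide +kernel
theorem simpOK_E8 : simpOK chevE8 = true := by decide +kernel

theorem simpOK_seven (D : ChevalleyDatum)
    (hD : D ∈ [chevG2, chevB2, chevD4, chevF4, chevE6, chevE7, chevE8]) : simpOK D = true :=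
  forall_seven (P := fun D => simpOK D = true) simpOK_G2 simpOK_B2 simpOK_D4 simpOK_F4 simpOK_E6
    simpOK_E7 simpOK_E8 D hD

end Cfsg.Agent.Helper11
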