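import Cfsg.Agent.Helper11.ChevOps

set_option autoImplicit false

/-!
The elements `n_p = n_p(1)` for a fundamental root `p`: compiled as an operator table, and shown (by a
kernel-checkable condition `nOK D i`) to be the monomial matrix `e_s ↦ η_s e_{w_p(s)}`,
`h_j ↦ h_j - A_{p_j, p} h_p`.
-/

namespace Cfsg.Agent.Helper11

open Cfsg.Lie

/-- The word `n_p(1)`, `p` the `i`-th fundamental root. -/
noncomputable def nw (D : ChevalleyDatum) (i : ℕ) : List (ℕ × Poly) :=
  [(D.simple i, [(1, 0, 0)]), (D.neg (D.simple i), [(-1, 0, 0)]), (D.simple i, [(1, 0, 0)])]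

noncomputable def nBig (D : ChevalleyDatum) (i : ℕ) : ℕ := opPack D (nw D i)

noncomputable def nField (D : ChevalleyDatum) (i s : ℕ) : ℕ := fget (nBig D i) 52 (Nat.add D.rank s)

/-- The sign `η_s` with `n_p e_s = η_s e_{w_p(s)}`. -/
noncomputable def etaAt (D : ChevalleyDatum) (i s : ℕ) : ℤ :=
  Int.subNatNat (Nat.mod (Nat.div (nField D i s) 512) 16) 8

/-- The root `w_p(s)` read off the table of `n_p`. -/
noncomputable def wAt (D : ChevalleyDatum) (i s : ℕ) : ℕ :=
  Nat.sub (Nat.sub (Nat.mod (nField D i s) 512) 1) D.rank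

noncomputable def nOKroot (D : ChevalleyDatum) (i s : ℕ) : Bool :=
  Nat.blt (nField D i s) 8192 && (Nat.ble (Nat.add D.rank 1) (Nat.mod (nField D i s) 512) &&
    (Nat.beq (wAt D i s) (D.reflectRoot i s) &&
    ((decide (etaAt D i s = 1) || decide (etaAt D i s = -1)) &&
    (decide (etaAt D i s * etaAt D i (D.reflectRoot i s) = (-1) ^ (D.cartan i s).natAbs) &&
    (decide (etaAt D i s * etaAt D i (D.neg s) = 1) && Nat.blt (D.reflectRoot i s) D.nroots)))))

noncomputable def nOK (D : ChevalleyDatum) (i : ℕ) : Bool :=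
  opOK D (nBig D i) (nw D i) && (allN D.nroots (nOKroot D i) &&
    (decide (etaAt D i (D.simple i) = -1) && (decide (etaAt D i (D.neg (D.simple i)) = -1) &&
    allN D.rank (fun j => vecEqF (opCol (nBig D i) j)
      [(j, (1, 0, 0)), (i, (Int.neg (D.cartan j (D.simple i)), 0, 0))]))))

section NSound
variable {F : Type*} [Field F]

theorem nMat_eq_word (D : ChevalleyDatum) (i : ℕ) (t u : F) :
    D.nMat F (D.simple i) 1 = D.wordMat F (evalWord t u (nw D i)) := by
  have : D.nWord (D.simple i) (1 : F) = evalWord t u (nw D i) := by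
    simp [ChevalleyDatum.nWord, nw, evalWord, evalPoly, evalMono]
  rw [ChevalleyDatum.nMat, this]

variable {D : ChevalleyDatum}

theorem nOK_op (hT : tabOK D = true) (i : ℕ) (h : nOK D i = true) (t u : F) (v : ℕ)
    (hv : v < D.rank + D.nroots) :
    evalVec D t u (opCol (nBig D i) v) = (D.nMat F (D.simple i) 1).mulVec (basisVec D F v) := by
  unfold nOK at h
  rw [Bool.and_eq_true] at h
  rw [nMat_eq_word D i t u]
  exact opOK_sound hT _ _ h.1 t u v hv

theorem nOK_root (i : ℕ) (h : nOK D i = true) (s : ℕ) (hs : s < D.nroots) :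
    nOKroot D i s = true := by
  unfold nOK at h
  simp only [Bool.and_eq_true] at h
  exact (allN_spec _ _).mp h.2.1 s hs

theorem nOK_opCol (i : ℕ) (h : nOK D i = true) (s : ℕ) (hs : s < D.nroots) :
    opCol (nBig D i) (Nat.add D.rank s) = [(D.rank + D.reflectRoot i s, (etaAt D i s, 0, 0))] := by
  have h1 := nOK_root i h s hs
  unfold nOKroot at h1
  simp only [Bool.and_eq_true] at h1
  obtain ⟨h8, hge, hw, -⟩ := h1
  have h8' : nField D i s < 8192 := (blt_iff _ _).mp h8
  have hge' : D.rank + 1 ≤ nField D i s % 512 := Nat.le_of_ble_eq_true hge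
  have hw' : wAt D i s = D.reflectRoot i s := (beq_iff _ _).mp hw
  have hne : nField D i s ≠ 0 := by
    intro h0; rw [h0] at hge'; simp at hge'
  have e1 : opCol (nBig D i) (Nat.add D.rank s) =
      cond (Nat.beq (nField D i s) 0) []
        ((Nat.sub (Nat.mod (nField D i s) 512) 1, (etaAt D i s, 0, 0)) ::
          decOp 3 (Nat.div (nField D i s) 8192)) := rfl
  have e2 : Nat.div (nField D i s) 8192 = 0 := Nat.div_eq_of_lt h8'
  have e3 : decOp 3 0 = [] := rfl
  rw [e1, beq_false_of_ne hne, e2, e3]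
  show [(Nat.sub (Nat.mod (nField D i s) 512) 1, (etaAt D i s, 0, 0))] = _
  have e4 : Nat.sub (Nat.mod (nField D i s) 512) 1 = D.rank + D.reflectRoot i s := by
    rw [← hw']
    show nField D i s % 512 - 1 = D.rank + (nField D i s % 512 - 1 - D.rank)
    omega
  rw [e4]

theorem nMat_col_root (hT : tabOK D = true) (i : ℕ) (h : nOK D i = true) (s : ℕ) (hs : s < D.nroots) :
    (D.nMat F (D.simple i) 1).mulVec (basisVec D F (D.rank + s)) =
      (etaAt D i s : F) • basisVec D F (D.rank + D.reflectRoot i s) := by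
  rw [← nOK_op hT i h (0 : F) 0 (D.rank + s) (by omega)]
  have := nOK_opCol i h s hs
  rw [show D.rank + s = Nat.add D.rank s from rfl, this, evalVec_cons, evalVec_nil, add_zero]
  simp [evalMono]

theorem nMat_col_h (hT : tabOK D = true) (i : ℕ) (h : nOK D i = true) (j : ℕ) (hj : j < D.rank) :
    (D.nMat F (D.simple i) 1).mulVec (basisVec D F j) =
      basisVec D F j - ((D.cartan j (D.simple i) : ℤ) : F) • basisVec D F i := by
  rw [← nOK_op hT i h (0 : F) 0 j (by omega)]
  unfold nOK at h
  simp only [Bool.and_eq_true] at h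
  have h1 := vecEqF_sound D (0 : F) 0 _ _ ((allN_spec _ _).mp h.2.2.2.2 j hj)
  rw [h1, evalVec_cons, evalVec_cons, evalVec_nil, add_zero]
  have e : Int.neg (D.cartan j (D.simple i)) = - D.cartan j (D.simple i) := rfl
  simp [evalMono, e, sub_eq_add_neg]

end NSound

end Cfsg.Agent.Helper11
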