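import Cfsg.Agent.Helper11.ChevN
import Cfsg.Agent.Helper11.ChevTab

set_option autoImplicit false

/-! Kernel-checked monomial form of the elements n_p (part of the seven tabulated data). -/

namespace Cfsg.Agent.Helper11

open Cfsg.Lie

set_option maxRecDepth 100000
set_option maxHeartbeats 0
set_option Elab.async false

theorem nOK_E8_0 : allRange 0 1 (nOK chevE8) = true := by decide +kernel
theorem nOK_E8_1 : allRange 1 1 (nOK chevE8) = true := by decide +kernel
theorem nOK_E8_2 : allRange 2 1 (nOK chevE8) = true := by decide +kernel
theorem nOK_E8_3 : allRange 3 1 (nOK chevE8) = true := by decide +kernel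
theorem nOK_E8_4 : allRange 4 1 (nOK chevE8) = true := by decide +kernel
theorem nOK_E8_5 : allRange 5 1 (nOK chevE8) = true := by decide +kernel
theorem nOK_E8_6 : allRange 6 1 (nOK chevE8) = true := by decide +kernel
theorem nOK_E8_7 : allRange 7 1 (nOK chevE8) = true := by decide +kernel

end Cfsg.Agent.Helper11
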