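import Cfsg.Agent.Helper11.ChevN
import Cfsg.Agent.Helper11.ChevTab

set_option autoImplicit false

/-! Kernel-checked monomial form of the elements n_p (part of the seven tabulated data). -/

namespace Cfsg.Agent.Helper11

open Cfsg.Lie

set_option maxRecDepth 100000
set_option maxHeartbeats 0
set_option Elab.async false

theorem nOK_G2_all : allN 2 (nOK chevG2) = true := by decide +kernel
theorem nOK_B2_all : allN 2 (nOK chevB2) = true := by decide +kernel
theorem nOK_D4_all : allN 4 (nOK chevD4) = true := by decide +kernel
theorem nOK_F4_all : allN 4 (nOK chevF4) = true := by decide +kernel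
theorem nOK_E6_all : allN 6 (nOK chevE6) = true := by decide +kernel

end Cfsg.Agent.Helper11
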