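import Cfsg.Agent.Helper11.ChevAux
import Cfsg.Agent.Helper11.ChevNSmall
import Cfsg.Agent.Helper11.ChevNE7
import Cfsg.Agent.Helper11.ChevNE8

set_option autoImplicit false

/-! The monomial form of n_p for all fundamental roots of the seven tabulated data. -/

namespace Cfsg.Agent.Helper11

open Cfsg.Lie

set_option maxRecDepth 100000
set_option maxHeartbeats 0
set_option Elab.async false

theorem nOK_G2 (i : ℕ) (hi : i < 2) : nOK chevG2 i = true :=
  (allN_spec _ _).mp nOK_G2_all i hi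

theorem nOK_B2 (i : ℕ) (hi : i < 2) : nOK chevB2 i = true :=
  (allN_spec _ _).mp nOK_B2_all i hi

theorem nOK_D4 (i : ℕ) (hi : i < 4) : nOK chevD4 i = true :=
  (allN_spec _ _).mp nOK_D4_all i hi

theorem nOK_F4 (i : ℕ) (hi : i < 4) : nOK chevF4 i = true :=
  (allN_spec _ _).mp nOK_F4_all i hi

theorem nOK_E6 (i : ℕ) (hi : i < 6) : nOK chevE6 i = true :=
  (allN_spec _ _).mp nOK_E6_all i hi

theorem nOK_E7 (s : ℕ) (hs : s < 7) : nOK chevE7 s = true := by
  refine allChunks (nOK chevE7) 1 7 ?_ s hs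
  intro j hj
  interval_cases j
  · exact nOK_E7_0
  · exact nOK_E7_1
  · exact nOK_E7_2
  · exact nOK_E7_3
  · exact nOK_E7_4
  · exact nOK_E7_5
  · exact nOK_E7_6

theorem nOK_E8 (s : ℕ) (hs : s < 8) : nOK chevE8 s = true := by
  refine allChunks (nOK chevE8) 1 8 ?_ s hs
  intro j hj
  interval_cases j
  · exact nOK_E8_0
  · exact nOK_E8_1
  · exact nOK_E8_2
  · exact nOK_E8_3
  · exact nOK_E8_4
  · exact nOK_E8_5
  · exact nOK_E8_6
  · exact nOK_E8_7

theorem nOK_seven (D : ChevalleyDatum)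
    (hD : D ∈ [chevG2, chevB2, chevD4, chevF4, chevE6, chevE7, chevE8]) (i : ℕ) (hi : i < D.rank) :
    nOK D i = true :=
  forall_seven (P := fun D => ∀ i, i < D.rank → nOK D i = true) nOK_G2 nOK_B2 nOK_D4 nOK_F4 nOK_E6
    nOK_E7 nOK_E8 D hD i hi

end Cfsg.Agent.Helper11
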