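import Cfsg.Agent.Helper11.ChevFast

set_option autoImplicit false

/-!
Second layer of the symbolic calculus: column-wise comparison of matrices, compiled operator tables
(a word with constant parameters stored column by column in a packed table), cancellation of `t * u = 1`
(Laurent monomials), and symbolic diagonal matrices.
-/

namespace Cfsg.Agent.Helper11

open Cfsg.Lie

/-! ### Column-wise equality -/

noncomputable def colsEq (n : ℕ) (f g : ℕ → Vec) : Bool := allN n (fun v => vecEqF (f v) (g v))

theorem colsEq_sound {F : Type*} [Field F] (D : ChevalleyDatum) (A B : Matrix D.Idx D.Idx F) (t u : F)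
    (f g : ℕ → Vec)
    (hf : ∀ v < D.rank + D.nroots, evalVec D t u (f v) = A.mulVec (basisVec D F v))
    (hg : ∀ v < D.rank + D.nroots, evalVec D t u (g v) = B.mulVec (basisVec D F v))
    (h : colsEq (Nat.add D.rank D.nroots) f g = true) : A = B := by
  apply matrix_ext_basis
  intro v hv
  rw [← hf v hv, ← hg v hv]
  exact vecEqF_sound D t u _ _ ((allN_spec _ _).mp h v hv)

theorem entry_eq {F : Type*} [Field F] (D : ChevalleyDatum) (A : Matrix D.Idx D.Idx F) (v : ℕ)
    (col : D.Idx) (hcol : basisVec D F v = Pi.single col 1) (row : D.Idx) :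
    A row col = (A.mulVec (basisVec D F v)) row := by
  rw [hcol, Matrix.mulVec_single_one]; rfl

/-! ### Compiled operator tables -/

noncomputable def filtNZ (l : Vec) : Vec :=
  @List.rec Term (fun _ => Vec) [] (fun x _ ih => cond (isZ x.2.1) ih (x :: ih)) l

noncomputable def normF (v : Vec) : Vec := filtNZ (insAll v [])

noncomputable def encOp (l : Vec) : ℕ :=
  @List.rec Term (fun _ => ℕ) 0
    (fun x _ ih => Nat.add (Nat.add (Nat.add x.1 1) (Nat.mul 512 (Int.toNat (Int.add x.2.1 8))))
      (Nat.mul 8192 ih)) l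

/-- The packed table of the columns of a word (meant for words with constant parameters). -/
noncomputable def opPack (D : ChevalleyDatum) (w : List (ℕ × Poly)) : ℕ :=
  @Nat.rec (fun _ => ℕ) 0
    (fun v ih => Nat.add ih (Nat.shiftLeft (encOp (normF (applyWordF D w [(v, (1, 0, 0))]))) (Nat.mul 52 v)))
    (Nat.add D.rank D.nroots)

noncomputable def decOp (fuel : ℕ) : ℕ → Vec :=
  @Nat.rec (fun _ => ℕ → Vec) (fun _ => [])
    (fun _ ih c => cond (Nat.beq c 0) []
      ((Nat.sub (Nat.mod c 512) 1, (Int.subNatNat (Nat.mod (Nat.div c 512) 16) 8, 0, 0)) ::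
        ih (Nat.div c 8192))) fuel

noncomputable def opCol (big v : ℕ) : Vec := decOp 4 (fget big 52 v)

noncomputable def opOK (D : ChevalleyDatum) (big : ℕ) (w : List (ℕ × Poly)) : Bool :=
  allN (Nat.add D.rank D.nroots) (fun v => vecEqF (opCol big v) (applyWordF D w [(v, (1, 0, 0))]))

noncomputable def scaleOp (m : Mono) (col : Vec) (rest : Vec) : Vec :=
  @List.rec Term (fun _ => Vec) rest
    (fun y _ ih => (y.1, (Int.mul y.2.1 m.1, Nat.add y.2.2.1 m.2.1, Nat.add y.2.2.2 m.2.2)) :: ih) col

noncomputable def applyOp (n big : ℕ) (v : Vec) : Vec :=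
  @List.rec Term (fun _ => Vec) []
    (fun x _ ih => cond (Nat.blt x.1 n) (scaleOp x.2 (opCol big x.1) ih) ih) v

section OpSound
variable {F : Type*} [Field F]

theorem opOK_sound {D : ChevalleyDatum} (hT : tabOK D = true) (big : ℕ) (w : List (ℕ × Poly))
    (h : opOK D big w = true) (t u : F) (v : ℕ) (hv : v < D.rank + D.nroots) :
    evalVec D t u (opCol big v) = (D.wordMat F (evalWord t u w)).mulVec (basisVec D F v) := by
  have h1 := vecEqF_sound D t u _ _ ((allN_spec _ _).mp h v hv)
  have e : ([(v, ((1 : ℤ), 0, 0))] : Vec) = unitVec v := rfl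
  rw [h1, applyWordF_eq hT, e, ← applyWord_sound, evalVec_unitVec]

theorem evalVec_scaleOp (D : ChevalleyDatum) (t u : F) (m : Mono) (col rest : Vec) :
    evalVec D t u (scaleOp m col rest) = evalMono t u m • evalVec D t u col + evalVec D t u rest := by
  induction col with
  | nil => simp [scaleOp, evalVec_nil]
  | cons y col ih =>
    show evalVec D t u ((y.1, (Int.mul y.2.1 m.1, Nat.add y.2.2.1 m.2.1, Nat.add y.2.2.2 m.2.2)) ::
      scaleOp m col rest) = _
    rw [evalVec_cons, ih, evalVec_cons, smul_add, smul_smul, add_assoc]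
    congr 2
    have e1 : Int.mul y.2.1 m.1 = y.2.1 * m.1 := rfl
    simp only [evalMono, e1, nat_add_eq, Int.cast_mul, pow_add]; ring

theorem applyOp_sound (D : ChevalleyDatum) (t u : F) (big : ℕ) (M : Matrix D.Idx D.Idx F)
    (hM : ∀ v < D.rank + D.nroots, evalVec D t u (opCol big v) = M.mulVec (basisVec D F v))
    (vec : Vec) :
    evalVec D t u (applyOp (Nat.add D.rank D.nroots) big vec) = M.mulVec (evalVec D t u vec) := by
  induction vec with
  | nil => simp [applyOp, evalVec_nil]
  | cons x vec ih =>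
    have e : applyOp (Nat.add D.rank D.nroots) big (x :: vec) =
        cond (Nat.blt x.1 (Nat.add D.rank D.nroots))
          (scaleOp x.2 (opCol big x.1) (applyOp (Nat.add D.rank D.nroots) big vec))
          (applyOp (Nat.add D.rank D.nroots) big vec) := rfl
    rw [e, evalVec_cons, Matrix.mulVec_add, Matrix.mulVec_smul]
    by_cases hx : x.1 < D.rank + D.nroots
    · have hx' : x.1 < Nat.add D.rank D.nroots := hx
      rw [(blt_iff _ _).mpr hx']
      show evalVec D t u (scaleOp x.2 (opCol big x.1) _) = _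
      rw [evalVec_scaleOp, ih, hM x.1 hx]
    · have hx' : ¬ x.1 < Nat.add D.rank D.nroots := hx
      rw [blt_false_of_not hx']
      show evalVec D t u (applyOp (Nat.add D.rank D.nroots) big vec) = _
      rw [ih, basisVec_of_ge D _ (by omega)]
      simp

end OpSound

/-! ### Applying a word with normalisation after every letter -/

theorem evalVec_filtNZ {F : Type*} [Field F] (D : ChevalleyDatum) (t u : F) (l : Vec) :
    evalVec D t u (filtNZ l) = evalVec D t u l := by
  induction l with
  | nil => rfl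
  | cons x l ih =>
    have e : filtNZ (x :: l) = cond (isZ x.2.1) (filtNZ l) (x :: filtNZ l) := rfl
    rw [e]
    cases hz : isZ x.2.1 with
    | false =>
      show evalVec D t u (x :: filtNZ l) = _
      rw [evalVec_cons, ih, evalVec_cons]
    | true =>
      show evalVec D t u (filtNZ l) = _
      rw [ih, evalVec_cons]
      have h0 : evalMono t u x.2 = 0 := by simp [evalMono, isZ_eq _ hz]
      rw [h0, zero_smul, zero_add]

theorem evalVec_normF {F : Type*} [Field F] (D : ChevalleyDatum) (t u : F) (l : Vec) :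
    evalVec D t u (normF l) = evalVec D t u l := by
  unfold normF
  rw [evalVec_filtNZ, evalVec_insAll, evalVec_nil, add_zero]

noncomputable def applyWordN (D : ChevalleyDatum) (w : List (ℕ × Poly)) (v : Vec) : Vec :=
  @List.rec (ℕ × Poly) (fun _ => Vec) v (fun p _ ih => normF (applyXF D p.1 p.2 ih)) w

theorem applyWordN_sound {F : Type*} [Field F] {D : ChevalleyDatum} (hT : tabOK D = true) (t u : F)
    (w : List (ℕ × Poly)) (v : Vec) :
    evalVec D t u (applyWordN D w v) = (D.wordMat F (evalWord t u w)).mulVec (evalVec D t u v) := by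
  induction w with
  | nil => simp [ChevalleyDatum.wordMat, evalWord, applyWordN]
  | cons p w ih =>
    have e1 : D.wordMat F (evalWord t u (p :: w)) =
        D.x F p.1 (evalPoly t u p.2) * D.wordMat F (evalWord t u w) := by
      simp [ChevalleyDatum.wordMat, evalWord]
    have e2 : applyWordN D (p :: w) v = normF (applyXF D p.1 p.2 (applyWordN D w v)) := rfl
    rw [e1, e2, evalVec_normF, applyXF_eq hT, ← applyX_sound, ih, Matrix.mulVec_mulVec]

/-! ### Laurent monomials: cancelling `t * u = 1` -/

noncomputable def cancelV (v : Vec) : Vec :=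
  @List.rec Term (fun _ => Vec) []
    (fun x _ ih => cond (Nat.ble x.2.2.1 x.2.2.2)
      ((x.1, (x.2.1, 0, Nat.sub x.2.2.2 x.2.2.1)) :: ih)
      ((x.1, (x.2.1, Nat.sub x.2.2.1 x.2.2.2, 0)) :: ih)) v

theorem evalVec_cancelV {F : Type*} [Field F] (D : ChevalleyDatum) (t u : F) (htu : t * u = 1)
    (v : Vec) : evalVec D t u (cancelV v) = evalVec D t u v := by
  induction v with
  | nil => rfl
  | cons x v ih =>
    have e : cancelV (x :: v) = cond (Nat.ble x.2.2.1 x.2.2.2)
      ((x.1, (x.2.1, 0, Nat.sub x.2.2.2 x.2.2.1)) :: cancelV v)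
      ((x.1, (x.2.1, Nat.sub x.2.2.1 x.2.2.2, 0)) :: cancelV v) := rfl
    rw [e]
    by_cases hle : x.2.2.1 ≤ x.2.2.2
    · rw [Nat.ble_eq_true_of_le hle]
      show evalVec D t u ((x.1, (x.2.1, 0, Nat.sub x.2.2.2 x.2.2.1)) :: cancelV v) = _
      rw [evalVec_cons, ih, evalVec_cons]
      congr 2
      simp only [evalMono, nat_sub_eq]
      obtain ⟨k, hk⟩ := Nat.exists_eq_add_of_le hle
      rw [hk, Nat.add_sub_cancel_left, pow_add, pow_zero, mul_one]
      calc (x.2.1 : F) * u ^ k = (x.2.1 : F) * ((t * u) ^ x.2.2.1 * u ^ k) := by rw [htu, one_pow, one_mul]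
        _ = (x.2.1 : F) * t ^ x.2.2.1 * (u ^ x.2.2.1 * u ^ k) := by rw [mul_pow]; ring
    · have hle' : x.2.2.2 ≤ x.2.2.1 := by omega
      have hb : Nat.ble x.2.2.1 x.2.2.2 = false := by
        cases hb : Nat.ble x.2.2.1 x.2.2.2 with
        | false => rfl
        | true => exact absurd (Nat.le_of_ble_eq_true hb) hle
      rw [hb]
      show evalVec D t u ((x.1, (x.2.1, Nat.sub x.2.2.1 x.2.2.2, 0)) :: cancelV v) = _
      rw [evalVec_cons, ih, evalVec_cons]
      congr 2
      simp only [evalMono, nat_sub_eq]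
      obtain ⟨k, hk⟩ := Nat.exists_eq_add_of_le hle'
      rw [hk, Nat.add_sub_cancel_left, pow_add, pow_zero, mul_one]
      calc (x.2.1 : F) * t ^ k = (x.2.1 : F) * ((t * u) ^ x.2.2.2 * t ^ k) := by rw [htu, one_pow, one_mul]
        _ = (x.2.1 : F) * (t ^ x.2.2.2 * t ^ k) * u ^ x.2.2.2 := by rw [mul_pow]; ring

/-! ### Integer powers as monomials -/

/-- The monomial `t ^ A` for an integer `A`, written with `u = t⁻¹`. -/
noncomputable def zmono (A : ℤ) : Mono :=
  @Int.rec (fun _ => Mono) (fun n => (1, n, 0)) (fun n => (1, 0, Nat.add n 1)) A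

theorem evalMono_zmono {F : Type*} [Field F] (c : F) (A : ℤ) :
    evalMono c c⁻¹ (zmono A) = c ^ A := by
  cases A with
  | ofNat n =>
    show evalMono c c⁻¹ (1, n, 0) = _
    simp [evalMono]
  | negSucc n =>
    show evalMono c c⁻¹ (1, 0, Nat.add n 1) = _
    simp [evalMono, zpow_negSucc]

end Cfsg.Agent.Helper11
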