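import Cfsg.Agent.Helper11.ChevOrd4

set_option autoImplicit false
set_option maxRecDepth 100000
set_option maxHeartbeats 0
set_option Elab.async false

namespace Cfsg.Agent.Helper11

open Cfsg.Lie

def ordRf_E7 : ℕ := 0xfa7c3d9e8f2773c1d8ea733a1c8e071371bcda6c351acd06933994cc6431984c4602f978ba5c2d16cb0592b954ac5429944a45027938984d259289247241188a432210880411f0fc783d1d8e474381b8d46c34198c86031178b85a2b160a852271409848251108c42200f8783a1b0e06832170c05828150904c22100703c180d058241408038140c040180802003e9f0f67a3c1e4ee763a1d4e671391c0de6d371acd86a3499cd06632194c66230184be5e2e96cb85a2c95cb0562a154a652281449e4e2692c984a249208c472291084431f8f4823c200f8743b1c8e06c371a8d06631190c05e2e160b4562a140a44e25130904621110803e1e0e074361a0c0642e150b05026110903c200e0682c180a040240e0602014060200800fa7c3d9e4f4783b9d4ec74399c8de6e389c0da6c349a0d66a33998ca6332188c25f30178ba5c2c960b65a2b958aa532a148a24f281389a4c2512c9248239148c41200ec88431f8f87439210f478371c0d86a34190cc6230178b45c2c158a454281389846221289042200f8743c1c0d86434180b85826120a8502210068301e0e058281207040180a03020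0802003e9f0f47b3c9e0ee76391c4e0753a1ccde6e369b0d66a33194c8693419cc66230980bc5f2e970b65a2b154a8592c15ca652289409c4f2693096492511086421c1208e46209007e3e1e8f06e361a914763a1c8cc6832188c05c2f168b0562a1309448291409c4622108803c1f0e870361a0b05428190c05c2612088401e0e05024100d0602c0e0602810040300800fa7b3e1e8f2783b9d8ea74399b0d66a349a0ce72389c0de6e36998ca6431988c2602f974bc5c2d968b2582b948a25027958aa5429938904723114684d2612c94442190882401f8f87a3c1d8e87233190c460491c0dc6c35178a85228138b85a2c158984a2411888421f100783a1c0d86832180b8401e0e0683016160a8502612088281208038180a040180404003e9f0f6763a9d0e67a3c9e0ee72389c0de6e369b0d66a349a0ce6230980be6632990c65e2e970b65a2c960ae4d2612c9448239188a2f2b154a85324948a250279108642209007e3e1e8f0763a1c8b85a2c158d054291409c9c381b8d86a33190c46026128904622108803e1a0c8602e1e0e87036160a8502612088401e0e06830160602810060a048200e0200800f87d3d9e8f2783b9d8ea74399c8e270379b8da5c2d968b2582b958aa5429934984b25124406c359a8d26833998ca6431948a25027938c4613017cbc48239188a442190882401f8f87a3c1d8e872381b8d86a1f0f074381b178b85a2c1586832180b8582a1409848225d1a0cc6431180a85228138984a24118884210078381a0c058281208038180a04018080001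

theorem ordRfOK_E7 : reflTabOK chevE7 ordRf_E7 1134 = true := by
  decide +kernel

end Cfsg.Agent.Helper11
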