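import Cfsg.Agent.Helper11.ChevOrd3

set_option autoImplicit false
set_option maxRecDepth 100000
set_option maxHeartbeats 0
set_option Elab.async false

namespace Cfsg.Agent.Helper11

open Cfsg.Lie

def ordBig_D4_1 : ℕ := 0x2810040300800220f08038180d0502c1207040182e160a0542612090240e08030002c140a84c180d0502c0802018042e11078401c0509838140b030042e140a8481e10038200a02018002c110603412040a8401a0b0400c2e1609848220e048180a0400800280f060280e020a03c140c038082e130b0481c11030240a01020002a100583410030b0441a0c048102e150a048200f0401c0a0301000260e058280c010b844200f070142c150a04c1a0c0582808030100424090401c0c000b8582a14098482210078381a0c058281208038180a04018080200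
def ordPar_D4_1 : ℕ := 0x6105303302202101000000
def ordNx_D4_1 : ℕ := 0xa0a030205040b0b0b0b040502030a0a0905060b0a0102090607090909090001
def ordLens_D4_1 : List ℕ := [0, 1, 2, 3, 3, 4, 5, 6]
theorem ordSt_D4_1 : stageOK chevD4 15 14 8 ordBig_D4_1 216 ordPar_D4_1 ordNx_D4_1 ordLens_D4_1 = true := by
  decide +kernel

def ordBig_D4_2 : ℕ := 0xa84c24170b0501608080340c0e0484414070783006010001408020b05024170a84c1809088340e0f0404014060702c08020001406010b85026160a8481e0e08840140c058340e06048200a020081006000b8582a14098482210078381a0c058281208038180a04018080200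
def ordPar_D4_2 : ℕ := 0x302101200000
def ordNx_D4_2 : ℕ := 0x2030707050500010701020500000000
def ordLens_D4_2 : List ℕ := [0, 1, 2, 3]
theorem ordSt_D4_2 : stageOK chevD4 14 10 4 ordBig_D4_2 216 ordPar_D4_2 ordNx_D4_2 ordLens_D4_2 = true := by
  decide +kernel

def ordBig_D4_3 : ℕ := 0xa85c2c1309050200d05820220e048181e0c0501c06050200400020b05c2a140904c220d06024200f0401c1c0b0501808050180800010b8582a14098482210078381a0c058281208038180a04018080200
def ordPar_D4_3 : ℕ := 0x301100000
def ordNx_D4_3 : ℕ := 0x10206000000060001000000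
def ordLens_D4_3 : List ℕ := [0, 1, 2]
theorem ordSt_D4_3 : stageOK chevD4 10 8 3 ordBig_D4_3 216 ordPar_D4_3 ordNx_D4_3 ordLens_D4_3 = true := by
  decide +kernel

def ordBig_D4_4 : ℕ := 0xb8542c130a04820110703c1a0b0602810090301c0a030200404000b8582a14098482210078381a0c058281208038180a04018080200
def ordPar_D4_4 : ℕ := 0x300000
def ordNx_D4_4 : ℕ := 0x1000000000000
def ordLens_D4_4 : List ℕ := [0, 1]
theorem ordSt_D4_4 : stageOK chevD4 8 0 2 ordBig_D4_4 216 ordPar_D4_4 ordNx_D4_4 ordLens_D4_4 = true := by
  decide +kernel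

end Cfsg.Agent.Helper11
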