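import Cfsg.Agent.Helper11.ChevU

set_option autoImplicit false

/-!
The Chevalley group is perfect: every root element is a commutator, either by the commutator formula
(a pair of roots `a, b` with `[x_b, x_a] = x_q(± t u)`) or by the action of `H` on `X_q`.
-/

namespace Cfsg.Agent.Helper11

open Cfsg.Lie

/-- `(a, b)` is a pair of roots whose commutator formula has the single term `x_q(± e t u)`. -/
noncomputable def perfPair (D : ChevalleyDatum) (e : ℤ) (q a b : ℕ) : Bool :=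
  Nat.blt a D.nroots && (Nat.blt b D.nroots && (cond (Nat.beq b a) false true &&
    (cond (Nat.beq b (D.neg a)) false true &&
      (decide (commTermsF D a b = [(q, e, 1, 1)]) || decide (commTermsF D a b = [(q, -e, 1, 1)])))))

noncomputable def perfBOK (D : ChevalleyDatum) (wit : List (ℕ × ℕ)) : Bool :=
  allN D.nroots (fun q => perfPair D 1 q (wit.getD q (0, 0)).1 (wit.getD q (0, 0)).2)

noncomputable def perfSOK (D : ChevalleyDatum) : Bool :=
  allN D.nroots (fun q =>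
    anyN D.nroots (fun r => decide (D.pairing r q = 1) || decide (D.pairing r q = -1)) ||
    (decide (D.pairing q q = 2) &&
      anyN D.nroots (fun a => anyN D.nroots (fun b => perfPair D 2 q a b))))

theorem perfPair_spec {D : ChevalleyDatum} (hT : tabOK D = true) (e : ℤ) (q a b : ℕ)
    (h : perfPair D e q a b = true) :
    a < D.nroots ∧ b < D.nroots ∧ b ≠ a ∧ b ≠ D.neg a ∧
      (D.commTerms a b = [(q, e, 1, 1)] ∨ D.commTerms a b = [(q, -e, 1, 1)]) := by
  unfold perfPair at h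
  simp only [Bool.and_eq_true, Bool.or_eq_true, decide_eq_true_eq] at h
  obtain ⟨h1, h2, h3, h4, h5⟩ := h
  refine ⟨(blt_iff _ _).mp h1, (blt_iff _ _).mp h2, ?_, ?_, ?_⟩
  · intro e1
    rw [(beq_iff _ _).mpr e1] at h3
    exact Bool.false_ne_true h3
  · intro e1
    rw [(beq_iff _ _).mpr e1] at h4
    exact Bool.false_ne_true h4
  · rw [commTermsF_eq hT] at h5; exact h5

theorem perfB_spec {D : ChevalleyDatum} (hT : tabOK D = true) (wit : List (ℕ × ℕ))
    (h : perfBOK D wit = true) (q : ℕ) (hq : q < D.nroots) :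
    ∃ a b, a < D.nroots ∧ b < D.nroots ∧ b ≠ a ∧ b ≠ D.neg a ∧
      (D.commTerms a b = [(q, 1, 1, 1)] ∨ D.commTerms a b = [(q, -1, 1, 1)]) :=
  ⟨_, _, perfPair_spec hT 1 q _ _ ((allN_spec _ _).mp h q hq)⟩

theorem perfS_spec {D : ChevalleyDatum} (hT : tabOK D = true) (h : perfSOK D = true) (q : ℕ)
    (hq : q < D.nroots) :
    (∃ r < D.nroots, D.pairing r q = 1 ∨ D.pairing r q = -1) ∨
    (D.pairing q q = 2 ∧ ∃ a b, a < D.nroots ∧ b < D.nroots ∧ b ≠ a ∧ b ≠ D.neg a ∧
      (D.commTerms a b = [(q, 2, 1, 1)] ∨ D.commTerms a b = [(q, -2, 1, 1)])) := by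
  have h1 := (allN_spec _ _).mp h q hq
  rw [Bool.or_eq_true] at h1
  rcases h1 with h1 | h1
  · left
    obtain ⟨r, hr, h2⟩ := (anyN_spec _ _).mp h1
    rw [Bool.or_eq_true, decide_eq_true_eq, decide_eq_true_eq] at h2
    exact ⟨r, hr, h2⟩
  · right
    rw [Bool.and_eq_true, decide_eq_true_eq] at h1
    obtain ⟨a, _, h2⟩ := (anyN_spec _ _).mp h1.2
    obtain ⟨b, _, h3⟩ := (anyN_spec _ _).mp h2
    exact ⟨h1.1, a, b, perfPair_spec hT 2 q a b h3⟩

theorem comm_mem_map {M : Type*} [Group M] (G : Subgroup M) (a b : M) (ha : a ∈ G) (hb : b ∈ G) :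
    a * b * a⁻¹ * b⁻¹ ∈ (commutator ↥G).map G.subtype := by
  rw [Subgroup.mem_map]
  refine ⟨(⟨a, ha⟩ : ↥G) * ⟨b, hb⟩ * (⟨a, ha⟩ : ↥G)⁻¹ * (⟨b, hb⟩ : ↥G)⁻¹, ?_, rfl⟩
  rw [_root_.commutator_eq_closure]
  exact Subgroup.subset_closure ⟨_, _, rfl⟩

section Perf
variable {F : Type*} [Field F] {D : ChevalleyDatum}

theorem perf_B (hD : Seven D) (q a b : ℕ) (e : ℤ) (ha : a < D.nroots) (hb : b < D.nroots)
    (hba : b ≠ a) (hbn : b ≠ D.neg a) (hct : D.commTerms a b = [(q, e, 1, 1)]) (he : (e : F) ≠ 0)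
    (t : F) :
    xG hD q t ∈ (commutator ↥(D.group F)).map (D.group F).subtype := by
  have h := xG_conj_x hD a b ha hb hba hbn ((e : F)⁻¹ * t) 1
  have hw : wG hD (D.commWord F a b (-((e : F)⁻¹ * t)) 1) = xG hD q t := by
    unfold ChevalleyDatum.commWord
    rw [hct, List.map_cons, List.map_nil, wG_cons, wG_nil, mul_one]
    congr 1
    show (e : F) * (-(-((e : F)⁻¹ * t))) ^ 1 * 1 ^ 1 = t
    rw [neg_neg, pow_one, pow_one, mul_one, ← mul_assoc, mul_inv_cancel₀ he, one_mul]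
  rw [hw] at h
  have e2 : xG hD q t = (xG hD b 1)⁻¹ * xG hD a ((e : F)⁻¹ * t) * ((xG hD b 1)⁻¹)⁻¹ *
      (xG hD a ((e : F)⁻¹ * t))⁻¹ := by
    rw [inv_inv]
    calc xG hD q t = (xG hD b 1)⁻¹ * (xG hD b 1 * xG hD q t) := by group
      _ = (xG hD b 1)⁻¹ * (xG hD a ((e : F)⁻¹ * t) * xG hD b 1 *
            (xG hD a ((e : F)⁻¹ * t))⁻¹) := by rw [h]
      _ = _ := by group
  rw [e2]
  exact comm_mem_map _ _ _ (inv_mem (xG_mem_group hD b 1)) (xG_mem_group hD a _)

theorem perf_A (hD : Seven D) (q r : ℕ) (hq : q < D.nroots) (hr : r < D.nroots) (c : F)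
    (hc : c ≠ 0) (hp : c ^ D.pairing r q ≠ 1) (t : F) :
    xG hD q t ∈ (commutator ↥(D.group F)).map (D.group F).subtype := by
  have hne : c ^ D.pairing r q - 1 ≠ 0 := sub_ne_zero.mpr hp
  have h := hG_conj_x hD r hr q hq c hc ((c ^ D.pairing r q - 1)⁻¹ * t)
  have key : ∀ z : F, z - 1 ≠ 0 → z * ((z - 1)⁻¹ * t) + -((z - 1)⁻¹ * t) = t := by
    intro z hz
    have e0 : z * ((z - 1)⁻¹ * t) + -((z - 1)⁻¹ * t) = ((z - 1) * (z - 1)⁻¹) * t := by ring
    rw [e0, mul_inv_cancel₀ hz, one_mul]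
  have e2 : xG hD q t = hG hD r c * xG hD q ((c ^ D.pairing r q - 1)⁻¹ * t) * (hG hD r c)⁻¹ *
      (xG hD q ((c ^ D.pairing r q - 1)⁻¹ * t))⁻¹ := by
    rw [h, xG_inv, xG_mul, key _ hne]
  rw [e2]
  exact comm_mem_map _ _ _ (H_le_group hD (hG_mem_H hD r hr c hc)) (xG_mem_group hD q _)

theorem perf_of_gens (hD : Seven D)
    (h : ∀ q < D.nroots, ∀ t : F,
      xG hD q t ∈ (commutator ↥(D.group F)).map (D.group F).subtype) :
    commutator ↥(D.group F) = ⊤ := by
  have hle : D.group F ≤ (commutator ↥(D.group F)).map (D.group F).subtype := by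
    refine (Subgroup.closure_le _).mpr ?_
    rintro x ⟨⟨r, hr⟩, t, hx⟩
    have e : x = xG hD r t := by
      apply Units.ext
      rw [hx]
      show _ = D.x F r t
      unfold ChevalleyDatum.x
      rw [dif_pos hr]
    rw [e]
    exact h r hr t
  rw [eq_top_iff]
  intro g _
  obtain ⟨k, hk, hkg⟩ := hle g.2
  have e : k = g := Subtype.ext hkg
  rw [← e]; exact hk

theorem perf_big (hD : Seven D) (wit : List (ℕ × ℕ)) (hw : perfBOK D wit = true) :
    commutator ↥(D.group F) = ⊤ := by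
  apply perf_of_gens hD
  intro q hq t
  obtain ⟨a, b, ha, hb, hba, hbn, hct⟩ := perfB_spec (tabOK_seven D hD) wit hw q hq
  rcases hct with hct | hct
  · exact perf_B hD q a b 1 ha hb hba hbn hct (by simp) t
  · exact perf_B hD q a b (-1) ha hb hba hbn hct (by simp) t

theorem perf_small (hD : Seven D) (hw : perfSOK D = true) (c : F) (hc0 : c ≠ 0) (hc1 : c ≠ 1) :
    commutator ↥(D.group F) = ⊤ := by
  apply perf_of_gens hD
  intro q hq t
  rcases perfS_spec (tabOK_seven D hD) hw q hq with ⟨r, hr, hp⟩ | ⟨hqq, a, b, ha, hb, hba, hbn, hct⟩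
  · apply perf_A hD q r hq hr c hc0 _ t
    rcases hp with hp | hp
    · rw [hp, zpow_one]; exact hc1
    · rw [hp, zpow_neg_one]; exact fun h => hc1 (inv_eq_one.mp h)
  · by_cases h2 : (2 : F) = 0
    · apply perf_A hD q q hq hq c hc0 _ t
      rw [hqq]
      intro h
      have h4 : c ^ (2 : ℕ) = 1 := by
        have h5 := h
        rw [zpow_ofNat] at h5
        exact h5
      have h3 : (c - 1) ^ 2 = 0 := by
        have e0 : (c - 1) ^ 2 = c ^ 2 - 2 * c + 1 := by ring
        rw [e0, h2, zero_mul, sub_zero, h4, one_add_one_eq_two]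
        exact h2
      exact hc1 (sub_eq_zero.mp (pow_eq_zero_iff (two_ne_zero) |>.mp h3))
    · rcases hct with hct | hct
      · exact perf_B hD q a b 2 ha hb hba hbn hct (by push_cast; exact h2) t
      · exact perf_B hD q a b (-2) ha hb hba hbn hct (by push_cast; exact neg_ne_zero.mpr h2) t

end Perf

end Cfsg.Agent.Helper11
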