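import Cfsg.Agent.Helper11.ChevConj
import Cfsg.Agent.Helper11.ChevGen

set_option autoImplicit false

/-!
Matrices given by packed operator tables (signed permutation matrices), kernel-checkable relations
`P * x_s(t) = x_{s'}(t) * P`, and the automorphism of the Chevalley group induced by a matrix that
permutes the fundamental root elements (graph automorphisms of D₄ and E₆).
-/

namespace Cfsg.Agent.Helper11

open Cfsg.Lie

section PermOp
variable {F : Type*} [Field F]

/-- The number of a coordinate. -/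
def idxNat (D : ChevalleyDatum) : D.Idx → ℕ
  | Sum.inl i => i.val
  | Sum.inr s => D.rank + s.val

theorem basisVec_idxNat (D : ChevalleyDatum) (c : D.Idx) :
    basisVec D F (idxNat D c) = Pi.single c 1 := by
  rcases c with i | s
  · exact basisVec_inl D i
  · exact basisVec_inr D s

/-- The matrix whose columns are given by a packed operator table. -/
noncomputable def opMat (D : ChevalleyDatum) (F : Type*) [Field F] (big : ℕ) :
    Matrix D.Idx D.Idx F :=
  Matrix.of fun row col => evalVec D (1 : F) 1 (opCol big (idxNat D col)) row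

theorem evalVec_decOp_const (D : ChevalleyDatum) (t u t' u' : F) (fuel : ℕ) :
    ∀ c : ℕ, evalVec D t u (decOp fuel c) = evalVec D t' u' (decOp fuel c) := by
  induction fuel with
  | zero => intro c; rfl
  | succ f ih =>
    intro c
    have e : decOp (f + 1) c = cond (Nat.beq c 0) []
        ((Nat.sub (Nat.mod c 512) 1, (Int.subNatNat (Nat.mod (Nat.div c 512) 16) 8, 0, 0)) ::
          decOp f (Nat.div c 8192)) := rfl
    rw [e]
    cases Nat.beq c 0 with
    | true => rfl
    | false =>
      show evalVec D t u (_ :: _) = evalVec D t' u' (_ :: _)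
      rw [evalVec_cons, evalVec_cons, ih]
      simp [evalMono]

theorem opMat_mulVec (D : ChevalleyDatum) (big : ℕ) (t u : F) (v : ℕ)
    (hv : v < D.rank + D.nroots) :
    evalVec D t u (opCol big v) = (opMat D F big).mulVec (basisVec D F v) := by
  obtain ⟨c, rfl⟩ : ∃ c : D.Idx, idxNat D c = v := by
    by_cases h : v < D.rank
    · exact ⟨Sum.inl ⟨v, h⟩, rfl⟩
    · exact ⟨Sum.inr ⟨v - D.rank, by omega⟩, by show D.rank + (v - D.rank) = v; omega⟩
  rw [basisVec_idxNat, Matrix.mulVec_single_one]
  funext row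
  show evalVec D t u (decOp 4 _) row = evalVec D (1 : F) 1 (decOp 4 _) row
  rw [evalVec_decOp_const D t u 1 1]

/-- Check of `P * x_s(t) = x_{s'}(t) * P` for the operator table `big`. -/
noncomputable def permOK (D : ChevalleyDatum) (big s s' : ℕ) : Bool :=
  allN (Nat.add D.rank D.nroots) (fun v =>
    vecEqF (applyOp (Nat.add D.rank D.nroots) big (applyXF D s [(1, 1, 0)] [(v, (1, 0, 0))]))
      (applyXF D s' [(1, 1, 0)] (applyOp (Nat.add D.rank D.nroots) big [(v, (1, 0, 0))])))

theorem perm_sound {D : ChevalleyDatum} (hT : tabOK D = true) (big s s' : ℕ)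
    (h : permOK D big s s' = true) (t : F) :
    opMat D F big * D.x F s t = D.x F s' t * opMat D F big := by
  apply matrix_ext_basis
  intro v hv
  have hM := fun v hv => opMat_mulVec (F := F) D big t 0 v hv
  have e : ([(v, ((1 : ℤ), 0, 0))] : Vec) = unitVec v := rfl
  have e1 : t = evalPoly t (0 : F) [(1, 1, 0)] := by simp [evalPoly, evalMono]
  have hL : evalVec D t 0 (applyOp (Nat.add D.rank D.nroots) big
      (applyXF D s [(1, 1, 0)] [(v, (1, 0, 0))])) =
      (opMat D F big * D.x F s t).mulVec (basisVec D F v) := by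
    rw [applyOp_sound D t 0 _ _ hM, applyXF_eq hT, e, ← applyX_sound, evalVec_unitVec, ← e1,
      Matrix.mulVec_mulVec]
  have hR : evalVec D t 0 (applyXF D s' [(1, 1, 0)]
      (applyOp (Nat.add D.rank D.nroots) big [(v, (1, 0, 0))])) =
      (D.x F s' t * opMat D F big).mulVec (basisVec D F v) := by
    rw [applyXF_eq hT, ← applyX_sound, applyOp_sound D t 0 _ _ hM, e, evalVec_unitVec, ← e1,
      Matrix.mulVec_mulVec]
  rw [← hL, ← hR]
  exact vecEqF_sound D t 0 _ _ ((allN_spec _ _).mp h v hv)

/-- Check that the product of the operator tables `big`, `big'` is the identity. -/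
noncomputable def permInvOK (D : ChevalleyDatum) (big big' : ℕ) : Bool :=
  allN (Nat.add D.rank D.nroots) (fun v =>
    vecEqF (applyOp (Nat.add D.rank D.nroots) big
      (applyOp (Nat.add D.rank D.nroots) big' [(v, (1, 0, 0))])) [(v, (1, 0, 0))])

theorem permInv_sound (D : ChevalleyDatum) (big big' : ℕ) (h : permInvOK D big big' = true) :
    opMat D F big * opMat D F big' = 1 := by
  apply matrix_ext_basis
  intro v hv
  have hM := fun v hv => opMat_mulVec (F := F) D big 1 1 v hv
  have hM' := fun v hv => opMat_mulVec (F := F) D big' 1 1 v hv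
  have e : ([(v, ((1 : ℤ), 0, 0))] : Vec) = unitVec v := rfl
  have h1 := vecEqF_sound D (1 : F) 1 _ _ ((allN_spec _ _).mp h v hv)
  rw [applyOp_sound D 1 1 _ _ hM, applyOp_sound D 1 1 _ _ hM', e, evalVec_unitVec,
    Matrix.mulVec_mulVec] at h1
  rw [h1, Matrix.one_mulVec]

/-- All checks for a graph automorphism along the permutation `l` of the nodes. -/
noncomputable def graphAutOK (D : ChevalleyDatum) (big : ℕ) (l : List ℕ) : Bool :=
  allN D.rank (fun i => Nat.blt (l.getD i 0) D.rank &&
    (permOK D big (D.simple i) (D.simple (l.getD i 0)) &&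
      permOK D big (D.neg (D.simple i)) (D.neg (D.simple (l.getD i 0))))) &&
  allN D.rank (fun j => anyN D.rank (fun i => Nat.beq (l.getD i 0) j))

theorem graph_aut_exists {D : ChevalleyDatum} (hD : Seven D) (big big' : ℕ) (l : List ℕ)
    (h1 : permInvOK D big big' = true) (h2 : permInvOK D big' big = true)
    (h : graphAutOK D big l = true) :
    ∃ α : ↥(D.group F) ≃* ↥(D.group F), ∀ (g : ↥(D.group F)) (i : ℕ) (t : F), i < D.rank →
      (((g : GL D.Idx F) : Matrix D.Idx D.Idx F) = D.x F (D.simple i) t →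
        ((α g : GL D.Idx F) : Matrix D.Idx D.Idx F) = D.x F (D.simple (l.getD i 0)) t) ∧
      (((g : GL D.Idx F) : Matrix D.Idx D.Idx F) = D.x F (D.neg (D.simple i)) t →
        ((α g : GL D.Idx F) : Matrix D.Idx D.Idx F) =
          D.x F (D.neg (D.simple (l.getD i 0))) t) := by
  have hT := tabOK_seven D hD
  obtain ⟨P, hP⟩ : ∃ P : GL D.Idx F, (P : Matrix D.Idx D.Idx F) = opMat D F big :=
    ⟨⟨opMat D F big, opMat D F big', permInv_sound D big big' h1, permInv_sound D big' big h2⟩, rfl⟩
  unfold graphAutOK at h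
  rw [Bool.and_eq_true] at h
  have hrel : ∀ i < D.rank, l.getD i 0 < D.rank ∧
      (∀ t : F, P * xG hD (D.simple i) t * P⁻¹ = xG hD (D.simple (l.getD i 0)) t) ∧
      (∀ t : F, P * xG hD (D.neg (D.simple i)) t * P⁻¹ =
        xG hD (D.neg (D.simple (l.getD i 0))) t) := by
    intro i hi
    have h3 := (allN_spec _ _).mp h.1 i hi
    simp only [Bool.and_eq_true] at h3
    refine ⟨(blt_iff _ _).mp h3.1, fun t => ?_, fun t => ?_⟩
    · rw [mul_inv_eq_iff_eq_mul]; apply Units.ext
      rw [Units.val_mul, Units.val_mul, hP]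
      exact perm_sound hT big _ _ h3.2.1 t
    · rw [mul_inv_eq_iff_eq_mul]; apply Units.ext
      rw [Units.val_mul, Units.val_mul, hP]
      exact perm_sound hT big _ _ h3.2.2 t
  have hsurj : ∀ j < D.rank, ∃ i < D.rank, l.getD i 0 = j := by
    intro j hj
    obtain ⟨i, hi, h4⟩ := (anyN_spec _ _).mp ((allN_spec _ _).mp h.2 j hj)
    exact ⟨i, hi, (beq_iff _ _).mp h4⟩
  have hW := rootWords7 D hD
  have hfwd : ∀ x ∈ D.group F, P * x * P⁻¹ ∈ D.group F := by
    intro x hx
    rw [group_eq_fund hD hW] at hx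
    induction hx using Subgroup.closure_induction with
    | mem x hx =>
      obtain ⟨i, hi, t, rfl | rfl⟩ := hx
      · rw [(hrel i hi).2.1 t]; exact xG_mem_group hD _ t
      · rw [(hrel i hi).2.2 t]; exact xG_mem_group hD _ t
    | one =>
      have : P * 1 * P⁻¹ = 1 := by group
      rw [this]; exact one_mem _
    | mul x y _ _ ihx ihy =>
      have : P * (x * y) * P⁻¹ = (P * x * P⁻¹) * (P * y * P⁻¹) := by group
      rw [this]; exact mul_mem ihx ihy
    | inv x _ ih =>
      have : P * x⁻¹ * P⁻¹ = (P * x * P⁻¹)⁻¹ := by group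
      rw [this]; exact inv_mem ih
  have hbwd : ∀ x ∈ D.group F, P⁻¹ * x * P ∈ D.group F := by
    intro x hx
    rw [group_eq_fund hD hW] at hx
    induction hx using Subgroup.closure_induction with
    | mem x hx =>
      obtain ⟨j, hj, t, rfl | rfl⟩ := hx
      · obtain ⟨i, hi, rfl⟩ := hsurj j hj
        rw [← (hrel i hi).2.1 t]
        have : P⁻¹ * (P * xG hD (D.simple i) t * P⁻¹) * P = xG hD (D.simple i) t := by group
        rw [this]; exact xG_mem_group hD _ t
      · obtain ⟨i, hi, rfl⟩ := hsurj j hj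
        rw [← (hrel i hi).2.2 t]
        have : P⁻¹ * (P * xG hD (D.neg (D.simple i)) t * P⁻¹) * P =
            xG hD (D.neg (D.simple i)) t := by group
        rw [this]; exact xG_mem_group hD _ t
    | one =>
      have : P⁻¹ * 1 * P = 1 := by group
      rw [this]; exact one_mem _
    | mul x y _ _ ihx ihy =>
      have : P⁻¹ * (x * y) * P = (P⁻¹ * x * P) * (P⁻¹ * y * P) := by group
      rw [this]; exact mul_mem ihx ihy
    | inv x _ ih =>
      have : P⁻¹ * x⁻¹ * P = (P⁻¹ * x * P)⁻¹ := by group
      rw [this]; exact inv_mem ih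
  refine ⟨{ toFun := fun g => ⟨P * g.1 * P⁻¹, hfwd g.1 g.2⟩
            invFun := fun g => ⟨P⁻¹ * g.1 * P, hbwd g.1 g.2⟩
            left_inv := ?_
            right_inv := ?_
            map_mul' := ?_ }, ?_⟩
  · intro g; apply Subtype.ext
    show P⁻¹ * (P * g.1 * P⁻¹) * P = g.1
    group
  · intro g; apply Subtype.ext
    show P * (P⁻¹ * g.1 * P) * P⁻¹ = g.1
    group
  · intro a b; apply Subtype.ext
    show P * (a.1 * b.1) * P⁻¹ = (P * a.1 * P⁻¹) * (P * b.1 * P⁻¹)
    group
  · intro g i t hi
    constructor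
    · intro hg
      have e : (g : GL D.Idx F) = xG hD (D.simple i) t := eq_xG hD _ _ _ hg
      show ((P * (g : GL D.Idx F) * P⁻¹ : GL D.Idx F) : Matrix D.Idx D.Idx F) = _
      rw [e, (hrel i hi).2.1 t]; rfl
    · intro hg
      have e : (g : GL D.Idx F) = xG hD (D.neg (D.simple i)) t := eq_xG hD _ _ _ hg
      show ((P * (g : GL D.Idx F) * P⁻¹ : GL D.Idx F) : Matrix D.Idx D.Idx F) = _
      rw [e, (hrel i hi).2.2 t]; rfl

end PermOp

end Cfsg.Agent.Helper11
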