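import Cfsg.Agent.Helper11.ChevTwU3
import Cfsg.Agent.Helper11.ChevFastP

set_option autoImplicit false

/-!
Partial monomial operators intertwining root elements modulo a prime: the kernel-checkable relation
`P * x_s(t) = x_{s'}(τ(t)) * P` modulo `p`, the relations between the matrix entries of the
elements commuting with `P` up to a field endomorphism, and the transport of words through `P`.
-/

namespace Cfsg.Agent.Helper11

open Cfsg.Lie

section PermP
variable {F : Type*} [Field F]

/-- Check of `P * x_s(t) = x_{s'}(τ(t)) * P` modulo `p` for the operator table `big`. -/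
noncomputable def permOKP (p : ℤ) (D : ChevalleyDatum) (big s s' : ℕ) (τ : Poly) : Bool :=
  allN (Nat.add D.rank D.nroots) (fun v =>
    vecEqP p (applyOp (Nat.add D.rank D.nroots) big (applyXF D s [(1, 1, 0)] [(v, (1, 0, 0))]))
      (applyXF D s' τ (applyOp (Nat.add D.rank D.nroots) big [(v, (1, 0, 0))])))

theorem permP_sound {D : ChevalleyDatum} (hT : tabOK D = true) (p : ℤ) (hp : ((p : ℤ) : F) = 0)
    (big s s' : ℕ) (τ : Poly) (h : permOKP p D big s s' τ = true) (t : F) :
    opMat D F big * D.x F s t = D.x F s' (evalPoly t 0 τ) * opMat D F big := by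
  apply matrix_ext_basis
  intro v hv
  have hM := fun v hv => opMat_mulVec (F := F) D big t 0 v hv
  have e : ([(v, ((1 : ℤ), 0, 0))] : Vec) = unitVec v := rfl
  have e1 : t = evalPoly t (0 : F) [(1, 1, 0)] := by simp [evalPoly, evalMono]
  have hL : evalVec D t 0 (applyOp (Nat.add D.rank D.nroots) big
      (applyXF D s [(1, 1, 0)] [(v, (1, 0, 0))])) =
      (opMat D F big * D.x F s t).mulVec (basisVec D F v) := by
    rw [applyOp_sound D t 0 _ _ hM, applyXF_eq hT, e, ← applyX_sound, evalVec_unitVec, ← e1,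
      Matrix.mulVec_mulVec]
  have hR : evalVec D t 0 (applyXF D s' τ
      (applyOp (Nat.add D.rank D.nroots) big [(v, (1, 0, 0))])) =
      (D.x F s' (evalPoly t 0 τ) * opMat D F big).mulVec (basisVec D F v) := by
    rw [applyXF_eq hT, ← applyX_sound, applyOp_sound D t 0 _ _ hM, e, evalVec_unitVec,
      Matrix.mulVec_mulVec]
  rw [← hL, ← hR]
  exact vecEqP_sound D p hp t 0 _ _ ((allN_spec _ _).mp h v hv)

end PermP

section FixP
variable {K : Type*} [Field K]

theorem mono_rel' {ι : Type*} [Fintype ι] [DecidableEq ι] (P : Matrix ι ι K) (c : ι → ℕ)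
    (hc : Function.Injective c) (p : ℕ → ℕ) (s : ℕ → K)
    (hP : ∀ a b, P a b = if c a = p (c b) then s (c b) else 0) (φ : K →+* K)
    (g : Matrix ι ι K) (h : g * P = P * g.map φ) (a a' b b' : ι) (ha : c a' = p (c a))
    (hb : c b' = p (c b)) (hu : ∀ x, c a' = p (c x) → x ≠ a → s (c x) = 0) :
    g a' b' * s (c b) = s (c a) * φ (g a b) := by
  have h1 := congrFun (congrFun h a') b
  rw [Matrix.mul_apply, Matrix.mul_apply] at h1
  have e1 : ∑ x, g a' x * P x b = g a' b' * s (c b) := by
    rw [Finset.sum_eq_single b']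
    · rw [hP, if_pos hb]
    · intro x _ hx
      rw [hP, if_neg (fun e => hx (hc (e.trans hb.symm))), mul_zero]
    · intro h'; exact absurd (Finset.mem_univ _) h'
  have e2 : ∑ x, P a' x * (g.map φ) x b = s (c a) * φ (g a b) := by
    rw [Finset.sum_eq_single a]
    · rw [hP, if_pos ha, Matrix.map_apply]
    · intro x _ hx
      rw [hP]
      by_cases e : c a' = p (c x)
      · rw [if_pos e, hu x e hx, zero_mul]
      · rw [if_neg e, zero_mul]
    · intro h'; exact absurd (Finset.mem_univ _) h'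
  rw [e1, e2] at h1
  exact h1

variable {D : ChevalleyDatum}

theorem kap_rel' (hD : Seven D) (big : ℕ) (perm : List ℕ) (sgn : List ℤ)
    (hmono : monoOK D big perm sgn = true) (φ : K →+* K)
    (g : GL D.Idx K) (hg : g ∈ fixSub (opMat D K big) φ)
    (m r i i' : ℕ) (hm : m < D.nroots) (hr : r < D.nroots) (hi : i < D.rank) (hi' : i' < D.rank)
    (e1 : perm.getD i 0 = i') (e2 : perm.getD (D.rank + D.neg r) 0 = D.rank + D.neg m)
    (hu : ∀ v, v < D.rank + D.nroots → perm.getD v 0 = i' → v ≠ i → sgn.getD v 0 = 0) :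
    kap hD m i' g * ((sgn.getD (D.rank + D.neg r) 0 : ℤ) : K) =
      ((sgn.getD i 0 : ℤ) : K) * φ (kap hD r i g) := by
  unfold kap
  rw [dif_pos ⟨hm, hi'⟩, dif_pos ⟨hr, hi⟩]
  exact mono_rel' (opMat D K big) (code D) (fun a b h => code_inj D a b h)
    (fun v => perm.getD v 0)
    (fun v => ((sgn.getD v 0 : ℤ) : K)) (mono_sound big perm sgn hmono) φ _ hg
    (Sum.inl ⟨i, hi⟩) (Sum.inl ⟨i', hi'⟩) (Sum.inr ⟨D.neg r, neg_lt7 hD r hr⟩)
    (Sum.inr ⟨D.neg m, neg_lt7 hD m hm⟩) e1.symm e2.symm
    (fun x hx hne => by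
      have h0 := hu (code D x) (code_lt D x) hx.symm
        (fun e => hne (code_inj D x (Sum.inl ⟨i, hi⟩) e))
      show ((sgn.getD (code D x) 0 : ℤ) : K) = 0
      rw [h0, Int.cast_zero])

/-- Transport of a word through an intertwining operator. -/
theorem tw_word (Q : Matrix D.Idx D.Idx K) (φ : K →+* K) (R : ℕ → K → ℕ × K)
    (hR : ∀ s c, s < D.nroots → Q * (D.x K s c).map φ = D.x K (R s c).1 (R s c).2 * Q)
    (w : List (ℕ × K)) (hw : ∀ p ∈ w, p.1 < D.nroots) :
    Q * (D.wordMat K w).map φ = D.wordMat K (w.map fun p => R p.1 p.2) * Q := by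
  induction w with
  | nil =>
    have e0 : D.wordMat K ([] : List (ℕ × K)) = 1 := by simp [ChevalleyDatum.wordMat]
    rw [List.map_nil, e0, Matrix.map_one _ (map_zero φ) (map_one φ), mul_one, one_mul]
  | cons p w ih =>
    have e1 : D.wordMat K (p :: w) = D.x K p.1 p.2 * D.wordMat K w := by
      simp [ChevalleyDatum.wordMat]
    have e2 : D.wordMat K ((p :: w).map fun p => R p.1 p.2) =
        D.x K (R p.1 p.2).1 (R p.1 p.2).2 * D.wordMat K (w.map fun p => R p.1 p.2) := by
      simp [ChevalleyDatum.wordMat]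
    rw [e1, e2, Matrix.map_mul, ← mul_assoc, hR p.1 p.2 (hw p List.mem_cons_self), mul_assoc,
      ih (fun p' hp' => hw p' (List.mem_cons_of_mem _ hp')), mul_assoc]

theorem tw_fix (hD : Seven D) (Q : Matrix D.Idx D.Idx K) (φ : K →+* K) (R : ℕ → K → ℕ × K)
    (hR : ∀ s c, s < D.nroots → Q * (D.x K s c).map φ = D.x K (R s c).1 (R s c).2 * Q)
    (w : List (ℕ × K)) (hw : ∀ p ∈ w, p.1 < D.nroots)
    (hfix : wG hD (w.map fun p => R p.1 p.2) = wG hD w) : wG hD w ∈ fixSub Q φ := by
  rw [mem_fixSub, wG_val, tw_word Q φ R hR w hw]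
  have e := congrArg (fun g : GL D.Idx K => (g : Matrix D.Idx D.Idx K)) hfix
  simp only [wG_val] at e
  rw [e]

end FixP

end Cfsg.Agent.Helper11
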