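import Cfsg.Agent.Helper11.ChevCommAll
import Cfsg.Agent.Helper11.ChevGrp2

set_option autoImplicit false

/-!
Consequences of the commutator formula for the positive root elements: the subgroups
`⟨X_r : r ≥ m⟩`, the ordered product form of the elements of `U` and its uniqueness, and the rank one
parabolic structure. The facts about the tables that are used are the kernel-checkable conditions
`commPosOK`, `rank1OK`, `unqOK`.
-/

namespace Cfsg.Agent.Helper11

open Cfsg.Lie

noncomputable def termsAll (D : ChevalleyDatum) (r s : ℕ) (p : ℕ → Bool) : Bool :=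
  allL (fun c => p c.1) (commTermsF D r s)

theorem termsAll_spec {D : ChevalleyDatum} (hT : tabOK D = true) (r s : ℕ) (p : ℕ → Bool)
    (h : termsAll D r s p = true) : ∀ c ∈ D.commTerms r s, p c.1 = true := by
  intro c hc
  rw [← commTermsF_eq hT] at hc
  exact (allL_spec _ _).mp h c hc

/-- For positive roots `r ≠ s`, the roots of the commutator word have larger index than both. -/
noncomputable def commPosOK (D : ChevalleyDatum) (r : ℕ) : Bool :=
  cond (Nat.blt r (Nat.div D.nroots 2)) true
    (allN D.nroots (fun s => cond (Nat.blt s (Nat.div D.nroots 2)) true (cond (Nat.beq s r) true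
      (termsAll D r s (fun k => Nat.blt k D.nroots && (Nat.blt r k && Nat.blt s k))))))

/-- For a fundamental root `p` and a positive root `s ≠ p`, the roots of the commutator word of
`(-p, s)` are positive and different from `p`. -/
noncomputable def rank1OK (D : ChevalleyDatum) (i : ℕ) : Bool :=
  allN D.nroots (fun s => cond (Nat.blt s (Nat.div D.nroots 2)) true (cond (Nat.beq s (D.simple i)) true
    (termsAll D (D.neg (D.simple i)) s (fun k => Nat.blt k D.nroots &&
      (Nat.ble (Nat.div D.nroots 2) k && cond (Nat.beq k (D.simple i)) false true)))))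

noncomputable def isPM1 (z : ℤ) : Bool := decide (z = 1) || decide (z = -1)

/-- For a positive root `m`: root elements `x_r`, `r > m`, move `e_{-m}` only by positive root vectors;
and the coefficients of the coroot of `m` generate the unit ideal in a visible way. -/
noncomputable def unqOK (D : ChevalleyDatum) (m : ℕ) : Bool :=
  cond (Nat.blt m (Nat.div D.nroots 2)) true
    (allN D.nroots (fun r => cond (Nat.blt m r)
        (allL (fun e => Nat.ble (Nat.add D.rank (Nat.div D.nroots 2)) e.1)
          (colF D r (Nat.add D.rank (negAt D m)))) true) &&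
      anyN D.rank (fun i => isPM1 (corAt D m i) ||
        anyN D.rank (fun j => isPM1 (Int.sub (corAt D m i) (corAt D m j)))))

noncomputable def posOK (D : ChevalleyDatum) : Bool :=
  allN D.nroots (fun r => commPosOK D r && unqOK D r) && allN D.rank (rank1OK D)

section PosSound
variable {F : Type*} [Field F] {D : ChevalleyDatum}

theorem commPos_of (hT : tabOK D = true) (hP : posOK D = true) (r : ℕ) (hr : D.nroots / 2 ≤ r)
    (hr2 : r < D.nroots) (s : ℕ) (hs : s < D.nroots) (hs2 : D.nroots / 2 ≤ s) (hne : s ≠ r) :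
    ∀ c ∈ D.commTerms r s, c.1 < D.nroots ∧ r < c.1 ∧ s < c.1 := by
  unfold posOK at hP
  rw [Bool.and_eq_true] at hP
  have h := (allN_spec _ _).mp hP.1 r hr2
  rw [Bool.and_eq_true] at h
  have h0 := h.1
  unfold commPosOK at h0
  rw [show Nat.blt r (Nat.div D.nroots 2) = false from
      blt_false_of_not (show ¬ r < D.nroots / 2 by omega), cond_false] at h0
  have h1 := (allN_spec _ _).mp h0 s hs
  rw [show Nat.blt s (Nat.div D.nroots 2) = false from
      blt_false_of_not (show ¬ s < D.nroots / 2 by omega), cond_false,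
    beq_false_of_ne hne, cond_false] at h1
  intro c hc
  have h2 := termsAll_spec hT r s _ h1 c hc
  simp only [Bool.and_eq_true] at h2
  exact ⟨(blt_iff _ _).mp h2.1, (blt_iff _ _).mp h2.2.1, (blt_iff _ _).mp h2.2.2⟩

theorem rank1_of (hT : tabOK D = true) (hP : posOK D = true) (i : ℕ) (hi : i < D.rank) (s : ℕ)
    (hs : s < D.nroots) (hs2 : D.nroots / 2 ≤ s) (hne : s ≠ D.simple i) :
    ∀ c ∈ D.commTerms (D.neg (D.simple i)) s, c.1 < D.nroots ∧ D.nroots / 2 ≤ c.1 ∧
      c.1 ≠ D.simple i := by
  unfold posOK at hP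
  rw [Bool.and_eq_true] at hP
  have h0 := (allN_spec _ _).mp hP.2 i hi
  unfold rank1OK at h0
  have h1 := (allN_spec _ _).mp h0 s hs
  rw [show Nat.blt s (Nat.div D.nroots 2) = false from
      blt_false_of_not (show ¬ s < D.nroots / 2 by omega), cond_false,
    beq_false_of_ne hne, cond_false] at h1
  intro c hc
  have h2 := termsAll_spec hT _ s _ h1 c hc
  simp only [Bool.and_eq_true] at h2
  refine ⟨(blt_iff _ _).mp h2.1, Nat.le_of_ble_eq_true h2.2.1, ?_⟩
  intro he
  have h3 := h2.2.2
  rw [(beq_iff _ _).mpr he, cond_true] at h3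
  exact absurd h3 (by simp)

theorem unq_of (hT : tabOK D = true) (hP : posOK D = true) (m : ℕ) (hm : D.nroots / 2 ≤ m)
    (hm2 : m < D.nroots) :
    (∀ r, m < r → r < D.nroots → ∀ e ∈ colN D r (D.rank + D.neg m), D.rank + D.nroots / 2 ≤ e.1) ∧
    ((∃ i < D.rank, (D.coroot.getD m #[]).getD i 0 = 1 ∨ (D.coroot.getD m #[]).getD i 0 = -1) ∨
      ∃ i < D.rank, ∃ j < D.rank,
        (D.coroot.getD m #[]).getD i 0 - (D.coroot.getD m #[]).getD j 0 = 1 ∨
        (D.coroot.getD m #[]).getD i 0 - (D.coroot.getD m #[]).getD j 0 = -1) := by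
  unfold posOK at hP
  rw [Bool.and_eq_true] at hP
  have h := (allN_spec _ _).mp hP.1 m hm2
  rw [Bool.and_eq_true] at h
  have h0 := h.2
  unfold unqOK at h0
  rw [show Nat.blt m (Nat.div D.nroots 2) = false from
      blt_false_of_not (show ¬ m < D.nroots / 2 by omega), cond_false,
    Bool.and_eq_true] at h0
  constructor
  · intro r hmr hr e he
    have h1 := (allN_spec _ _).mp h0.1 r hr
    rw [(blt_iff _ _).mpr hmr, cond_true, tabOK_neg hT m hm2] at h1
    rw [← colF_eq hT r hr] at he
    exact Nat.le_of_ble_eq_true ((allL_spec _ _).mp h1 e he)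
  · obtain ⟨i, hi, h1⟩ := (anyN_spec _ _).mp h0.2
    rw [Bool.or_eq_true] at h1
    rcases h1 with h1 | h1
    · left
      refine ⟨i, hi, ?_⟩
      unfold isPM1 at h1
      rw [tabOK_cor hT m i hm2 hi] at h1
      simpa using h1
    · right
      obtain ⟨j, hj, h2⟩ := (anyN_spec _ _).mp h1
      refine ⟨i, hi, j, hj, ?_⟩
      unfold isPM1 at h2
      rw [tabOK_cor hT m i hm2 hi, tabOK_cor hT m j hm2 hj] at h2
      have e : Int.sub ((D.coroot.getD m #[]).getD i 0) ((D.coroot.getD m #[]).getD j 0) =
          (D.coroot.getD m #[]).getD i 0 - (D.coroot.getD m #[]).getD j 0 := rfl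
      rw [e] at h2
      simpa using h2

end PosSound

end Cfsg.Agent.Helper11
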