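import Cfsg.Agent.Helper11.ChevPos

set_option autoImplicit false

/-! Kernel checks of the positivity tables for the seven tabulated data. -/

namespace Cfsg.Agent.Helper11

open Cfsg.Lie

set_option maxRecDepth 100000
set_option maxHeartbeats 0
set_option Elab.async false

theorem posOK_G2 : posOK chevG2 = true := by decide +kernel
theorem posOK_B2 : posOK chevB2 = true := by decide +kernel
theorem posOK_D4 : posOK chevD4 = true := by decide +kernel
theorem posOK_F4 : posOK chevF4 = true := by decide +kernel
theorem posOK_E6 : posOK chevE6 = true := by decide +kernel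
theorem posOK_E7 : posOK chevE7 = true := by decide +kernel
theorem posOK_E8 : posOK chevE8 = true := by decide +kernel

theorem posOK_seven (D : ChevalleyDatum)
    (hD : D ∈ [chevG2, chevB2, chevD4, chevF4, chevE6, chevE7, chevE8]) : posOK D = true :=
  forall_seven (P := fun D => posOK D = true) posOK_G2 posOK_B2 posOK_D4 posOK_F4 posOK_E6
    posOK_E7 posOK_E8 D hD

end Cfsg.Agent.Helper11
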