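import Cfsg.Agent.Helper11.ChevAddAll
import Cfsg.Agent.Helper11.ChevHAll
import Cfsg.Agent.Helper11.ChevNAll
import Cfsg.Agent.Helper11.ChevConjAll
import Cfsg.Agent.Helper11.ChevMisc

set_option autoImplicit false

/-!
Interface lemmas for the seven tabulated Chevalley data (G₂, B₂, D₄, F₄, E₆, E₇, E₈), proved by the
kernel-checked symbolic calculus: additivity of root elements, the diagonal form of `h_r(c)`, the
monomial form of `n_p`, and the conjugation `n_p x_s(t) n_p⁻¹ = x_{w_p s}(η t)`.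
-/

namespace Cfsg.Agent.Helper11

open Cfsg.Lie

section Rel
variable {F : Type*} [Field F] {D : ChevalleyDatum}

theorem colN_pow_pos (D : ChevalleyDatum) (r v : ℕ) : ∀ e ∈ colN D r v, 1 ≤ e.2.1 := by
  intro e he
  unfold colN at he
  split_ifs at he
  · simp only [List.mem_singleton] at he; rw [he]
  · simp at he
  · simp only [List.mem_append, List.mem_map, List.mem_range, List.mem_singleton] at he
    rcases he with ⟨i, _, rfl⟩ | rfl <;> simp
  · simp only [List.mem_flatMap, List.mem_map] at he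
    obtain ⟨_, _, q, _, rfl⟩ := he
    simp

/-- `x_r(0) = 1`. -/
theorem x_zero (D : ChevalleyDatum) (r : ℕ) : D.x F r 0 = 1 := by
  unfold ChevalleyDatum.x
  split_ifs with h
  · apply matrix_ext_basis
    intro v hv
    rw [xMat_mulVec_basis D ⟨r, h⟩ 0 v hv, Matrix.one_mulVec]
    have : ((colN D r v).map fun e => ((e.2.2 : F) * (0 : F) ^ e.2.1) • basisVec D F e.1).sum = 0 := by
      apply List.sum_eq_zero
      intro x hx
      rw [List.mem_map] at hx
      obtain ⟨e, he, rfl⟩ := hx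
      have := colN_pow_pos D r v e he
      rw [zero_pow (by omega), mul_zero, zero_smul]
    rw [this, add_zero]
  · rfl

theorem x_add7 (hD : D ∈ [chevG2, chevB2, chevD4, chevF4, chevE6, chevE7, chevE8]) (r : ℕ)
    (hr : r < D.nroots) (t₁ t₂ : F) : D.x F r t₁ * D.x F r t₂ = D.x F r (t₁ + t₂) :=
  x_add_of (tabOK_seven D hD) r (addOK_seven D hD r hr) t₁ t₂

/-- Additivity also out of range (where `x` is the identity). -/
theorem x_add7' (hD : D ∈ [chevG2, chevB2, chevD4, chevF4, chevE6, chevE7, chevE8]) (r : ℕ)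
    (t₁ t₂ : F) : D.x F r t₁ * D.x F r t₂ = D.x F r (t₁ + t₂) := by
  by_cases hr : r < D.nroots
  · exact x_add7 hD r hr t₁ t₂
  · simp [ChevalleyDatum.x, hr]

theorem x_mul_neg7 (hD : D ∈ [chevG2, chevB2, chevD4, chevF4, chevE6, chevE7, chevE8]) (r : ℕ)
    (t : F) : D.x F r t * D.x F r (-t) = 1 := by
  rw [x_add7' hD, add_neg_cancel, x_zero]

theorem x_neg_mul7 (hD : D ∈ [chevG2, chevB2, chevD4, chevF4, chevE6, chevE7, chevE8]) (r : ℕ)
    (t : F) : D.x F r (-t) * D.x F r t = 1 := by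
  rw [x_add7' hD, neg_add_cancel, x_zero]

theorem simple_lt7 (hD : D ∈ [chevG2, chevB2, chevD4, chevF4, chevE6, chevE7, chevE8]) (i : ℕ)
    (hi : i < D.rank) : D.simple i < D.nroots := by
  have h := (allN_spec _ _).mp (simpOK_seven D hD) i hi
  rw [Bool.and_eq_true] at h
  exact (blt_iff _ _).mp h.1

theorem pairing_simple7 (hD : D ∈ [chevG2, chevB2, chevD4, chevF4, chevE6, chevE7, chevE8]) (i : ℕ)
    (hi : i < D.rank) (s : ℕ) (hs : s < D.nroots) : D.pairing (D.simple i) s = D.cartan i s := by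
  have hT := tabOK_seven D hD
  have h := (allN_spec _ _).mp (simpOK_seven D hD) i hi
  rw [Bool.and_eq_true] at h
  have h2 := of_decide_eq_true ((allN_spec _ _).mp h.2 s hs)
  rw [← pairF_eq hT _ _ (simple_lt7 hD i hi) hs, h2, tabOK_cart hT i s hi hs]
  rfl

/-- `h_r(c)` is the diagonal matrix with entries `1` on the `h_i` and `c^⟨r,s⟩` on `e_s`. -/
theorem hMat_diag7 (hD : D ∈ [chevG2, chevB2, chevD4, chevF4, chevE6, chevE7, chevE8]) (r : ℕ)
    (hr : r < D.nroots) (c : F) (hc : c ≠ 0) :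
    D.hMat F r c =
      Matrix.diagonal (Sum.elim (fun _ => (1 : F)) (fun s : Fin D.nroots => c ^ (D.pairing r s.val))) := by
  have hT := tabOK_seven D hD
  rw [hMat_diag hT r (hOK_seven D hD r hr) c hc]
  congr 1
  funext j
  rcases j with j | s
  · rfl
  · simp only [Sum.elim_inr]
    rw [pairF_eq hT r s.val hr s.2]

theorem eta_cases7 (hD : D ∈ [chevG2, chevB2, chevD4, chevF4, chevE6, chevE7, chevE8]) (i : ℕ)
    (hi : i < D.rank) (s : ℕ) (hs : s < D.nroots) : etaAt D i s = 1 ∨ etaAt D i s = -1 := by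
  have h1 := nOK_root i (nOK_seven D hD i hi) s hs
  unfold nOKroot at h1
  simp only [Bool.and_eq_true, Bool.or_eq_true, decide_eq_true_eq] at h1
  exact h1.2.2.2.1

theorem reflect_lt7 (hD : D ∈ [chevG2, chevB2, chevD4, chevF4, chevE6, chevE7, chevE8]) (i : ℕ)
    (hi : i < D.rank) (s : ℕ) (hs : s < D.nroots) : D.reflectRoot i s < D.nroots := by
  have h1 := nOK_root i (nOK_seven D hD i hi) s hs
  unfold nOKroot at h1
  simp only [Bool.and_eq_true, Bool.or_eq_true, decide_eq_true_eq] at h1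
  exact (blt_iff _ _).mp h1.2.2.2.2.2.2

theorem wAt_eq7 (hD : D ∈ [chevG2, chevB2, chevD4, chevF4, chevE6, chevE7, chevE8]) (i : ℕ)
    (hi : i < D.rank) (s : ℕ) (hs : s < D.nroots) : wAt D i s = D.reflectRoot i s := by
  have h1 := nOK_root i (nOK_seven D hD i hi) s hs
  unfold nOKroot at h1
  simp only [Bool.and_eq_true, Bool.or_eq_true, decide_eq_true_eq] at h1
  exact (beq_iff _ _).mp h1.2.2.1

theorem eta_mul_reflect7 (hD : D ∈ [chevG2, chevB2, chevD4, chevF4, chevE6, chevE7, chevE8]) (i : ℕ)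
    (hi : i < D.rank) (s : ℕ) (hs : s < D.nroots) :
    etaAt D i s * etaAt D i (D.reflectRoot i s) = (-1) ^ (D.cartan i s).natAbs ∧
      etaAt D i s * etaAt D i (D.neg s) = 1 := by
  have h1 := nOK_root i (nOK_seven D hD i hi) s hs
  unfold nOKroot at h1
  simp only [Bool.and_eq_true, Bool.or_eq_true, decide_eq_true_eq] at h1
  exact ⟨h1.2.2.2.2.1, h1.2.2.2.2.2.1⟩

theorem eta_simple7 (hD : D ∈ [chevG2, chevB2, chevD4, chevF4, chevE6, chevE7, chevE8]) (i : ℕ)
    (hi : i < D.rank) : etaAt D i (D.simple i) = -1 ∧ etaAt D i (D.neg (D.simple i)) = -1 := by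
  have h := nOK_seven D hD i hi
  unfold nOK at h
  simp only [Bool.and_eq_true, decide_eq_true_eq] at h
  exact ⟨h.2.2.1, h.2.2.2.1⟩

/-- `n_p e_s = η_s e_{w_p(s)}`. -/
theorem nMat_col_root7 (hD : D ∈ [chevG2, chevB2, chevD4, chevF4, chevE6, chevE7, chevE8]) (i : ℕ)
    (hi : i < D.rank) (s : ℕ) (hs : s < D.nroots) :
    (D.nMat F (D.simple i) 1).mulVec (basisVec D F (D.rank + s)) =
      (etaAt D i s : F) • basisVec D F (D.rank + D.reflectRoot i s) :=
  nMat_col_root (tabOK_seven D hD) i (nOK_seven D hD i hi) s hs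

/-- `n_p h_j = h_j - A_{p_j, p} h_p`. -/
theorem nMat_col_h7 (hD : D ∈ [chevG2, chevB2, chevD4, chevF4, chevE6, chevE7, chevE8]) (i : ℕ)
    (hi : i < D.rank) (j : ℕ) (hj : j < D.rank) :
    (D.nMat F (D.simple i) 1).mulVec (basisVec D F j) =
      basisVec D F j - ((D.cartan j (D.simple i) : ℤ) : F) • basisVec D F i :=
  nMat_col_h (tabOK_seven D hD) i (nOK_seven D hD i hi) j hj

/-- `n_p x_s(t) = x_{w_p(s)}(η_s t) n_p`. -/
theorem n_conj7 (hD : D ∈ [chevG2, chevB2, chevD4, chevF4, chevE6, chevE7, chevE8]) (i : ℕ)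
    (hi : i < D.rank) (s : ℕ) (hs : s < D.nroots) (t : F) :
    D.nMat F (D.simple i) 1 * D.x F s t =
      D.x F (D.reflectRoot i s) ((etaAt D i s : F) * t) * D.nMat F (D.simple i) 1 := by
  rw [← wAt_eq7 hD i hi s hs]
  exact conj_sound (tabOK_seven D hD) i (nOK_seven D hD i hi) s (conjOK_seven D hD i hi s hs) t

end Rel

end Cfsg.Agent.Helper11
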