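import Cfsg.Agent.Helper11.ChevBN1
import Cfsg.Agent.Helper11.ChevTab

set_option autoImplicit false

/-!
Every root is the image of a fundamental root under a word of fundamental reflections
(kernel-checkable tables), and hence the fundamental root elements generate the Chevalley group.
-/

namespace Cfsg.Agent.Helper11

open Cfsg.Lie

/-- Check of a list of root words, the entry number `k + m` being the word of the root `k + m`. -/
noncomputable def rootWordsAux (D : ChevalleyDatum) (ws : List (List ℕ × ℕ)) (k : ℕ) : Bool :=
  @List.rec (List ℕ × ℕ) (fun _ => ℕ → Bool) (fun k => Nat.beq k D.nroots)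
    (fun p _ ih k => cond (allL (fun i => Nat.blt i D.rank) p.1)
      (cond (Nat.blt p.2 D.rank)
        (cond (Nat.beq (wordApply D p.1 (D.simple p.2)) k) (ih (Nat.succ k)) false) false) false) ws k

/-- Every root is the image of a fundamental root under a word of fundamental reflections. -/
def RootWords (D : ChevalleyDatum) : Prop :=
  ∀ r < D.nroots, ∃ (v : List ℕ) (j : ℕ), (∀ i ∈ v, i < D.rank) ∧ j < D.rank ∧
    wordApply D v (D.simple j) = r

theorem rootWordsAux_cons (D : ChevalleyDatum) (p : List ℕ × ℕ) (ws : List (List ℕ × ℕ)) (k : ℕ) :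
    rootWordsAux D (p :: ws) k = cond (allL (fun i => Nat.blt i D.rank) p.1)
      (cond (Nat.blt p.2 D.rank)
        (cond (Nat.beq (wordApply D p.1 (D.simple p.2)) k) (rootWordsAux D ws (Nat.succ k)) false)
        false) false := rfl

theorem rootWordsAux_gen (D : ChevalleyDatum) (ws : List (List ℕ × ℕ)) :
    ∀ k, rootWordsAux D ws k = true → ∀ r, k ≤ r → r < D.nroots →
      ∃ (v : List ℕ) (j : ℕ), (∀ i ∈ v, i < D.rank) ∧ j < D.rank ∧
        wordApply D v (D.simple j) = r := by
  induction ws with
  | nil =>
    intro k h r hkr hr
    have : Nat.beq k D.nroots = true := h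
    rw [beq_iff] at this
    omega
  | cons p ws ih =>
    intro k h r hkr hr
    rw [rootWordsAux_cons] at h
    cases h1 : allL (fun i => Nat.blt i D.rank) p.1 with
    | false => rw [h1] at h; exact absurd h (by simp)
    | true =>
      rw [h1, cond_true] at h
      cases h2 : Nat.blt p.2 D.rank with
      | false => rw [h2] at h; exact absurd h (by simp)
      | true =>
        rw [h2, cond_true] at h
        cases h3 : Nat.beq (wordApply D p.1 (D.simple p.2)) k with
        | false => rw [h3] at h; exact absurd h (by simp)
        | true =>
          rw [h3, cond_true] at h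
          by_cases hrk : r = k
          · refine ⟨p.1, p.2, fun i hi => (blt_iff _ _).mp ((allL_spec _ _).mp h1 i hi),
              (blt_iff _ _).mp h2, ?_⟩
            rw [hrk]; exact (beq_iff _ _).mp h3
          · exact ih (Nat.succ k) h r (by omega) hr

theorem rootWordsAux_spec (D : ChevalleyDatum) (ws : List (List ℕ × ℕ)) (k : ℕ)
    (h : rootWordsAux D ws 0 = true) : RootWords D :=
  fun r hr => rootWordsAux_gen D ws 0 h r (Nat.zero_le r) hr

end Cfsg.Agent.Helper11
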