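import Cfsg.Agent.Helper11.ChevGen
import Cfsg.Agent.Helper11.ChevPerf

set_option autoImplicit false

/-!
Generation of the Chevalley group by the monomial subgroup `N` and a few root subgroups: every root is
the image of one of a few base roots under a word of fundamental reflections (kernel-checkable tables),
and long root subgroups are obtained from short ones by the commutator formula when the structure
constant is invertible.
-/

namespace Cfsg.Agent.Helper11

open Cfsg.Lie

/-- Check of a list of root words with base roots: the entry number `k + m` is `(v, s)` with `ok s`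
and `wordApply v s = k + m`. -/
noncomputable def baseWordsAux (D : ChevalleyDatum) (ok : ℕ → Bool) (ws : List (List ℕ × ℕ))
    (k : ℕ) : Bool :=
  @List.rec (List ℕ × ℕ) (fun _ => ℕ → Bool) (fun k => Nat.beq k D.nroots)
    (fun p _ ih k => cond (allL (fun i => Nat.blt i D.rank) p.1)
      (cond (ok p.2)
        (cond (Nat.beq (wordApply D p.1 p.2) k) (ih (Nat.succ k)) false) false) false) ws k

/-- Every root is the image of a base root (one satisfying `ok`) under a word of fundamental
reflections. -/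
def BaseWords (D : ChevalleyDatum) (ok : ℕ → Bool) : Prop :=
  ∀ r < D.nroots, ∃ (v : List ℕ) (s : ℕ), (∀ i ∈ v, i < D.rank) ∧ ok s = true ∧
    wordApply D v s = r

theorem baseWordsAux_cons (D : ChevalleyDatum) (ok : ℕ → Bool) (p : List ℕ × ℕ)
    (ws : List (List ℕ × ℕ)) (k : ℕ) :
    baseWordsAux D ok (p :: ws) k = cond (allL (fun i => Nat.blt i D.rank) p.1)
      (cond (ok p.2)
        (cond (Nat.beq (wordApply D p.1 p.2) k) (baseWordsAux D ok ws (Nat.succ k)) false)
        false) false := rfl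

theorem baseWordsAux_gen (D : ChevalleyDatum) (ok : ℕ → Bool) (ws : List (List ℕ × ℕ)) :
    ∀ k, baseWordsAux D ok ws k = true → ∀ r, k ≤ r → r < D.nroots →
      ∃ (v : List ℕ) (s : ℕ), (∀ i ∈ v, i < D.rank) ∧ ok s = true ∧ wordApply D v s = r := by
  induction ws with
  | nil =>
    intro k h r hkr hr
    have : Nat.beq k D.nroots = true := h
    rw [beq_iff] at this
    omega
  | cons p ws ih =>
    intro k h r hkr hr
    rw [baseWordsAux_cons] at h
    cases h1 : allL (fun i => Nat.blt i D.rank) p.1 with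
    | false => rw [h1] at h; exact absurd h (by simp)
    | true =>
      rw [h1, cond_true] at h
      cases h2 : ok p.2 with
      | false => rw [h2] at h; exact absurd h (by simp)
      | true =>
        rw [h2, cond_true] at h
        cases h3 : Nat.beq (wordApply D p.1 p.2) k with
        | false => rw [h3] at h; exact absurd h (by simp)
        | true =>
          rw [h3, cond_true] at h
          by_cases hrk : r = k
          · refine ⟨p.1, p.2, fun i hi => (blt_iff _ _).mp ((allL_spec _ _).mp h1 i hi), h2, ?_⟩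
            rw [hrk]; exact (beq_iff _ _).mp h3
          · exact ih (Nat.succ k) h r (by omega) hr

theorem baseWordsAux_spec (D : ChevalleyDatum) (ok : ℕ → Bool) (ws : List (List ℕ × ℕ))
    (h : baseWordsAux D ok ws 0 = true) : BaseWords D ok :=
  fun r hr => baseWordsAux_gen D ok ws 0 h r (Nat.zero_le r) hr

/-- For every short fundamental root a word sending it to `p₀`. -/
noncomputable def simpWordsOK (D : ChevalleyDatum) (p₀ : ℕ) (us : List (List ℕ)) : Bool :=
  allN D.rank (fun i => D.isLong (D.simple i) ||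
    (allL (fun k => Nat.blt k D.rank) (us.getD i []) &&
      Nat.beq (wordApply D (us.getD i []) (D.simple i)) p₀))

/-- One root length: all roots are images of `p₀`. -/
noncomputable def gen1OK (D : ChevalleyDatum) (p₀ : ℕ) (ws : List (List ℕ × ℕ))
    (us : List (List ℕ)) : Bool :=
  Nat.blt p₀ D.nroots && (baseWordsAux D (fun s => Nat.beq s p₀) ws 0 && simpWordsOK D p₀ us)

/-- Two root lengths: short roots are images of `p₀`, long roots images of `c`, and
`[x_b, x_a] = x_c(± e t u)` for two short roots `a`, `b`. -/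
noncomputable def gen2OK (D : ChevalleyDatum) (p₀ : ℕ) (e : ℤ) (c a b : ℕ) (va vb : List ℕ)
    (ws : List (List ℕ × ℕ)) (us : List (List ℕ)) : Bool :=
  Nat.blt p₀ D.nroots && (Nat.blt c D.nroots && (allL (fun k => Nat.blt k D.rank) va &&
    (allL (fun k => Nat.blt k D.rank) vb && (Nat.beq (wordApply D va p₀) a &&
      (Nat.beq (wordApply D vb p₀) b && (perfPair D e c a b &&
        (baseWordsAux D (fun s => Nat.beq s p₀ || Nat.beq s c) ws 0 && simpWordsOK D p₀ us)))))))

/-- The only pair (short fundamental root, long fundamental root) joined by a bond is `(i₀, j₀)`. -/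
noncomputable def pairOK (D : ChevalleyDatum) (i₀ j₀ : ℕ) : Bool :=
  allN D.rank (fun i => allN D.rank (fun j =>
    D.isLong (D.simple i) || (!(D.isLong (D.simple j)) || (decide (D.bonds i j = 0) ||
      (Nat.beq i i₀ && Nat.beq j j₀)))))

theorem pairOK_spec (D : ChevalleyDatum) (i₀ j₀ : ℕ) (h : pairOK D i₀ j₀ = true) (i j : ℕ)
    (hi : i < D.rank) (hj : j < D.rank) (hshort : D.isLong (D.simple i) = false)
    (hlong : D.isLong (D.simple j) = true) (hbond : D.bonds i j ≠ 0) : i = i₀ ∧ j = j₀ := by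
  have h1 := (allN_spec _ _).mp ((allN_spec _ _).mp h i hi) j hj
  rw [hshort, hlong, decide_eq_false hbond] at h1
  simp only [Bool.false_or, Bool.not_true, Bool.and_eq_true] at h1
  exact ⟨(beq_iff _ _).mp h1.1, (beq_iff _ _).mp h1.2⟩

section Gen2
variable {F : Type*} [Field F] {D : ChevalleyDatum}

theorem xG_word_mem (hD : Seven D) (M : Subgroup (GL D.Idx F)) (hN : D.monomialSubgroup F ≤ M)
    (v : List ℕ) (hv : ∀ i ∈ v, i < D.rank) (s : ℕ) (hs : s < D.nroots)
    (hX : ∀ t : F, xG hD s t ∈ M) (t : F) : xG hD (wordApply D v s) t ∈ M := by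
  obtain ⟨ε, _, hc⟩ := xG_conj_word (F := F) hD v hv s hs
  rw [hc]
  have hw := hN (wordN_mem (F := F) hD v hv)
  exact mul_mem (mul_mem hw (hX _)) (inv_mem hw)

theorem group_le_of_baseWords (hD : Seven D) (ok : ℕ → Bool) (hW : BaseWords D ok)
    (M : Subgroup (GL D.Idx F)) (hN : D.monomialSubgroup F ≤ M)
    (hS : ∀ s, ok s = true → s < D.nroots ∧ ∀ t : F, xG hD s t ∈ M) : D.group F ≤ M := by
  unfold ChevalleyDatum.group
  rw [Subgroup.closure_le]
  rintro g ⟨r, t, hg⟩
  have e : g = xG hD r.val t := by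
    apply eq_xG
    rw [hg]; unfold ChevalleyDatum.x; rw [dif_pos r.isLt]
  rw [e]
  obtain ⟨v, s, hv, hs, hr⟩ := hW r.val r.isLt
  obtain ⟨hs1, hs2⟩ := hS s hs
  rw [← hr]
  exact xG_word_mem hD M hN v hv s hs1 hs2 t

theorem group_le_N_two (hD : Seven D) (a b : ℕ) (ha : a < D.nroots) (hb : b < D.nroots)
    (hW : BaseWords D (fun s => Nat.beq s a || Nat.beq s b)) :
    D.group F ≤ D.monomialSubgroup F ⊔ D.rootSubgroup F a ⊔ D.rootSubgroup F b := by
  apply group_le_of_baseWords hD _ hW
  · exact le_sup_of_le_left le_sup_left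
  · intro s hs
    have hs' : (Nat.beq s a || Nat.beq s b) = true := hs
    rw [Bool.or_eq_true] at hs'
    rcases hs' with hs' | hs'
    · rw [(beq_iff _ _).mp hs']
      exact ⟨ha, fun t => Subgroup.mem_sup_left (Subgroup.mem_sup_right
        (Subgroup.subset_closure ⟨t, rfl⟩))⟩
    · rw [(beq_iff _ _).mp hs']
      exact ⟨hb, fun t => Subgroup.mem_sup_right (Subgroup.subset_closure ⟨t, rfl⟩)⟩

theorem xG_comm_eq (hD : Seven D) (q a b : ℕ) (e : ℤ) (ha : a < D.nroots) (hb : b < D.nroots)
    (hba : b ≠ a) (hbn : b ≠ D.neg a) (hct : D.commTerms a b = [(q, e, 1, 1)]) (he : (e : F) ≠ 0)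
    (t : F) :
    xG hD q t = (xG hD b 1)⁻¹ * xG hD a ((e : F)⁻¹ * t) * xG hD b 1 *
      (xG hD a ((e : F)⁻¹ * t))⁻¹ := by
  have h := xG_conj_x hD a b ha hb hba hbn ((e : F)⁻¹ * t) 1
  have hw : wG hD (D.commWord F a b (-((e : F)⁻¹ * t)) 1) = xG hD q t := by
    unfold ChevalleyDatum.commWord
    rw [hct, List.map_cons, List.map_nil, wG_cons, wG_nil, mul_one]
    congr 1
    show (e : F) * (-(-((e : F)⁻¹ * t))) ^ 1 * 1 ^ 1 = t
    rw [neg_neg, pow_one, pow_one, mul_one, ← mul_assoc, mul_inv_cancel₀ he, one_mul]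
  rw [hw] at h
  calc xG hD q t = (xG hD b 1)⁻¹ * (xG hD b 1 * xG hD q t) := by group
    _ = (xG hD b 1)⁻¹ * (xG hD a ((e : F)⁻¹ * t) * xG hD b 1 *
          (xG hD a ((e : F)⁻¹ * t))⁻¹) := by rw [h]
    _ = _ := by group

theorem simpWords_mem (hD : Seven D) (p₀ : ℕ) (us : List (List ℕ))
    (h : simpWordsOK D p₀ us = true) (i : ℕ) (hi : i < D.rank)
    (hshort : D.isLong (D.simple i) = false) (M : Subgroup (GL D.Idx F))
    (hN : D.monomialSubgroup F ≤ M) (hX : ∀ t : F, xG hD (D.simple i) t ∈ M) (t : F) :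
    xG hD p₀ t ∈ M := by
  have h1 := (allN_spec _ _).mp h i hi
  rw [hshort, Bool.false_or, Bool.and_eq_true] at h1
  have h2 := (beq_iff _ _).mp h1.2
  rw [← h2]
  exact xG_word_mem hD M hN _ (fun k hk => (blt_iff _ _).mp ((allL_spec _ _).mp h1.1 k hk)) _
    (simple_lt7 hD i hi) hX t

theorem gen1_le (hD : Seven D) (p₀ : ℕ) (ws : List (List ℕ × ℕ)) (us : List (List ℕ))
    (h : gen1OK D p₀ ws us = true) (i : ℕ) (hi : i < D.rank)
    (hshort : D.isLong (D.simple i) = false) (M : Subgroup (GL D.Idx F))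
    (hN : D.monomialSubgroup F ≤ M) (hX : ∀ t : F, xG hD (D.simple i) t ∈ M) :
    D.group F ≤ M := by
  unfold gen1OK at h
  simp only [Bool.and_eq_true] at h
  obtain ⟨h0, hW, hU⟩ := h
  have hp := simpWords_mem hD p₀ us hU i hi hshort M hN hX
  apply group_le_of_baseWords hD _ (baseWordsAux_spec D _ ws hW) M hN
  intro s hs
  have hs' : Nat.beq s p₀ = true := hs
  rw [(beq_iff _ _).mp hs']
  exact ⟨(blt_iff _ _).mp h0, hp⟩

theorem gen2_le (hD : Seven D) (p₀ : ℕ) (e : ℤ) (c a b : ℕ) (va vb : List ℕ)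
    (ws : List (List ℕ × ℕ)) (us : List (List ℕ))
    (h : gen2OK D p₀ e c a b va vb ws us = true) (he : ((e : ℤ) : F) ≠ 0) (i : ℕ)
    (hi : i < D.rank) (hshort : D.isLong (D.simple i) = false) (M : Subgroup (GL D.Idx F))
    (hN : D.monomialSubgroup F ≤ M) (hX : ∀ t : F, xG hD (D.simple i) t ∈ M) :
    D.group F ≤ M := by
  unfold gen2OK at h
  simp only [Bool.and_eq_true] at h
  obtain ⟨h0, hc0, hva, hvb, ha, hb, hpair, hW, hU⟩ := h
  have hT := tabOK_seven D hD
  have hp := simpWords_mem hD p₀ us hU i hi hshort M hN hX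
  have h0' := (blt_iff _ _).mp h0
  have hA : ∀ t : F, xG hD a t ∈ M := by
    intro t; rw [← (beq_iff _ _).mp ha]
    exact xG_word_mem hD M hN va (fun k hk => (blt_iff _ _).mp ((allL_spec _ _).mp hva k hk))
      p₀ h0' hp t
  have hB : ∀ t : F, xG hD b t ∈ M := by
    intro t; rw [← (beq_iff _ _).mp hb]
    exact xG_word_mem hD M hN vb (fun k hk => (blt_iff _ _).mp ((allL_spec _ _).mp hvb k hk))
      p₀ h0' hp t
  obtain ⟨ha', hb', hba, hbn, hct⟩ := perfPair_spec hT e c a b hpair
  have hC : ∀ t : F, xG hD c t ∈ M := by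
    intro t
    rcases hct with hct | hct
    · rw [xG_comm_eq hD c a b e ha' hb' hba hbn hct he t]
      exact mul_mem (mul_mem (mul_mem (inv_mem (hB 1)) (hA _)) (hB 1)) (inv_mem (hA _))
    · have he' : (((-e : ℤ)) : F) ≠ 0 := by rw [Int.cast_neg]; exact neg_ne_zero.mpr he
      rw [xG_comm_eq hD c a b (-e) ha' hb' hba hbn hct he' t]
      exact mul_mem (mul_mem (mul_mem (inv_mem (hB 1)) (hA _)) (hB 1)) (inv_mem (hA _))
  apply group_le_of_baseWords hD _ (baseWordsAux_spec D _ ws hW) M hN
  intro s hs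
  have hs' : (Nat.beq s p₀ || Nat.beq s c) = true := hs
  rw [Bool.or_eq_true] at hs'
  rcases hs' with hs' | hs'
  · rw [(beq_iff _ _).mp hs']; exact ⟨h0', hp⟩
  · rw [(beq_iff _ _).mp hs']; exact ⟨(blt_iff _ _).mp hc0, hC⟩

theorem three_ne_zero_of_ringChar (h : ringChar F ≠ 3) : (3 : F) ≠ 0 := by
  intro h0
  have h1 : ((3 : ℕ) : F) = 0 := by exact_mod_cast h0
  have h2 := (ringChar.spec F 3).mp h1
  rcases (Nat.dvd_prime Nat.prime_three).mp h2 with h3 | h3
  · exact CharP.ringChar_ne_one h3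
  · exact h h3

end Gen2

end Cfsg.Agent.Helper11
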