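import Cfsg.Agent.Helper11.ChevBN3
import Cfsg.Agent.Helper11.ChevPerfAll
import Cfsg.Agent.S0319

set_option autoImplicit false

/-!
Simplicity of the Chevalley groups, from the `(B, N)`-pair and the simplicity criterion for groups with
a `(B, N)`-pair (statement S0319): `B` is solvable, its core is trivial, the group is perfect, and the
Dynkin diagram is connected.
-/

namespace Cfsg.Agent.Helper11

open Cfsg.Lie

theorem rank_pos7 {D : ChevalleyDatum} (hD : Seven D) : 0 < D.rank :=
  forall_seven (P := fun D => 0 < D.rank) (by decide) (by decide) (by decide) (by decide)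
    (by decide) (by decide) (by decide) D hD

section Simple
variable {F : Type*} [Field F] {D : ChevalleyDatum}

/-- Linked fundamental reflections do not commute modulo `B`. -/
theorem link_not_mem_B (hD : Seven D) (i j : ℕ) (hl : linkB D i j = true) :
    ¬ (nG hD (D.simple i) (1 : F) * nG hD (D.simple j) 1 * (nG hD (D.simple i) 1)⁻¹ *
      (nG hD (D.simple j) 1)⁻¹ ∈ D.borelSubgroup F) := by
  obtain ⟨hi, hj, hl⟩ := linkB_spec i j hl
  have hc : ConjTo hD (nG hD (D.simple i) (1 : F) * (nG hD (D.simple j) 1 *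
      ((nG hD (D.simple i) 1)⁻¹ * (nG hD (D.simple j) 1)⁻¹)))
      (fun s => wAt D i (wAt D j (wAt D i (wAt D j s)))) :=
    (((ConjTo.simple_inv hD j hj).comp hD (ConjTo.simple_inv hD i hi)).comp hD
      (ConjTo.simple hD j hj)).comp hD (ConjTo.simple hD i hi)
  rw [mul_assoc, mul_assoc]
  have hw : ∀ q, q < D.nroots → wAt D i (wAt D j (wAt D i (wAt D j q))) =
      D.reflectRoot i (D.reflectRoot j (D.reflectRoot i (D.reflectRoot j q))) := by
    intro q hq
    have h1 := reflect_lt7 hD j hj q hq
    have h2 := reflect_lt7 hD i hi _ h1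
    have h3 := reflect_lt7 hD j hj _ h2
    rw [wAt_eq7 hD j hj q hq, wAt_eq7 hD i hi _ h1, wAt_eq7 hD j hj _ h2, wAt_eq7 hD i hi _ h3]
  have hpi := simple_lt7 hD i hi
  have hpj := simple_lt7 hD j hj
  rcases hl with hl | hl
  · exact not_mem_B_of_conj hD hc (D.simple i) hpi
      (((pos_iff7 hD _ hpi).1).mp (simple_pos7 hD i hi))
      (by show wAt D i (wAt D j (wAt D i (wAt D j (D.simple i)))) < _; rw [hw _ hpi]; exact hl)
  · exact not_mem_B_of_conj hD hc (D.simple j) hpj
      (((pos_iff7 hD _ hpj).1).mp (simple_pos7 hD j hj))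
      (by show wAt D i (wAt D j (wAt D i (wAt D j (D.simple j)))) < _; rw [hw _ hpj]; exact hl)

/-- A perfect Chevalley group (of one of the seven tabulated types) is simple and non-abelian. -/
theorem chev_simple (hD : Seven D) (hperf : commutator ↥(D.group F) = ⊤) :
    IsSimpleGroup ↥(D.group F) ∧ ¬ IsMulCommutative ↥(D.group F) := by
  have h0 := rank_pos7 hD
  have hp := simple_lt7 hD 0 h0
  have hne : (⟨xG hD (D.simple 0) 1, xG_mem_group hD _ _⟩ : ↥(D.group F)) ≠ 1 := by
    intro h
    have h1 : D.x F (D.simple 0) 1 = 1 := by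
      have h2 := congrArg (fun g : ↥(D.group F) => ((g : GL D.Idx F) : Matrix D.Idx D.Idx F)) h
      exact h2
    exact one_ne_zero ((x_eq_one_iff7 hD _ hp _).mp h1)
  haveI : Nontrivial ↥(D.group F) := ⟨⟨_, _, hne⟩⟩
  obtain ⟨P, hPB, hPN, hPS⟩ := chev_BN_exists (F := F) hD
  refine ⟨?_, ?_⟩
  · apply Cfsg.Agent.S0319.result P ?_ ?_ hperf ?_
    · -- irreducible
      intro J hJ hJne hJc
      by_contra hcon
      push_neg at hcon
      obtain ⟨o, ho⟩ := connOK_seven D hD
      have hSmem : ∀ i < D.rank, sEl (F := F) hD i ∈ P.S := by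
        intro i hi
        rw [hPS]
        exact ⟨i, hi, nG_val hD _ _⟩
      have hC : ∀ i j, linkB D i j = true →
          (sEl (F := F) hD i ∈ J ↔ sEl (F := F) hD j ∈ J) := by
        intro i j hl
        obtain ⟨hi, hj, _⟩ := linkB_spec i j hl
        have hk := link_not_mem_B (F := F) hD i j hl
        constructor
        · intro hiJ
          by_contra hjJ
          have h1 := hcon _ hiJ _ ⟨hSmem j hj, hjJ⟩
          rw [hPB, Subgroup.mem_subgroupOf] at h1
          exact hk h1
        · intro hjJ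
          by_contra hiJ
          have h1 := hcon _ hjJ _ ⟨hSmem i hi, hiJ⟩
          rw [hPB, Subgroup.mem_subgroupOf] at h1
          have h2 : (nG hD (D.simple j) (1 : F) * nG hD (D.simple i) 1 * (nG hD (D.simple j) 1)⁻¹ *
              (nG hD (D.simple i) 1)⁻¹)⁻¹ ∈ D.borelSubgroup F := inv_mem h1
          apply hk
          have e : nG hD (D.simple i) (1 : F) * nG hD (D.simple j) 1 * (nG hD (D.simple i) 1)⁻¹ *
              (nG hD (D.simple j) 1)⁻¹ =
              (nG hD (D.simple j) 1 * nG hD (D.simple i) 1 * (nG hD (D.simple j) 1)⁻¹ *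
                (nG hD (D.simple i) 1)⁻¹)⁻¹ := by group
          rw [e]; exact h2
      have hall := conn_spec o ho (fun i => sEl (F := F) hD i ∈ J) hC
      obtain ⟨s, hs⟩ := hJne
      obtain ⟨s', hs', hs'J⟩ := hJc
      have hsS := hJ hs
      rw [hPS] at hsS hs'
      obtain ⟨i, hi, rfl⟩ := (mem_chevS_iff hD s).mp hsS
      obtain ⟨j, hj, rfl⟩ := (mem_chevS_iff hD s').mp hs'
      exact hs'J ((hall j hj).mpr ((hall i hi).mp hs))
    · -- solvable
      rw [hPB]
      haveI : Group.IsSolvable ↥(D.borelSubgroup F) :=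
        isSolvable_of_upper (lvlI_lt D) (fun a b h => lvlI_inj D a b h) (D.borelSubgroup F)
          (fun g hg => (B_le_up hD hg).1)
      exact Group.isSolvable_of_isSolvable_injective
        (f := (Subgroup.subgroupOfEquivOfLe (B_le_group (F := F) hD)).toMonoidHom)
        (Subgroup.subgroupOfEquivOfLe (B_le_group (F := F) hD)).injective
    · rw [hPB]; exact core_B hD
  · intro hcomm
    have h1 : commutator ↥(D.group F) = ⊥ := by
      rw [_root_.commutator_eq_closure, Subgroup.closure_eq_bot_iff]
      rintro g ⟨a, b, rfl⟩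
      show a * b * a⁻¹ * b⁻¹ = 1
      have h2 : a * b = b * a := hcomm.is_comm.comm a b
      rw [h2]; group
    rw [hperf] at h1
    exact hne (Subgroup.mem_bot.mp (h1 ▸ Subgroup.mem_top _))

end Simple

end Cfsg.Agent.Helper11
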