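import Cfsg.Agent.Helper11.ChevTwist

set_option autoImplicit false

/-!
Classes of type `B₂` in characteristic 2 (the Suzuki-type root subgroups of `²F₄`): the group law of
`x_a(t^θ) x_b(t) x_{a+b}(t^{θ+1} + u) x_{2a+b}(u^{2θ})` and the proof that these elements are
commutators, given a suitable torus element.
-/

namespace Cfsg.Agent.Helper11

open Cfsg.Lie

theorem charP_of_card {K : Type*} [Field K] [Fintype K] {p n : ℕ} (hp : p.Prime)
    (hK : Fintype.card K = p ^ n) : CharP K p := by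
  have hchar : CharP K (ringChar K) := ringChar.charP K
  obtain ⟨m, hp', hcard⟩ := FiniteField.card K (ringChar K)
  have e : ringChar K = p := by
    have h1 : ringChar K ∣ p ^ n := by
      rw [← hK, hcard]
      exact dvd_pow_self _ (PNat.ne_zero m)
    exact (Nat.prime_dvd_prime_iff_eq hp' hp).mp (hp'.dvd_of_dvd_pow h1)
  rw [e] at hchar
  exact hchar

theorem isFrob_pow {K : Type*} [Field K] (p k : ℕ) [hp : Fact p.Prime] [CharP K p] :
    IsFrob K (p ^ k) :=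
  ⟨pow_ne_zero _ hp.out.pos.ne', fun a b => add_pow_char_pow a b p k⟩

theorem pow_theta_ne_one {K : Type*} [Field K] (θ : ℕ) (hθ : 1 ≤ θ)
    (hq : ∀ t : K, t ^ (θ * (2 * θ)) = t) (κ : K) (h0 : κ ≠ 0) (h1 : κ ≠ 1) :
    κ ^ (θ + 1) ≠ 1 := by
  intro h
  have e : θ * (2 * θ) = (θ + 1) * (2 * θ - 2) + 2 := by
    obtain ⟨k, rfl⟩ : ∃ k, θ = k + 1 := ⟨θ - 1, by omega⟩
    have e1 : 2 * (k + 1) - 2 = 2 * k := by omega
    rw [e1]; ring
  have h3 := hq κ
  rw [e, pow_add, pow_mul, h, one_pow, one_mul] at h3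
  have h4 : κ * (κ - 1) = 0 := by rw [mul_sub, mul_one, ← sq, h3, sub_self]
  rcases mul_eq_zero.mp h4 with h5 | h5
  · exact h0 h5
  · exact h1 (sub_eq_zero.mp h5)

section Suz
variable {K : Type*} [Field K] {D : ChevalleyDatum}

/-- A class of type `B₂` in characteristic 2: the commutation rules between the root elements of
`a` (short), `b` (long), `a + b` and `2a + b`. -/
structure SuzCls (hD : Seven D) (K : Type*) [Field K] (a b ab aab : ℕ) : Prop where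
  hba : ∀ t u : K, xG hD b u * xG hD a t =
    xG hD a t * xG hD b u * (xG hD ab (t * u) * xG hD aab (t ^ 2 * u))
  c1 : ∀ t u : K, Commute (xG hD a t) (xG hD ab u)
  c2 : ∀ t u : K, Commute (xG hD a t) (xG hD aab u)
  c3 : ∀ t u : K, Commute (xG hD b t) (xG hD ab u)
  c4 : ∀ t u : K, Commute (xG hD b t) (xG hD aab u)
  c5 : ∀ t u : K, Commute (xG hD ab t) (xG hD aab u)

theorem xG_comm_word (hD : Seven D) (r s : ℕ) (hr : r < D.nroots) (hs : s < D.nroots)
    (hsr : s ≠ r) (hsn : s ≠ D.neg r) (t u : K) :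
    xG hD s u * xG hD r t = xG hD r t * xG hD s u * wG hD (D.commWord K r s t u) := by
  apply Units.ext
  rw [Units.val_mul, Units.val_mul, Units.val_mul, xG_val, xG_val, wG_val]
  exact comm7 hD r s hr hs hsr hsn t u

theorem suzCls_of (hD : Seven D) (h2 : (2 : K) = 0) (a b ab aab : ℕ) (e₁ e₂ e₃ : ℤ)
    (ha : a < D.nroots) (hb : b < D.nroots) (hab : ab < D.nroots)
    (hba : b ≠ a) (hbn : b ≠ D.neg a) (haba : ab ≠ a) (habn : ab ≠ D.neg a)
    (h1 : D.commTerms a b = [(ab, e₁, 1, 1), (aab, e₂, 2, 1)])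
    (he₁ : e₁ = 1 ∨ e₁ = -1) (he₂ : e₂ = 1 ∨ e₂ = -1)
    (h3 : D.commTerms a ab = [(aab, e₃, 1, 1)]) (he₃ : e₃ = 2 ∨ e₃ = -2)
    (o2 : orth1 D a aab = true) (o3 : orth1 D b ab = true) (o4 : orth1 D b aab = true)
    (o5 : orth1 D ab aab = true) : SuzCls hD K a b ab aab := by
  have hneg : ∀ x : K, -x = x := fun x =>
    neg_eq_of_add_eq_zero_right (by rw [← two_mul, h2, zero_mul])
  refine ⟨fun t u => ?_, fun t u => ?_, orth1_spec hD _ _ o2, orth1_spec hD _ _ o3,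
    orth1_spec hD _ _ o4, orth1_spec hD _ _ o5⟩
  · have hc := xG_comm_word hD a b ha hb hba hbn t u
    have hw : D.commWord K a b t u =
        [(ab, (e₁ : K) * (-t) ^ 1 * u ^ 1), (aab, (e₂ : K) * (-t) ^ 2 * u ^ 1)] := by
      unfold ChevalleyDatum.commWord; rw [h1]; rfl
    have p1 : (e₁ : K) * (-t) ^ 1 * u ^ 1 = t * u := by
      rcases he₁ with rfl | rfl <;> simp [hneg]
    have p2 : (e₂ : K) * (-t) ^ 2 * u ^ 1 = t ^ 2 * u := by
      rcases he₂ with rfl | rfl <;> simp [hneg]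
    rw [hw, wG_two, p1, p2] at hc
    exact hc
  · have hc := xG_comm_word hD a ab ha hab haba habn t u
    have hw : D.commWord K a ab t u = [(aab, (e₃ : K) * (-t) ^ 1 * u ^ 1)] := by
      unfold ChevalleyDatum.commWord; rw [h3]; rfl
    have p1 : (e₃ : K) * (-t) ^ 1 * u ^ 1 = 0 := by
      rcases he₃ with rfl | rfl <;> simp [h2]
    rw [hw, wG_one, p1, xG_zero, mul_one] at hc
    exact hc.symm

/-- `x_a(s) x_b(t)`. -/
noncomputable def suzU (hD : Seven D) (a b : ℕ) (s t : K) : GL D.Idx K := xG hD a s * xG hD b t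

/-- `x_{a+b}(c) x_{2a+b}(e)`. -/
noncomputable def suzC (hD : Seven D) (ab aab : ℕ) (c e : K) : GL D.Idx K :=
  xG hD ab c * xG hD aab e

/-- `x_a(t^θ) x_b(t) x_{a+b}(t^{θ+1} + u) x_{2a+b}(u^{2θ})`. -/
noncomputable def suzZ (hD : Seven D) (a b ab aab θ : ℕ) (t u : K) : GL D.Idx K :=
  suzU hD a b (t ^ θ) t * suzC hD ab aab (t ^ (θ + 1) + u) (u ^ (2 * θ))

variable {hD : Seven D} {a b ab aab : ℕ}

theorem suzC_mul (S : SuzCls hD K a b ab aab) (c e c' e' : K) :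
    suzC hD ab aab c e * suzC hD ab aab c' e' = suzC hD ab aab (c + c') (e + e') := by
  unfold suzC
  rw [Commute.mul_mul_mul_comm (S.c5 c' e).symm, xG_mul, xG_mul]

theorem suzC_comm_U (S : SuzCls hD K a b ab aab) (c e s t : K) :
    Commute (suzC hD ab aab c e) (suzU hD a b s t) := by
  unfold suzC suzU
  exact ((S.c1 s c).symm.mul_right (S.c3 t c).symm).mul_left
    ((S.c2 s e).symm.mul_right (S.c4 t e).symm)

theorem suzU_mul (S : SuzCls hD K a b ab aab) (s t s' t' : K) :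
    suzU hD a b s t * suzU hD a b s' t' =
      suzU hD a b (s + s') (t + t') * suzC hD ab aab (s' * t) (s' ^ 2 * t) := by
  have h := S.hba s' t
  have hc : Commute (suzC hD ab aab (s' * t) (s' ^ 2 * t)) (xG hD b t') := by
    unfold suzC
    exact (S.c3 t' _).symm.mul_left (S.c4 t' _).symm
  have h' : xG hD b t * xG hD a s' =
      xG hD a s' * xG hD b t * suzC hD ab aab (s' * t) (s' ^ 2 * t) := h
  unfold suzU
  calc xG hD a s * xG hD b t * (xG hD a s' * xG hD b t')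
      = xG hD a s * (xG hD b t * xG hD a s') * xG hD b t' := by simp only [mul_assoc]
    _ = xG hD a s * (xG hD a s' * xG hD b t * suzC hD ab aab (s' * t) (s' ^ 2 * t)) *
          xG hD b t' := by rw [h']
    _ = (xG hD a s * xG hD a s') * xG hD b t *
          (suzC hD ab aab (s' * t) (s' ^ 2 * t) * xG hD b t') := by simp only [mul_assoc]
    _ = (xG hD a s * xG hD a s') * xG hD b t *
          (xG hD b t' * suzC hD ab aab (s' * t) (s' ^ 2 * t)) := by rw [hc.eq]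
    _ = (xG hD a s * xG hD a s') * (xG hD b t * xG hD b t') *
          suzC hD ab aab (s' * t) (s' ^ 2 * t) := by simp only [mul_assoc]
    _ = _ := by rw [xG_mul, xG_mul]

theorem suzZ_mul (S : SuzCls hD K a b ab aab) (θ : ℕ) (hθ : IsFrob K θ) (h2θ : IsFrob K (2 * θ))
    (hq : ∀ t : K, t ^ (θ * (2 * θ)) = t) (h2 : (2 : K) = 0) (t u t' u' : K) :
    suzZ hD a b ab aab θ t u * suzZ hD a b ab aab θ t' u' =
      suzZ hD a b ab aab θ (t + t') (u + u' + t ^ θ * t') := by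
  unfold suzZ
  have hc := suzC_comm_U S (t ^ (θ + 1) + u) (u ^ (2 * θ)) (t' ^ θ) t'
  have e1 : t' ^ θ * t + (t ^ (θ + 1) + u + (t' ^ (θ + 1) + u')) =
      (t + t') ^ (θ + 1) + (u + u' + t ^ θ * t') := by
    rw [pow_succ (t + t'), hθ.2, pow_succ, pow_succ]
    linear_combination (-(t ^ θ * t')) * h2
  have e2 : (t' ^ θ) ^ 2 * t + (u ^ (2 * θ) + u' ^ (2 * θ)) =
      (u + u' + t ^ θ * t') ^ (2 * θ) := by
    rw [h2θ.2, h2θ.2, mul_pow, ← pow_mul t, hq, ← pow_mul]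
    ring
  rw [Commute.mul_mul_mul_comm hc, suzU_mul S, suzC_mul S, mul_assoc, suzC_mul S, hθ.2, e1, e2]

theorem suzZ_zero (θ : ℕ) (hθ0 : θ ≠ 0) : suzZ hD a b ab aab θ (0 : K) 0 = 1 := by
  unfold suzZ suzU suzC
  rw [zero_pow hθ0, zero_pow (Nat.succ_ne_zero θ), zero_pow (by omega : 2 * θ ≠ 0), add_zero,
    xG_zero, xG_zero, xG_zero, xG_zero, mul_one, mul_one]

theorem suzZ_conj (θ : ℕ) (hq : ∀ t : K, t ^ (θ * (2 * θ)) = t) (h : GL D.Idx K) (κ : K)
    (ha : ∀ x, h * xG hD a x * h⁻¹ = xG hD a (κ ^ θ * x))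
    (hb : ∀ x, h * xG hD b x * h⁻¹ = xG hD b (κ * x))
    (hab : ∀ x, h * xG hD ab x * h⁻¹ = xG hD ab (κ ^ (θ + 1) * x))
    (haab : ∀ x, h * xG hD aab x * h⁻¹ = xG hD aab (κ ^ (2 * θ + 1) * x)) (t u : K) :
    h * suzZ hD a b ab aab θ t u * h⁻¹ = suzZ hD a b ab aab θ (κ * t) (κ ^ (θ + 1) * u) := by
  have e : h * suzZ hD a b ab aab θ t u * h⁻¹ =
      (h * xG hD a (t ^ θ) * h⁻¹) * (h * xG hD b t * h⁻¹) *
        ((h * xG hD ab (t ^ (θ + 1) + u) * h⁻¹) * (h * xG hD aab (u ^ (2 * θ)) * h⁻¹)) := by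
    unfold suzZ suzU suzC; group
  have e1 : κ ^ θ * t ^ θ = (κ * t) ^ θ := (mul_pow κ t θ).symm
  have e3 : κ ^ (θ + 1) * (t ^ (θ + 1) + u) = (κ * t) ^ (θ + 1) + κ ^ (θ + 1) * u := by
    rw [mul_add, mul_pow]
  have e4 : κ ^ (2 * θ + 1) * u ^ (2 * θ) = (κ ^ (θ + 1) * u) ^ (2 * θ) := by
    have e5 : (θ + 1) * (2 * θ) = θ * (2 * θ) + 2 * θ := by ring
    have e6 : (κ ^ (θ + 1)) ^ (2 * θ) = κ * κ ^ (2 * θ) := by rw [← pow_mul, e5, pow_add, hq]
    rw [mul_pow, e6, pow_succ]; ring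
  rw [e, ha, hb, hab, haab, e1, e3, e4]
  rfl

/-- The elements of a class of type `B₂` are commutators, given a torus element. -/
theorem suz_perf (S : SuzCls hD K a b ab aab) (G : Subgroup (GL D.Idx K)) (θ : ℕ)
    (hθ : IsFrob K θ) (h2θ : IsFrob K (2 * θ)) (hq : ∀ t : K, t ^ (θ * (2 * θ)) = t)
    (h2 : (2 : K) = 0) (hZ : ∀ t u : K, suzZ hD a b ab aab θ t u ∈ G) (h : GL D.Idx K)
    (hh : h ∈ G) (κ : K) (hκ1 : κ ≠ 1) (hκ2 : κ ^ (θ + 1) ≠ 1)
    (hconj : ∀ t u : K, h * suzZ hD a b ab aab θ t u * h⁻¹ =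
      suzZ hD a b ab aab θ (κ * t) (κ ^ (θ + 1) * u))
    (t₀ u₀ : K) : suzZ hD a b ab aab θ t₀ u₀ ∈ (commutator ↥G).map G.subtype := by
  have law := suzZ_mul S θ hθ h2θ hq h2
  have hθ0 : θ ≠ 0 := hθ.1
  have hcen : ∀ u : K, suzZ hD a b ab aab θ 0 u ∈ (commutator ↥G).map G.subtype := by
    intro u
    refine torus_trick G (fun u => suzZ hD a b ab aab θ 0 u) ?_ h hh (fun u => hZ 0 u)
      (κ ^ (θ + 1)) hκ2 ?_ u
    · intro u u'
      have h1 := law 0 u 0 u'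
      rw [add_zero, zero_pow hθ0, zero_mul, add_zero] at h1
      exact h1
    · intro u
      have h1 := hconj 0 u
      rw [mul_zero] at h1
      exact h1
  have hk : κ + 1 ≠ 0 := by
    intro hk
    apply hκ1
    have e : κ + 1 = κ - 1 := by linear_combination h2
    rw [e] at hk
    exact sub_eq_zero.mp hk
  obtain ⟨t, ht⟩ : ∃ t : K, κ * t + t = t₀ :=
    ⟨(κ + 1)⁻¹ * t₀, by rw [← add_one_mul, ← mul_assoc, mul_inv_cancel₀ hk, one_mul]⟩
  have hinv : (suzZ hD a b ab aab θ t 0)⁻¹ = suzZ hD a b ab aab θ t (t ^ (θ + 1)) := by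
    apply inv_eq_of_mul_eq_one_right
    rw [law]
    refine Eq.trans ?_ (suzZ_zero (hD := hD) (a := a) (b := b) (ab := ab) (aab := aab) θ hθ0)
    congr 1
    · linear_combination t * h2
    · rw [pow_succ]; linear_combination (t ^ θ * t) * h2
  have hg : suzZ hD a b ab aab θ t₀ (κ ^ (θ + 1) * 0 + t ^ (θ + 1) + (κ * t) ^ θ * t) ∈
      (commutator ↥G).map G.subtype := by
    have h1 := comm_mem_map G h (suzZ hD a b ab aab θ t 0) hh (hZ t 0)
    rw [hconj, hinv, law, ht] at h1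
    exact h1
  have e : suzZ hD a b ab aab θ t₀ u₀ =
      suzZ hD a b ab aab θ t₀ (κ ^ (θ + 1) * 0 + t ^ (θ + 1) + (κ * t) ^ θ * t) *
        suzZ hD a b ab aab θ 0 (u₀ - (κ ^ (θ + 1) * 0 + t ^ (θ + 1) + (κ * t) ^ θ * t)) := by
    rw [law, add_zero, mul_zero (t₀ ^ θ), add_zero, add_sub_cancel]
  rw [e]
  exact mul_mem hg (hcen _)

theorem wG_suz (hD : Seven D) (a b ab aab θ : ℕ) (t u : K) :
    wG hD (b2ClassWord θ a b ab aab t u) = suzZ hD a b ab aab θ t u := by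
  unfold b2ClassWord suzZ suzU suzC
  rw [wG_cons, wG_cons, wG_cons, wG_cons, wG_nil, mul_one, mul_assoc]

end Suz

end Cfsg.Agent.Helper11
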