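import Cfsg.Agent.Helper11.ChevGrp2

set_option autoImplicit false

/-!
The order of the diagonal subgroup `H`: `H` is the image of the torus `(Fˣ)^rank` under the
monomial map given by the Cartan integers; its order is read off a Smith normal form of the Cartan
matrix (given with explicit unimodular transformations, checked by the kernel).
-/

namespace Cfsg.Agent.Helper11

open Cfsg.Lie

section TP
variable {A : Type*} [CommGroup A] {ι κ μ : Type*} [Fintype ι] [Fintype κ]

/-- The monomial map of an integer matrix. -/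
def tpw (M : ι → κ → ℤ) (c : ι → A) : κ → A := fun k => ∏ i, c i ^ M i k

theorem zpow_fsum (c : A) (s : Finset κ) (f : κ → ℤ) :
    c ^ (∑ k ∈ s, f k) = ∏ k ∈ s, c ^ f k := by
  classical
  induction s using Finset.induction_on with
  | empty => simp
  | insert a s ha ih => rw [Finset.sum_insert ha, Finset.prod_insert ha, zpow_add, ih]

theorem tpw_comp (M : ι → κ → ℤ) (N : κ → μ → ℤ) (c : ι → A) :
    tpw (fun i m => ∑ k, M i k * N k m) c = tpw N (tpw M c) := by
  funext m
  show ∏ i, c i ^ (∑ k, M i k * N k m) = ∏ k, (∏ i, c i ^ M i k) ^ N k m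
  have h1 : ∀ i, c i ^ (∑ k, M i k * N k m) = ∏ k, (c i ^ M i k) ^ N k m := by
    intro i
    rw [zpow_fsum]
    apply Finset.prod_congr rfl
    intro k _
    rw [zpow_mul]
  rw [Finset.prod_congr rfl (fun i _ => h1 i), Finset.prod_comm]
  apply Finset.prod_congr rfl
  intro k _
  rw [Finset.prod_zpow]

theorem tpw_scale (M : ι → κ → ℤ) (d : κ → ℕ) (c : ι → A) :
    tpw (fun i k => M i k * (d k : ℤ)) c = fun k => (tpw M c k) ^ d k := by
  funext k
  show ∏ i, c i ^ (M i k * (d k : ℤ)) = (∏ i, c i ^ M i k) ^ d k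
  rw [← Finset.prod_pow]
  apply Finset.prod_congr rfl
  intro i _
  rw [zpow_mul, zpow_natCast]

theorem tpw_one [DecidableEq ι] (c : ι → A) :
    tpw (fun i k : ι => if i = k then (1 : ℤ) else 0) c = c := by
  funext k
  show ∏ i, c i ^ (if i = k then (1 : ℤ) else 0) = c k
  rw [Finset.prod_eq_single k]
  · rw [if_pos rfl, zpow_one]
  · intro i _ hik; rw [if_neg hik, zpow_zero]
  · intro h; exact absurd (Finset.mem_univ k) h

theorem tpw_bij [DecidableEq ι] (P P' : ι → ι → ℤ)
    (h1 : ∀ i m, ∑ k, P i k * P' k m = if i = m then 1 else 0)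
    (h2 : ∀ i m, ∑ k, P' i k * P k m = if i = m then 1 else 0) :
    Function.Bijective (tpw P : (ι → A) → (ι → A)) := by
  have e1 : ∀ c : ι → A, tpw P' (tpw P c) = c := by
    intro c
    rw [← tpw_comp]
    have e : (fun i m => ∑ k, P i k * P' k m) = fun i m : ι => if i = m then (1 : ℤ) else 0 := by
      funext i m; exact h1 i m
    rw [e, tpw_one]
  have e2 : ∀ c : ι → A, tpw P (tpw P' c) = c := by
    intro c
    rw [← tpw_comp]
    have e : (fun i m => ∑ k, P' i k * P k m) = fun i m : ι => if i = m then (1 : ℤ) else 0 := by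
      funext i m; exact h2 i m
    rw [e, tpw_one]
  exact ⟨fun a b h => by rw [← e1 a, ← e1 b, h], fun b => ⟨tpw P' b, e2 b⟩⟩

theorem card_range_tpw [DecidableEq ι] (C P Q P' Q' : ι → ι → ℤ) (d : ι → ℕ)
    (hC : ∀ i j, C i j = ∑ k, (P i k * (d k : ℤ)) * Q k j)
    (hP1 : ∀ i m, ∑ k, P i k * P' k m = if i = m then 1 else 0)
    (hP2 : ∀ i m, ∑ k, P' i k * P k m = if i = m then 1 else 0)
    (hQ1 : ∀ i m, ∑ k, Q i k * Q' k m = if i = m then 1 else 0)
    (hQ2 : ∀ i m, ∑ k, Q' i k * Q k m = if i = m then 1 else 0) :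
    Nat.card (Set.range (tpw C : (ι → A) → (ι → A))) =
      ∏ k, Nat.card (Set.range (fun x : A => x ^ d k)) := by
  have hCe : C = fun i j => ∑ k, (P i k * (d k : ℤ)) * Q k j := by funext i j; exact hC i j
  have hPb := tpw_bij (A := A) P P' hP1 hP2
  have hQb := tpw_bij (A := A) Q Q' hQ1 hQ2
  have e1 : Set.range (tpw C : (ι → A) → (ι → A)) =
      tpw Q '' Set.range (fun (c : ι → A) k => c k ^ d k) := by
    ext f
    constructor
    · rintro ⟨c, rfl⟩
      refine ⟨fun k => (tpw P c k) ^ d k, ⟨tpw P c, rfl⟩, ?_⟩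
      rw [hCe, tpw_comp, tpw_scale]
    · rintro ⟨_, ⟨c, rfl⟩, rfl⟩
      obtain ⟨c0, rfl⟩ := hPb.2 c
      refine ⟨c0, ?_⟩
      rw [hCe, tpw_comp, tpw_scale]
  have e2 : Set.range (fun (c : ι → A) k => c k ^ d k) =
      Set.pi Set.univ (fun k => Set.range (fun x : A => x ^ d k)) := by
    ext f
    constructor
    · rintro ⟨c, rfl⟩ k _
      exact ⟨c k, rfl⟩
    · intro h
      choose c hc using fun k => h k (Set.mem_univ k)
      exact ⟨c, funext hc⟩
  rw [Nat.card_coe_set_eq, e1, Set.ncard_image_of_injective _ hQb.1, ← Nat.card_coe_set_eq,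
    e2, Nat.card_congr (Equiv.Set.univPi _), Nat.card_pi]

theorem card_range_of_ker {α β γ : Type*} (f : α → β) (g : α → γ)
    (h : ∀ a b, f a = f b ↔ g a = g b) : Nat.card (Set.range f) = Nat.card (Set.range g) := by
  have e : Setoid.ker f = Setoid.ker g := Setoid.ext (fun a b => h a b)
  calc Nat.card (Set.range f) = Nat.card (Quotient (Setoid.ker f)) :=
        (Nat.card_congr (Setoid.quotientKerEquivRange f)).symm
    _ = Nat.card (Quotient (Setoid.ker g)) := by rw [e]
    _ = Nat.card (Set.range g) := Nat.card_congr (Setoid.quotientKerEquivRange g)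

theorem list_range_prod {M : Type*} [CommMonoid M] (n : ℕ) (f : ℕ → M) :
    ((List.range n).map f).prod = ∏ i : Fin n, f i := by
  induction n with
  | zero => simp
  | succ n ih =>
    rw [List.range_succ, List.map_append, List.prod_append, ih, Fin.prod_univ_castSucc]
    simp

end TP

open Classical in
theorem card_range_pow_units (F : Type*) [Field F] [Fintype F] (d : ℕ) :
    Nat.card (Set.range (fun x : Fˣ => x ^ d)) =
      (Fintype.card F - 1) / Nat.gcd (Fintype.card F - 1) d := by
  have h := IsCyclic.card_powMonoidHom_range (G := Fˣ) d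
  rw [Nat.card_eq_fintype_card (α := Fˣ), Fintype.card_units] at h
  rw [← h]
  exact Nat.card_congr (Equiv.subtypeEquivRight (fun x => Iff.rfl))

/-! ### Tables -/

noncomputable def sumZ (n : ℕ) (f : ℕ → ℤ) : ℤ :=
  @Nat.rec (fun _ => ℤ) 0 (fun k ih => Int.add ih (f k)) n

theorem sumZ_eq (n : ℕ) (f : ℕ → ℤ) : sumZ n f = ∑ k : Fin n, f k := by
  induction n with
  | zero => rfl
  | succ n ih =>
    rw [Fin.sum_univ_castSucc]
    show sumZ n f + f n = _
    rw [ih]
    rfl

/-- Entry of an integer matrix given by its list of rows. -/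
noncomputable def mZ (l : List (List ℤ)) (i j : ℕ) : ℤ := (l.getD i []).getD j 0

noncomputable def smithOK (D : ChevalleyDatum) (P Q P' Q' : List (List ℤ)) (d : List ℕ)
    (RC : List (List ℤ)) : Bool :=
  Nat.beq d.length D.rank &&
  (allN D.rank (fun i => allN D.rank (fun j =>
    isZ (Int.sub (cartAt D i (D.simple j)) (sumZ D.rank (fun k =>
      Int.mul (Int.mul (mZ P i k) (Int.ofNat (d.getD k 1))) (mZ Q k j)))) &&
    (isZ (Int.sub (sumZ D.rank (fun k => Int.mul (mZ P i k) (mZ P' k j))) (cond (Nat.beq i j) 1 0)) &&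
    (isZ (Int.sub (sumZ D.rank (fun k => Int.mul (mZ P' i k) (mZ P k j))) (cond (Nat.beq i j) 1 0)) &&
    (isZ (Int.sub (sumZ D.rank (fun k => Int.mul (mZ Q i k) (mZ Q' k j))) (cond (Nat.beq i j) 1 0)) &&
    isZ (Int.sub (sumZ D.rank (fun k => Int.mul (mZ Q' i k) (mZ Q k j)))
      (cond (Nat.beq i j) 1 0))))))) &&
  allN D.rank (fun i => allN D.nroots (fun s =>
    isZ (Int.sub (cartAt D i s) (sumZ D.rank (fun j =>
      Int.mul (cartAt D i (D.simple j)) (mZ RC j s)))))))

theorem cond_beq_fin {n : ℕ} (i j : Fin n) :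
    (cond (Nat.beq i.val j.val) 1 0 : ℤ) = if i = j then 1 else 0 := by
  by_cases h : i = j
  · rw [if_pos h, h, (beq_iff _ _).mpr rfl]; rfl
  · rw [if_neg h, beq_false_of_ne (fun e => h (Fin.ext e))]; rfl

section Torus
variable {F : Type*} [Field F] {D : ChevalleyDatum}

/-- Extension of a tuple of units to a function on `ℕ`. -/
noncomputable def cext (D : ChevalleyDatum) (c : Fin D.rank → Fˣ) : ℕ → F :=
  fun i => if h : i < D.rank then ((c ⟨i, h⟩ : Fˣ) : F) else 1

theorem cext_ne_zero (c : Fin D.rank → Fˣ) (i : ℕ) : cext D c i ≠ 0 := by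
  unfold cext
  split_ifs
  · exact Units.ne_zero _
  · exact one_ne_zero

theorem hsDiag_cext (c : Fin D.rank → Fˣ) (s : Fin D.nroots) :
    hsDiag D (cext D c) (Sum.inr s) =
      ((tpw (fun (i : Fin D.rank) (s : Fin D.nroots) => D.cartan i s) c s : Fˣ) : F) := by
  show ((List.range D.rank).map (fun i => cext D c i ^ D.cartan i s.val)).prod = _
  rw [list_range_prod]
  show _ = ((∏ i : Fin D.rank, c i ^ D.cartan i s : Fˣ) : F)
  rw [Units.coe_prod]
  apply Finset.prod_congr rfl
  intro i _
  rw [Units.val_zpow_eq_zpow_val]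
  congr 1
  unfold cext
  rw [dif_pos i.2]

/-- The element of `H` of a tuple of units. -/
noncomputable def torEl (hD : Seven D) (c : Fin D.rank → Fˣ) : GL D.Idx F :=
  wG hD ((List.range D.rank).flatMap fun i => D.hWord (D.simple i) (cext D c i))

theorem torEl_val (hD : Seven D) (c : Fin D.rank → Fˣ) :
    ((torEl hD c : GL D.Idx F) : Matrix D.Idx D.Idx F) = Matrix.diagonal (hsDiag D (cext D c)) := by
  unfold torEl
  rw [wG_val, hs_word hD _ (fun i _ => cext_ne_zero c i)]

theorem torEl_mem (hD : Seven D) (c : Fin D.rank → Fˣ) : torEl hD c ∈ D.diagonalSubgroup F := by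
  unfold torEl
  have key : ∀ l : List ℕ, (∀ i ∈ l, i < D.rank) →
      wG hD (l.flatMap fun i => D.hWord (D.simple i) (cext D c i)) ∈ D.diagonalSubgroup F := by
    intro l
    induction l with
    | nil => intro _; exact one_mem _
    | cons i l ih =>
      intro hl
      rw [List.flatMap_cons, wG_append]
      exact mul_mem (hG_mem_H hD _ (simple_lt7 hD i (hl i List.mem_cons_self)) _
        (cext_ne_zero c i)) (ih (fun j hj => hl j (List.mem_cons_of_mem _ hj)))
  exact key _ (fun i hi => List.mem_range.mp hi)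

theorem H_eq_range (hD : Seven D) :
    (D.diagonalSubgroup F : Set (GL D.Idx F)) = Set.range (torEl (F := F) hD) := by
  ext g
  constructor
  · intro hg
    obtain ⟨c, hc, hval⟩ := H_form hD g hg
    refine ⟨fun i => Units.mk0 (c i) (hc i i.2), ?_⟩
    apply Units.ext
    rw [torEl_val, hval]
    congr 1
    funext a
    rcases a with a | s
    · rfl
    · show ((List.range D.rank).map (fun i => cext D _ i ^ D.cartan i s.val)).prod =
        ((List.range D.rank).map (fun i => c i ^ D.cartan i s.val)).prod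
      congr 1
      apply List.map_congr_left
      intro i hi
      have hi' := List.mem_range.mp hi
      unfold cext
      rw [dif_pos hi']
      rfl
  · rintro ⟨c, rfl⟩
    exact torEl_mem hD c

theorem torEl_eq_iff (hD : Seven D) (c c' : Fin D.rank → Fˣ) :
    torEl (F := F) hD c = torEl hD c' ↔
      tpw (fun (i : Fin D.rank) (s : Fin D.nroots) => D.cartan i s) c =
        tpw (fun (i : Fin D.rank) (s : Fin D.nroots) => D.cartan i s) c' := by
  constructor
  · intro h
    have h1 : Matrix.diagonal (hsDiag D (cext D c)) = Matrix.diagonal (hsDiag D (cext D c')) := by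
      rw [← torEl_val hD, ← torEl_val hD, h]
    have h2 := Matrix.diagonal_injective h1
    funext s
    apply Units.ext
    rw [← hsDiag_cext, ← hsDiag_cext, h2]
  · intro h
    apply Units.ext
    rw [torEl_val, torEl_val]
    congr 1
    funext a
    rcases a with a | s
    · rfl
    · rw [hsDiag_cext, hsDiag_cext, h]

theorem getD_map_range (d : List ℕ) (g : ℕ → ℕ) :
    (List.range d.length).map (fun k => g (d.getD k 1)) = d.map g := by
  apply List.ext_getElem
  · simp
  · intro i h1 h2
    simp only [List.getElem_map, List.getElem_range]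
    congr 1
    rw [List.length_map, List.length_range] at h1
    exact List.getD_eq_getElem _ _ h1

/-- The order of `H` from a Smith normal form of the Cartan matrix. -/
theorem card_H (hD : Seven D) [Fintype F] (P Q P' Q' : List (List ℤ)) (d : List ℕ)
    (RC : List (List ℤ)) (hS : smithOK D P Q P' Q' d RC = true) :
    Nat.card ↥(D.diagonalSubgroup F) =
      (d.map (fun e => (Fintype.card F - 1) / Nat.gcd (Fintype.card F - 1) e)).prod := by
  classical
  have hT := tabOK_seven D hD
  unfold smithOK at hS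
  rw [Bool.and_eq_true, Bool.and_eq_true] at hS
  obtain ⟨hlen, hsq, hrc⟩ := hS
  have hlen' : d.length = D.rank := (beq_iff _ _).mp hlen
  have hsq' : ∀ i j : Fin D.rank,
      (D.cartan i (D.simple j) = ∑ k : Fin D.rank,
        (mZ P i k * ((d.getD k 1 : ℕ) : ℤ)) * mZ Q k j) ∧
      (∑ k : Fin D.rank, mZ P i k * mZ P' k j = if i = j then 1 else 0) ∧
      (∑ k : Fin D.rank, mZ P' i k * mZ P k j = if i = j then 1 else 0) ∧
      (∑ k : Fin D.rank, mZ Q i k * mZ Q' k j = if i = j then 1 else 0) ∧
      (∑ k : Fin D.rank, mZ Q' i k * mZ Q k j = if i = j then 1 else 0) := by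
    intro i j
    have h0 := (allN_spec _ _).mp ((allN_spec _ _).mp hsq i i.2) j j.2
    rw [Bool.and_eq_true, Bool.and_eq_true, Bool.and_eq_true, Bool.and_eq_true] at h0
    obtain ⟨h1, h2, h3, h4, h5⟩ := h0
    have g1 := isZ_eq _ h1
    have g2 := isZ_eq _ h2
    have g3 := isZ_eq _ h3
    have g4 := isZ_eq _ h4
    have g5 := isZ_eq _ h5
    rw [tabOK_cart hT i (D.simple j) i.2 (simple_lt7 hD j j.2)] at g1
    refine ⟨?_, ?_, ?_, ?_, ?_⟩
    · have e := sumZ_eq D.rank (fun k =>
        Int.mul (Int.mul (mZ P i k) (Int.ofNat (d.getD k 1))) (mZ Q k j))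
      rw [e] at g1
      exact sub_eq_zero.mp g1
    · have e := sumZ_eq D.rank (fun k => Int.mul (mZ P i k) (mZ P' k j))
      rw [e, cond_beq_fin] at g2
      exact sub_eq_zero.mp g2
    · have e := sumZ_eq D.rank (fun k => Int.mul (mZ P' i k) (mZ P k j))
      rw [e, cond_beq_fin] at g3
      exact sub_eq_zero.mp g3
    · have e := sumZ_eq D.rank (fun k => Int.mul (mZ Q i k) (mZ Q' k j))
      rw [e, cond_beq_fin] at g4
      exact sub_eq_zero.mp g4
    · have e := sumZ_eq D.rank (fun k => Int.mul (mZ Q' i k) (mZ Q k j))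
      rw [e, cond_beq_fin] at g5
      exact sub_eq_zero.mp g5
  have hrc' : ∀ (i : Fin D.rank) (s : Fin D.nroots),
      D.cartan i s = ∑ j : Fin D.rank, D.cartan i (D.simple j) * mZ RC j s := by
    intro i s
    have g1 := isZ_eq _ ((allN_spec _ _).mp ((allN_spec _ _).mp hrc i i.2) s s.2)
    have e := sumZ_eq D.rank (fun j => Int.mul (cartAt D i (D.simple j)) (mZ RC j s))
    rw [e, tabOK_cart hT i s i.2 s.2] at g1
    refine (sub_eq_zero.mp g1).trans ?_
    apply Finset.sum_congr rfl
    intro j _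
    show cartAt D i (D.simple j) * mZ RC j s = _
    rw [tabOK_cart hT i (D.simple j) i.2 (simple_lt7 hD j j.2)]
    rfl
  -- the three monomial maps
  have hk1 : ∀ c c' : Fin D.rank → Fˣ,
      tpw (fun (i : Fin D.rank) (s : Fin D.nroots) => D.cartan i s) c =
        tpw (fun (i : Fin D.rank) (s : Fin D.nroots) => D.cartan i s) c' ↔
      tpw (fun (i j : Fin D.rank) => D.cartan i (D.simple j)) c =
        tpw (fun (i j : Fin D.rank) => D.cartan i (D.simple j)) c' := by
    intro c c'
    constructor
    · intro h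
      funext j
      exact congrFun h ⟨D.simple j, simple_lt7 hD j j.2⟩
    · intro h
      have e : (fun (i : Fin D.rank) (s : Fin D.nroots) => D.cartan i s) =
          fun (i : Fin D.rank) (s : Fin D.nroots) =>
            ∑ j : Fin D.rank, D.cartan i (D.simple j) * mZ RC j s := by
        funext i s; exact hrc' i s
      rw [e, tpw_comp, tpw_comp, h]
  have e1 : Nat.card ↥(D.diagonalSubgroup F) = Nat.card (Set.range (torEl (F := F) hD)) :=
    Nat.card_congr (Equiv.subtypeEquivRight (fun x => by
      rw [← H_eq_range hD]; exact Iff.rfl))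
  rw [e1, card_range_of_ker _ _ (fun c c' => (torEl_eq_iff hD c c').trans (hk1 c c')),
    card_range_tpw (A := Fˣ) (fun (i j : Fin D.rank) => D.cartan i (D.simple j))
      (fun i k => mZ P i k) (fun i k => mZ Q i k) (fun i k => mZ P' i k) (fun i k => mZ Q' i k)
      (fun k => d.getD k 1) (fun i j => (hsq' i j).1) (fun i j => (hsq' i j).2.1)
      (fun i j => (hsq' i j).2.2.1) (fun i j => (hsq' i j).2.2.2.1)
      (fun i j => (hsq' i j).2.2.2.2)]
  rw [Finset.prod_congr rfl (fun (k : Fin D.rank) _ => card_range_pow_units F (d.getD k 1)),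
    ← list_range_prod D.rank
      (fun k => (Fintype.card F - 1) / Nat.gcd (Fintype.card F - 1) (d.getD k 1)),
    ← hlen']
  exact congrArg List.prod (getD_map_range d
    (fun e => (Fintype.card F - 1) / Nat.gcd (Fintype.card F - 1) e))

end Torus

end Cfsg.Agent.Helper11
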