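import Cfsg.Agent.Helper11.ChevTwD4Wt
import Cfsg.Agent.Helper11.ChevPermP

set_option autoImplicit false

/-!
Table facts for the twisted Bruhat decomposition of `³D₄(q)`: the triality operator intertwines
all root elements up to signs.
-/

namespace Cfsg.Agent.Helper11

open Cfsg.Lie

section PermS
variable {F : Type*} [Field F]

/-- Check of `P * x_s(t) = x_{s'}(τ(t)) * P` for the operator table `big`. -/
noncomputable def permOKS (D : ChevalleyDatum) (big s s' : ℕ) (τ : Poly) : Bool :=
  allN (Nat.add D.rank D.nroots) (fun v =>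
    vecEqF (applyOp (Nat.add D.rank D.nroots) big (applyXF D s [(1, 1, 0)] [(v, (1, 0, 0))]))
      (applyXF D s' τ (applyOp (Nat.add D.rank D.nroots) big [(v, (1, 0, 0))])))

theorem permS_sound {D : ChevalleyDatum} (hT : tabOK D = true)
    (big s s' : ℕ) (τ : Poly) (h : permOKS D big s s' τ = true) (t : F) :
    opMat D F big * D.x F s t = D.x F s' (evalPoly t 0 τ) * opMat D F big := by
  apply matrix_ext_basis
  intro v hv
  have hM := fun v hv => opMat_mulVec (F := F) D big t 0 v hv
  have e : ([(v, ((1 : ℤ), 0, 0))] : Vec) = unitVec v := rfl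
  have e1 : t = evalPoly t (0 : F) [(1, 1, 0)] := by simp [evalPoly, evalMono]
  have hL : evalVec D t 0 (applyOp (Nat.add D.rank D.nroots) big
      (applyXF D s [(1, 1, 0)] [(v, (1, 0, 0))])) =
      (opMat D F big * D.x F s t).mulVec (basisVec D F v) := by
    rw [applyOp_sound D t 0 _ _ hM, applyXF_eq hT, e, ← applyX_sound, evalVec_unitVec, ← e1,
      Matrix.mulVec_mulVec]
  have hR : evalVec D t 0 (applyXF D s' τ
      (applyOp (Nat.add D.rank D.nroots) big [(v, (1, 0, 0))])) =
      (D.x F s' (evalPoly t 0 τ) * opMat D F big).mulVec (basisVec D F v) := by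
    rw [applyXF_eq hT, ← applyX_sound, applyOp_sound D t 0 _ _ hM, e, evalVec_unitVec,
      Matrix.mulVec_mulVec]
  rw [← hL, ← hR]
  exact vecEqF_sound D t 0 _ _ ((allN_spec _ _).mp h v hv)

theorem evalPoly_lin (z : ℤ) (t : F) : evalPoly t (0 : F) [(z, 1, 0)] = (z : F) * t := by
  simp [evalPoly, evalMono]

end PermS

/-- The signs of the triality operator on the root vectors. -/
def d4sg : List ℤ :=
  [1, 1, -1, 1, -1, 1, -1, 1, -1, 1, 1, 1, 1, 1, 1, -1, 1, -1, 1, -1, 1, -1, 1, 1]

/-- The triality on the nodes. -/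
def d4pi : List ℕ := [2, 1, 3, 0]

/-- The proper non-empty sub-words of `s₁s₃s₄`. -/
def d4subs : List (List ℕ) := [[0], [2], [3], [0, 2], [0, 3], [2, 3]]

set_option maxRecDepth 100000 in
set_option maxHeartbeats 0 in
theorem d4_perm_tab : allN chevD4.nroots (fun s =>
    permOKS chevD4 gaBig_D4a s (d4rho.getD s 0) [(d4sg.getD s 1, 1, 0)]) = true := by
  decide +kernel

set_option maxRecDepth 100000 in
set_option maxHeartbeats 0 in
theorem d4_sg_tab : ∀ s, s < chevD4.nroots →
    (d4sg.getD s 1 = 1 ∨ d4sg.getD s 1 = -1) ∧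
    d4sg.getD (chevD4.neg s) 1 = d4sg.getD s 1 ∧
    d4rho.getD (chevD4.neg s) 0 = chevD4.neg (d4rho.getD s 0) ∧
    d4rho.getD s 0 < chevD4.nroots ∧
    d4rho.getD (d4rho.getD (d4rho.getD s 0) 0) 0 = s ∧
    (chevD4.nroots / 2 ≤ s → chevD4.nroots / 2 ≤ d4rho.getD s 0) ∧
    (s < chevD4.nroots / 2 → d4rho.getD s 0 < chevD4.nroots / 2) := by decide +kernel

set_option maxRecDepth 100000 in
set_option maxHeartbeats 0 in
theorem d4_rho_w : ∀ i, i < chevD4.rank → ∀ s, s < chevD4.nroots →
    d4rho.getD (wAt chevD4 i s) 0 = wAt chevD4 (d4pi.getD i 0) (d4rho.getD s 0) := by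
  decide +kernel

set_option maxRecDepth 100000 in
set_option maxHeartbeats 0 in
theorem d4_pi_tab : ∀ i, i < chevD4.rank → d4pi.getD i 0 < chevD4.rank ∧
    d4rho.getD (chevD4.simple i) 0 = chevD4.simple (d4pi.getD i 0) ∧
    d4sg.getD (chevD4.simple i) 1 = 1 := by decide +kernel

set_option maxRecDepth 100000 in
set_option maxHeartbeats 0 in
theorem d4_w_idB : allN chevD4.nroots (fun s =>
    Nat.beq (wordApply chevD4 ([0, 2, 3] ++ [0, 2, 3]) s) s) = true := by decide +kernel

set_option maxRecDepth 100000 in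
set_option maxHeartbeats 0 in
theorem d4_w_neAB : anyN chevD4.nroots (fun s =>
    cond (Nat.beq (wordApply chevD4 [1] s) (wordApply chevD4 [0, 2, 3] s)) false true) = true := by
  decide +kernel

set_option maxRecDepth 100000 in
set_option maxHeartbeats 0 in
theorem d4_sub_tab : ∀ u ∈ d4subs, allN 6 (fun j =>
    anyN chevD4.nroots (fun s =>
      cond (Nat.beq (wordApply chevD4 (d4pw j) s) (wordApply chevD4 u s)) false true) &&
    anyN chevD4.nroots (fun s =>
      cond (Nat.beq (wordApply chevD4 (d4aw j) s) (wordApply chevD4 u s)) false true)) = true := by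
  decide +kernel

set_option maxRecDepth 100000 in
set_option maxHeartbeats 0 in
theorem d4_conj_tab : wordApply chevD4 [1] 14 = 9 ∧ wordApply chevD4 [0, 2, 3] 18 = 5 ∧
    wordApply chevD4 [0, 2, 3] 13 = 10 ∧ wordApply chevD4 [0, 2, 3] 12 = 11 ∧
    corZ chevD4 12 3 = 1 ∧ d4rho.getD 18 0 = 13 ∧ d4rho.getD 13 0 = 12 ∧
    chevD4.nroots = 24 := by
  decide +kernel

end Cfsg.Agent.Helper11
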