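import Cfsg.Agent.Helper11.ChevTwHG2
import Cfsg.Agent.Helper11.ChevSimple
import Cfsg.Agent.Helper11.ChevPerfAll
import Cfsg.Agent.Helper11.ChevCanon
import Cfsg.Agent.Helper11.ChevCox2

set_option autoImplicit false

/-!
The twisted Bruhat decomposition of the Ree group `²G₂(q)`.  The relation `x Q = Q y^φ` (`Q` the
partial monomial operator of `ChevTwUG2`) is the graph of an endomorphism of `G₂(q)` (it is
single-valued since `G₂(q)` is simple); it preserves `U`, `H`, `B`, `N`, and the elements related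
to themselves are `U¹H¹ ∪ U¹H¹n₀U¹`.
-/

namespace Cfsg.Agent.Helper11

open Cfsg.Lie

section TwRel
variable {K : Type*} [Field K] {ι : Type*} [Fintype ι] [DecidableEq ι]

/-- `x Q = Q y^φ`. -/
def Tw (Q : Matrix ι ι K) (φ : K →+* K) (x y : GL ι K) : Prop :=
  (x : Matrix ι ι K) * Q = Q * (y : Matrix ι ι K).map φ

theorem Tw.one (Q : Matrix ι ι K) (φ : K →+* K) : Tw Q φ 1 1 := by
  show ((1 : GL ι K) : Matrix ι ι K) * Q = Q * ((1 : GL ι K) : Matrix ι ι K).map φ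
  rw [Units.val_one, Matrix.map_one _ (map_zero φ) (map_one φ), one_mul, mul_one]

theorem Tw.mul {Q : Matrix ι ι K} {φ : K →+* K} {x y x' y' : GL ι K} (h : Tw Q φ x y)
    (h' : Tw Q φ x' y') : Tw Q φ (x * x') (y * y') := by
  unfold Tw at *
  rw [Units.val_mul, Units.val_mul, Matrix.map_mul, mul_assoc, h', ← mul_assoc, h, mul_assoc]

theorem Tw.inv {Q : Matrix ι ι K} {φ : K →+* K} {x y : GL ι K} (h : Tw Q φ x y) :
    Tw Q φ x⁻¹ y⁻¹ := by
  unfold Tw at *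
  have h1 : ((x⁻¹ : GL ι K) : Matrix ι ι K) * (x : Matrix ι ι K) = 1 := by
    rw [← Units.val_mul, inv_mul_cancel, Units.val_one]
  have h3 : (y : Matrix ι ι K).map φ * ((y⁻¹ : GL ι K) : Matrix ι ι K).map φ = 1 := by
    rw [← Matrix.map_mul, ← Units.val_mul, mul_inv_cancel, Units.val_one,
      Matrix.map_one _ (map_zero φ) (map_one φ)]
  calc ((x⁻¹ : GL ι K) : Matrix ι ι K) * Q
      = ((x⁻¹ : GL ι K) : Matrix ι ι K) * (Q * ((y : Matrix ι ι K).map φ *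
          ((y⁻¹ : GL ι K) : Matrix ι ι K).map φ)) := by rw [h3, mul_one]
    _ = ((x⁻¹ : GL ι K) : Matrix ι ι K) * ((x : Matrix ι ι K) * Q) *
          ((y⁻¹ : GL ι K) : Matrix ι ι K).map φ := by rw [h]; simp only [mul_assoc]
    _ = Q * ((y⁻¹ : GL ι K) : Matrix ι ι K).map φ := by rw [← mul_assoc, h1, one_mul]

theorem mono_rel2 (P : Matrix ι ι K) (c : ι → ℕ)
    (hc : Function.Injective c) (p : ℕ → ℕ) (s : ℕ → K)
    (hP : ∀ a b, P a b = if c a = p (c b) then s (c b) else 0) (φ : K →+* K)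
    (g g' : Matrix ι ι K) (h : g * P = P * g'.map φ) (a a' b b' : ι) (ha : c a' = p (c a))
    (hb : c b' = p (c b)) (hu : ∀ x, c a' = p (c x) → x ≠ a → s (c x) = 0) :
    g a' b' * s (c b) = s (c a) * φ (g' a b) := by
  have h1 := congrFun (congrFun h a') b
  rw [Matrix.mul_apply, Matrix.mul_apply] at h1
  have e1 : ∑ x, g a' x * P x b = g a' b' * s (c b) := by
    rw [Finset.sum_eq_single b']
    · rw [hP, if_pos hb]
    · intro x _ hx
      rw [hP, if_neg (fun e => hx (hc (e.trans hb.symm))), mul_zero]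
    · intro h'; exact absurd (Finset.mem_univ _) h'
  have e2 : ∑ x, P a' x * (g'.map φ) x b = s (c a) * φ (g' a b) := by
    rw [Finset.sum_eq_single a]
    · rw [hP, if_pos ha, Matrix.map_apply]
    · intro x _ hx
      rw [hP]
      by_cases e : c a' = p (c x)
      · rw [if_pos e, hu x e hx, zero_mul]
      · rw [if_neg e, zero_mul]
    · intro h'; exact absurd (Finset.mem_univ _) h'
  rw [e1, e2] at h1
  exact h1

/-- If `G` is simple and every element of `G` is related to something, the only element of `G`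
related to `1` is `1`. -/
theorem tw_faith (Q : Matrix ι ι K) (φ : K →+* K) (G : Subgroup (GL ι K)) [IsSimpleGroup ↥G]
    (hex : ∀ g ∈ G, ∃ y : GL ι K, Tw Q φ g y) (x₀ : GL ι K) (hx₀ : x₀ ∈ G)
    (hne : ¬ Tw Q φ x₀ 1) : ∀ x ∈ G, Tw Q φ x 1 → x = 1 := by
  let N₁ : Subgroup ↥G :=
    { carrier := {x | Tw Q φ (x : GL ι K) 1}
      mul_mem' := fun {a b} ha hb => by
        have h := Tw.mul ha hb
        rw [mul_one] at h
        exact h
      one_mem' := Tw.one Q φ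
      inv_mem' := fun {a} ha => by
        have h := Tw.inv ha
        rw [inv_one] at h
        exact h }
  have hN : N₁.Normal := by
    constructor
    intro n hn g
    obtain ⟨y, hy⟩ := hex g g.2
    have hn' : Tw Q φ (n : GL ι K) 1 := hn
    have h := Tw.mul (Tw.mul hy hn') (Tw.inv hy)
    rw [mul_one, mul_inv_cancel] at h
    exact h
  rcases hN.eq_bot_or_eq_top with h | h
  · intro x hx hT
    have h1 : (⟨x, hx⟩ : ↥G) ∈ N₁ := hT
    rw [h, Subgroup.mem_bot] at h1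
    exact congrArg Subtype.val h1
  · exfalso
    have h1 : (⟨x₀, hx₀⟩ : ↥G) ∈ N₁ := by rw [h]; exact Subgroup.mem_top _
    exact hne h1

theorem kap_rel2 {D : ChevalleyDatum} (hD : Seven D) (big : ℕ) (perm : List ℕ) (sgn : List ℤ)
    (hmono : monoOK D big perm sgn = true) (φ : K →+* K)
    (g g' : GL D.Idx K) (hg : Tw (opMat D K big) φ g g')
    (m r i i' : ℕ) (hm : m < D.nroots) (hr : r < D.nroots) (hi : i < D.rank) (hi' : i' < D.rank)
    (e1 : perm.getD i 0 = i') (e2 : perm.getD (D.rank + D.neg r) 0 = D.rank + D.neg m)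
    (hu : ∀ v, v < D.rank + D.nroots → perm.getD v 0 = i' → v ≠ i → sgn.getD v 0 = 0) :
    kap hD m i' g * ((sgn.getD (D.rank + D.neg r) 0 : ℤ) : K) =
      ((sgn.getD i 0 : ℤ) : K) * φ (kap hD r i g') := by
  unfold kap
  rw [dif_pos ⟨hm, hi'⟩, dif_pos ⟨hr, hi⟩]
  exact mono_rel2 (opMat D K big) (code D) (fun a b h => code_inj D a b h)
    (fun v => perm.getD v 0)
    (fun v => ((sgn.getD v 0 : ℤ) : K)) (mono_sound big perm sgn hmono) φ _ _ hg
    (Sum.inl ⟨i, hi⟩) (Sum.inl ⟨i', hi'⟩) (Sum.inr ⟨D.neg r, neg_lt7 hD r hr⟩)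
    (Sum.inr ⟨D.neg m, neg_lt7 hD m hm⟩) e1.symm e2.symm
    (fun x hx hne => by
      have h0 := hu (code D x) (code_lt D x) hx.symm
        (fun e => hne (code_inj D x (Sum.inl ⟨i, hi⟩) e))
      show ((sgn.getD (code D x) 0 : ℤ) : K) = 0
      rw [h0, Int.cast_zero])

end TwRel

section Coset
variable {F : Type*} [Field F] {D : ChevalleyDatum}

theorem bruhat_coset_unique (hD : Seven D) (b b' n n' u u' : GL D.Idx F)
    (hb : b ∈ D.borelSubgroup F) (hb' : b' ∈ D.borelSubgroup F) (hn : n ∈ D.monomialSubgroup F)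
    (hn' : n' ∈ D.monomialSubgroup F) (hu : u ∈ D.borelSubgroup F) (hu' : u' ∈ D.borelSubgroup F)
    (e : b * n * u = b' * n' * u') : n⁻¹ * n' ∈ D.diagonalSubgroup F := by
  obtain ⟨P, hPB, hPN, hPS⟩ := chev_BN_exists (F := F) hD
  have hnG := N_le_group hD hn
  have hn'G := N_le_group hD hn'
  have hdc : (⟨n', hn'G⟩ : ↥(D.group F)) ∈ Helper2.BN.dc P ⟨n, hnG⟩ := by
    rw [Helper2.BN.mem_dc]
    refine ⟨⟨b'⁻¹ * b, B_le_group hD (mul_mem (inv_mem hb') hb)⟩, ?_,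
      ⟨u * u'⁻¹, B_le_group hD (mul_mem hu (inv_mem hu'))⟩, ?_, ?_⟩
    · rw [hPB]; exact Subgroup.mem_subgroupOf.mpr (mul_mem (inv_mem hb') hb)
    · rw [hPB]
      exact Subgroup.mem_subgroupOf.mpr (mul_mem hu (inv_mem hu'))
    · apply Subtype.ext
      show n' = b'⁻¹ * b * n * (u * u'⁻¹)
      have e4 : b'⁻¹ * b * n * (u * u'⁻¹) = b'⁻¹ * (b * n * u) * u'⁻¹ := by group
      rw [e4, e]; group
  have h1 := Helper2.BN.bruhat_unique P (by rw [hPN]; exact Subgroup.mem_subgroupOf.mpr hn)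
    (by rw [hPN]; exact Subgroup.mem_subgroupOf.mpr hn') hdc
  rw [hPB, Subgroup.mem_subgroupOf] at h1
  have h2 : n⁻¹ * n' ∈ D.borelSubgroup F ⊓ D.monomialSubgroup F :=
    Subgroup.mem_inf.mpr ⟨h1, mul_mem (inv_mem hn) hn'⟩
  rwa [B_inf_N hD] at h2

theorem UH_unique (hD : Seven D) (u u' h h' : GL D.Idx F) (hu : u ∈ D.posUnipotent F)
    (hu' : u' ∈ D.posUnipotent F) (hh : h ∈ D.diagonalSubgroup F)
    (hh' : h' ∈ D.diagonalSubgroup F) (e : u * h = u' * h') : u = u' ∧ h = h' := by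
  have e1 : u'⁻¹ * u = h' * h⁻¹ := by
    have e2 : u'⁻¹ * u = u'⁻¹ * (u * h) * h⁻¹ := by group
    rw [e2, e]; group
  have h1a : u'⁻¹ * u ∈ D.posUnipotent F := mul_mem (inv_mem hu') hu
  have h1b : u'⁻¹ * u ∈ D.diagonalSubgroup F := by rw [e1]; exact mul_mem hh' (inv_mem hh)
  have h1 : u'⁻¹ * u ∈ D.posUnipotent F ⊓ D.diagonalSubgroup F := Subgroup.mem_inf.mpr ⟨h1a, h1b⟩
  rw [posU_inf_H hD, Subgroup.mem_bot] at h1
  have h2 : u = u' := by
    have e3 : u = u' * (u'⁻¹ * u) := by group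
    rw [e3, h1, mul_one]
  refine ⟨h2, ?_⟩
  rw [h2] at e
  exact mul_left_cancel e

/-- Uniqueness in the big cell. -/
theorem UHnU_unique (hD : Seven D) (n₀ : GL D.Idx F)
    (hmap : (D.posUnipotent F).map (MulAut.conj n₀).toMonoidHom = D.negUnipotent F)
    (u₁ u₁' h h' u₂ u₂' : GL D.Idx F) (hu₁ : u₁ ∈ D.posUnipotent F)
    (hu₁' : u₁' ∈ D.posUnipotent F) (hh : h ∈ D.diagonalSubgroup F)
    (hh' : h' ∈ D.diagonalSubgroup F) (hu₂ : u₂ ∈ D.posUnipotent F)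
    (hu₂' : u₂' ∈ D.posUnipotent F) (e : u₁ * h * n₀ * u₂ = u₁' * h' * n₀ * u₂') :
    u₁ = u₁' ∧ h = h' ∧ u₂ = u₂' := by
  have e1 : n₀ * (u₂ * u₂'⁻¹) * n₀⁻¹ = (u₁ * h)⁻¹ * (u₁' * h') := by
    have e2 : n₀ * (u₂ * u₂'⁻¹) * n₀⁻¹ = (u₁ * h)⁻¹ * (u₁ * h * n₀ * u₂) * u₂'⁻¹ * n₀⁻¹ := by
      group
    rw [e2, e]; group
  have hV : n₀ * (u₂ * u₂'⁻¹) * n₀⁻¹ ∈ D.negUnipotent F := by
    rw [← hmap]
    exact ⟨u₂ * u₂'⁻¹, mul_mem hu₂ (inv_mem hu₂'), rfl⟩
  have hB : n₀ * (u₂ * u₂'⁻¹) * n₀⁻¹ ∈ D.borelSubgroup F := by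
    rw [e1]
    exact mul_mem (inv_mem (mul_mem (Subgroup.mem_sup_left hu₁) (Subgroup.mem_sup_right hh)))
      (mul_mem (Subgroup.mem_sup_left hu₁') (Subgroup.mem_sup_right hh'))
  have h1 : n₀ * (u₂ * u₂'⁻¹) * n₀⁻¹ ∈ D.borelSubgroup F ⊓ D.negUnipotent F := ⟨hB, hV⟩
  rw [B_inf_negU hD, Subgroup.mem_bot] at h1
  have h2 : u₂ = u₂' := by
    have h5 : u₂ * u₂'⁻¹ = 1 := by
      have e5 : u₂ * u₂'⁻¹ = n₀⁻¹ * (n₀ * (u₂ * u₂'⁻¹) * n₀⁻¹) * n₀ := by group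
      rw [e5, h1]; group
    exact mul_inv_eq_one.mp h5
  rw [h2] at e
  have e6 : u₁ * h = u₁' * h' := mul_right_cancel (mul_right_cancel e)
  obtain ⟨h3, h4⟩ := UH_unique hD u₁ u₁' h h' hu₁ hu₁' hh hh' e6
  exact ⟨h3, h4, h2⟩

end Coset

end Cfsg.Agent.Helper11
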