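import Cfsg.Agent.Helper11.ChevTwBG2

set_option autoImplicit false

/-!
The twisted relation of `G₂` in characteristic `3`: images of the root elements, of `U`, `H`, `B`
and of the words in the fundamental reflections; the relation is single-valued on `G₂(q)`; the
elements of the Weyl group commuting with the twist are `1` and `w₀`.
-/

namespace Cfsg.Agent.Helper11

open Cfsg.Lie

/-- The twisted relation of `G₂`. -/
abbrev g2Tw {K : Type*} [Field K] (φ : K →+* K) (x y : GL chevG2.Idx K) : Prop :=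
  Tw (opMat chevG2 K g2Qbig) φ x y

set_option maxRecDepth 100000 in
set_option maxHeartbeats 0 in
theorem g2_rho_tab : ∀ s, s < 12 →
    g2rho.getD s 0 < 12 ∧ g2rho.getD (g2rho.getD s 0) 0 = s ∧
    (g2lam.getD s 1 = 1 ∨ g2lam.getD s 1 = 3) ∧
    g2rho.getD (chevG2.neg s) 0 = chevG2.neg (g2rho.getD s 0) ∧
    g2lam.getD (chevG2.neg s) 1 = g2lam.getD s 1 ∧
    (6 ≤ s → 6 ≤ g2rho.getD s 0) ∧ chevG2.neg s < 12 := by decide +kernel

set_option maxRecDepth 100000 in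
set_option maxHeartbeats 0 in
theorem g2_consts : chevG2.nroots = 12 ∧ chevG2.rank = 2 ∧ chevG2.simple 0 = 7 ∧
    chevG2.simple 1 = 6 := by decide +kernel

def g2Wtabs : List (List ℕ) :=
  [[0, 1, 2, 3, 4, 5, 6, 7, 8, 9, 10, 11], [0, 5, 3, 2, 7, 1, 10, 4, 9, 8, 6, 11],
   [1, 0, 2, 4, 3, 6, 5, 8, 7, 9, 11, 10], [1, 6, 4, 2, 8, 0, 11, 3, 9, 7, 5, 10],
   [5, 0, 3, 7, 2, 10, 1, 9, 4, 8, 11, 6], [5, 10, 7, 3, 9, 0, 11, 2, 8, 4, 1, 6],
   [6, 1, 4, 8, 2, 11, 0, 9, 3, 7, 10, 5], [6, 11, 8, 4, 9, 1, 10, 2, 7, 3, 0, 5],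
   [10, 5, 7, 9, 3, 11, 0, 8, 2, 4, 6, 1], [10, 11, 9, 7, 8, 5, 6, 3, 4, 2, 0, 1],
   [11, 6, 8, 9, 4, 10, 1, 7, 2, 3, 5, 0], [11, 10, 9, 8, 7, 6, 5, 4, 3, 2, 1, 0]]

set_option maxRecDepth 100000 in
set_option maxHeartbeats 0 in
theorem g2_W_closed : ∀ T ∈ g2Wtabs, ∀ i, i < 2 → ∃ T' ∈ g2Wtabs, ∀ s, s < 12 →
    wAt chevG2 i (T.getD s 0) = T'.getD s 0 := by decide +kernel

set_option maxRecDepth 100000 in
set_option maxHeartbeats 0 in
theorem g2_W_comm : ∀ T ∈ g2Wtabs,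
    (∀ s, s < 12 → T.getD (g2rho.getD s 0) 0 = g2rho.getD (T.getD s 0) 0) →
    (∀ s, s < 12 → T.getD s 0 = s) ∨ (∀ s, s < 12 → T.getD s 0 = 11 - s) := by decide +kernel

set_option maxRecDepth 100000 in
set_option maxHeartbeats 0 in
theorem g2_rho_w : ∀ i, i < 2 → ∀ s, s < 12 →
    wAt chevG2 (1 - i) (g2rho.getD s 0) = g2rho.getD (wAt chevG2 i s) 0 := by decide +kernel

theorem g2_word_tab (hD : Seven chevG2) : ∀ v : List ℕ, (∀ i ∈ v, i < chevG2.rank) →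
    ∃ T ∈ g2Wtabs, ∀ s, s < 12 → wordApply chevG2 v s = T.getD s 0 := by
  intro v
  induction v with
  | nil =>
    intro _
    refine ⟨[0, 1, 2, 3, 4, 5, 6, 7, 8, 9, 10, 11], by decide, fun s hs => ?_⟩
    rw [wordApply_nil]
    interval_cases s <;> rfl
  | cons i rest ih =>
    intro hv
    obtain ⟨T, hT, hTs⟩ := ih (fun j hj => hv j (List.mem_cons_of_mem _ hj))
    have hi : i < 2 := by
      have h := hv i List.mem_cons_self
      rw [g2_consts.2.1] at h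
      exact h
    obtain ⟨T', hT', hT's⟩ := g2_W_closed T hT i hi
    refine ⟨T', hT', fun s hs => ?_⟩
    rw [wordApply_cons, hTs s hs, hT's s hs]

theorem g2_wordApply_rho (hD : Seven chevG2) : ∀ v : List ℕ, (∀ i ∈ v, i < chevG2.rank) →
    ∀ s, s < 12 → wordApply chevG2 (v.map (fun i => 1 - i)) (g2rho.getD s 0) =
      g2rho.getD (wordApply chevG2 v s) 0 := by
  intro v
  induction v with
  | nil => intro _ s _; rfl
  | cons i rest ih =>
    intro hv s hs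
    have hrest : ∀ j ∈ rest, j < chevG2.rank := fun j hj => hv j (List.mem_cons_of_mem _ hj)
    have hi : i < 2 := by
      have h := hv i List.mem_cons_self
      rw [g2_consts.2.1] at h
      exact h
    have hlt : wordApply chevG2 rest s < 12 := by
      have h := wordApply_lt hD rest hrest s (by rw [g2_consts.1]; exact hs)
      rw [g2_consts.1] at h
      exact h
    rw [List.map_cons, wordApply_cons, wordApply_cons, ih hrest s hs]
    exact g2_rho_w i hi _ hlt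

theorem g2_W_fixed (hD : Seven chevG2) (v : List ℕ) (hv : ∀ i ∈ v, i < chevG2.rank)
    (h : ∀ s, s < 12 → wordApply chevG2 v (g2rho.getD s 0) =
      g2rho.getD (wordApply chevG2 v s) 0) :
    (∀ s, s < 12 → wordApply chevG2 v s = s) ∨
      (∀ s, s < 12 → wordApply chevG2 v s = 11 - s) := by
  obtain ⟨T, hT, hTs⟩ := g2_word_tab hD v hv
  have hc : ∀ s, s < 12 → T.getD (g2rho.getD s 0) 0 = g2rho.getD (T.getD s 0) 0 := by
    intro s hs
    rw [← hTs s hs, ← hTs _ (g2_rho_tab s hs).1]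
    exact h s hs
  rcases g2_W_comm T hT hc with h1 | h1
  · exact Or.inl (fun s hs => by rw [hTs s hs, h1 s hs])
  · exact Or.inr (fun s hs => by rw [hTs s hs, h1 s hs])

section G2Tw
variable {K : Type*} [Field K]

theorem g2Tw_x (hD : Seven chevG2) (h3z : ((3 : ℤ) : K) = 0) (φ : K →+* K) (s : ℕ) (c : K)
    (hs : s < chevG2.nroots) :
    g2Tw φ (xG hD (g2rho.getD s 0) ((φ c) ^ (g2lam.getD s 1))) (xG hD s c) := by
  show ((xG hD _ _ : GL chevG2.Idx K) : Matrix chevG2.Idx chevG2.Idx K) * _ =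
    _ * ((xG hD s c : GL chevG2.Idx K) : Matrix chevG2.Idx chevG2.Idx K).map φ
  rw [xG_val, xG_val]
  exact (g2R_spec hD h3z φ s c hs).symm

theorem g2Tw_x_surj (hD : Seven chevG2) (h3z : ((3 : ℤ) : K) = 0) {θ : ℕ} (hθ : IsFrob K θ)
    (hq : ∀ t : K, ((t ^ θ) ^ θ) ^ 3 = t) (r : ℕ) (hr : r < chevG2.nroots) (t : K) :
    ∃ y : GL chevG2.Idx K, g2Tw (frobHom hθ) (xG hD r t) y := by
  have hr' : r < 12 := by rw [← g2_consts.1]; exact hr
  obtain ⟨h1, h2, -, -, -, -, -⟩ := g2_rho_tab r hr'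
  obtain ⟨-, -, h3, -, -, -, -⟩ := g2_rho_tab (g2rho.getD r 0) h1
  have hs : g2rho.getD r 0 < chevG2.nroots := by rw [g2_consts.1]; exact h1
  rcases h3 with h3 | h3
  · refine ⟨xG hD (g2rho.getD r 0) ((t ^ θ) ^ 3), ?_⟩
    have h := g2Tw_x hD h3z (frobHom hθ) (g2rho.getD r 0) ((t ^ θ) ^ 3) hs
    rw [h2, h3, pow_one, frobHom_apply] at h
    have e : ((t ^ θ) ^ 3) ^ θ = t := by
      have e' : ((t ^ θ) ^ 3) ^ θ = ((t ^ θ) ^ θ) ^ 3 := by ring
      rw [e', hq]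
    rw [e] at h
    exact h
  · refine ⟨xG hD (g2rho.getD r 0) (t ^ θ), ?_⟩
    have h := g2Tw_x hD h3z (frobHom hθ) (g2rho.getD r 0) (t ^ θ) hs
    rw [h2, h3, frobHom_apply, hq] at h
    exact h

theorem g2Tw_exists (hD : Seven chevG2) (h3z : ((3 : ℤ) : K) = 0) {θ : ℕ} (hθ : IsFrob K θ)
    (hq : ∀ t : K, ((t ^ θ) ^ θ) ^ 3 = t) (g : GL chevG2.Idx K) (hg : g ∈ chevG2.group K) :
    ∃ y : GL chevG2.Idx K, g2Tw (frobHom hθ) g y := by
  unfold ChevalleyDatum.group at hg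
  induction hg using Subgroup.closure_induction with
  | mem x hx =>
    obtain ⟨r, t, hx⟩ := hx
    have e : x = xG hD r.val t := Units.ext (by
      rw [hx, xG_val]; unfold ChevalleyDatum.x; rw [dif_pos r.2])
    rw [e]
    exact g2Tw_x_surj hD h3z hθ hq r.val r.2 t
  | one => exact ⟨1, Tw.one _ _⟩
  | mul x y _ _ hx hy =>
    obtain ⟨a, ha⟩ := hx
    obtain ⟨b, hb⟩ := hy
    exact ⟨a * b, Tw.mul ha hb⟩
  | inv x _ hx =>
    obtain ⟨a, ha⟩ := hx
    exact ⟨a⁻¹, Tw.inv ha⟩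

theorem g2Tw_U (hD : Seven chevG2) (h3z : ((3 : ℤ) : K) = 0) (φ : K →+* K)
    (y : GL chevG2.Idx K) (hy : y ∈ chevG2.posUnipotent K) :
    ∃ x ∈ chevG2.posUnipotent K, g2Tw φ x y := by
  unfold ChevalleyDatum.posUnipotent at hy
  induction hy using Subgroup.closure_induction with
  | mem x hx =>
    obtain ⟨r, t, hpos, hx⟩ := hx
    rw [eq_xG hD x r t hx]
    have hr : r < chevG2.nroots := hpos.1
    have hr' : r < 12 := by rw [← g2_consts.1]; exact hr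
    obtain ⟨h1, -, -, -, -, h6, -⟩ := g2_rho_tab r hr'
    have hs : g2rho.getD r 0 < chevG2.nroots := by rw [g2_consts.1]; exact h1
    have hge : chevG2.nroots / 2 ≤ r := ((pos_iff7 hD r hr).1).mp hpos
    refine ⟨_, xG_mem_posU hD _ (((pos_iff7 hD _ hs).1).mpr ?_) _, g2Tw_x hD h3z φ r t hr⟩
    rw [g2_consts.1] at hge ⊢
    have h7 := h6 (by omega)
    omega
  | one => exact ⟨1, one_mem _, Tw.one _ _⟩
  | mul x y _ _ hx hy =>
    obtain ⟨a, ha, hTa⟩ := hx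
    obtain ⟨b, hb, hTb⟩ := hy
    exact ⟨a * b, mul_mem ha hb, Tw.mul hTa hTb⟩
  | inv x _ hx =>
    obtain ⟨a, ha, hTa⟩ := hx
    exact ⟨a⁻¹, inv_mem ha, Tw.inv hTa⟩

theorem g2Tw_n (hD : Seven chevG2) (h3z : ((3 : ℤ) : K) = 0) (φ : K →+* K) (r : ℕ)
    (hr : r < chevG2.nroots) (t : K) :
    g2Tw φ (nG hD (g2rho.getD r 0) ((φ t) ^ (g2lam.getD r 1))) (nG hD r t) := by
  have hr' : r < 12 := by rw [← g2_consts.1]; exact hr
  obtain ⟨h1, -, h3, h4, h5, -, h7⟩ := g2_rho_tab r hr'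
  have hn : chevG2.neg r < chevG2.nroots := by rw [g2_consts.1]; exact h7
  have a1 := g2Tw_x hD h3z φ r t hr
  have a2 := g2Tw_x hD h3z φ (chevG2.neg r) (-t⁻¹) hn
  rw [h4, h5] at a2
  have e : (φ (-t⁻¹)) ^ (g2lam.getD r 1) = -((φ t) ^ (g2lam.getD r 1))⁻¹ := by
    have hodd : Odd (g2lam.getD r 1) := by
      rcases h3 with h | h <;> rw [h] <;> decide
    rw [map_neg, map_inv₀, Odd.neg_pow hodd, inv_pow]
  rw [e] at a2
  rw [nG_eq, nG_eq]
  exact Tw.mul (Tw.mul a1 a2) a1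

theorem g2Tw_h (hD : Seven chevG2) (h3z : ((3 : ℤ) : K) = 0) (φ : K →+* K) (r : ℕ)
    (hr : r < chevG2.nroots) (t : K) :
    g2Tw φ (hG hD (g2rho.getD r 0) ((φ t) ^ (g2lam.getD r 1))) (hG hD r t) := by
  have hr' : r < 12 := by rw [← g2_consts.1]; exact hr
  obtain ⟨-, -, h3, -, -, -, -⟩ := g2_rho_tab r hr'
  have a1 := g2Tw_n hD h3z φ r hr t
  have a2 := g2Tw_n hD h3z φ r hr (-1)
  have e : (φ (-1)) ^ (g2lam.getD r 1) = -1 := by
    have hodd : Odd (g2lam.getD r 1) := by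
      rcases h3 with h | h <;> rw [h] <;> decide
    rw [map_neg, map_one, Odd.neg_one_pow hodd]
  rw [e] at a2
  rw [hG_eq, hG_eq]
  exact Tw.mul a1 a2

theorem g2Tw_H (hD : Seven chevG2) (h3z : ((3 : ℤ) : K) = 0) (φ : K →+* K)
    (y : GL chevG2.Idx K) (hy : y ∈ chevG2.diagonalSubgroup K) :
    ∃ x ∈ chevG2.diagonalSubgroup K, g2Tw φ x y := by
  unfold ChevalleyDatum.diagonalSubgroup at hy
  induction hy using Subgroup.closure_induction with
  | mem x hx =>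
    obtain ⟨r, t, hr, ht, hx⟩ := hx
    have e : x = hG hD r t := Units.ext (by rw [hx, hG_val])
    rw [e]
    have hr' : r < 12 := by rw [← g2_consts.1]; exact hr
    obtain ⟨h1, -, -, -, -, -, -⟩ := g2_rho_tab r hr'
    have hs : g2rho.getD r 0 < chevG2.nroots := by rw [g2_consts.1]; exact h1
    exact ⟨_, hG_mem_H hD _ hs _ (pow_ne_zero _ ((map_ne_zero φ).mpr ht)),
      g2Tw_h hD h3z φ r hr t⟩
  | one => exact ⟨1, one_mem _, Tw.one _ _⟩
  | mul x y _ _ hx hy =>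
    obtain ⟨a, ha, hTa⟩ := hx
    obtain ⟨b, hb, hTb⟩ := hy
    exact ⟨a * b, mul_mem ha hb, Tw.mul hTa hTb⟩
  | inv x _ hx =>
    obtain ⟨a, ha, hTa⟩ := hx
    exact ⟨a⁻¹, inv_mem ha, Tw.inv hTa⟩

theorem g2Tw_B (hD : Seven chevG2) (h3z : ((3 : ℤ) : K) = 0) (φ : K →+* K)
    (y : GL chevG2.Idx K) (hy : y ∈ chevG2.borelSubgroup K) :
    ∃ x ∈ chevG2.borelSubgroup K, g2Tw φ x y := by
  unfold ChevalleyDatum.borelSubgroup at hy
  rw [Subgroup.sup_eq_closure] at hy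
  induction hy using Subgroup.closure_induction with
  | mem x hx =>
    rcases hx with hx | hx
    · obtain ⟨a, ha, hT⟩ := g2Tw_U hD h3z φ x hx
      exact ⟨a, Subgroup.mem_sup_left ha, hT⟩
    · obtain ⟨a, ha, hT⟩ := g2Tw_H hD h3z φ x hx
      exact ⟨a, Subgroup.mem_sup_right ha, hT⟩
  | one => exact ⟨1, one_mem _, Tw.one _ _⟩
  | mul x y _ _ hx hy =>
    obtain ⟨a, ha, hTa⟩ := hx
    obtain ⟨b, hb, hTb⟩ := hy
    exact ⟨a * b, mul_mem ha hb, Tw.mul hTa hTb⟩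
  | inv x _ hx =>
    obtain ⟨a, ha, hTa⟩ := hx
    exact ⟨a⁻¹, inv_mem ha, Tw.inv hTa⟩

theorem g2Tw_wordN (hD : Seven chevG2) (h3z : ((3 : ℤ) : K) = 0) (φ : K →+* K) :
    ∀ v : List ℕ, (∀ i ∈ v, i < chevG2.rank) →
      g2Tw φ (wordN hD (v.map (fun i => 1 - i))) (wordN hD v) := by
  intro v
  induction v with
  | nil => intro _; exact Tw.one _ _
  | cons i rest ih =>
    intro hv
    have hi : i < 2 := by
      have h := hv i List.mem_cons_self
      rw [g2_consts.2.1] at h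
      exact h
    have ih' := ih (fun j hj => hv j (List.mem_cons_of_mem _ hj))
    rw [List.map_cons, wordN_cons, wordN_cons]
    refine Tw.mul ?_ ih'
    obtain ⟨-, -, s0, s1⟩ := g2_consts
    obtain ⟨r7, r6, -, -, -, -, -, -, m7, m6, -, -, -, -, -, -⟩ := g2_rl
    interval_cases i
    · have h := g2Tw_n hD h3z φ 7 (by decide) 1
      rw [r7, m7, map_one, one_pow] at h
      simp only [Nat.sub_zero, s0, s1]
      exact h
    · have h := g2Tw_n hD h3z φ 6 (by decide) 1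
      rw [r6, m6, map_one, one_pow] at h
      simp only [Nat.sub_self, s0, s1]
      exact h

theorem g2_faith [Fintype K] {m : ℕ} (hK : Fintype.card K = 3 ^ (2 * m + 1)) (hD : Seven chevG2)
    (hθ : IsFrob K (3 ^ m)) (x : GL chevG2.Idx K) (hx : x ∈ chevG2.group K)
    (hT : g2Tw (frobHom hθ) x 1) : x = 1 := by
  haveI hch : CharP K 3 := charP_of_card Nat.prime_three hK
  haveI : Fact (Nat.Prime 3) := ⟨Nat.prime_three⟩
  have h3 : (3 : K) = 0 := by
    have h := CharP.cast_eq_zero K 3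
    exact_mod_cast h
  have h3z : ((3 : ℤ) : K) = 0 := by exact_mod_cast h3
  have hq : ∀ t : K, ((t ^ 3 ^ m) ^ 3 ^ m) ^ 3 = t := by
    intro t
    rw [← pow_mul, ← pow_mul]
    have e : 3 ^ m * (3 ^ m * 3) = Fintype.card K := by rw [hK]; ring
    rw [e]; exact FiniteField.pow_card t
  have hperf : commutator ↥(chevG2.group K) = ⊤ :=
    perfect7 hD (fun _ => ⟨-1, neg_ne_zero.mpr one_ne_zero, by
      intro h
      have h1 : (1 : K) = 0 := by linear_combination h + h3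
      exact one_ne_zero h1⟩)
  haveI hs : IsSimpleGroup ↥(chevG2.group K) := (chev_simple hD hperf).1
  refine tw_faith (opMat chevG2 K g2Qbig) (frobHom hθ) (chevG2.group K)
    (fun g hg => g2Tw_exists hD h3z hθ hq g hg) (xG hD 7 1) (xG_mem_group hD 7 1) ?_ x hx hT
  intro hT1
  obtain ⟨a1, a2, a3, b1, b2, b3, b4, b5⟩ := g2_qfacts
  have r1 := kap_rel2 hD g2Qbig g2Qperm g2Qsgn g2QMono (frobHom hθ) (xG hD 7 1) 1 hT1 7 6 1 0
    (by decide) (by decide) (by decide) (by decide) b1 a1 g2_qhu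
  rw [b2, b3, Int.cast_one, mul_one, one_mul] at r1
  have k1 : kap hD 7 0 (xG hD 7 (1 : K)) = corK chevG2 K 7 0 * 1 := by
    have h := kap_mul hD 7 (by decide) (by decide) 0 (by decide) (1 : K) 1
      (one_mem (Uge chevG2 K (7 + 1)))
    rw [mul_one (xG hD 7 (1 : K))] at h
    exact h
  have k2 : kap hD 6 1 (1 : GL chevG2.Idx K) = 0 :=
    kap_low hD 7 6 (by decide) (by decide) (by decide) 1 (by decide) 1 (one_mem _)
  rw [k1, k2, map_zero, corK_eq, g2_cors.2.1, Int.cast_one, mul_one] at r1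
  exact one_ne_zero r1

end G2Tw

end Cfsg.Agent.Helper11
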