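import Cfsg.Agent.Helper11.ChevTwBG2b

set_option autoImplicit false

/-!
The twisted Bruhat decomposition `²G₂(q) = U¹H¹ ∪ U¹H¹n₀U¹` (with uniqueness), and the order
`q³(q-1)(q³+1)` of the Ree group.
-/

namespace Cfsg.Agent.Helper11

open Cfsg.Lie

theorem g2_setup {K : Type*} [Field K] [Fintype K] {m : ℕ}
    (hK : Fintype.card K = 3 ^ (2 * m + 1)) :
    (3 : K) = 0 ∧ ((3 : ℤ) : K) = 0 ∧ ∀ t : K, ((t ^ 3 ^ m) ^ 3 ^ m) ^ 3 = t := by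
  haveI hch : CharP K 3 := charP_of_card Nat.prime_three hK
  have h3 : (3 : K) = 0 := by
    have h := CharP.cast_eq_zero K 3
    exact_mod_cast h
  refine ⟨h3, by exact_mod_cast h3, ?_⟩
  intro t
  rw [← pow_mul, ← pow_mul]
  have e : 3 ^ m * (3 ^ m * 3) = Fintype.card K := by rw [hK]; ring
  rw [e]; exact FiniteField.pow_card t

theorem card_of_cells {G : Type*} [Group G] (S U H : Subgroup G) (n₀ : G) (hn₀ : n₀ ∈ S)
    (hU : U ≤ S) (hH : H ≤ S) [Finite U] [Finite H]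
    (hdec : ∀ g ∈ S, (∃ u ∈ U, ∃ h ∈ H, g = u * h) ∨
      (∃ u ∈ U, ∃ h ∈ H, ∃ u₂ ∈ U, g = u * h * n₀ * u₂))
    (h1 : ∀ u ∈ U, ∀ u' ∈ U, ∀ h ∈ H, ∀ h' ∈ H, u * h = u' * h' → u = u' ∧ h = h')
    (h2 : ∀ u ∈ U, ∀ u' ∈ U, ∀ h ∈ H, ∀ h' ∈ H, ∀ u₂ ∈ U, ∀ u₂' ∈ U,
      u * h * n₀ * u₂ = u' * h' * n₀ * u₂' → u = u' ∧ h = h' ∧ u₂ = u₂')
    (h3 : ∀ u ∈ U, ∀ h ∈ H, ∀ u' ∈ U, ∀ h' ∈ H, ∀ u₂ ∈ U, u * h ≠ u' * h' * n₀ * u₂) :
    Nat.card S = Nat.card U * Nat.card H + Nat.card U * (Nat.card H * Nat.card U) := by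
  classical
  let Φ : (↥U × ↥H) ⊕ (↥U × ↥H × ↥U) → ↥S := Sum.elim
    (fun p => ⟨(p.1 : G) * (p.2 : G), mul_mem (hU p.1.2) (hH p.2.2)⟩)
    (fun p => ⟨(p.1 : G) * (p.2.1 : G) * n₀ * (p.2.2 : G),
      mul_mem (mul_mem (mul_mem (hU p.1.2) (hH p.2.1.2)) hn₀) (hU p.2.2.2)⟩)
  have hinj : Function.Injective Φ := by
    rintro (p | p) (p' | p') e
    · have e' : (p.1 : G) * p.2 = p'.1 * p'.2 := congrArg Subtype.val e
      obtain ⟨e1, e2⟩ := h1 _ p.1.2 _ p'.1.2 _ p.2.2 _ p'.2.2 e'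
      exact congrArg Sum.inl (Prod.ext (Subtype.ext e1) (Subtype.ext e2))
    · exfalso
      have e' : (p.1 : G) * p.2 = p'.1 * p'.2.1 * n₀ * p'.2.2 := congrArg Subtype.val e
      exact h3 _ p.1.2 _ p.2.2 _ p'.1.2 _ p'.2.1.2 _ p'.2.2.2 e'
    · exfalso
      have e' : (p.1 : G) * p.2.1 * n₀ * p.2.2 = p'.1 * p'.2 := congrArg Subtype.val e
      exact h3 _ p'.1.2 _ p'.2.2 _ p.1.2 _ p.2.1.2 _ p.2.2.2 e'.symm
    · have e' : (p.1 : G) * p.2.1 * n₀ * p.2.2 = p'.1 * p'.2.1 * n₀ * p'.2.2 :=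
        congrArg Subtype.val e
      obtain ⟨e1, e2, e3⟩ := h2 _ p.1.2 _ p'.1.2 _ p.2.1.2 _ p'.2.1.2 _ p.2.2.2 _ p'.2.2.2 e'
      exact congrArg Sum.inr
        (Prod.ext (Subtype.ext e1) (Prod.ext (Subtype.ext e2) (Subtype.ext e3)))
  have hsurj : Function.Surjective Φ := by
    intro g
    rcases hdec g g.2 with ⟨u, hu, h, hh, e⟩ | ⟨u, hu, h, hh, u₂, hu₂, e⟩
    · exact ⟨Sum.inl (⟨u, hu⟩, ⟨h, hh⟩), Subtype.ext e.symm⟩
    · exact ⟨Sum.inr (⟨u, hu⟩, ⟨h, hh⟩, ⟨u₂, hu₂⟩), Subtype.ext e.symm⟩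
  rw [← Nat.card_congr (Equiv.ofBijective Φ ⟨hinj, hsurj⟩), Nat.card_sum, Nat.card_prod,
    Nat.card_prod, Nat.card_prod]

section N0
variable {K : Type*} [Field K]

/-- The representative `n_{a+b} n_{3a+b}` of the longest element. -/
noncomputable def g2nz (hD : Seven chevG2) (K : Type*) [Field K] : GL chevG2.Idx K :=
  nG hD 8 (1 : K) * nG hD 10 1

theorem g2nz_N (hD : Seven chevG2) : g2nz hD K ∈ chevG2.monomialSubgroup K :=
  mul_mem (nG_mem_N hD 8 (by decide)) (nG_mem_N hD 10 (by decide))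

theorem g2nz_conj (hD : Seven chevG2) : ConjTo hD (g2nz hD K) (fun s => Nat.sub 11 s) := by
  obtain ⟨n10, n8, s0, s1⟩ := g2_facts
  have e3 : nG hD 8 (1 : K) * nG hD 10 1 =
      wG hD [(8, 1), (3, -1), (8, 1), (10, 1), (1, -1), (10, 1)] := by
    rw [nG_eq, nG_eq, n8, n10, inv_one]
    simp only [wG_cons, wG_nil, mul_one, mul_assoc]
  have e4 : ∀ t : K, evalWord t 1 g2n0 =
      [(8, 1), (3, -1), (8, 1), (10, 1), (1, -1), (10, 1)] := by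
    intro t
    unfold g2n0 evalWord
    simp only [List.map_cons, List.map_nil, evalPoly, evalMono, List.sum_cons, List.sum_nil,
      Int.cast_one, Int.cast_neg, pow_zero, mul_one, add_zero]
  exact conjTo_of_wOK hD 0 Int.cast_zero g2n0 _ _ g2_conj_ok _
    (fun t => by unfold g2nz; rw [e3, wG_val, e4 t])

theorem g2nz_map (hD : Seven chevG2) :
    (chevG2.posUnipotent K).map (MulAut.conj (g2nz hD K)).toMonoidHom = chevG2.negUnipotent K :=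
  map_of_conjTo hD _ _ (g2nz_conj hD) g2_swap_ok

theorem g2nz_mem (hD : Seven chevG2) (θ : ℕ) (h3z : ((3 : ℤ) : K) = 0) (hθ : IsFrob K θ) :
    g2nz hD K ∈ twistedG2 K θ := by
  obtain ⟨memS, memW, memZ, memSn, memWn, memZn⟩ := g2_ree_mems hD θ h3z hθ
  obtain ⟨n10, n8, -, -⟩ := g2_facts
  have hX : ∀ t : K, clsX hD [(8, θ), (10, 1)] t = reeP hD 8 10 θ t := by
    intro t
    simp only [clsX, reeP, List.map_cons, List.map_nil, List.prod_cons, List.prod_nil, pow_one,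
      mul_one]
  have hXn : ∀ t : K, clsX hD (negCls chevG2 [(8, θ), (10, 1)]) t = reeP hD 3 1 θ t := by
    intro t
    simp only [clsX, negCls, reeP, List.map_cons, List.map_nil, List.prod_cons, List.prod_nil,
      pow_one, mul_one, n8, n10]
  have hc : ([(8, θ), (10, 1)] : List (ℕ × ℕ)).Pairwise
      (fun p p' => SOrth hD K p.1 p'.1) :=
    List.pairwise_pair.mpr (sorth_of_OK hD 8 10 g2_orth)
  have hf : ∀ p ∈ ([(8, θ), (10, 1)] : List (ℕ × ℕ)), IsFrob K p.2 :=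
    forall_mem2 hθ (isFrob_one K)
  have h1 : ∀ t : K, clsX hD [(8, θ), (10, 1)] t ∈ twistedG2 K θ := fun t => by
    rw [hX]; exact memW t
  have h1n : ∀ t : K, clsX hD (negCls chevG2 [(8, θ), (10, 1)]) t ∈ twistedG2 K θ := fun t => by
    rw [hXn]; exact memWn t
  have h := (clsH_mem hD (twistedG2 K θ) [(8, θ), (10, 1)] hc hf h1 h1n 1).1
  have e : clsN hD [(8, θ), (10, 1)] (1 : K) = nG hD 8 1 * nG hD 10 1 := by
    simp only [clsN, List.map_cons, List.map_nil, List.prod_cons, List.prod_nil, one_pow,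
      mul_one]
  rw [e] at h
  exact h

theorem g2nz_word (hD : Seven chevG2) : ∃ h₀ ∈ chevG2.diagonalSubgroup K, ∃ v₀ : List ℕ,
    (∀ i ∈ v₀, i < chevG2.rank) ∧ g2nz hD K = h₀ * wordN hD v₀ ∧
      ∀ s, s < 12 → wordApply chevG2 v₀ s = 11 - s := by
  obtain ⟨h₀, hh₀, v₀, hv₀, e⟩ := N_word_form hD (g2nz hD K) (g2nz_N hD)
  refine ⟨h₀, hh₀, v₀, hv₀, e, fun s hs => ?_⟩
  have hs' : s < chevG2.nroots := by rw [g2_consts.1]; exact hs
  obtain ⟨h1, ε, hε, hc⟩ := g2nz_conj (K := K) hD s hs'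
  obtain ⟨h1', ε', hε', hc'⟩ := wordN_conj (F := K) hD v₀ hv₀ s hs'
  obtain ⟨_, c, hc0, hcH⟩ := NConj.of_H hD hh₀ (wordApply chevG2 v₀ s) h1'
  have hcH' : ∀ t : K, h₀ * xG hD (wordApply chevG2 v₀ s) t * h₀⁻¹ =
      xG hD (wordApply chevG2 v₀ s) (c * t) := hcH
  have e1 : g2nz hD K * xG hD s 1 * (g2nz hD K)⁻¹ =
      h₀ * (wordN hD v₀ * xG hD s 1 * (wordN hD v₀)⁻¹) * h₀⁻¹ := by
    rw [e]; group
  rw [hc, hc', hcH'] at e1
  have hε0 : ε * 1 ≠ 0 := by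
    rw [mul_one]; rintro rfl; rw [mul_zero] at hε; exact zero_ne_one hε
  have h2 := xG_root_inj7 hD _ _ h1 h1' _ _ hε0 e1
  exact h2.symm

theorem g2nz_not_B (hD : Seven chevG2) : g2nz hD K ∉ chevG2.borelSubgroup K := by
  intro hB
  obtain ⟨h1, ε, hε, hc⟩ := g2nz_conj (K := K) hD 6 (by decide)
  have h2 : g2nz hD K * xG hD 6 1 * (g2nz hD K)⁻¹ ∈ chevG2.borelSubgroup K :=
    mul_mem (mul_mem hB (Subgroup.mem_sup_left
      (xG_mem_posU hD 6 (((pos_iff7 hD 6 (by decide)).1).mpr (by decide)) 1))) (inv_mem hB)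
  rw [hc] at h2
  have h2' : xG hD 5 (ε * 1) ∈ chevG2.borelSubgroup K := h2
  have h15 : 5 < chevG2.nroots := by decide
  have hneg : chevG2.IsNegRoot 5 := ((pos_iff7 hD 5 h15).2).mpr (by decide)
  have h3 : xG hD 5 (ε * 1) ∈ chevG2.borelSubgroup K ⊓ chevG2.negUnipotent K :=
    ⟨h2', xG_mem_negU hD _ hneg _⟩
  rw [B_inf_negU hD] at h3
  have h4 : chevG2.x K 5 (ε * 1) = 1 := by
    have h5 : ((xG hD 5 (ε * 1) : GL chevG2.Idx K) : Matrix chevG2.Idx chevG2.Idx K) = 1 := by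
      rw [Subgroup.mem_bot.mp h3]; rfl
    exact h5
  have h6 := (x_eq_one_iff7 hD _ h15 _).mp h4
  rw [mul_one] at h6
  rw [h6, mul_zero] at hε
  exact zero_ne_one hε

end N0

section Decomp
variable {K : Type*} [Field K] [Fintype K] {m : ℕ}

theorem g2_U_fix_mem (hK : Fintype.card K = 3 ^ (2 * m + 1)) (hD : Seven chevG2)
    (hθ : IsFrob K (3 ^ m)) (u : GL chevG2.Idx K) (hu : u ∈ chevG2.posUnipotent K)
    (hf : u ∈ fixSub (opMat chevG2 K g2Qbig) (frobHom hθ)) : u ∈ twistedG2 K (3 ^ m) := by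
  obtain ⟨h3, h3z, hq⟩ := g2_setup hK
  have hS := g2_le_fix hD (3 ^ m) h3z hθ hq
  have hub := g2_ub hD h3 (frobHom hθ) (fixSub (opMat chevG2 K g2Qbig) (frobHom hθ)) le_rfl
  have hcard := (g2_U_struct hK).2
  have hle : chevG2.posUnipotent K ⊓ twistedG2 K (3 ^ m) ≤
      fixSub (opMat chevG2 K g2Qbig) (frobHom hθ) ⊓ chevG2.posUnipotent K :=
    fun x hx => ⟨hS hx.2, hx.1⟩
  have heq := Subgroup.eq_of_le_of_card_ge hle (by rw [hcard, ← hK]; exact hub)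
  have hu' : u ∈ fixSub (opMat chevG2 K g2Qbig) (frobHom hθ) ⊓ chevG2.posUnipotent K :=
    ⟨hf, hu⟩
  rw [← heq] at hu'
  exact hu'.2

theorem g2_fix_B (hK : Fintype.card K = 3 ^ (2 * m + 1)) (hD : Seven chevG2)
    (hθ : IsFrob K (3 ^ m)) (g : GL chevG2.Idx K) (hgB : g ∈ chevG2.borelSubgroup K)
    (hgF : g2Tw (frobHom hθ) g g) :
    ∃ u ∈ chevG2.posUnipotent K ⊓ twistedG2 K (3 ^ m),
      ∃ h ∈ chevG2.diagonalSubgroup K ⊓ twistedG2 K (3 ^ m), g = u * h := by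
  obtain ⟨h3, h3z, hq⟩ := g2_setup hK
  obtain ⟨u, hu, h, hh, rfl⟩ := mem_sup_of_normalizes (chevG2.diagonalSubgroup K)
    (chevG2.posUnipotent K)
    (fun a ha n hn => ((Subgroup.mem_normalizer_iff.mp (H_le_normalizer_posU hD ha)) n).mp hn)
    g hgB
  obtain ⟨u', hu', hTu⟩ := g2Tw_U hD h3z (frobHom hθ) u hu
  obtain ⟨h', hh', hTh⟩ := g2Tw_H hD h3z (frobHom hθ) h hh
  have hT := Tw.mul (Tw.mul hTu hTh) (Tw.inv hgF)
  rw [mul_inv_cancel] at hT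
  have hG : u' * h' * (u * h)⁻¹ ∈ chevG2.group K :=
    mul_mem (mul_mem (posU_le_group hD hu') (H_le_group hD hh'))
      (inv_mem (mul_mem (posU_le_group hD hu) (H_le_group hD hh)))
  have e1 := g2_faith hK hD hθ _ hG hT
  have e2 : u' * h' = u * h := mul_inv_eq_one.mp e1
  obtain ⟨e3, e4⟩ := UH_unique hD u' u h' h hu' hu hh' hh e2
  rw [e3] at hTu
  rw [e4] at hTh
  exact ⟨u, ⟨hu, g2_U_fix_mem hK hD hθ u hu hTu⟩, h, ⟨hh, g2_H_fix_mem hK hD hθ h hh hTh⟩, rfl⟩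

theorem g2_fix_BnB (hK : Fintype.card K = 3 ^ (2 * m + 1)) (hD : Seven chevG2)
    (hθ : IsFrob K (3 ^ m)) (g b₁ b₂ : GL chevG2.Idx K) (hb₁ : b₁ ∈ chevG2.borelSubgroup K)
    (hb₂ : b₂ ∈ chevG2.borelSubgroup K) (e : g = b₁ * g2nz hD K * b₂)
    (hgF : g2Tw (frobHom hθ) g g) :
    ∃ u ∈ chevG2.posUnipotent K ⊓ twistedG2 K (3 ^ m),
      ∃ h ∈ chevG2.diagonalSubgroup K ⊓ twistedG2 K (3 ^ m),
        ∃ u₂ ∈ chevG2.posUnipotent K ⊓ twistedG2 K (3 ^ m), g = u * h * g2nz hD K * u₂ := by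
  obtain ⟨h3, h3z, hq⟩ := g2_setup hK
  have hnorm : ∀ a ∈ chevG2.diagonalSubgroup K, ∀ n ∈ chevG2.posUnipotent K,
      a * n * a⁻¹ ∈ chevG2.posUnipotent K :=
    fun a ha n hn => ((Subgroup.mem_normalizer_iff.mp (H_le_normalizer_posU hD ha)) n).mp hn
  obtain ⟨u₁, hu₁, h₁, hh₁, e₁⟩ := mem_sup_of_normalizes _ _ hnorm b₁ hb₁
  obtain ⟨u₂i, hu₂i, h₂i, hh₂i, e₂⟩ := mem_sup_of_normalizes _ _ hnorm b₂⁻¹ (inv_mem hb₂)
  have e₂' : b₂ = h₂i⁻¹ * u₂i⁻¹ := by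
    have e0 : b₂ = (b₂⁻¹)⁻¹ := (inv_inv b₂).symm
    rw [e0, e₂, mul_inv_rev]
  obtain ⟨h, hh, u₂, hu₂, eg⟩ : ∃ h ∈ chevG2.diagonalSubgroup K,
      ∃ u₂ ∈ chevG2.posUnipotent K, g = u₁ * h * g2nz hD K * u₂ := by
    refine ⟨h₁ * (g2nz hD K * h₂i⁻¹ * (g2nz hD K)⁻¹),
      mul_mem hh₁ (N_conj_H hD (g2nz_N hD) (inv_mem hh₂i)), u₂i⁻¹, inv_mem hu₂i, ?_⟩
    rw [e, e₁, e₂']; group
  have hnG := g2nz_mem hD (3 ^ m) h3z hθ
  have hS := g2_le_fix hD (3 ^ m) h3z hθ hq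
  have hTn : g2Tw (frobHom hθ) (g2nz hD K) (g2nz hD K) := hS hnG
  obtain ⟨u₁', hu₁', hT1⟩ := g2Tw_U hD h3z (frobHom hθ) u₁ hu₁
  obtain ⟨h', hh', hTh⟩ := g2Tw_H hD h3z (frobHom hθ) h hh
  obtain ⟨u₂', hu₂', hT2⟩ := g2Tw_U hD h3z (frobHom hθ) u₂ hu₂
  have hT := Tw.mul (Tw.mul (Tw.mul (Tw.mul hT1 hTh) hTn) hT2) (Tw.inv hgF)
  rw [← eg, mul_inv_cancel] at hT
  have hnGG : g2nz hD K ∈ chevG2.group K := N_le_group hD (g2nz_N hD)
  have hgG : g ∈ chevG2.group K := by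
    rw [eg]
    exact mul_mem (mul_mem (mul_mem (posU_le_group hD hu₁) (H_le_group hD hh)) hnGG)
      (posU_le_group hD hu₂)
  have hG : u₁' * h' * g2nz hD K * u₂' * g⁻¹ ∈ chevG2.group K :=
    mul_mem (mul_mem (mul_mem (mul_mem (posU_le_group hD hu₁') (H_le_group hD hh')) hnGG)
      (posU_le_group hD hu₂')) (inv_mem hgG)
  have e1 := g2_faith hK hD hθ _ hG hT
  have e2 : u₁' * h' * g2nz hD K * u₂' = u₁ * h * g2nz hD K * u₂ := by
    rw [← eg]; exact mul_inv_eq_one.mp e1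
  obtain ⟨e3, e4, e5⟩ := UHnU_unique hD (g2nz hD K) (g2nz_map hD) u₁' u₁ h' h u₂' u₂ hu₁' hu₁
    hh' hh hu₂' hu₂ e2
  rw [e3] at hT1
  rw [e4] at hTh
  rw [e5] at hT2
  exact ⟨u₁, ⟨hu₁, g2_U_fix_mem hK hD hθ u₁ hu₁ hT1⟩, h,
    ⟨hh, g2_H_fix_mem hK hD hθ h hh hTh⟩, u₂, ⟨hu₂, g2_U_fix_mem hK hD hθ u₂ hu₂ hT2⟩, eg⟩

/-- The twisted Bruhat decomposition of the fixed points. -/
theorem g2_fix_decomp (hK : Fintype.card K = 3 ^ (2 * m + 1)) (hD : Seven chevG2)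
    (hθ : IsFrob K (3 ^ m)) (g : GL chevG2.Idx K) (hg : g ∈ chevG2.group K)
    (hgF : g2Tw (frobHom hθ) g g) :
    (∃ u ∈ chevG2.posUnipotent K ⊓ twistedG2 K (3 ^ m),
      ∃ h ∈ chevG2.diagonalSubgroup K ⊓ twistedG2 K (3 ^ m), g = u * h) ∨
    (∃ u ∈ chevG2.posUnipotent K ⊓ twistedG2 K (3 ^ m),
      ∃ h ∈ chevG2.diagonalSubgroup K ⊓ twistedG2 K (3 ^ m),
        ∃ u₂ ∈ chevG2.posUnipotent K ⊓ twistedG2 K (3 ^ m), g = u * h * g2nz hD K * u₂) := by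
  obtain ⟨h3, h3z, hq⟩ := g2_setup hK
  obtain ⟨b, hb, n, hn, u, hu, rfl⟩ := canon_exists hD g hg
  have huU : u ∈ chevG2.posUnipotent K := by
    refine Subgroup.closure_mono ?_ hu
    rintro x ⟨r, t, hpos, _, hx⟩
    exact ⟨r, t, hpos, hx⟩
  obtain ⟨h, hh, v, hv, rfl⟩ := N_word_form hD n hn
  obtain ⟨b', hb', hTb⟩ := g2Tw_B hD h3z (frobHom hθ) b hb
  obtain ⟨h', hh', hTh⟩ := g2Tw_H hD h3z (frobHom hθ) h hh
  have hTw := g2Tw_wordN hD h3z (frobHom hθ) v hv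
  obtain ⟨u', hu', hTu⟩ := g2Tw_U hD h3z (frobHom hθ) u huU
  have hv' : ∀ i ∈ v.map (fun i => 1 - i), i < chevG2.rank := by
    intro i hi
    obtain ⟨j, _, rfl⟩ := List.mem_map.mp hi
    rw [g2_consts.2.1]; omega
  have hT := Tw.mul (Tw.mul (Tw.mul hTb (Tw.mul hTh hTw)) hTu) (Tw.inv hgF)
  rw [mul_inv_cancel] at hT
  have hG' : b' * (h' * wordN hD (v.map (fun i => 1 - i))) * u' *
      (b * (h * wordN hD v) * u)⁻¹ ∈ chevG2.group K :=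
    mul_mem (mul_mem (mul_mem (B_le_group hD hb') (mul_mem (H_le_group hD hh')
      (N_le_group hD (wordN_mem hD _ hv')))) (posU_le_group hD hu')) (inv_mem hg)
  have e1 := mul_inv_eq_one.mp (g2_faith hK hD hθ _ hG' hT)
  have hnH := bruhat_coset_unique hD b b' (h * wordN hD v)
    (h' * wordN hD (v.map (fun i => 1 - i))) u u' hb hb' hn
    (mul_mem (Subgroup.mem_sup_left hh') (wordN_mem hD _ hv')) (Subgroup.mem_sup_left huU)
    (Subgroup.mem_sup_left hu') e1.symm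
  have hWH : (wordN hD v)⁻¹ * wordN hD (v.map (fun i => 1 - i)) ∈
      chevG2.diagonalSubgroup K := by
    have e2 : (wordN hD v)⁻¹ * wordN hD (v.map (fun i => 1 - i)) =
        ((wordN hD v)⁻¹ * (h'⁻¹ * h) * ((wordN hD v)⁻¹)⁻¹) *
          ((h * wordN hD v)⁻¹ * (h' * wordN hD (v.map (fun i => 1 - i)))) := by group
    rw [e2]
    exact mul_mem (N_conj_H hD (inv_mem (wordN_mem hD v hv)) (mul_mem (inv_mem hh') hh)) hnH
  have hcomm := wordN_H_imp hD v (v.map (fun i => 1 - i)) hv hv' hWH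
  have hc : ∀ s, s < 12 → wordApply chevG2 v (g2rho.getD s 0) =
      g2rho.getD (wordApply chevG2 v s) 0 := by
    intro s hs
    have h1 := (g2_rho_tab s hs).1
    rw [hcomm _ (by rw [g2_consts.1]; exact h1)]
    exact g2_wordApply_rho hD v hv s hs
  rcases g2_W_fixed hD v hv hc with hid | hneg
  · left
    have hW : wordN hD v ∈ chevG2.diagonalSubgroup K := by
      have h1 := wordN_H_of (F := K) hD [] v (fun i hi => by simp at hi) hv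
        (fun s hs => by rw [wordApply_nil, hid s (by rw [← g2_consts.1]; exact hs)])
      rw [wordN_nil, inv_one, one_mul] at h1
      exact h1
    exact g2_fix_B hK hD hθ _ (mul_mem (mul_mem hb (Subgroup.mem_sup_right (mul_mem hh hW)))
      (Subgroup.mem_sup_left huU)) hgF
  · right
    obtain ⟨h₀, hh₀, v₀, hv₀, e₀, hw₀⟩ := g2nz_word (K := K) hD
    have hk := wordN_H_of (F := K) hD v₀ v hv₀ hv
      (fun s hs => by
        have hs' : s < 12 := by rw [← g2_consts.1]; exact hs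
        rw [hw₀ s hs', hneg s hs'])
    refine g2_fix_BnB hK hD hθ _ (b * (h * h₀⁻¹)) ((wordN hD v₀)⁻¹ * wordN hD v * u)
      (mul_mem hb (Subgroup.mem_sup_right (mul_mem hh (inv_mem hh₀))))
      (mul_mem (Subgroup.mem_sup_right hk) (Subgroup.mem_sup_left huU)) ?_ hgF
    rw [e₀]; group

theorem g2_order (hK : Fintype.card K = 3 ^ (2 * m + 1)) :
    Nat.card ↥(twistedG2 K (3 ^ m)) =
      (3 ^ (2 * m + 1)) ^ 3 * (3 ^ (2 * m + 1) - 1) * ((3 ^ (2 * m + 1)) ^ 3 + 1) := by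
  classical
  have hD : Seven chevG2 := by simp
  haveI hch : CharP K 3 := charP_of_card Nat.prime_three hK
  haveI : Fact (Nat.Prime 3) := ⟨Nat.prime_three⟩
  have hθ : IsFrob K (3 ^ m) := isFrob_pow 3 m
  obtain ⟨h3, h3z, hq⟩ := g2_setup hK
  have hS := g2_le_fix hD (3 ^ m) h3z hθ hq
  have hGG : twistedG2 K (3 ^ m) ≤ chevG2.group K :=
    gen_le hD _ _ (fun w _ => wG_mem_group hD w)
  have hnG := g2nz_mem hD (3 ^ m) h3z hθ
  have key := card_of_cells (twistedG2 K (3 ^ m))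
    (chevG2.posUnipotent K ⊓ twistedG2 K (3 ^ m))
    (chevG2.diagonalSubgroup K ⊓ twistedG2 K (3 ^ m)) (g2nz hD K) hnG inf_le_right inf_le_right
    (fun g hg => g2_fix_decomp hK hD hθ g (hGG hg) (hS hg))
    (fun u hu u' hu' h hh h' hh' e => UH_unique hD u u' h h' hu.1 hu'.1 hh.1 hh'.1 e)
    (fun u hu u' hu' h hh h' hh' u₂ hu₂ u₂' hu₂' e =>
      UHnU_unique hD (g2nz hD K) (g2nz_map hD) u u' h h' u₂ u₂' hu.1 hu'.1 hh.1 hh'.1 hu₂.1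
        hu₂'.1 e)
    (fun u hu h hh u' hu' h' hh' u₂ hu₂ e => by
      apply g2nz_not_B (K := K) hD
      have e2 : g2nz hD K = (u' * h')⁻¹ * (u * h) * u₂⁻¹ := by rw [e]; group
      rw [e2]
      exact mul_mem (mul_mem (inv_mem (mul_mem (Subgroup.mem_sup_left hu'.1)
        (Subgroup.mem_sup_right hh'.1))) (mul_mem (Subgroup.mem_sup_left hu.1)
        (Subgroup.mem_sup_right hh.1))) (inv_mem (Subgroup.mem_sup_left hu₂.1)))
  rw [key, (g2_U_struct hK).2, g2_H_card hK]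
  ring

end Decomp

end Cfsg.Agent.Helper11
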