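import Cfsg.Agent.Helper11.ChevTwBG2c

set_option autoImplicit false

/-!
Consequences of the twisted Bruhat decomposition of `²G₂(q)`: `H¹` is cyclic, `N¹/H¹` has order
`2`, the `(B, N)`-pair of rank one, and the simplicity for `q > 3`.
-/

namespace Cfsg.Agent.Helper11

open Cfsg.Lie

theorem hom_of_two_cosets {G : Type*} [Group G] (H : Subgroup G) (n₀ : G) (hn₀ : n₀ ∉ H)
    (hcov : ∀ g : G, g ∈ H ∨ n₀⁻¹ * g ∈ H) :
    ∃ φ : G →* Multiplicative (ZMod 2), Function.Surjective φ ∧ φ.ker = H := by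
  have hidx : H.index = 2 := by
    rw [Subgroup.index_eq_two_iff']
    refine ⟨n₀⁻¹, fun b => ?_⟩
    have h2 : ¬ (n₀⁻¹ * b ∈ H ∧ b ∈ H) := by
      rintro ⟨ha, hb⟩
      apply hn₀
      have e : n₀ = b * (n₀⁻¹ * b)⁻¹ := by group
      rw [e]; exact mul_mem hb (inv_mem ha)
    rcases hcov b with h | h
    · exact Or.inr ⟨h, fun ha => h2 ⟨ha, h⟩⟩
    · exact Or.inl ⟨h, fun hb => h2 ⟨h, hb⟩⟩
  haveI hN : H.Normal := Subgroup.normal_of_index_eq_two hidx
  have hc : Nat.card (G ⧸ H) = 2 := by rw [← Subgroup.index_eq_card]; exact hidx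
  have hZ : Nat.card (Multiplicative (ZMod 2)) = 2 := by
    rw [Nat.card_eq_fintype_card, Fintype.card_multiplicative, ZMod.card]
  haveI : Fact (Nat.Prime 2) := ⟨Nat.prime_two⟩
  obtain ⟨e⟩ : Nonempty ((G ⧸ H) ≃* Multiplicative (ZMod 2)) :=
    ⟨mulEquivOfPrimeCardEq (p := 2) hc hZ⟩
  refine ⟨e.toMonoidHom.comp (QuotientGroup.mk' H), ?_, ?_⟩
  · exact e.surjective.comp (QuotientGroup.mk'_surjective H)
  · ext x
    rw [MonoidHom.mem_ker]
    show e (QuotientGroup.mk' H x) = 1 ↔ x ∈ H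
    rw [MulEquiv.map_eq_one_iff, QuotientGroup.mk'_apply, QuotientGroup.eq_one_iff]

section Ree
variable {K : Type*} [Field K] [Fintype K] {m : ℕ}

theorem g2_H_cyclic (hK : Fintype.card K = 3 ^ (2 * m + 1)) :
    IsCyclic ↥(chevG2.diagonalSubgroup K ⊓ twistedG2 K (3 ^ m)) := by
  classical
  have hD : Seven chevG2 := by simp
  haveI hch : CharP K 3 := charP_of_card Nat.prime_three hK
  haveI : Fact (Nat.Prime 3) := ⟨Nat.prime_three⟩
  have hθ : IsFrob K (3 ^ m) := isFrob_pow 3 m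
  obtain ⟨h3, h3z, hq⟩ := g2_setup hK
  have hS := g2_le_fix hD (3 ^ m) h3z hθ hq
  let f : ↥(chevG2.diagonalSubgroup K ⊓ twistedG2 K (3 ^ m)) →* Kˣ :=
    MonoidHom.mk' (fun h => Units.mk0 (dEnt (h : GL chevG2.Idx K) 6)
      (dEnt_ne_zero hD _ h.2.1 6 (by decide))) (fun a b => by
        apply Units.ext
        show dEnt ((a : GL chevG2.Idx K) * (b : GL chevG2.Idx K)) 6 =
          dEnt (a : GL chevG2.Idx K) 6 * dEnt (b : GL chevG2.Idx K) 6
        exact dEnt_mul hD _ _ a.2.1 6)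
  have hinj : Function.Injective f := by
    intro h h' e
    have e' : dEnt (h : GL chevG2.Idx K) 6 = dEnt (h' : GL chevG2.Idx K) 6 :=
      congrArg Units.val e
    exact Subtype.ext (g2_H_fix_inj hD (frobHom hθ) _ _ h.2.1 h'.2.1 (hS h.2.2) (hS h'.2.2) e')
  exact isCyclic_of_injective f hinj

/-- `N¹ = H¹ ∪ n₀H¹`. -/
theorem g2_N_cases (hK : Fintype.card K = 3 ^ (2 * m + 1)) (hD : Seven chevG2)
    (hθ : IsFrob K (3 ^ m)) (g : GL chevG2.Idx K) (hgN : g ∈ chevG2.monomialSubgroup K)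
    (hgG : g ∈ twistedG2 K (3 ^ m)) :
    g ∈ chevG2.diagonalSubgroup K ∨ (g2nz hD K)⁻¹ * g ∈ chevG2.diagonalSubgroup K := by
  obtain ⟨h3, h3z, hq⟩ := g2_setup hK
  have hS := g2_le_fix hD (3 ^ m) h3z hθ hq
  have hGG : twistedG2 K (3 ^ m) ≤ chevG2.group K :=
    gen_le hD _ _ (fun w _ => wG_mem_group hD w)
  rcases g2_fix_decomp hK hD hθ g (hGG hgG) (hS hgG) with
    ⟨u, hu, h, hh, e⟩ | ⟨u, hu, h, hh, u₂, hu₂, e⟩
  · left
    have hB : g ∈ chevG2.borelSubgroup K ⊓ chevG2.monomialSubgroup K := by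
      refine Subgroup.mem_inf.mpr ⟨?_, hgN⟩
      rw [e]; exact mul_mem (Subgroup.mem_sup_left hu.1) (Subgroup.mem_sup_right hh.1)
    rw [B_inf_N hD] at hB
    exact hB
  · right
    exact bruhat_coset_unique hD (u * h) 1 (g2nz hD K) g u₂ 1
      (mul_mem (Subgroup.mem_sup_left hu.1) (Subgroup.mem_sup_right hh.1)) (one_mem _)
      (g2nz_N hD) hgN (Subgroup.mem_sup_left hu₂.1) (one_mem _)
      (by rw [one_mul, mul_one]; exact e.symm)

theorem g2nz_sq (hK : Fintype.card K = 3 ^ (2 * m + 1)) (hD : Seven chevG2)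
    (hθ : IsFrob K (3 ^ m)) : g2nz hD K * g2nz hD K ∈ chevG2.diagonalSubgroup K := by
  obtain ⟨h3, h3z, hq⟩ := g2_setup hK
  have hnG := g2nz_mem hD (3 ^ m) h3z hθ
  have hnN := g2nz_N (K := K) hD
  rcases g2_N_cases hK hD hθ _ (mul_mem hnN hnN) (mul_mem hnG hnG) with h | h
  · exact h
  · exfalso
    rw [inv_mul_cancel_left] at h
    exact g2nz_not_B (K := K) hD (Subgroup.mem_sup_right h)

theorem g2_U1_ne (hK : Fintype.card K = 3 ^ (2 * m + 1)) :
    ∃ u ∈ chevG2.posUnipotent K ⊓ twistedG2 K (3 ^ m), u ≠ 1 := by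
  by_contra hcon
  push_neg at hcon
  have hbot : chevG2.posUnipotent K ⊓ twistedG2 K (3 ^ m) = ⊥ :=
    (Subgroup.eq_bot_iff_forall _).mpr hcon
  have hc := (g2_U_struct hK).2
  rw [hbot, Subgroup.card_bot] at hc
  have h1 : 1 < (3 ^ (2 * m + 1)) ^ 3 :=
    Nat.one_lt_pow (by norm_num) (Nat.one_lt_pow (by omega) (by norm_num))
  exact absurd hc (ne_of_lt h1)

theorem g2_weyl (hK : Fintype.card K = 3 ^ (2 * m + 1)) :
    ∃ φ : ↥(chevG2.monomialSubgroup K ⊓ twistedG2 K (3 ^ m)) →* Multiplicative (ZMod 2),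
      Function.Surjective φ ∧
      φ.ker = (chevG2.diagonalSubgroup K ⊓ twistedG2 K (3 ^ m)).subgroupOf
        (chevG2.monomialSubgroup K ⊓ twistedG2 K (3 ^ m)) := by
  classical
  have hD : Seven chevG2 := by simp
  haveI hch : CharP K 3 := charP_of_card Nat.prime_three hK
  haveI : Fact (Nat.Prime 3) := ⟨Nat.prime_three⟩
  have hθ : IsFrob K (3 ^ m) := isFrob_pow 3 m
  obtain ⟨h3, h3z, hq⟩ := g2_setup hK
  have hnG := g2nz_mem hD (3 ^ m) h3z hθ
  have hnN := g2nz_N (K := K) hD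
  apply hom_of_two_cosets _ ⟨g2nz hD K, ⟨hnN, hnG⟩⟩
  · intro h
    rw [Subgroup.mem_subgroupOf] at h
    exact g2nz_not_B (K := K) hD (Subgroup.mem_sup_right h.1)
  · intro g
    rcases g2_N_cases hK hD hθ (g : GL chevG2.Idx K) g.2.1 g.2.2 with h | h
    · left
      rw [Subgroup.mem_subgroupOf]
      exact Subgroup.mem_inf.mpr ⟨h, g.2.2⟩
    · right
      rw [Subgroup.mem_subgroupOf]
      have hg2 : (g2nz hD K)⁻¹ * (g : GL chevG2.Idx K) ∈ twistedG2 K (3 ^ m) :=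
        mul_mem (inv_mem hnG) g.2.2
      exact Subgroup.mem_inf.mpr ⟨h, hg2⟩

theorem g2_bn (hK : Fintype.card K = 3 ^ (2 * m + 1)) :
    ∃ P : Cfsg.BNPair ↥(twistedG2 K (3 ^ m)),
      P.B = (chevG2.borelSubgroup K ⊓ twistedG2 K (3 ^ m)).subgroupOf (twistedG2 K (3 ^ m)) ∧
      P.N = (chevG2.monomialSubgroup K ⊓ twistedG2 K (3 ^ m)).subgroupOf
        (twistedG2 K (3 ^ m)) ∧
      ∃ s, P.S = {s} := by
  classical
  have hD : Seven chevG2 := by simp
  haveI hch : CharP K 3 := charP_of_card Nat.prime_three hK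
  haveI : Fact (Nat.Prime 3) := ⟨Nat.prime_three⟩
  have hθ : IsFrob K (3 ^ m) := isFrob_pow 3 m
  obtain ⟨h3, h3z, hq⟩ := g2_setup hK
  have hS := g2_le_fix hD (3 ^ m) h3z hθ hq
  have hGG : twistedG2 K (3 ^ m) ≤ chevG2.group K :=
    gen_le hD _ _ (fun w _ => wG_mem_group hD w)
  have hnG := g2nz_mem hD (3 ^ m) h3z hθ
  have hnN := g2nz_N (K := K) hD
  have hsq := g2nz_sq hK hD hθ
  have hU1 := g2_U1_ne hK
  obtain ⟨Bs, hBs⟩ : ∃ Bs : Subgroup ↥(twistedG2 K (3 ^ m)),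
      Bs = (chevG2.borelSubgroup K ⊓ twistedG2 K (3 ^ m)).subgroupOf (twistedG2 K (3 ^ m)) :=
    ⟨_, rfl⟩
  obtain ⟨Ns, hNs⟩ : ∃ Ns : Subgroup ↥(twistedG2 K (3 ^ m)),
      Ns = (chevG2.monomialSubgroup K ⊓ twistedG2 K (3 ^ m)).subgroupOf
        (twistedG2 K (3 ^ m)) := ⟨_, rfl⟩
  obtain ⟨n0, hn0⟩ : ∃ n0 : ↥(twistedG2 K (3 ^ m)), (n0 : GL chevG2.Idx K) = g2nz hD K :=
    ⟨⟨_, hnG⟩, rfl⟩
  have memB : ∀ x : ↥(twistedG2 K (3 ^ m)),
      x ∈ Bs ↔ (x : GL chevG2.Idx K) ∈ chevG2.borelSubgroup K := by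
    intro x
    rw [hBs, Subgroup.mem_subgroupOf]
    exact ⟨fun h => h.1, fun h => ⟨h, x.2⟩⟩
  have memN : ∀ x : ↥(twistedG2 K (3 ^ m)),
      x ∈ Ns ↔ (x : GL chevG2.Idx K) ∈ chevG2.monomialSubgroup K := by
    intro x
    rw [hNs, Subgroup.mem_subgroupOf]
    exact ⟨fun h => h.1, fun h => ⟨h, x.2⟩⟩
  have hn0N : n0 ∈ Ns := by rw [memN, hn0]; exact hnN
  have HB : ∀ x : ↥(twistedG2 K (3 ^ m)),
      (x : GL chevG2.Idx K) ∈ chevG2.diagonalSubgroup K → x ∈ Bs :=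
    fun x hx => (memB x).mpr (Subgroup.mem_sup_right hx)
  have HN : ∀ x : ↥(twistedG2 K (3 ^ m)),
      (x : GL chevG2.Idx K) ∈ chevG2.diagonalSubgroup K → x ∈ Ns :=
    fun x hx => (memN x).mpr (Subgroup.mem_sup_left hx)
  have cells : ∀ x : ↥(twistedG2 K (3 ^ m)),
      x ∈ Bs ∨ ∃ b₁ ∈ Bs, ∃ b₂ ∈ Bs, x = b₁ * n0 * b₂ := by
    intro x
    rcases g2_fix_decomp hK hD hθ (x : GL chevG2.Idx K) (hGG x.2) (hS x.2) with
      ⟨u, hu, h, hh, e⟩ | ⟨u, hu, h, hh, u₂, hu₂, e⟩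
    · left
      rw [memB, e]
      exact mul_mem (Subgroup.mem_sup_left hu.1) (Subgroup.mem_sup_right hh.1)
    · right
      refine ⟨⟨u * h, mul_mem hu.2 hh.2⟩, ?_, ⟨u₂, hu₂.2⟩, ?_, ?_⟩
      · rw [memB]; exact mul_mem (Subgroup.mem_sup_left hu.1) (Subgroup.mem_sup_right hh.1)
      · rw [memB]; exact Subgroup.mem_sup_left hu₂.1
      · apply Subtype.ext
        show (x : GL chevG2.Idx K) = u * h * (n0 : GL chevG2.Idx K) * u₂
        rw [hn0]; exact e
  have ncases : ∀ n ∈ Ns, (n : GL chevG2.Idx K) ∈ chevG2.diagonalSubgroup K ∨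
      ((n0⁻¹ * n : ↥(twistedG2 K (3 ^ m))) : GL chevG2.Idx K) ∈ chevG2.diagonalSubgroup K := by
    intro n hn
    rcases g2_N_cases hK hD hθ (n : GL chevG2.Idx K) ((memN n).mp hn) n.2 with h | h
    · exact Or.inl h
    · right
      show ((n0 : GL chevG2.Idx K))⁻¹ * (n : GL chevG2.Idx K) ∈ _
      rw [hn0]; exact h
  have hsq' : n0 * n0 ∈ Bs := by
    apply HB
    show (n0 : GL chevG2.Idx K) * (n0 : GL chevG2.Idx K) ∈ _
    rw [hn0]; exact hsq
  refine ⟨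
    { B := Bs
      N := Ns
      S := {n0}
      sup_eq_top := ?_
      conj_mem := ?_
      subset := ?_
      sq_mem := ?_
      inj := ?_
      closure_sup := ?_
      mul_mem_union := ?_
      conj_ne := ?_ }, hBs, hNs, n0, rfl⟩
  · rw [eq_top_iff]
    intro x _
    rcases cells x with h | ⟨b₁, hb₁, b₂, hb₂, rfl⟩
    · exact Subgroup.mem_sup_left h
    · exact mul_mem (mul_mem (Subgroup.mem_sup_left hb₁) (Subgroup.mem_sup_right hn0N))
        (Subgroup.mem_sup_left hb₂)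
  · intro n hn t ht
    have htH : (t : GL chevG2.Idx K) ∈ chevG2.diagonalSubgroup K := by
      rw [← B_inf_N hD]
      exact Subgroup.mem_inf.mpr ⟨(memB t).mp ht.1, (memN t).mp ht.2⟩
    apply HB
    exact N_conj_H hD ((memN n).mp hn) htH
  · intro s hs
    rw [Set.mem_singleton_iff] at hs
    rw [hs]; exact hn0N
  · intro s hs
    rw [Set.mem_singleton_iff] at hs
    rw [hs]; exact hsq'
  · intro s hs s' hs' _
    rw [Set.mem_singleton_iff] at hs hs'
    rw [hs, hs']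
  · apply le_antisymm
    · refine sup_le ((Subgroup.closure_le _).mpr ?_) inf_le_right
      intro s hs
      rw [Set.mem_singleton_iff] at hs
      rw [hs]; exact hn0N
    · intro n hn
      rcases ncases n hn with h | h
      · exact Subgroup.mem_sup_right (Subgroup.mem_inf.mpr ⟨HB n h, hn⟩)
      · have e : n = n0 * (n0⁻¹ * n) := by group
        rw [e]
        exact mul_mem (Subgroup.mem_sup_left (Subgroup.subset_closure (Set.mem_singleton n0)))
          (Subgroup.mem_sup_right (Subgroup.mem_inf.mpr ⟨HB _ h, HN _ h⟩))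
  · intro s hs n hn b hb
    rw [Set.mem_singleton_iff] at hs
    rw [hs]
    rcases cells (n0 * b * n) with hx | ⟨b₁, hb₁, b₂, hb₂, hx⟩
    · rcases ncases n hn with h | h
      · refine Or.inr ?_
        rw [DoubleCoset.mem_doubleCoset]
        exact ⟨n0 * b * n * n⁻¹, mul_mem hx (inv_mem (HB n h)), 1, one_mem _, by group⟩
      · refine Or.inl ?_
        rw [DoubleCoset.mem_doubleCoset]
        have hsn : n0 * n ∈ Bs := by
          have e : n0 * n = (n0 * n0) * (n0⁻¹ * n) := by group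
          rw [e]; exact mul_mem hsq' (HB _ h)
        exact ⟨n0 * b * n * (n0 * n)⁻¹, mul_mem hx (inv_mem hsn), 1, one_mem _, by group⟩
    · rcases ncases n hn with h | h
      · refine Or.inl ?_
        rw [DoubleCoset.mem_doubleCoset]
        refine ⟨b₁, hb₁, n⁻¹ * b₂, mul_mem (inv_mem (HB n h)) hb₂, ?_⟩
        rw [hx]; group
      · refine Or.inr ?_
        rw [DoubleCoset.mem_doubleCoset]
        refine ⟨b₁, hb₁, (n0⁻¹ * n)⁻¹ * b₂, mul_mem (inv_mem (HB _ h)) hb₂, ?_⟩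
        rw [hx]; group
  · intro s hs
    rw [Set.mem_singleton_iff] at hs
    rw [hs]
    intro heq
    obtain ⟨u, hu, hu1⟩ := hU1
    have hub : (⟨u, hu.2⟩ : ↥(twistedG2 K (3 ^ m))) ∈ Bs := by
      rw [memB]; exact Subgroup.mem_sup_left hu.1
    have h1 : n0 * ⟨u, hu.2⟩ * n0 ∈ (Bs : Set ↥(twistedG2 K (3 ^ m))) := by
      rw [← heq]; exact ⟨_, hub, rfl⟩
    have h2 : (n0 : GL chevG2.Idx K) * u * (n0 : GL chevG2.Idx K) ∈ chevG2.borelSubgroup K :=
      (memB _).mp h1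
    rw [hn0] at h2
    have h3 : g2nz hD K * u * (g2nz hD K)⁻¹ ∈ chevG2.borelSubgroup K := by
      have e : g2nz hD K * u * (g2nz hD K)⁻¹ =
          (g2nz hD K * u * g2nz hD K) * (g2nz hD K * g2nz hD K)⁻¹ := by group
      rw [e]; exact mul_mem h2 (inv_mem (Subgroup.mem_sup_right hsq))
    have h4 : g2nz hD K * u * (g2nz hD K)⁻¹ ∈ chevG2.negUnipotent K := by
      rw [← g2nz_map hD]
      exact ⟨u, hu.1, rfl⟩
    have h5 : g2nz hD K * u * (g2nz hD K)⁻¹ ∈ chevG2.borelSubgroup K ⊓ chevG2.negUnipotent K :=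
      Subgroup.mem_inf.mpr ⟨h3, h4⟩
    rw [B_inf_negU hD, Subgroup.mem_bot] at h5
    apply hu1
    have e : u = (g2nz hD K)⁻¹ * (g2nz hD K * u * (g2nz hD K)⁻¹) * g2nz hD K := by group
    rw [e, h5]; group

theorem g2_twisted_simple (hm : 1 ≤ m) (hK : Fintype.card K = 3 ^ (2 * m + 1)) :
    IsSimpleGroup ↥(twistedG2 K (3 ^ m)) ∧ ¬ IsMulCommutative ↥(twistedG2 K (3 ^ m)) := by
  have hD : Seven chevG2 := by simp
  obtain ⟨P, hPB, hPN, s, hPS⟩ := g2_bn hK
  have hperf := g2_twisted_perfect hK hm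
  have hcore := g2_twisted_core hK
  obtain ⟨u, hu, hu1⟩ := g2_U1_ne hK
  have hne : (⟨u, hu.2⟩ : ↥(twistedG2 K (3 ^ m))) ≠ 1 := by
    intro h
    exact hu1 (congrArg Subtype.val h)
  haveI : Nontrivial ↥(twistedG2 K (3 ^ m)) := ⟨⟨_, _, hne⟩⟩
  refine ⟨?_, ?_⟩
  · apply Cfsg.Agent.S0319.result P ?_ ?_ hperf ?_
    · intro J hJ hJne hJc
      exfalso
      obtain ⟨a, ha⟩ := hJne
      obtain ⟨b, hb, hbJ⟩ := hJc
      rw [hPS] at hJ hb
      have h1 : a = s := hJ ha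
      have h2 : b = s := hb
      exact hbJ (by rw [h2, ← h1]; exact ha)
    · rw [hPB]
      haveI : Group.IsSolvable ↥(chevG2.borelSubgroup K) :=
        isSolvable_of_upper (lvlI_lt chevG2) (fun a b h => lvlI_inj chevG2 a b h)
          (chevG2.borelSubgroup K) (fun g hg => (B_le_up hD hg).1)
      let f : ↥((chevG2.borelSubgroup K ⊓ twistedG2 K (3 ^ m)).subgroupOf
          (twistedG2 K (3 ^ m))) →* ↥(chevG2.borelSubgroup K) :=
        { toFun := fun x => ⟨((x : ↥(twistedG2 K (3 ^ m))) : GL chevG2.Idx K),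
            (Subgroup.mem_subgroupOf.mp x.2).1⟩
          map_one' := rfl
          map_mul' := fun _ _ => rfl }
      refine Group.isSolvable_of_isSolvable_injective (f := f) (fun a b h => ?_)
      have h' : ((a : ↥(twistedG2 K (3 ^ m))) : GL chevG2.Idx K) =
          ((b : ↥(twistedG2 K (3 ^ m))) : GL chevG2.Idx K) :=
        congrArg (fun x : ↥(chevG2.borelSubgroup K) => (x : GL chevG2.Idx K)) h
      exact Subtype.ext (Subtype.ext h')
    · rw [hPB]; exact hcore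
  · intro hcomm
    have h1 : commutator ↥(twistedG2 K (3 ^ m)) = ⊥ := by
      rw [_root_.commutator_eq_closure, Subgroup.closure_eq_bot_iff]
      rintro g ⟨a, b, rfl⟩
      show a * b * a⁻¹ * b⁻¹ = 1
      have h2 : a * b = b * a := hcomm.is_comm.comm a b
      rw [h2]; group
    rw [hperf] at h1
    exact hne (Subgroup.mem_bot.mp (h1 ▸ Subgroup.mem_top _))

end Ree

end Cfsg.Agent.Helper11
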