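import Cfsg.Agent.Helper11.ChevTwBG2d

set_option autoImplicit false

/-!
The Sylow `3`-subgroups of `²G₂(q)` are the conjugates of `U¹`, and two distinct ones meet
trivially.
-/

namespace Cfsg.Agent.Helper11

open Cfsg.Lie

section Ree
variable {K : Type*} [Field K] [Fintype K] {m : ℕ}

theorem g2_sylow_TI (hK : Fintype.card K = 3 ^ (2 * m + 1))
    (P Q : Sylow 3 ↥(twistedG2 K (3 ^ m))) (hPQ : P ≠ Q) :
    (P : Subgroup ↥(twistedG2 K (3 ^ m))) ⊓ (Q : Subgroup ↥(twistedG2 K (3 ^ m))) = ⊥ := by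
  classical
  have hD : Seven chevG2 := by simp
  haveI hch : CharP K 3 := charP_of_card Nat.prime_three hK
  haveI : Fact (Nat.Prime 3) := ⟨Nat.prime_three⟩
  have hθ : IsFrob K (3 ^ m) := isFrob_pow 3 m
  obtain ⟨h3, h3z, hq⟩ := g2_setup hK
  have hS := g2_le_fix hD (3 ^ m) h3z hθ hq
  have hGG : twistedG2 K (3 ^ m) ≤ chevG2.group K :=
    gen_le hD _ _ (fun w _ => wG_mem_group hD w)
  obtain ⟨U', hU'⟩ : ∃ U' : Subgroup ↥(twistedG2 K (3 ^ m)),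
      U' = (chevG2.posUnipotent K ⊓ twistedG2 K (3 ^ m)).subgroupOf (twistedG2 K (3 ^ m)) :=
    ⟨_, rfl⟩
  have memU : ∀ x : ↥(twistedG2 K (3 ^ m)),
      x ∈ U' ↔ (x : GL chevG2.Idx K) ∈ chevG2.posUnipotent K := by
    intro x
    rw [hU', Subgroup.mem_subgroupOf]
    exact ⟨fun h => h.1, fun h => ⟨h, x.2⟩⟩
  have hcardU : Nat.card ↥U' = (3 ^ (2 * m + 1)) ^ 3 := by
    rw [hU', ← (g2_U_struct hK).2]
    exact Nat.card_congr (Subgroup.subgroupOfEquivOfLe inf_le_right).toEquiv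
  have hPU : IsPGroup 3 ↥U' := by
    apply IsPGroup.of_card (n := (2 * m + 1) * 3)
    rw [hcardU, pow_mul]
  have hidx := Subgroup.index_mul_card U'
  rw [hcardU, g2_order hK] at hidx
  have hq0 : 0 < (3 ^ (2 * m + 1)) ^ 3 := pow_pos (pow_pos (by norm_num) _) _
  have hidx' : U'.index = (3 ^ (2 * m + 1) - 1) * ((3 ^ (2 * m + 1)) ^ 3 + 1) := by
    apply Nat.eq_of_mul_eq_mul_right hq0
    rw [hidx]; ring
  have hnd : ¬ 3 ∣ U'.index := by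
    rw [hidx']
    intro h
    have hk : 3 ^ (2 * m + 1) = 3 * 3 ^ (2 * m) := by rw [pow_succ]; ring
    have hk1 : 0 < 3 ^ (2 * m) := pow_pos (by norm_num) _
    rw [hk] at h
    generalize 3 ^ (2 * m) = k at h hk1
    rcases (Nat.Prime.dvd_mul Nat.prime_three).mp h with h | h
    · omega
    · have e : (3 * k) ^ 3 + 1 = 3 * (9 * k ^ 3) + 1 := by ring
      rw [e] at h
      generalize 9 * k ^ 3 = j at h
      omega
  obtain ⟨S₀, hS₀⟩ : ∃ S₀ : Sylow 3 ↥(twistedG2 K (3 ^ m)),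
      (S₀ : Subgroup ↥(twistedG2 K (3 ^ m))) = U' := ⟨hPU.toSylow hnd, hPU.toSylow_coe hnd⟩
  obtain ⟨a, rfl⟩ := MulAction.exists_smul_eq ↥(twistedG2 K (3 ^ m)) S₀ P
  obtain ⟨b, rfl⟩ := MulAction.exists_smul_eq ↥(twistedG2 K (3 ^ m)) S₀ Q
  rw [eq_bot_iff]
  intro x hx
  obtain ⟨hxP, hxQ⟩ := Subgroup.mem_inf.mp hx
  rw [Sylow.coe_subgroup_smul, Subgroup.mem_pointwise_smul_iff_inv_smul_mem, hS₀, memU]
    at hxP hxQ
  have hu : (a : GL chevG2.Idx K)⁻¹ * (x : GL chevG2.Idx K) * (a : GL chevG2.Idx K) ∈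
      chevG2.posUnipotent K := by
    have e : ((MulAut.conj a)⁻¹ • x) = a⁻¹ * x * a := by
      rw [MulAut.smul_def, MulAut.conj_inv_apply]
    rw [e] at hxP
    exact hxP
  have hu' : (b : GL chevG2.Idx K)⁻¹ * (x : GL chevG2.Idx K) * (b : GL chevG2.Idx K) ∈
      chevG2.posUnipotent K := by
    have e : ((MulAut.conj b)⁻¹ • x) = b⁻¹ * x * b := by
      rw [MulAut.smul_def, MulAut.conj_inv_apply]
    rw [e] at hxQ
    exact hxQ
  rw [Subgroup.mem_bot]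
  rcases g2_fix_decomp hK hD hθ ((a⁻¹ * b : ↥(twistedG2 K (3 ^ m))) : GL chevG2.Idx K)
    (hGG (a⁻¹ * b).2) (hS (a⁻¹ * b).2) with ⟨u₁, hu₁, h, hh, e⟩ | ⟨u₁, hu₁, h, hh, u₂, hu₂, e⟩
  · exfalso
    apply hPQ
    have hgn : ((a⁻¹ * b : ↥(twistedG2 K (3 ^ m))) : GL chevG2.Idx K) ∈
        Subgroup.normalizer (chevG2.posUnipotent K : Set (GL chevG2.Idx K)) := by
      rw [e]
      exact mul_mem (Subgroup.le_normalizer hu₁.1) (H_le_normalizer_posU hD hh.1)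
    have hnorm : (a⁻¹ * b) • S₀ = S₀ := by
      rw [Sylow.smul_eq_iff_mem_normalizer]
      refine Subgroup.mem_normalizer_iff.mpr (fun y => ?_)
      show y ∈ (S₀ : Subgroup ↥(twistedG2 K (3 ^ m))) ↔
        (a⁻¹ * b) * y * (a⁻¹ * b)⁻¹ ∈ (S₀ : Subgroup ↥(twistedG2 K (3 ^ m)))
      rw [hS₀, memU, memU]
      exact (Subgroup.mem_normalizer_iff.mp hgn) (y : GL chevG2.Idx K)
    have e2 : b • S₀ = a • ((a⁻¹ * b) • S₀) := by rw [← mul_smul, mul_inv_cancel_left]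
    rw [e2, hnorm]
  · have eg : (a : GL chevG2.Idx K)⁻¹ * (b : GL chevG2.Idx K) = u₁ * h * g2nz hD K * u₂ := e
    have hb1 : u₁ * h ∈ chevG2.borelSubgroup K :=
      mul_mem (Subgroup.mem_sup_left hu₁.1) (Subgroup.mem_sup_right hh.1)
    have hV : g2nz hD K * (u₂ * ((b : GL chevG2.Idx K)⁻¹ * (x : GL chevG2.Idx K) *
        (b : GL chevG2.Idx K)) * u₂⁻¹) * (g2nz hD K)⁻¹ ∈ chevG2.negUnipotent K := by
      rw [← g2nz_map hD]
      exact ⟨_, mul_mem (mul_mem hu₂.1 hu') (inv_mem hu₂.1), rfl⟩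
    have hB : g2nz hD K * (u₂ * ((b : GL chevG2.Idx K)⁻¹ * (x : GL chevG2.Idx K) *
        (b : GL chevG2.Idx K)) * u₂⁻¹) * (g2nz hD K)⁻¹ ∈ chevG2.borelSubgroup K := by
      have e1 : g2nz hD K * (u₂ * ((b : GL chevG2.Idx K)⁻¹ * (x : GL chevG2.Idx K) *
          (b : GL chevG2.Idx K)) * u₂⁻¹) * (g2nz hD K)⁻¹ =
          (u₁ * h)⁻¹ * ((a : GL chevG2.Idx K)⁻¹ * (x : GL chevG2.Idx K) *
            (a : GL chevG2.Idx K)) * (u₁ * h) := by
        have e2 : (a : GL chevG2.Idx K)⁻¹ * (x : GL chevG2.Idx K) * (a : GL chevG2.Idx K) =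
            ((a : GL chevG2.Idx K)⁻¹ * (b : GL chevG2.Idx K)) *
              ((b : GL chevG2.Idx K)⁻¹ * (x : GL chevG2.Idx K) * (b : GL chevG2.Idx K)) *
              ((a : GL chevG2.Idx K)⁻¹ * (b : GL chevG2.Idx K))⁻¹ := by group
        rw [e2, eg]; group
      rw [e1]
      exact mul_mem (mul_mem (inv_mem hb1) (Subgroup.mem_sup_left hu)) hb1
    have h5 : g2nz hD K * (u₂ * ((b : GL chevG2.Idx K)⁻¹ * (x : GL chevG2.Idx K) *
        (b : GL chevG2.Idx K)) * u₂⁻¹) * (g2nz hD K)⁻¹ ∈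
        chevG2.borelSubgroup K ⊓ chevG2.negUnipotent K := Subgroup.mem_inf.mpr ⟨hB, hV⟩
    rw [B_inf_negU hD, Subgroup.mem_bot] at h5
    apply Subtype.ext
    show (x : GL chevG2.Idx K) = 1
    have e3 : (x : GL chevG2.Idx K) = (b : GL chevG2.Idx K) * u₂⁻¹ * (g2nz hD K)⁻¹ *
        (g2nz hD K * (u₂ * ((b : GL chevG2.Idx K)⁻¹ * (x : GL chevG2.Idx K) *
          (b : GL chevG2.Idx K)) * u₂⁻¹) * (g2nz hD K)⁻¹) * g2nz hD K * u₂ *
        (b : GL chevG2.Idx K)⁻¹ := by group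
    rw [e3, h5]; group

end Ree

end Cfsg.Agent.Helper11
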