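import Cfsg.Agent.Helper11.ChevTwBG2e

set_option autoImplicit false
open Cfsg Cfsg.Lie

namespace Cfsg.Agent.Helper11

section GenF
variable {F : Type*} [Field F] {D : ChevalleyDatum}

theorem H_conj_dEnt (hD : Seven D) (h : GL D.Idx F) (hh : h ∈ D.diagonalSubgroup F) (s : ℕ)
    (hs : s < D.nroots) (t : F) :
    h * xG hD s t * h⁻¹ = xG hD s (dEnt h s * t) := by
  obtain ⟨c, hc, hval⟩ := H_form hD h hh
  rw [H_conj_x hD h c hc hval s hs t]
  unfold dEnt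
  rw [dif_pos hs, hval, Matrix.diagonal_apply_eq]

theorem dEnt_one_eq (s : ℕ) : dEnt (1 : GL D.Idx F) s = 1 := by
  unfold dEnt
  split_ifs with h
  · rw [Units.val_one, Matrix.one_apply_eq]
  · rfl

theorem neg_one_zpow_sq' (a : ℤ) : (((-1 : F)) ^ a) ^ 2 = 1 := by
  rw [← zpow_natCast, ← zpow_mul]
  exact Even.neg_one_zpow ⟨a, by push_cast; ring⟩

theorem g2_fix_zero (c x : F) (hc : c ≠ 1) (e : c * x = x) : x = 0 := by
  have e2 : (c - 1) * x = 0 := by rw [sub_mul, one_mul, e, sub_self]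
  rcases mul_eq_zero.mp e2 with e3 | e3
  · exact absurd (sub_eq_zero.mp e3) hc
  · exact e3

theorem g2_chi_aux (θ : ℕ) (hq : ∀ t : F, ((t ^ θ) ^ θ) ^ 3 = t)
    (h4 : ∀ x : F, (x ^ 2) ^ 2 = 1 → x ^ 2 = 1) (l : F) :
    (((l ^ 2) ^ 2 = 1) → ((l ^ θ) ^ 3 * l⁻¹) ^ 2 = 1) ∧
    ((((l ^ θ) ^ 3 * l) ^ 2 = 1) → ((l ^ θ) ^ 3 * l⁻¹) ^ 2 = 1) := by
  have key : l ^ 2 = 1 → ((l ^ θ) ^ 3 * l⁻¹) ^ 2 = 1 := by
    intro h
    have e : ((l ^ θ) ^ 3 * l⁻¹) ^ 2 = ((l ^ 2) ^ θ) ^ 3 * (l ^ 2)⁻¹ := by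
      rw [mul_pow, inv_pow]; ring
    rw [e, h, one_pow, one_pow, inv_one, mul_one]
  refine ⟨fun h => key (h4 l h), fun h => ?_⟩
  have h1 : (l * l ^ θ) ^ 2 = 1 := by
    calc (l * l ^ θ) ^ 2 = (((l ^ θ) ^ θ) ^ 3 * l ^ θ) ^ 2 := by rw [hq l]
      _ = (((l ^ θ) ^ 3 * l) ^ 2) ^ θ := by ring
      _ = 1 := by rw [h, one_pow]
  have h2 : ((l ^ θ) ^ 2) ^ 2 = 1 := by
    calc ((l ^ θ) ^ 2) ^ 2 = ((l ^ θ) ^ 2) ^ 2 * (l * l ^ θ) ^ 2 := by rw [h1, mul_one]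
      _ = ((l ^ θ) ^ 3 * l) ^ 2 := by ring
      _ = 1 := h
  have h3 := h4 _ h2
  apply key
  calc l ^ 2 = l ^ 2 * (l ^ θ) ^ 2 := by rw [h3, mul_one]
    _ = (l * l ^ θ) ^ 2 := by ring
    _ = 1 := h1

end GenF

section G2F
variable {K : Type*} [Field K] [Fintype K] {m : ℕ}

/-- In a field with `3^(2m+1)` elements, `x^4 = 1` implies `x^2 = 1`. -/
theorem g2_fourth (hK : Fintype.card K = 3 ^ (2 * m + 1)) (x : K) (h : (x ^ 2) ^ 2 = 1) :
    x ^ 2 = 1 := by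
  haveI hch : CharP K 3 := charP_of_card Nat.prime_three hK
  have hrc : ringChar K ≠ 2 := by rw [ringChar.eq K 3]; norm_num
  have h1 : x ^ 2 * x ^ 2 = 1 := by rw [← sq]; exact h
  rcases mul_self_eq_one_iff.mp h1 with h2 | h2
  · exact h2
  · exfalso
    have hx0 : x ≠ 0 := by
      rintro rfl
      simp at h2
    have hodd := three_pow_odd_half m
    have h5 := Nat.two_mul_div_two_add_one_of_odd (Odd.pow (n := 2 * m + 1) (by decide : Odd 3))
    have hcard : 2 * (3 ^ (2 * m + 1) / 2) = Fintype.card K - 1 := by rw [hK]; omega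
    have h3 : x ^ (Fintype.card K - 1) = 1 := FiniteField.pow_card_sub_one_eq_one x hx0
    rw [← hcard, pow_mul, h2, hodd.neg_one_pow] at h3
    exact Ring.neg_one_ne_one_of_char_ne_two hrc h3

theorem units_odd_card (hK : Fintype.card K = 3 ^ (2 * m + 1)) :
    2 * Nat.card {z : Kˣ // Odd (orderOf z)} = 3 ^ (2 * m + 1) - 1 := by
  classical
  haveI hch : CharP K 3 := charP_of_card Nat.prime_three hK
  have hrc : ringChar K ≠ 2 := by rw [ringChar.eq K 3]; norm_num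
  have hodd := three_pow_odd_half m
  have h5 := Nat.two_mul_div_two_add_one_of_odd (Odd.pow (n := 2 * m + 1) (by decide : Odd 3))
  have hcard : 2 * (3 ^ (2 * m + 1) / 2) = Fintype.card K - 1 := by rw [hK]; omega
  have hchar : ∀ z : Kˣ, Odd (orderOf z) ↔ (z : K) ^ (3 ^ (2 * m + 1) / 2) = 1 := by
    intro z
    have hz1 : z ^ (Fintype.card K - 1) = 1 := by
      apply Units.ext
      rw [Units.val_pow_eq_pow_val, Units.val_one]
      exact FiniteField.pow_card_sub_one_eq_one _ z.ne_zero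
    constructor
    · intro ho
      have hd : orderOf z ∣ 2 * (3 ^ (2 * m + 1) / 2) := by
        rw [hcard]; exact orderOf_dvd_of_pow_eq_one hz1
      have hd2 : orderOf z ∣ 3 ^ (2 * m + 1) / 2 :=
        Nat.Coprime.dvd_of_dvd_mul_left ho.coprime_two_right hd
      have h6 : z ^ (3 ^ (2 * m + 1) / 2) = 1 := orderOf_dvd_iff_pow_eq_one.mp hd2
      have h' := congrArg Units.val h6
      rw [Units.val_pow_eq_pow_val, Units.val_one] at h'
      exact h'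
    · intro hz
      have h6 : z ^ (3 ^ (2 * m + 1) / 2) = 1 := by
        apply Units.ext
        rw [Units.val_pow_eq_pow_val, Units.val_one]; exact hz
      exact Odd.of_dvd_nat hodd (orderOf_dvd_of_pow_eq_one h6)
  have hneg : ∀ z : Kˣ, Odd (orderOf z) ↔ ¬ Odd (orderOf (-z)) := by
    intro z
    rw [hchar z, hchar (-z), Units.val_neg, Odd.neg_pow hodd]
    have hne : (-1 : K) ≠ 1 := Ring.neg_one_ne_one_of_char_ne_two hrc
    constructor
    · intro h1 h2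
      rw [h1] at h2
      exact hne h2
    · intro h2
      have hd := FiniteField.pow_dichotomy hrc z.ne_zero
      rw [hK] at hd
      rcases hd with h | h
      · exact h
      · exfalso; apply h2; rw [h, neg_neg]
  have e1 : Nat.card {z : Kˣ // Odd (orderOf z)} = Nat.card {z : Kˣ // ¬ Odd (orderOf z)} :=
    Nat.card_congr ((Equiv.neg Kˣ).subtypeEquiv (fun z => hneg z))
  have e2 : Nat.card {z : Kˣ // Odd (orderOf z)} + Nat.card {z : Kˣ // ¬ Odd (orderOf z)} =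
      Nat.card Kˣ := by
    rw [← Nat.card_sum]
    exact Nat.card_congr (Equiv.sumCompl _)
  rw [Nat.card_units, Nat.card_eq_fintype_card (α := K), hK] at e2
  omega

theorem g2_H_odd_card (hK : Fintype.card K = 3 ^ (2 * m + 1)) :
    2 * Nat.card {h : ↥(chevG2.diagonalSubgroup K ⊓ twistedG2 K (3 ^ m)) // Odd (orderOf h)} =
      3 ^ (2 * m + 1) - 1 := by
  classical
  have hD : Seven chevG2 := by simp
  haveI hch : CharP K 3 := charP_of_card Nat.prime_three hK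
  haveI : Fact (Nat.Prime 3) := ⟨Nat.prime_three⟩
  have hθ : IsFrob K (3 ^ m) := isFrob_pow 3 m
  obtain ⟨h3, h3z, hq⟩ := g2_setup hK
  have hS := g2_le_fix hD (3 ^ m) h3z hθ hq
  let f : ↥(chevG2.diagonalSubgroup K ⊓ twistedG2 K (3 ^ m)) →* Kˣ :=
    MonoidHom.mk' (fun h => Units.mk0 (dEnt (h : GL chevG2.Idx K) 6)
      (dEnt_ne_zero hD _ h.2.1 6 (by decide))) (fun a b => by
        apply Units.ext
        show dEnt ((a : GL chevG2.Idx K) * (b : GL chevG2.Idx K)) 6 =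
          dEnt (a : GL chevG2.Idx K) 6 * dEnt (b : GL chevG2.Idx K) 6
        exact dEnt_mul hD _ _ a.2.1 6)
  have hinj : Function.Injective f := by
    intro h h' e
    have e' : dEnt (h : GL chevG2.Idx K) 6 = dEnt (h' : GL chevG2.Idx K) 6 :=
      congrArg Units.val e
    exact Subtype.ext (g2_H_fix_inj hD (frobHom hθ) _ _ h.2.1 h'.2.1 (hS h.2.2) (hS h'.2.2) e')
  have hsurj : Function.Surjective f := by
    intro z
    obtain ⟨h, hh, e⟩ := g2_H_surj hK hD (z : K) z.ne_zero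
    exact ⟨⟨h, hh⟩, Units.ext e⟩
  rw [← units_odd_card hK]
  congr 1
  exact Nat.card_congr ((Equiv.ofBijective f ⟨hinj, hsurj⟩).subtypeEquiv
    (fun h => by
      show Odd (orderOf h) ↔ Odd (orderOf (f h))
      rw [orderOf_injective f hinj]))

theorem g2_H_form (hK : Fintype.card K = 3 ^ (2 * m + 1)) (hD : Seven chevG2)
    (k : GL chevG2.Idx K) (hk : k ∈ chevG2.diagonalSubgroup K ⊓ twistedG2 K (3 ^ m)) :
    ∃ l : K, l ≠ 0 ∧ (k = hG hD 8 (l ^ 3 ^ m) * hG hD 10 l ∨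
      k = hG hD 7 (-1 : K) * hG hD 6 (-1) * (hG hD 8 (l ^ 3 ^ m) * hG hD 10 l)) := by
  haveI hch : CharP K 3 := charP_of_card Nat.prime_three hK
  haveI : Fact (Nat.Prime 3) := ⟨Nat.prime_three⟩
  have hθ : IsFrob K (3 ^ m) := isFrob_pow 3 m
  obtain ⟨h3, h3z, hq⟩ := g2_setup hK
  have hS := g2_le_fix hD (3 ^ m) h3z hθ hq
  have hrc : ringChar K ≠ 2 := by rw [ringChar.eq K 3]; norm_num
  have hy : dEnt k 6 ≠ 0 := dEnt_ne_zero hD k hk.1 6 (by decide)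
  obtain ⟨z, hz, hyz⟩ := g2_sq_or_neg hK hrc (dEnt k 6) hy
  obtain ⟨l, hl⟩ : ∃ l : K, l = z ^ (3 * 3 ^ m + 1) := ⟨_, rfl⟩
  have hl0 : l ≠ 0 := by rw [hl]; exact pow_ne_zero _ hz
  have hT_H : hG hD 8 (l ^ 3 ^ m) * hG hD 10 l ∈ chevG2.diagonalSubgroup K :=
    mul_mem (hG_mem_H hD 8 (by decide) _ (pow_ne_zero _ hl0)) (hG_mem_H hD 10 (by decide) _ hl0)
  have hT_G := g2_tor_mem hD (3 ^ m) h3z hθ l
  have hT_d : dEnt (hG hD 8 (l ^ 3 ^ m) * hG hD 10 l) 6 = z ^ 2 := by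
    rw [g2_tor_dEnt hD (3 ^ m) l hl0, hl]
    exact g2_tor_val (3 ^ m) hq z hz
  refine ⟨l, hl0, ?_⟩
  rcases hyz with e | e
  · left
    exact g2_H_fix_inj hD (frobHom hθ) _ _ hk.1 hT_H (hS hk.2) (hS hT_G) (by rw [e, hT_d])
  · right
    have hm : (-1 : K) ≠ 0 := neg_ne_zero.mpr one_ne_zero
    have h0H : hG hD 7 (-1 : K) * hG hD 6 (-1) ∈ chevG2.diagonalSubgroup K :=
      mul_mem (hG_mem_H hD 7 (by decide) _ hm) (hG_mem_H hD 6 (by decide) _ hm)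
    exact g2_H_fix_inj hD (frobHom hθ) _ _ hk.1 (mul_mem h0H hT_H) (hS hk.2)
      (hS (mul_mem (g2_h0_mem hD (3 ^ m) h3z hθ) hT_G))
      (by rw [e, dEnt_mul hD _ _ h0H, g2_h0_dEnt hD, hT_d]; ring)

theorem g2_sq_dEnt (hK : Fintype.card K = 3 ^ (2 * m + 1)) (hD : Seven chevG2)
    (k : GL chevG2.Idx K) (hk : k ∈ chevG2.diagonalSubgroup K ⊓ twistedG2 K (3 ^ m)) :
    ∃ l : K, l ≠ 0 ∧ ∀ s, s < chevG2.nroots → dEnt (k * k) s =
      ((l ^ 3 ^ m) ^ chevG2.pairing 8 s * l ^ chevG2.pairing 10 s) ^ 2 := by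
  obtain ⟨l, hl0, e⟩ := g2_H_form hK hD k hk
  refine ⟨l, hl0, fun s hs => ?_⟩
  have hl1 : l ^ 3 ^ m ≠ 0 := pow_ne_zero _ hl0
  have hT : dEnt (hG hD 8 (l ^ 3 ^ m) * hG hD 10 l) s =
      (l ^ 3 ^ m) ^ chevG2.pairing 8 s * l ^ chevG2.pairing 10 s := by
    rw [dEnt_mul hD _ _ (hG_mem_H hD 8 (by decide) _ hl1),
      dEnt_hG hD 8 (by decide) _ hl1 s hs, dEnt_hG hD 10 (by decide) _ hl0 s hs]
  rw [dEnt_mul hD _ _ hk.1, ← sq]
  rcases e with e | e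
  · rw [e, hT]
  · have hm : (-1 : K) ≠ 0 := neg_ne_zero.mpr one_ne_zero
    have h0H : hG hD 7 (-1 : K) * hG hD 6 (-1) ∈ chevG2.diagonalSubgroup K :=
      mul_mem (hG_mem_H hD 7 (by decide) _ hm) (hG_mem_H hD 6 (by decide) _ hm)
    have hsq : (dEnt (hG hD 7 (-1 : K) * hG hD 6 (-1)) s) ^ 2 = 1 := by
      rw [dEnt_mul hD _ _ (hG_mem_H hD 7 (by decide) _ hm),
        dEnt_hG hD 7 (by decide) _ hm s hs, dEnt_hG hD 6 (by decide) _ hm s hs, mul_pow,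
        neg_one_zpow_sq', neg_one_zpow_sq', one_mul]
    rw [e, dEnt_mul hD _ _ h0H, hT, mul_pow, hsq, one_mul]

theorem g2_kap6 (hD : Seven chevG2) (α β : K) (r : GL chevG2.Idx K)
    (hr : r ∈ Uge chevG2 K 8) :
    kap hD 6 1 (xG hD 7 α * (xG hD 6 β * r)) = corK chevG2 K 6 1 * β := by
  have hc := Uge_conj hD 6 (by decide) (by decide) (-β) (xG hD 7 α)
    (xG_mem_Uge hD 7 7 le_rfl (by decide) _)
  have e : xG hD 7 α * (xG hD 6 β * r) =
      xG hD 6 β * ((xG hD 6 (-β) * xG hD 7 α * (xG hD 6 (-β))⁻¹) * r) := by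
    rw [xG_inv, neg_neg]
    have e0 : xG hD 6 β * xG hD 6 (-β) = 1 := by rw [xG_mul, add_neg_cancel, xG_zero]
    simp only [mul_assoc]
    rw [← mul_assoc (xG hD 6 β) (xG hD 6 (-β)), e0, one_mul]
  rw [e]
  exact kap_mul hD 6 (by decide) (by decide) 1 (by decide) β _
    (mul_mem hc (Uge_anti 7 8 (by decide) hr))

theorem g2_conj8 (hD : Seven chevG2) (h : GL chevG2.Idx K)
    (hh : h ∈ chevG2.diagonalSubgroup K) (θ : ℕ) (t u v : K) :
    h * (reeS hD θ t * (reeP hD 8 10 θ u * reeP hD 9 11 θ v)) * h⁻¹ =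
      xG hD 7 (dEnt h 7 * t ^ θ) * (xG hD 6 (dEnt h 6 * t) *
        (xG hD 8 (dEnt h 8 * (t * t ^ θ)) * xG hD 9 (dEnt h 9 * (t * (t ^ θ) ^ 2)) *
          (xG hD 8 (dEnt h 8 * u ^ θ) * xG hD 10 (dEnt h 10 * u) *
            (xG hD 9 (dEnt h 9 * v ^ θ) * xG hD 11 (dEnt h 11 * v))))) := by
  rw [← H_conj_dEnt hD h hh 7 (by decide) (t ^ θ), ← H_conj_dEnt hD h hh 6 (by decide) t,
    ← H_conj_dEnt hD h hh 8 (by decide) (t * t ^ θ),
    ← H_conj_dEnt hD h hh 9 (by decide) (t * (t ^ θ) ^ 2),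
    ← H_conj_dEnt hD h hh 8 (by decide) (u ^ θ), ← H_conj_dEnt hD h hh 10 (by decide) u,
    ← H_conj_dEnt hD h hh 9 (by decide) (v ^ θ), ← H_conj_dEnt hD h hh 11 (by decide) v]
  unfold reeS reeP
  rw [wG_cons, wG_cons, wG_cons, wG_cons, wG_nil, mul_one]
  dsimp only
  group

theorem g2_conj4 (hD : Seven chevG2) (h : GL chevG2.Idx K)
    (hh : h ∈ chevG2.diagonalSubgroup K) (θ : ℕ) (u v : K) :
    h * (reeP hD 8 10 θ u * reeP hD 9 11 θ v) * h⁻¹ =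
      wG hD (ordWord (fun r => dEnt h r * (if r = 8 then u ^ θ else if r = 9 then v ^ θ else
        if r = 10 then u else v)) 8 4) := by
  have e : ordWord (fun r => dEnt h r * (if r = 8 then u ^ θ else if r = 9 then v ^ θ else
      if r = 10 then u else v)) 8 4 =
      [(8, dEnt h 8 * u ^ θ), (9, dEnt h 9 * v ^ θ), (10, dEnt h 10 * u),
        (11, dEnt h 11 * v)] := by
    rfl
  have e' : ordWord (fun r => if r = 8 then u ^ θ else if r = 9 then v ^ θ else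
      if r = 10 then u else v) 8 4 = [(8, u ^ θ), (9, v ^ θ), (10, u), (11, v)] := by
    rfl
  rw [e, g2_reeP_ord, e', wG_cons, wG_cons, wG_cons, wG_cons, wG_nil, mul_one, wG_cons, wG_cons,
    wG_cons, wG_cons, wG_nil, mul_one]
  dsimp only
  rw [← H_conj_dEnt hD h hh 8 (by decide) (u ^ θ), ← H_conj_dEnt hD h hh 9 (by decide) (v ^ θ),
    ← H_conj_dEnt hD h hh 10 (by decide) u, ← H_conj_dEnt hD h hh 11 (by decide) v]
  group

theorem g2_odd_fpf (hK : Fintype.card K = 3 ^ (2 * m + 1)) (h : GL chevG2.Idx K)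
    (hh : h ∈ chevG2.diagonalSubgroup K ⊓ twistedG2 K (3 ^ m)) (h1 : h ≠ 1)
    (hodd : Odd (orderOf h)) :
    (chevG2.posUnipotent K ⊓ twistedG2 K (3 ^ m)) ⊓ Subgroup.centralizer {h} = ⊥ := by
  classical
  have hD : Seven chevG2 := by simp
  haveI hch : CharP K 3 := charP_of_card Nat.prime_three hK
  haveI : Fact (Nat.Prime 3) := ⟨Nat.prime_three⟩
  have hθ : IsFrob K (3 ^ m) := isFrob_pow 3 m
  obtain ⟨h3, h3z, hq⟩ := g2_setup hK
  have hS := g2_le_fix hD (3 ^ m) h3z hθ hq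
  have hθ0 : 3 ^ m ≠ 0 := pow_ne_zero _ (by norm_num)
  obtain ⟨n, hn⟩ := hodd
  have hkk : h ^ (n + 1) * h ^ (n + 1) = h := by
    rw [← pow_add]
    have e : n + 1 + (n + 1) = orderOf h + 1 := by omega
    rw [e, pow_succ, pow_orderOf_eq_one, one_mul]
  have hk : h ^ (n + 1) ∈ chevG2.diagonalSubgroup K ⊓ twistedG2 K (3 ^ m) := pow_mem hh _
  obtain ⟨l, hl0, hval⟩ := g2_sq_dEnt hK hD _ hk
  rw [hkk] at hval
  obtain ⟨q1, q2, q3, q4, q5, q6, q7, q8⟩ := g2_pairs_pos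
  obtain ⟨p1, p2, p3, p4, -, -, -, -⟩ := g2_pairs
  have c6 : dEnt h 6 = ((l ^ 3 ^ m) ^ 3 * l⁻¹) ^ 2 := by
    rw [hval 6 (by decide), q3, q4, zpow_ofNat, zpow_neg_one]
  have c10 : dEnt h 10 = (l ^ 2) ^ 2 := by
    rw [hval 10 (by decide), p3, p4, zpow_zero, one_mul, zpow_ofNat]
  have c11 : dEnt h 11 = ((l ^ 3 ^ m) ^ 3 * l) ^ 2 := by
    rw [hval 11 (by decide), q7, q8, zpow_ofNat, zpow_one]
  have n6 : dEnt h 6 ≠ 1 := by
    intro e
    apply h1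
    exact g2_H_fix_inj hD (frobHom hθ) h 1 hh.1 (one_mem _) (hS hh.2) (one_mem _)
      (by rw [e, dEnt_one_eq])
  obtain ⟨a1, a2⟩ := g2_chi_aux (3 ^ m) hq (g2_fourth hK) l
  have n10 : dEnt h 10 ≠ 1 := by
    intro e; rw [c10] at e; exact n6 (by rw [c6]; exact a1 e)
  have n11 : dEnt h 11 ≠ 1 := by
    intro e; rw [c11] at e; exact n6 (by rw [c6]; exact a2 e)
  rw [eq_bot_iff]
  intro u hu
  rw [Subgroup.mem_bot]
  obtain ⟨hu1, hu2⟩ := Subgroup.mem_inf.mp hu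
  have hcomm : h * u = u * h := (Subgroup.mem_centralizer_iff.mp hu2) h (Set.mem_singleton h)
  have hconj : h * u * h⁻¹ = u := by rw [hcomm, mul_inv_cancel_right]
  obtain ⟨t, u', v, e⟩ := ((g2_U_struct hK).1 u).mp hu1
  have eu : u = wG hD (reeWordU (3 ^ m) t u' v) := Units.ext (by rw [e, wG_val])
  rw [reeU_form hD (3 ^ m) h3z] at eu
  have hc8 := g2_conj8 hD h hh.1 (3 ^ m) t u' v
  rw [← eu, hconj] at hc8
  have k1 : kap hD 6 1 u = corK chevG2 K 6 1 * t := by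
    rw [eu]; exact g2_reeU_kap hD (3 ^ m) t u' v
  have k2 : kap hD 6 1 u = corK chevG2 K 6 1 * (dEnt h 6 * t) := by
    rw [hc8]
    exact g2_kap6 hD _ _ _ (mul_mem (mul_mem (xG_mem_Uge hD 8 8 le_rfl (by decide) _)
        (xG_mem_Uge hD 8 9 (by decide) (by decide) _))
      (mul_mem (mul_mem (xG_mem_Uge hD 8 8 le_rfl (by decide) _)
          (xG_mem_Uge hD 8 10 (by decide) (by decide) _))
        (mul_mem (xG_mem_Uge hD 8 9 (by decide) (by decide) _)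
          (xG_mem_Uge hD 8 11 (by decide) (by decide) _))))
  have k6 : corK chevG2 K 6 1 ≠ 0 := by rw [corK_eq, g2_cors.1]; simp
  have ht : t = 0 := g2_fix_zero _ _ n6 (mul_left_cancel₀ k6 (k2.symm.trans k1))
  rw [ht, reeS_zero hD (3 ^ m) hθ0, one_mul] at eu
  have hc4 := g2_conj4 hD h hh.1 (3 ^ m) u' v
  rw [← eu, hconj] at hc4
  have eu' := eu.trans (g2_reeP_ord hD (3 ^ m) u' v)
  have h2 := hc4.symm.trans eu'
  have hu10 : dEnt h 10 * u' = u' :=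
    ordWord_unique hD 4 8 (by decide) (by decide) _ _ h2 10 (by decide) (by decide)
  have hv11 : dEnt h 11 * v = v :=
    ordWord_unique hD 4 8 (by decide) (by decide) _ _ h2 11 (by decide) (by decide)
  have hu0 : u' = 0 := g2_fix_zero _ _ n10 hu10
  have hv0 : v = 0 := g2_fix_zero _ _ n11 hv11
  rw [eu, hu0, hv0, reeP_zero hD (3 ^ m) 8 10 hθ0, reeP_zero hD (3 ^ m) 9 11 hθ0, one_mul]

end G2F

end Cfsg.Agent.Helper11
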