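import Cfsg.Agent.Helper11.ChevTwBG2f

set_option autoImplicit false
open Cfsg Cfsg.Lie

namespace Cfsg.Agent.Helper11

def g2cw (a b : ℕ) : List (ℕ × Poly) := [(a,[(1,1,0)]),(b,[(1,0,1)])]
def g2cw2 (a b : ℕ) : List (ℕ × Poly) := [(b,[(1,0,1)]),(a,[(1,1,0)])]

def g2c78L : List (ℕ × Poly) := [(7,[(-1,1,0)]),(8,[(1,0,1)]),(7,[(1,1,0)]),(8,[(-1,0,1)])]
def g2c78R : List (ℕ × Poly) := [(9,[(2,1,1)])]
def g2c610L : List (ℕ × Poly) :=
  [(6,[(-1,1,0)]),(10,[(1,0,1)]),(6,[(1,1,0)]),(10,[(-1,0,1)])]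
def g2c610R : List (ℕ × Poly) := [(11,[(2,1,1)])]
def g2cubeL : List (ℕ × Poly) :=
  [(7,[(1,1,0)]),(6,[(1,0,1)]),(7,[(1,1,0)]),(6,[(1,0,1)]),(7,[(1,1,0)]),(6,[(1,0,1)])]
def g2cubeR : List (ℕ × Poly) := [(9,[(2,2,1)]),(11,[(2,3,2)])]

set_option maxRecDepth 100000 in
set_option maxHeartbeats 0 in
theorem g2_comm_tab : ∀ p ∈ [(7,9),(7,10),(7,11),(6,8),(6,9),(6,11),(8,9),(8,10),(8,11),(9,10),
    (9,11),(10,11)], wordEqPN 3 chevG2 (g2cw p.1 p.2) (g2cw2 p.1 p.2) = true := by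
  decide +kernel

set_option maxRecDepth 100000 in
set_option maxHeartbeats 0 in
theorem g2_cube_ok : wordEqPN 3 chevG2 g2c78L g2c78R = true ∧
    wordEqPN 3 chevG2 g2c610L g2c610R = true ∧
    wordEqPN 3 chevG2 g2cubeL g2cubeR = true := by decide +kernel

section G2Cube
variable {K : Type*} [Field K]

theorem g2_comm_of (hD : Seven chevG2) (h3z : ((3 : ℤ) : K) = 0) (a b : ℕ)
    (h : wordEqPN 3 chevG2 (g2cw a b) (g2cw2 a b) = true) (x y : K) :
    Commute (xG hD a x) (xG hD b y) := by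
  have key := wG_eq_of_wordEqPN hD 3 h3z _ _ h x y
  have e1 : evalWord x y (g2cw a b) = [(a, x), (b, y)] := by
    unfold g2cw evalWord
    simp only [List.map_cons, List.map_nil, evalPoly, evalMono, List.sum_cons, List.sum_nil,
      Int.cast_one, pow_zero, pow_one, mul_one, one_mul, add_zero]
  have e2 : evalWord x y (g2cw2 a b) = [(b, y), (a, x)] := by
    unfold g2cw2 evalWord
    simp only [List.map_cons, List.map_nil, evalPoly, evalMono, List.sum_cons, List.sum_nil,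
      Int.cast_one, pow_zero, pow_one, mul_one, one_mul, add_zero]
  rw [e1, e2, wG_two, wG_two] at key
  exact key

theorem g2_cm (hD : Seven chevG2) (h3z : ((3 : ℤ) : K) = 0) (a b : ℕ)
    (hab : (a, b) ∈ [(7,9),(7,10),(7,11),(6,8),(6,9),(6,11),(8,9),(8,10),(8,11),(9,10),
      (9,11),(10,11)]) (x y : K) : Commute (xG hD a x) (xG hD b y) :=
  g2_comm_of hD h3z a b (g2_comm_tab (a, b) hab) x y

theorem g2_c78 (hD : Seven chevG2) (h3z : ((3 : ℤ) : K) = 0) (t c : K) :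
    (xG hD 7 t)⁻¹ * xG hD 8 c * xG hD 7 t * (xG hD 8 c)⁻¹ = xG hD 9 (2 * (t * c)) := by
  have key := wG_eq_of_wordEqPN hD 3 h3z _ _ g2_cube_ok.1 t c
  have e1 : evalWord t c g2c78L = [(7, -t), (8, c), (7, t), (8, -c)] := by
    unfold g2c78L evalWord
    simp [evalPoly, evalMono]
  have e2 : evalWord t c g2c78R = [(9, 2 * (t * c))] := by
    unfold g2c78R evalWord
    simp [evalPoly, evalMono, mul_assoc]
  rw [e1, e2] at key
  rw [xG_inv, xG_inv]
  simp only [wG_cons, wG_nil, mul_one, mul_assoc] at key ⊢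
  exact key

theorem g2_c610 (hD : Seven chevG2) (h3z : ((3 : ℤ) : K) = 0) (t c : K) :
    (xG hD 6 t)⁻¹ * xG hD 10 c * xG hD 6 t * (xG hD 10 c)⁻¹ = xG hD 11 (2 * (t * c)) := by
  have key := wG_eq_of_wordEqPN hD 3 h3z _ _ g2_cube_ok.2.1 t c
  have e1 : evalWord t c g2c610L = [(6, -t), (10, c), (6, t), (10, -c)] := by
    unfold g2c610L evalWord
    simp [evalPoly, evalMono]
  have e2 : evalWord t c g2c610R = [(11, 2 * (t * c))] := by
    unfold g2c610R evalWord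
    simp [evalPoly, evalMono, mul_assoc]
  rw [e1, e2] at key
  rw [xG_inv, xG_inv]
  simp only [wG_cons, wG_nil, mul_one, mul_assoc] at key ⊢
  exact key

theorem g2_s_cube (hD : Seven chevG2) (h3z : ((3 : ℤ) : K) = 0) (A B : K) :
    (xG hD 7 A * xG hD 6 B) ^ 3 =
      xG hD 9 (2 * (A ^ 2 * B)) * xG hD 11 (2 * (A ^ 3 * B ^ 2)) := by
  have key := wG_eq_of_wordEqPN hD 3 h3z _ _ g2_cube_ok.2.2 A B
  have e1 : evalWord A B g2cubeL = [(7, A), (6, B), (7, A), (6, B), (7, A), (6, B)] := by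
    unfold g2cubeL evalWord
    simp [evalPoly, evalMono]
  have e2 : evalWord A B g2cubeR = [(9, 2 * (A ^ 2 * B)), (11, 2 * (A ^ 3 * B ^ 2))] := by
    unfold g2cubeR evalWord
    simp [evalPoly, evalMono, mul_assoc]
  rw [e1, e2] at key
  rw [pow_succ, pow_succ, pow_one]
  simp only [wG_cons, wG_nil, mul_one, mul_assoc] at key ⊢
  exact key

theorem g2_W_gen_comm (hD : Seven chevG2) (h3z : ((3 : ℤ) : K) = 0) (a b : ℕ) (ha : 8 ≤ a)
    (ha2 : a < 12) (hb : 8 ≤ b) (hb2 : b < 12) (x y : K) :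
    xG hD a x * xG hD b y = xG hD b y * xG hD a x := by
  have key : ∀ a b : ℕ, a < b → 8 ≤ a → b < 12 → ∀ x y : K,
      Commute (xG hD a x) (xG hD b y) := by
    intro a b hab ha hb x y
    have ha2 : a < 12 := by omega
    interval_cases a <;> interval_cases b <;> exact g2_cm hD h3z _ _ (by decide) x y
  rcases Nat.lt_trichotomy a b with h | h | h
  · exact (key a b h ha hb2 x y).eq
  · subst h; rw [xG_mul, xG_mul, add_comm]
  · exact ((key b a h hb ha2 y x).eq).symm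

theorem g2_W_ab (hD : Seven chevG2) (h3z : ((3 : ℤ) : K) = 0) :
    ∀ x ∈ Uge chevG2 K 8, ∀ y ∈ Uge chevG2 K 8, x * y = y * x := by
  have hgen : ∀ x ∈ {g : GL chevG2.Idx K | ∃ (r : ℕ) (t : K), 8 ≤ r ∧ r < chevG2.nroots ∧
      (g : Matrix chevG2.Idx chevG2.Idx K) = chevG2.x K r t},
      ∀ y ∈ {g : GL chevG2.Idx K | ∃ (r : ℕ) (t : K), 8 ≤ r ∧ r < chevG2.nroots ∧
      (g : Matrix chevG2.Idx chevG2.Idx K) = chevG2.x K r t}, x * y = y * x := by
    rintro x ⟨r, t, h1, h2, hx⟩ y ⟨r', t', h1', h2', hy⟩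
    rw [eq_xG hD x r t hx, eq_xG hD y r' t' hy]
    rw [g2_consts.1] at h2 h2'
    exact g2_W_gen_comm hD h3z r r' h1 h2 h1' h2' t t'
  have h1 : ∀ g ∈ {g : GL chevG2.Idx K | ∃ (r : ℕ) (t : K), 8 ≤ r ∧ r < chevG2.nroots ∧
      (g : Matrix chevG2.Idx chevG2.Idx K) = chevG2.x K r t},
      Uge chevG2 K 8 ≤ Subgroup.centralizer {g} := by
    intro g hg
    unfold Uge
    rw [Subgroup.closure_le]
    intro z hz
    rw [SetLike.mem_coe, Subgroup.mem_centralizer_iff]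
    intro w hw
    rw [Set.mem_singleton_iff] at hw
    rw [hw]; exact hgen g hg z hz
  intro x hx y hy
  have h2 : Uge chevG2 K 8 ≤ Subgroup.centralizer {x} := by
    unfold Uge
    rw [Subgroup.closure_le]
    intro z hz
    rw [SetLike.mem_coe, Subgroup.mem_centralizer_iff]
    intro w hw
    rw [Set.mem_singleton_iff] at hw
    rw [hw]
    exact (Subgroup.mem_centralizer_iff.mp (h1 z hz hx) z (Set.mem_singleton z)).symm
  exact Subgroup.mem_centralizer_iff.mp (h2 hy) x (Set.mem_singleton x)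

theorem g2_W_cube (hD : Seven chevG2) (h3z : ((3 : ℤ) : K) = 0) (h3 : (3 : K) = 0) :
    ∀ x ∈ Uge chevG2 K 8, x ^ 3 = 1 := by
  have hab := g2_W_ab hD h3z
  intro x hx
  unfold Uge at hx
  induction hx using Subgroup.closure_induction with
  | mem x hx1 =>
    obtain ⟨r, t, h1, h2, hxe⟩ := hx1
    rw [eq_xG hD x r t hxe, pow_succ, pow_succ, pow_one, xG_mul, xG_mul]
    have e : t + t + t = 0 := by linear_combination t * h3
    rw [e, xG_zero]
  | one => exact one_pow 3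
  | mul x y hx1 hy1 ihx ihy =>
    have cxy : Commute x y := hab x hx1 y hy1
    rw [cxy.mul_pow, ihx, ihy, one_mul]
  | inv x hx1 ih => rw [inv_pow, ih, inv_one]

theorem g2_lvl (hD : Seven chevG2) (h3z : ((3 : ℤ) : K) = 0) (r : ℕ) (hr : r = 6 ∨ r = 7)
    (t : K) (m : ℕ) (hm : 8 ≤ m) :
    ∀ w ∈ Uge chevG2 K m, (xG hD r t)⁻¹ * w * xG hD r t * w⁻¹ ∈ Uge chevG2 K (m + 1) := by
  have hab := g2_W_ab hD h3z
  have hle : Uge chevG2 K m ≤ Uge chevG2 K 8 := Uge_anti 8 m hm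
  have hle' : Uge chevG2 K (m + 1) ≤ Uge chevG2 K 8 := Uge_anti 8 (m + 1) (by omega)
  intro w hw
  unfold Uge at hw
  induction hw using Subgroup.closure_induction with
  | mem x hx =>
    obtain ⟨j, c, h1, h2, hxe⟩ := hx
    rw [eq_xG hD x j c hxe]
    rw [g2_consts.1] at h2
    have hj : (xG hD r t)⁻¹ * xG hD j c * xG hD r t * (xG hD j c)⁻¹ ∈
        Uge chevG2 K (j + 1) := by
      have hcomm : ∀ (a b : ℕ) (x y : K), Commute (xG hD a x) (xG hD b y) →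
          (xG hD a x)⁻¹ * xG hD b y * xG hD a x * (xG hD b y)⁻¹ ∈ Uge chevG2 K (b + 1) := by
        intro a b x y hc
        have e1 : (xG hD a x)⁻¹ * xG hD b y * xG hD a x = xG hD b y := by
          rw [mul_assoc, ← hc.eq, inv_mul_cancel_left]
        rw [e1, mul_inv_cancel]; exact one_mem _
      have hj8 : 8 ≤ j := le_trans hm h1
      rcases hr with rfl | rfl
      · interval_cases j
        · exact hcomm 6 8 t c (g2_cm hD h3z 6 8 (by decide) t c)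
        · exact hcomm 6 9 t c (g2_cm hD h3z 6 9 (by decide) t c)
        · rw [g2_c610 hD h3z t c]; exact xG_mem_Uge hD 11 11 le_rfl (by decide) _
        · exact hcomm 6 11 t c (g2_cm hD h3z 6 11 (by decide) t c)
      · interval_cases j
        · rw [g2_c78 hD h3z t c]; exact xG_mem_Uge hD 9 9 le_rfl (by decide) _
        · exact hcomm 7 9 t c (g2_cm hD h3z 7 9 (by decide) t c)
        · exact hcomm 7 10 t c (g2_cm hD h3z 7 10 (by decide) t c)
        · exact hcomm 7 11 t c (g2_cm hD h3z 7 11 (by decide) t c)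
    exact Uge_anti (m + 1) (j + 1) (by omega) hj
  | one =>
    have e : (xG hD r t)⁻¹ * 1 * xG hD r t * (1 : GL chevG2.Idx K)⁻¹ = 1 := by group
    rw [e]; exact one_mem _
  | mul x y hx hy ihx ihy =>
    have e : (xG hD r t)⁻¹ * (x * y) * xG hD r t * (x * y)⁻¹ =
        ((xG hD r t)⁻¹ * x * xG hD r t * x⁻¹) *
          (x * ((xG hD r t)⁻¹ * y * xG hD r t * y⁻¹) * x⁻¹) := by group
    have e2 : x * ((xG hD r t)⁻¹ * y * xG hD r t * y⁻¹) * x⁻¹ =
        (xG hD r t)⁻¹ * y * xG hD r t * y⁻¹ := by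
      rw [hab x (hle hx) _ (hle' ihy), mul_inv_cancel_right]
    rw [e, e2]
    exact mul_mem ihx ihy
  | inv x hx ih =>
    have e : (xG hD r t)⁻¹ * x⁻¹ * xG hD r t * x⁻¹⁻¹ =
        x⁻¹ * ((xG hD r t)⁻¹ * x * xG hD r t * x⁻¹)⁻¹ * x := by group
    have e2 : x⁻¹ * ((xG hD r t)⁻¹ * x * xG hD r t * x⁻¹)⁻¹ * x =
        ((xG hD r t)⁻¹ * x * xG hD r t * x⁻¹)⁻¹ := by
      rw [hab x⁻¹ (hle (inv_mem hx)) _ (hle' (inv_mem ih)), inv_mul_cancel_right]
    rw [e, e2]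
    exact inv_mem ih

theorem g2_lvl_s (hD : Seven chevG2) (h3z : ((3 : ℤ) : K) = 0) (A B : K) (m : ℕ)
    (hm : 8 ≤ m) :
    ∀ w ∈ Uge chevG2 K m, (xG hD 7 A * xG hD 6 B)⁻¹ * w * (xG hD 7 A * xG hD 6 B) * w⁻¹ ∈
      Uge chevG2 K (m + 1) := by
  intro w hw
  have h7 := g2_lvl hD h3z 7 (Or.inr rfl) A m hm w hw
  have h6 := g2_lvl hD h3z 6 (Or.inl rfl) B m hm w hw
  have h67 := g2_lvl hD h3z 6 (Or.inl rfl) B (m + 1) (by omega) _ h7
  have e : (xG hD 7 A * xG hD 6 B)⁻¹ * w * (xG hD 7 A * xG hD 6 B) * w⁻¹ =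
      ((xG hD 6 B)⁻¹ * ((xG hD 7 A)⁻¹ * w * xG hD 7 A * w⁻¹) * xG hD 6 B *
        ((xG hD 7 A)⁻¹ * w * xG hD 7 A * w⁻¹)⁻¹) *
      ((xG hD 7 A)⁻¹ * w * xG hD 7 A * w⁻¹) * ((xG hD 6 B)⁻¹ * w * xG hD 6 B * w⁻¹) := by
    group
  rw [e]
  exact mul_mem (mul_mem (Uge_anti (m + 1) (m + 1 + 1) (by omega) h67) h7) h6

theorem g2_cube_form (hD : Seven chevG2) (h3z : ((3 : ℤ) : K) = 0) (h3 : (3 : K) = 0)
    (A B : K) (w : GL chevG2.Idx K) (hw : w ∈ Uge chevG2 K 8) :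
    ∃ r ∈ Uge chevG2 K 10, (xG hD 7 A * xG hD 6 B * w) ^ 3 = xG hD 9 (2 * (A ^ 2 * B)) * r := by
  have hab := g2_W_ab hD h3z
  have hcube := g2_W_cube hD h3z h3
  have hsc := g2_s_cube hD h3z A B
  have hb := g2_lvl_s hD h3z A B 8 le_rfl w hw
  have ha := g2_lvl_s hD h3z A B 9 (by norm_num) _ hb
  obtain ⟨s, hs⟩ : ∃ s, s = xG hD 7 A * xG hD 6 B := ⟨_, rfl⟩
  rw [← hs] at hb ha hsc ⊢
  obtain ⟨b, hbe⟩ : ∃ b, b = s⁻¹ * w * s * w⁻¹ := ⟨_, rfl⟩
  rw [← hbe] at hb ha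
  obtain ⟨a, hae⟩ : ∃ a, a = s⁻¹ * b * s * b⁻¹ := ⟨_, rfl⟩
  rw [← hae] at ha
  have hb8 : b ∈ Uge chevG2 K 8 := Uge_anti 8 (8 + 1) (by norm_num) hb
  have e1 : (s * w) ^ 3 = s ^ 3 * (a * b * b * w * (b * w) * w) := by
    rw [hae, hbe, pow_succ, pow_succ, pow_one, pow_succ, pow_succ, pow_one]; group
  have e2 : a * b * b * w * (b * w) * w = a := by
    have c1 : w * b = b * w := hab w hw b hb8
    have hb3 : b * b * b = 1 := by
      have h := hcube b hb8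
      rw [pow_succ, pow_succ, pow_one] at h
      exact h
    have hw3 : w * w * w = 1 := by
      have h := hcube w hw
      rw [pow_succ, pow_succ, pow_one] at h
      exact h
    calc a * b * b * w * (b * w) * w = a * (b * b * (w * b) * w * w) := by group
      _ = a * (b * b * (b * w) * w * w) := by rw [c1]
      _ = a * ((b * b * b) * (w * w * w)) := by group
      _ = a := by rw [hb3, hw3, mul_one, mul_one]
  refine ⟨xG hD 11 (2 * (A ^ 3 * B ^ 2)) * a,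
    mul_mem (xG_mem_Uge hD 10 11 (by decide) (by decide) _) ha, ?_⟩
  rw [e1, e2, hsc, mul_assoc]

theorem g2_cube_ne (hD : Seven chevG2) (h3z : ((3 : ℤ) : K) = 0) (h3 : (3 : K) = 0)
    (A B : K) (hAB : A ^ 2 * B ≠ 0) (w : GL chevG2.Idx K) (hw : w ∈ Uge chevG2 K 8) :
    (xG hD 7 A * xG hD 6 B * w) ^ 3 ≠ 1 := by
  obtain ⟨r, hr, e⟩ := g2_cube_form hD h3z h3 A B w hw
  intro h1
  rw [e] at h1
  have k := kap_mul hD 9 (by decide) (by decide) 0 (by decide) (2 * (A ^ 2 * B)) r hr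
  rw [h1] at k
  have k0 : kap hD 9 0 (1 : GL chevG2.Idx K) = 0 := by
    have h := kap_mul hD 9 (by decide) (by decide) 0 (by decide) (0 : K) 1 (one_mem _)
    rw [xG_zero, mul_one, mul_zero] at h
    exact h
  rw [k0] at k
  have h2ne : (2 : K) ≠ 0 := by
    intro h2
    have h10 : (1 : K) = 0 := by linear_combination h3 - h2
    exact one_ne_zero h10
  have k9 : corK chevG2 K 9 0 ≠ 0 := by
    rw [corK_eq, g2_cors.2.2.2.1]
    exact_mod_cast h2ne
  exact (mul_ne_zero k9 (mul_ne_zero h2ne hAB)) k.symm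

end G2Cube

section G2Count
variable {K : Type*} [Field K] [Fintype K] {m : ℕ}

theorem g2_order3_count (hK : Fintype.card K = 3 ^ (2 * m + 1)) :
    Nat.card {u : ↥(chevG2.posUnipotent K ⊓ twistedG2 K (3 ^ m)) // orderOf u = 3} =
      (3 ^ (2 * m + 1)) ^ 2 - 1 := by
  classical
  have hD : Seven chevG2 := by simp
  haveI hch : CharP K 3 := charP_of_card Nat.prime_three hK
  haveI : Fact (Nat.Prime 3) := ⟨Nat.prime_three⟩
  obtain ⟨h3, h3z, hq⟩ := g2_setup hK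
  have hθ0 : 3 ^ m ≠ 0 := pow_ne_zero _ (by norm_num)
  have hstruct := (g2_U_struct hK).1
  have hmem : ∀ t u v : K, wG hD (reeWordU (3 ^ m) t u v) ∈
      chevG2.posUnipotent K ⊓ twistedG2 K (3 ^ m) :=
    fun t u v => (hstruct _).mpr ⟨t, u, v, wG_val hD _⟩
  have hPQ : ∀ u v : K, reeP hD 8 10 (3 ^ m) u * reeP hD 9 11 (3 ^ m) v ∈ Uge chevG2 K 8 :=
    fun u v => mul_mem (mul_mem (xG_mem_Uge hD 8 8 le_rfl (by decide) _)
        (xG_mem_Uge hD 8 10 (by decide) (by decide) _))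
      (mul_mem (xG_mem_Uge hD 8 9 (by decide) (by decide) _)
        (xG_mem_Uge hD 8 11 (by decide) (by decide) _))
  have hchar : ∀ t u v : K, (wG hD (reeWordU (3 ^ m) t u v)) ^ 3 = 1 ↔ t = 0 := by
    intro t u v
    rw [reeU_form hD (3 ^ m) h3z]
    constructor
    · intro h
      by_contra ht
      have hw : xG hD 8 (t * t ^ 3 ^ m) * xG hD 9 (t * (t ^ 3 ^ m) ^ 2) *
          (reeP hD 8 10 (3 ^ m) u * reeP hD 9 11 (3 ^ m) v) ∈ Uge chevG2 K 8 :=
        mul_mem (mul_mem (xG_mem_Uge hD 8 8 le_rfl (by decide) _)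
          (xG_mem_Uge hD 8 9 (by decide) (by decide) _)) (hPQ u v)
      have e : reeS hD (3 ^ m) t * (reeP hD 8 10 (3 ^ m) u * reeP hD 9 11 (3 ^ m) v) =
          xG hD 7 (t ^ 3 ^ m) * xG hD 6 t * (xG hD 8 (t * t ^ 3 ^ m) *
            xG hD 9 (t * (t ^ 3 ^ m) ^ 2) *
            (reeP hD 8 10 (3 ^ m) u * reeP hD 9 11 (3 ^ m) v)) := by
        unfold reeS
        rw [wG_cons, wG_cons, wG_cons, wG_cons, wG_nil, mul_one]
        dsimp only
        simp only [mul_assoc]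
      rw [e] at h
      exact g2_cube_ne hD h3z h3 _ _ (mul_ne_zero (pow_ne_zero _ (pow_ne_zero _ ht)) ht) _ hw h
    · intro ht
      rw [ht, reeS_zero hD (3 ^ m) hθ0, one_mul]
      exact g2_W_cube hD h3z h3 _ (hPQ u v)
  have e0 : wG hD (reeWordU (3 ^ m) (0 : K) 0 0) = 1 := by
    rw [reeU_form hD (3 ^ m) h3z, reeS_zero hD (3 ^ m) hθ0, reeP_zero hD (3 ^ m) 9 11 hθ0,
      reeP_zero hD (3 ^ m) 8 10 hθ0, one_mul, mul_one]
  have hord : ∀ p : {p : K × K // ¬ p = 0},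
      orderOf (⟨wG hD (reeWordU (3 ^ m) 0 p.1.1 p.1.2), hmem 0 _ _⟩ :
        ↥(chevG2.posUnipotent K ⊓ twistedG2 K (3 ^ m))) = 3 := by
    intro p
    apply orderOf_eq_prime
    · apply Subtype.ext
      rw [Subgroup.coe_pow]
      exact (hchar 0 _ _).mpr rfl
    · intro e
      have e' : wG hD (reeWordU (3 ^ m) 0 p.1.1 p.1.2) = 1 := congrArg Subtype.val e
      rw [← e0] at e'
      obtain ⟨-, h1, h2⟩ := g2_reeU_inj hD (3 ^ m) h3z _ _ _ _ _ _ e'
      exact p.2 (Prod.ext h1 h2)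
  let F : {p : K × K // ¬ p = 0} →
      {u : ↥(chevG2.posUnipotent K ⊓ twistedG2 K (3 ^ m)) // orderOf u = 3} :=
    fun p => ⟨⟨wG hD (reeWordU (3 ^ m) 0 p.1.1 p.1.2), hmem 0 _ _⟩, hord p⟩
  have hinj : Function.Injective F := by
    intro p p' e
    have e' : wG hD (reeWordU (3 ^ m) 0 p.1.1 p.1.2) =
        wG hD (reeWordU (3 ^ m) 0 p'.1.1 p'.1.2) := congrArg (fun x => x.1.1) e
    obtain ⟨-, h1, h2⟩ := g2_reeU_inj hD (3 ^ m) h3z _ _ _ _ _ _ e'
    exact Subtype.ext (Prod.ext h1 h2)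
  have hsurj : Function.Surjective F := by
    rintro ⟨⟨g, hg⟩, ho⟩
    obtain ⟨t, u, v, e⟩ := (hstruct g).mp hg
    have eg : g = wG hD (reeWordU (3 ^ m) t u v) := Units.ext (by rw [e, wG_val])
    have hg3 : g ^ 3 = 1 := by
      have h := pow_orderOf_eq_one
        (⟨g, hg⟩ : ↥(chevG2.posUnipotent K ⊓ twistedG2 K (3 ^ m)))
      rw [ho] at h
      exact congrArg Subtype.val h
    have ht : t = 0 := by rw [eg] at hg3; exact (hchar t u v).mp hg3
    have hne : ¬ ((u, v) : K × K) = 0 := by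
      intro e2
      have hu : u = 0 := congrArg Prod.fst e2
      have hv : v = 0 := congrArg Prod.snd e2
      have h1 : g = 1 := by rw [eg, ht, hu, hv, e0]
      have h2 : (⟨g, hg⟩ : ↥(chevG2.posUnipotent K ⊓ twistedG2 K (3 ^ m))) = 1 :=
        Subtype.ext h1
      rw [h2, orderOf_one] at ho
      exact absurd ho (by norm_num)
    refine ⟨⟨(u, v), hne⟩, ?_⟩
    apply Subtype.ext
    apply Subtype.ext
    show wG hD (reeWordU (3 ^ m) 0 u v) = g
    rw [eg, ht]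
  have hcnt : Nat.card {p : K × K // ¬ p = 0} = (3 ^ (2 * m + 1)) ^ 2 - 1 := by
    have e2 : Nat.card {p : K × K // p = 0} + Nat.card {p : K × K // ¬ p = 0} =
        Nat.card (K × K) := by
      rw [← Nat.card_sum]
      exact Nat.card_congr (Equiv.sumCompl _)
    have e3 : Nat.card {p : K × K // p = 0} = 1 := Nat.card_unique
    rw [e3, Nat.card_prod, Nat.card_eq_fintype_card (α := K), hK] at e2
    rw [sq]
    generalize Nat.card {p : K × K // ¬ p = 0} = N at e2 ⊢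
    generalize 3 ^ (2 * m + 1) * 3 ^ (2 * m + 1) = M at e2 ⊢
    omega
  rw [← hcnt]
  exact (Nat.card_congr (Equiv.ofBijective F ⟨hinj, hsurj⟩)).symm

end G2Count

end Cfsg.Agent.Helper11
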