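import Cfsg.Agent.Helper11.ChevLvl

set_option autoImplicit false

/-!
Table facts about the reflections in the fundamental roots: `-r` reverses the list of roots, the
reflections commute with `r ↦ -r` and are involutions, fundamental roots are positive, and every root
is carried to a fundamental root by a sequence of fundamental reflections (kernel-checkable condition
`wOK D`).
-/

namespace Cfsg.Agent.Helper11

open Cfsg.Lie

noncomputable def anyN (n : ℕ) (p : ℕ → Bool) : Bool :=
  @Nat.rec (fun _ => Bool) false (fun k ih => cond (p k) true ih) n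

theorem anyN_spec (n : ℕ) (p : ℕ → Bool) : anyN n p = true ↔ ∃ k < n, p k = true := by
  induction n with
  | zero => exact ⟨fun h => absurd h (by simp [anyN]), fun ⟨k, hk, _⟩ => absurd hk (Nat.not_lt_zero k)⟩
  | succ n ih =>
    have e : anyN (n + 1) p = cond (p n) true (anyN n p) := rfl
    rw [e]
    constructor
    · intro h
      cases hp : p n with
      | true => exact ⟨n, Nat.lt_succ_self n, hp⟩
      | false =>
        rw [hp] at h
        obtain ⟨k, hk, hk2⟩ := ih.mp h
        exact ⟨k, Nat.lt_succ_of_lt hk, hk2⟩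
    · rintro ⟨k, hk, hk2⟩
      cases hp : p n with
      | true => rfl
      | false =>
        rcases Nat.lt_succ_iff_lt_or_eq.mp hk with h1 | h1
        · exact ih.mpr ⟨k, h1, hk2⟩
        · rw [h1, hp] at hk2; exact absurd hk2 (by simp)

/-- Distance of a root from the fundamental roots, for the induction along reflections: positive roots
by index, then negative roots by reversed index. -/
noncomputable def nuF (D : ChevalleyDatum) (s : ℕ) : ℕ :=
  cond (Nat.blt s (Nat.div D.nroots 2)) (Nat.sub D.nroots s) (Nat.sub s (Nat.div D.nroots 2))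

noncomputable def wOK (D : ChevalleyDatum) : Bool :=
  Nat.beq (Nat.mod D.nroots 2) 0 &&
  (allN D.nroots (fun r => Nat.beq (Nat.add (D.neg r) r) (Nat.sub D.nroots 1)) &&
  (allN D.rank (fun i => Nat.ble (Nat.div D.nroots 2) (D.simple i) &&
      (Nat.blt (D.simple i) D.nroots &&
      allN D.nroots (fun s => Nat.blt (D.reflectRoot i s) D.nroots &&
        (Nat.beq (D.reflectRoot i (D.neg s)) (D.neg (D.reflectRoot i s)) &&
        Nat.beq (D.reflectRoot i (D.reflectRoot i s)) s)))) &&
   allN D.nroots (fun s => anyN D.rank (fun i => Nat.beq s (D.simple i)) ||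
      anyN D.rank (fun i => Nat.blt (nuF D (D.reflectRoot i s)) (nuF D s)))))

section WSound
variable {D : ChevalleyDatum}

theorem wOK_even (h : wOK D = true) : D.nroots % 2 = 0 := by
  unfold wOK at h
  simp only [Bool.and_eq_true] at h
  exact (beq_iff _ _).mp h.1

theorem wOK_neg (h : wOK D = true) (r : ℕ) (hr : r < D.nroots) : D.neg r = D.nroots - 1 - r := by
  unfold wOK at h
  simp only [Bool.and_eq_true] at h
  have h1 : D.neg r + r = D.nroots - 1 := (beq_iff _ _).mp ((allN_spec _ _).mp h.2.1 r hr)
  omega

theorem wOK_neg_lt (h : wOK D = true) (r : ℕ) (hr : r < D.nroots) : D.neg r < D.nroots := by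
  rw [wOK_neg h r hr]; omega

theorem wOK_neg_ne (h : wOK D = true) (r : ℕ) (hr : r < D.nroots) : D.neg r ≠ r := by
  have := wOK_even h
  rw [wOK_neg h r hr]; omega

theorem wOK_neg_neg (h : wOK D = true) (r : ℕ) (hr : r < D.nroots) : D.neg (D.neg r) = r := by
  rw [wOK_neg h _ (wOK_neg_lt h r hr), wOK_neg h r hr]; omega

theorem wOK_simple (h : wOK D = true) (i : ℕ) (hi : i < D.rank) :
    D.nroots / 2 ≤ D.simple i ∧ D.simple i < D.nroots := by
  unfold wOK at h
  simp only [Bool.and_eq_true] at h
  have h1 := (allN_spec _ _).mp h.2.2.1 i hi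
  simp only [Bool.and_eq_true] at h1
  exact ⟨Nat.le_of_ble_eq_true h1.1, (blt_iff _ _).mp h1.2.1⟩

theorem wOK_reflect (h : wOK D = true) (i : ℕ) (hi : i < D.rank) (s : ℕ) (hs : s < D.nroots) :
    D.reflectRoot i s < D.nroots ∧ D.reflectRoot i (D.neg s) = D.neg (D.reflectRoot i s) ∧
      D.reflectRoot i (D.reflectRoot i s) = s := by
  unfold wOK at h
  simp only [Bool.and_eq_true] at h
  have h1 := (allN_spec _ _).mp h.2.2.1 i hi
  simp only [Bool.and_eq_true] at h1
  have h2 := (allN_spec _ _).mp h1.2.2 s hs
  simp only [Bool.and_eq_true] at h2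
  exact ⟨(blt_iff _ _).mp h2.1, (beq_iff _ _).mp h2.2.1, (beq_iff _ _).mp h2.2.2⟩

/-- Induction along fundamental reflections. -/
theorem wOK_reach (h : wOK D = true) (P : ℕ → Prop) (h0 : ∀ i < D.rank, P (D.simple i))
    (hstep : ∀ i < D.rank, ∀ s < D.nroots, P (D.reflectRoot i s) → P s) :
    ∀ s < D.nroots, P s := by
  have key : ∀ n s, nuF D s = n → s < D.nroots → P s := by
    intro n
    induction n using Nat.strong_induction_on with
    | _ n ih =>
      intro s hn hs
      have h' := h
      unfold wOK at h'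
      simp only [Bool.and_eq_true] at h'
      have h1 := (allN_spec _ _).mp h'.2.2.2 s hs
      rw [Bool.or_eq_true] at h1
      rcases h1 with h1 | h1
      · obtain ⟨i, hi, hi2⟩ := (anyN_spec _ _).mp h1
        rw [(beq_iff _ _).mp hi2]
        exact h0 i hi
      · obtain ⟨i, hi, hi2⟩ := (anyN_spec _ _).mp h1
        have hlt : nuF D (D.reflectRoot i s) < nuF D s := (blt_iff _ _).mp hi2
        exact hstep i hi s hs (ih _ (hn ▸ hlt) _ rfl (wOK_reflect h i hi s hs).1)
  intro s hs
  exact key _ s rfl hs

end WSound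

end Cfsg.Agent.Helper11
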