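import Cfsg.Agent.Helper11.ChevTwHD4
import Cfsg.Agent.Helper11.ChevW

set_option autoImplicit false

/-!
Table facts on the Weyl group of `D₄` and the triality `ρ` of the roots: the `12` elements
commuting with `ρ` are the alternating words in `w_A = s₂` and `w_B = s₁s₃s₄`.
-/

namespace Cfsg.Agent.Helper11

open Cfsg.Lie

def d4rho : List ℕ :=
  [0, 1, 6, 2, 7, 10, 3, 8, 4, 9, 11, 5, 18, 12, 14, 19, 15, 20, 13, 16, 21, 17, 22, 23]

def d4AB : List ℕ := [1, 0, 2, 3]

/-- The word `(w_A w_B)^j`. -/
noncomputable def d4pw (j : ℕ) : List ℕ :=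
  @Nat.rec (fun _ => List ℕ) [] (fun _ ih => d4AB ++ ih) j

/-- The word `w_A (w_A w_B)^j`. -/
noncomputable def d4aw (j : ℕ) : List ℕ := [1] ++ d4pw j

theorem d4pw_succ (j : ℕ) : d4pw (j + 1) = d4AB ++ d4pw j := rfl

/-- The candidate images of the fundamental roots. -/
noncomputable def d4img (r0 r1 i : ℕ) : ℕ :=
  [r0, r1, d4rho.getD r0 0, d4rho.getD (d4rho.getD r0 0) 0].getD i 0

/-- The orbit of the pair `(p₃, p₄)` under the Weyl group, as a bit mask. -/
noncomputable def d4T : ℕ := 3865009729023247623002461010921687100119221932566443427931982942416269345026301903016399845489773519438438079767658077825335363445648431781143425733567234924053460947304480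

noncomputable def d4Tb (r s : ℕ) : Bool :=
  Nat.beq (Nat.mod (Nat.div d4T (Nat.pow 2 (Nat.add (Nat.mul 24 r) s))) 2) 1

noncomputable def d4cand (r0 r1 : ℕ) : Bool :=
  d4Tb (d4img r0 r1 2) (d4img r0 r1 3) &&
  allN chevD4.rank (fun i => allN chevD4.rank (fun j =>
    decide (chevD4.pairing (d4img r0 r1 i) (d4img r0 r1 j) =
      chevD4.pairing (chevD4.simple i) (chevD4.simple j))))

set_option maxRecDepth 100000 in
set_option maxHeartbeats 0 in
theorem d4_w_id1 : allN chevD4.nroots (fun s =>
    Nat.beq (wordApply chevD4 ([1] ++ [1]) s) s) = true := by decide +kernel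

set_option maxRecDepth 100000 in
set_option maxHeartbeats 0 in
theorem d4_w_id2 : allN chevD4.nroots (fun s =>
    Nat.beq (wordApply chevD4 (d4pw 6) s) s) = true := by decide +kernel

set_option maxRecDepth 100000 in
set_option maxHeartbeats 0 in
theorem d4_w_id3 : allN chevD4.nroots (fun s =>
    Nat.beq (wordApply chevD4 (d4aw 1 ++ d4aw 1) s) s) = true := by decide +kernel

set_option maxRecDepth 100000 in
set_option maxHeartbeats 0 in
theorem d4_w_ne1 : allN 6 (fun j => cond (Nat.beq j 0) true
    (anyN chevD4.nroots (fun s => cond (Nat.beq (wordApply chevD4 (d4pw j) s) s) false true))) =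
      true := by decide +kernel

set_option maxRecDepth 100000 in
set_option maxHeartbeats 0 in
theorem d4_w_ne2 : allN 6 (fun j =>
    anyN chevD4.nroots (fun s => cond (Nat.beq (wordApply chevD4 (d4aw j) s) s) false true)) =
      true := by decide +kernel

set_option maxRecDepth 100000 in
set_option maxHeartbeats 0 in
theorem d4_class : allN chevD4.nroots (fun r0 => allN chevD4.nroots (fun r1 =>
    cond (d4cand r0 r1)
      (anyN 6 (fun j =>
        allN chevD4.rank (fun i =>
          Nat.beq (wordApply chevD4 (d4pw j) (chevD4.simple i)) (d4img r0 r1 i)) ||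
        allN chevD4.rank (fun i =>
          Nat.beq (wordApply chevD4 (d4aw j) (chevD4.simple i)) (d4img r0 r1 i))))
      true)) = true := by decide +kernel

set_option maxRecDepth 100000 in
set_option maxHeartbeats 0 in
theorem d4_pair_inv : allN chevD4.rank (fun i => allN chevD4.nroots (fun r =>
    allN chevD4.nroots (fun s =>
      decide (chevD4.pairing (wAt chevD4 i r) (wAt chevD4 i s) = chevD4.pairing r s)))) = true := by
  decide +kernel

set_option maxRecDepth 100000 in
set_option maxHeartbeats 0 in
theorem d4_pair_det : allN chevD4.nroots (fun r => allN chevD4.nroots (fun s =>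
    cond (Nat.beq r s) true
      (anyN chevD4.rank (fun i =>
        cond (decide (chevD4.pairing (chevD4.simple i) r = chevD4.pairing (chevD4.simple i) s))
          false true)))) = true := by decide +kernel

set_option maxRecDepth 100000 in
set_option maxHeartbeats 0 in
theorem d4_T_inv : allN chevD4.rank (fun i => allN chevD4.nroots (fun r =>
    allN chevD4.nroots (fun s =>
      cond (d4Tb r s) (d4Tb (wAt chevD4 i r) (wAt chevD4 i s)) true))) = true := by
  decide +kernel

set_option maxRecDepth 100000 in
set_option maxHeartbeats 0 in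
theorem d4_T_base : d4Tb 13 12 = true := by decide +kernel

set_option maxRecDepth 100000 in
set_option maxHeartbeats 0 in
theorem d4_rho_tab : ∀ s, s < chevD4.nroots →
    twPerm_D4.getD (chevD4.rank + s) 0 = chevD4.rank + d4rho.getD s 0 := by decide +kernel

end Cfsg.Agent.Helper11
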