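import Cfsg.Agent.Helper11.ChevTwistCoreF4
import Cfsg.Agent.Helper11.ChevTwBG2f

set_option autoImplicit false

/-!
The twisting operator of `F₄` in characteristic `2` (a partial monomial matrix `L/I → I`, `I` the
ideal of the short roots), and the inclusion of `²F₄` in its fixed points.
-/

namespace Cfsg.Agent.Helper11

open Cfsg.Lie

noncomputable def f4Qbig : ℕ := 9992053226561224068555253711812663708853832943420202910773209029183724886211018259818363583459451603301640548912845812642238905412470034939364116014476146605862725042173992890351257787741104533168485799036587402631050081703191629369265236231555916543684697771201502692141626891741495795354173903652921387312351372292421152477007036018512316141529415000311171101300394622457660530827731973926693355861758560046986167887574483387230575962369938827521681203518132276857784456794133714916565454639250537654324734342311552977132476842556296844282854967578574229840986234355574652061895359093228114543487605285094963229267052877404942144729592054128246276293349707696147710398925920423766121387809535515053944613186879648560379489916133746732733251775958459308685245559141202314546155624229628235306688839680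

def f4Qperm : List ℕ := [0, 0, 1, 0, 7, 11, 12, 0, 13, 15, 22, 0, 0, 0, 0, 0, 0, 0, 0, 14, 16, 23, 0, 0, 0, 17, 24, 18, 37, 31, 38, 0, 0, 0, 32, 39, 41, 0, 0, 0, 0, 0, 0, 0, 0, 33, 40, 42, 0, 43, 44, 48]

def f4Qsgn : List ℤ := [0, 0, 1, 1, 1, 1, 1, 0, 1, 1, 1, 0, 0, 0, 0, 0, 0, 0, 0, 1, 1, 1, 0, 0, 0, 1, 1, 1, 1, 1, 1, 0, 0, 0, 1, 1, 1, 0, 0, 0, 0, 0, 0, 0, 0, 1, 1, 1, 0, 1, 1, 1]

def f4rho : List ℕ := [3, 7, 8, 0, 9, 11, 18, 1, 2, 4, 15, 5, 16, 21, 23, 10, 12, 19, 6, 17, 22, 13, 20, 14, 33, 27, 34, 25, 30, 41, 28, 35, 37, 24, 26, 31, 42, 32, 43, 45, 46, 29, 36, 38, 47, 39, 40, 44]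

def f4lam : List ℕ := [1, 1, 1, 2, 1, 1, 1, 2, 2, 2, 2, 2, 2, 2, 2, 1, 1, 1, 2, 2, 2, 1, 1, 1, 1, 1, 1, 2, 2, 2, 1, 1, 1, 2, 2, 2, 2, 2, 2, 2, 2, 1, 1, 1, 2, 1, 1, 1]

def f4F1 : List (ℕ × Poly) := [(25,[(1,0,1)]), (27,[(1,1,0)]), (30,[(1,2,1)])]
def f4F2 : List (ℕ × Poly) := [(27,[(1,1,0)]), (25,[(1,0,1)]), (28,[(1,1,1)])]
def f4F3 : List (ℕ × Poly) := [(22,[(1,0,1)]), (20,[(1,1,0)]), (17,[(1,2,1)])]
def f4F4 : List (ℕ × Poly) := [(20,[(1,1,0)]), (22,[(1,0,1)]), (19,[(1,1,1)])]

set_option maxRecDepth 100000 in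
set_option maxHeartbeats 0 in
theorem f4QMono : monoOK chevF4 f4Qbig f4Qperm f4Qsgn = true := by decide +kernel

set_option maxRecDepth 100000 in
set_option maxHeartbeats 0 in
theorem f4QOK : allN chevF4.nroots (fun s =>
    permOKP 2 chevF4 f4Qbig s (f4rho.getD s 0) [(1, f4lam.getD s 1, 0)]) = true := by
  decide +kernel

set_option maxRecDepth 100000 in
set_option maxHeartbeats 0 in
theorem f4_fix_ok : wordEqPN 2 chevF4 f4F1 f4F2 = true ∧
    wordEqPN 2 chevF4 f4F3 f4F4 = true := by decide +kernel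

set_option maxRecDepth 100000 in
set_option maxHeartbeats 0 in
theorem f4_dfacts : f4Qperm.getD (chevF4.rank + 24) 0 = chevF4.rank + 33 ∧
    isPM1 (f4Qsgn.getD (chevF4.rank + 24) 0) = true ∧
    f4Qperm.getD (chevF4.rank + 25) 0 = chevF4.rank + 27 ∧
    isPM1 (f4Qsgn.getD (chevF4.rank + 25) 0) = true ∧ chevF4.rank = 4 := by decide +kernel

set_option maxRecDepth 100000 in
set_option maxHeartbeats 0 in
theorem f4_dhu1 : ∀ v, v < chevF4.rank + chevF4.nroots → f4Qperm.getD v 0 = chevF4.rank + 33 →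
    v ≠ chevF4.rank + 24 → f4Qsgn.getD v 0 = 0 := by decide +kernel

set_option maxRecDepth 100000 in
set_option maxHeartbeats 0 in
theorem f4_dhu2 : ∀ v, v < chevF4.rank + chevF4.nroots → f4Qperm.getD v 0 = chevF4.rank + 27 →
    v ≠ chevF4.rank + 25 → f4Qsgn.getD v 0 = 0 := by decide +kernel

set_option maxRecDepth 100000 in
set_option maxHeartbeats 0 in
theorem f4_pairs32 : chevF4.pairing 33 32 = -2 ∧ chevF4.pairing 24 32 = 0 ∧
    wordApply chevF4 [1, 2, 1, 2] 32 = 24 ∧ wordApply chevF4 [1, 2, 1, 2] 22 = 25 := by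
  decide +kernel

end Cfsg.Agent.Helper11
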