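import Cfsg.Agent.Helper11.ChevTwU3
import Cfsg.Agent.Helper11.ChevTorus

set_option autoImplicit false

/-!
Diagonal entries of elements of `H`: their relation under the twisted fixed-point condition, and
the fact that an element of `H` is determined by its entries at the fundamental roots.
-/

namespace Cfsg.Agent.Helper11

open Cfsg.Lie

section General
variable {F : Type*} [Field F] {D : ChevalleyDatum}

/-- The diagonal entry of `g` at the root `s`. -/
noncomputable def dEnt (g : GL D.Idx F) (s : ℕ) : F :=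
  if h : s < D.nroots then (g : Matrix D.Idx D.Idx F) (Sum.inr ⟨s, h⟩) (Sum.inr ⟨s, h⟩) else 1

theorem smith_rc (hD : Seven D) (P Q P' Q' : List (List ℤ)) (d : List ℕ) (RC : List (List ℤ))
    (hS : smithOK D P Q P' Q' d RC = true) (i : Fin D.rank) (s : Fin D.nroots) :
    D.cartan i s = ∑ j : Fin D.rank, D.cartan i (D.simple j) * mZ RC j s := by
  have hT := tabOK_seven D hD
  unfold smithOK at hS
  rw [Bool.and_eq_true, Bool.and_eq_true] at hS
  obtain ⟨hlen, hsq, hrc⟩ := hS
  have g1 := isZ_eq _ ((allN_spec _ _).mp ((allN_spec _ _).mp hrc i i.2) s s.2)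
  have e := sumZ_eq D.rank (fun j => Int.mul (cartAt D i (D.simple j)) (mZ RC j s))
  rw [e, tabOK_cart hT i s i.2 s.2] at g1
  refine (sub_eq_zero.mp g1).trans ?_
  apply Finset.sum_congr rfl
  intro j _
  show cartAt D i (D.simple j) * mZ RC j s = _
  rw [tabOK_cart hT i (D.simple j) i.2 (simple_lt7 hD j j.2)]
  rfl

theorem H_eq_of_dEnt (hD : Seven D) (P Q P' Q' : List (List ℤ)) (d : List ℕ)
    (RC : List (List ℤ)) (hS : smithOK D P Q P' Q' d RC = true) (h h' : GL D.Idx F)
    (hh : h ∈ D.diagonalSubgroup F) (hh' : h' ∈ D.diagonalSubgroup F)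
    (e : ∀ j, j < D.rank → dEnt h (D.simple j) = dEnt h' (D.simple j)) : h = h' := by
  have h1 : h ∈ Set.range (torEl (F := F) hD) := by rw [← H_eq_range hD]; exact hh
  have h2 : h' ∈ Set.range (torEl (F := F) hD) := by rw [← H_eq_range hD]; exact hh'
  obtain ⟨c, rfl⟩ := h1
  obtain ⟨c', rfl⟩ := h2
  rw [torEl_eq_iff]
  have e0 : (fun (i : Fin D.rank) (s : Fin D.nroots) => D.cartan i s) =
      fun (i : Fin D.rank) (s : Fin D.nroots) =>
        ∑ j : Fin D.rank, D.cartan i (D.simple j) * mZ RC j s := by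
    funext i s; exact smith_rc hD P Q P' Q' d RC hS i s
  have key : tpw (fun (i j : Fin D.rank) => D.cartan i (D.simple j)) c =
      tpw (fun (i j : Fin D.rank) => D.cartan i (D.simple j)) c' := by
    funext j
    apply Units.ext
    have ej := e j j.2
    unfold dEnt at ej
    rw [dif_pos (simple_lt7 hD j j.2), dif_pos (simple_lt7 hD j j.2), torEl_val, torEl_val,
      Matrix.diagonal_apply_eq, Matrix.diagonal_apply_eq, hsDiag_cext, hsDiag_cext] at ej
    exact ej
  rw [e0, tpw_comp, tpw_comp, key]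

theorem dEnt_ne_zero (hD : Seven D) (h : GL D.Idx F) (hh : h ∈ D.diagonalSubgroup F) (s : ℕ)
    (hs : s < D.nroots) : dEnt h s ≠ 0 := by
  have h1 : h ∈ Set.range (torEl (F := F) hD) := by rw [← H_eq_range hD]; exact hh
  obtain ⟨c, rfl⟩ := h1
  unfold dEnt
  rw [dif_pos hs, torEl_val, Matrix.diagonal_apply_eq, hsDiag_cext]
  exact Units.ne_zero _

theorem dEnt_mul (hD : Seven D) (g g' : GL D.Idx F) (hg : g ∈ D.diagonalSubgroup F) (s : ℕ) :
    dEnt (g * g') s = dEnt g s * dEnt g' s := by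
  unfold dEnt
  by_cases hs : s < D.nroots
  · rw [dif_pos hs, dif_pos hs, dif_pos hs, Units.val_mul, Matrix.mul_apply,
      Finset.sum_eq_single (Sum.inr ⟨s, hs⟩)]
    · intro b _ hb
      have hz : (g : Matrix D.Idx D.Idx F) (Sum.inr ⟨s, hs⟩) b = 0 :=
        H_le_diag hD hg _ _ (fun e => hb e.symm)
      rw [hz, zero_mul]
    · intro h'; exact absurd (Finset.mem_univ _) h'
  · rw [dif_neg hs, dif_neg hs, dif_neg hs, mul_one]

theorem dEnt_hG (hD : Seven D) (r : ℕ) (hr : r < D.nroots) (c : F) (hc : c ≠ 0) (s : ℕ)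
    (hs : s < D.nroots) : dEnt (hG hD r c) s = c ^ D.pairing r s := by
  unfold dEnt
  rw [dif_pos hs, hG_val, hMat_diag7 hD r hr c hc, Matrix.diagonal_apply_eq]
  rfl

theorem dEnt_rel {K : Type*} [Field K] (hD : Seven D) (big : ℕ) (perm pinv : List ℕ)
    (sgn : List ℤ) (hmono : monoOK D big perm sgn = true) (hinj : permInjOK D perm pinv = true)
    (φ : K →+* K) (g : GL D.Idx K) (hg : g ∈ fixSub (opMat D K big) φ)
    (s s' : ℕ) (hs : s < D.nroots) (hs' : s' < D.nroots)
    (e : perm.getD (D.rank + s) 0 = D.rank + s')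
    (hsg : isPM1 (sgn.getD (D.rank + s) 0) = true) :
    dEnt g s' = φ (dEnt g s) := by
  unfold dEnt
  rw [dif_pos hs, dif_pos hs']
  have h := mono_rel (opMat D K big) (code D) (fun a b h => code_inj D a b h)
    (fun v => perm.getD v 0) (permInj_sound perm pinv hinj)
    (fun v => ((sgn.getD v 0 : ℤ) : K)) (mono_sound big perm sgn hmono) φ _ hg
    (Sum.inr ⟨s, hs⟩) (Sum.inr ⟨s', hs'⟩) (Sum.inr ⟨s, hs⟩) (Sum.inr ⟨s', hs'⟩) e.symm e.symm
  have hne := pm1_ne_zero (K := K) _ hsg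
  have h' : ((sgn.getD (D.rank + s) 0 : ℤ) : K) *
      (g : Matrix D.Idx D.Idx K) (Sum.inr ⟨s', hs'⟩) (Sum.inr ⟨s', hs'⟩) =
      ((sgn.getD (D.rank + s) 0 : ℤ) : K) *
        φ ((g : Matrix D.Idx D.Idx K) (Sum.inr ⟨s, hs⟩) (Sum.inr ⟨s, hs⟩)) := by
    rw [mul_comm]; exact h
  exact mul_left_cancel₀ hne h'

end General

end Cfsg.Agent.Helper11
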