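import Cfsg.Agent.Helper11.ChevTwUG2
import Cfsg.Agent.Helper11.ChevTwH
import Cfsg.Agent.Helper11.ChevTorusAll

set_option autoImplicit false

/-!
The torus of the Ree group `²G₂(q)`: `|H ∩ ²G₂(q)| = q - 1`.  The elements of `H` fixed by the
twisted operator are determined by their entry at the long fundamental root, and all values are
attained by products of `h_{a+b}(l^θ) h_{3a+b}(l)` and the involution `h_a(-1) h_b(-1)`.
-/

namespace Cfsg.Agent.Helper11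

open Cfsg.Lie

theorem dEnt_rel' {K : Type*} [Field K] {D : ChevalleyDatum} (hD : Seven D) (big : ℕ)
    (perm : List ℕ) (sgn : List ℤ) (hmono : monoOK D big perm sgn = true)
    (φ : K →+* K) (g : GL D.Idx K) (hg : g ∈ fixSub (opMat D K big) φ)
    (s s' : ℕ) (hs : s < D.nroots) (hs' : s' < D.nroots)
    (e : perm.getD (D.rank + s) 0 = D.rank + s')
    (hsg : isPM1 (sgn.getD (D.rank + s) 0) = true)
    (hu : ∀ v, v < D.rank + D.nroots → perm.getD v 0 = D.rank + s' → v ≠ D.rank + s →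
      sgn.getD v 0 = 0) :
    dEnt g s' = φ (dEnt g s) := by
  unfold dEnt
  rw [dif_pos hs, dif_pos hs']
  have h := mono_rel' (opMat D K big) (code D) (fun a b h => code_inj D a b h)
    (fun v => perm.getD v 0)
    (fun v => ((sgn.getD v 0 : ℤ) : K)) (mono_sound big perm sgn hmono) φ _ hg
    (Sum.inr ⟨s, hs⟩) (Sum.inr ⟨s', hs'⟩) (Sum.inr ⟨s, hs⟩) (Sum.inr ⟨s', hs'⟩) e.symm e.symm
    (fun x hx hne => by
      have h0 := hu (code D x) (code_lt D x) hx.symm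
        (fun e => hne (code_inj D x (Sum.inr ⟨s, hs⟩) e))
      show ((sgn.getD (code D x) 0 : ℤ) : K) = 0
      rw [h0, Int.cast_zero])
  have hne := pm1_ne_zero (K := K) _ hsg
  have h' : ((sgn.getD (D.rank + s) 0 : ℤ) : K) *
      (g : Matrix D.Idx D.Idx K) (Sum.inr ⟨s', hs'⟩) (Sum.inr ⟨s', hs'⟩) =
      ((sgn.getD (D.rank + s) 0 : ℤ) : K) *
        φ ((g : Matrix D.Idx D.Idx K) (Sum.inr ⟨s, hs⟩) (Sum.inr ⟨s, hs⟩)) := by
    rw [mul_comm]; exact h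
  exact mul_left_cancel₀ hne h'

def g2W0 : List (ℕ × Poly) :=
  [(7,[(1,0,0)]), (6,[(1,0,0)]), (8,[(1,0,0)]), (9,[(1,0,0)]), (3,[(1,0,0)]), (1,[(1,0,0)]),
   (2,[(1,0,0)]), (0,[(1,0,0)]), (9,[(1,0,0)]), (11,[(1,0,0)]), (3,[(1,0,0)]), (1,[(1,0,0)])]

def g2H0 : List (ℕ × Poly) :=
  [(7,[(-1,0,0)]), (4,[(1,0,0)]), (7,[(-1,0,0)]), (7,[(-1,0,0)]), (4,[(1,0,0)]), (7,[(-1,0,0)]),
   (6,[(-1,0,0)]), (5,[(1,0,0)]), (6,[(-1,0,0)]), (6,[(-1,0,0)]), (5,[(1,0,0)]), (6,[(-1,0,0)])]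

set_option maxRecDepth 100000 in
set_option maxHeartbeats 0 in
theorem g2_h0_ok : wordEqPN 3 chevG2 g2W0 g2H0 = true := by decide +kernel

set_option maxRecDepth 100000 in
set_option maxHeartbeats 0 in
theorem g2_pairs_h0 : chevG2.pairing 7 6 = -3 ∧ chevG2.pairing 6 6 = 2 ∧ chevG2.neg 7 = 4 ∧
    chevG2.neg 6 = 5 := by decide +kernel

set_option maxRecDepth 100000 in
set_option maxHeartbeats 0 in
theorem g2_dfacts : g2Qperm.getD (chevG2.rank + 6) 0 = chevG2.rank + 7 ∧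
    isPM1 (g2Qsgn.getD (chevG2.rank + 6) 0) = true ∧ chevG2.simple 0 = 7 ∧
    chevG2.simple 1 = 6 ∧ chevG2.rank = 2 := by decide +kernel

set_option maxRecDepth 100000 in
set_option maxHeartbeats 0 in
theorem g2_dhu : ∀ v, v < chevG2.rank + chevG2.nroots → g2Qperm.getD v 0 = chevG2.rank + 7 →
    v ≠ chevG2.rank + 6 → g2Qsgn.getD v 0 = 0 := by decide +kernel

theorem three_pow_odd_half (m : ℕ) : Odd (3 ^ (2 * m + 1) / 2) := by
  have e : 3 ^ (2 * m + 1) = 9 ^ m * 3 := by rw [pow_succ, pow_mul]; norm_num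
  have h9 : 9 ^ m % 4 = 1 := by rw [Nat.pow_mod]; norm_num
  rw [e, Nat.odd_iff]
  generalize 9 ^ m = x at h9 ⊢
  omega

theorem g2_sq_or_neg {K : Type*} [Field K] [Fintype K] {m : ℕ}
    (hK : Fintype.card K = 3 ^ (2 * m + 1)) (hrc : ringChar K ≠ 2) (y : K) (hy : y ≠ 0) :
    ∃ z : K, z ≠ 0 ∧ (y = z ^ 2 ∨ y = -z ^ 2) := by
  rcases FiniteField.pow_dichotomy hrc hy with h | h
  · obtain ⟨z, hz⟩ := (FiniteField.isSquare_iff hrc hy).mpr h
    refine ⟨z, ?_, Or.inl (by rw [hz]; ring)⟩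
    rintro rfl
    exact hy (hz.trans (mul_zero 0))
  · have hy' : -y ≠ 0 := neg_ne_zero.mpr hy
    have hodd : Odd (Fintype.card K / 2) := by rw [hK]; exact three_pow_odd_half m
    have h' : (-y) ^ (Fintype.card K / 2) = 1 := by
      rw [Odd.neg_pow hodd, h, neg_neg]
    obtain ⟨z, hz⟩ := (FiniteField.isSquare_iff hrc hy').mpr h'
    refine ⟨z, ?_, Or.inr ?_⟩
    · rintro rfl
      exact hy' (hz.trans (mul_zero 0))
    · rw [sq, ← hz, neg_neg]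

theorem g2_tor_val {K : Type*} [Field K] (θ : ℕ) (hq : ∀ t : K, ((t ^ θ) ^ θ) ^ 3 = t) (z : K)
    (hz : z ≠ 0) : ((z ^ (3 * θ + 1)) ^ θ) ^ 3 * (z ^ (3 * θ + 1))⁻¹ = z ^ 2 := by
  have e1 : ((z ^ (3 * θ + 1)) ^ θ) ^ 3 = (((z ^ θ) ^ θ) ^ 3) ^ 3 * (z ^ θ) ^ 3 := by ring
  have e2 : z ^ (3 * θ + 1) = (z ^ θ) ^ 3 * z := by ring
  rw [e1, hq, e2, mul_inv_rev]
  have hz3 : (z ^ θ) ^ 3 ≠ 0 := pow_ne_zero _ (pow_ne_zero _ hz)
  calc z ^ 3 * (z ^ θ) ^ 3 * (z⁻¹ * ((z ^ θ) ^ 3)⁻¹)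
      = z ^ 2 * (z * z⁻¹) * ((z ^ θ) ^ 3 * ((z ^ θ) ^ 3)⁻¹) := by ring
    _ = z ^ 2 := by rw [mul_inv_cancel₀ hz, mul_inv_cancel₀ hz3, mul_one, mul_one]

section G2H
variable {K : Type*} [Field K]

theorem g2_ree_mems (hD : Seven chevG2) (θ : ℕ) (h3z : ((3 : ℤ) : K) = 0) (hθ : IsFrob K θ) :
    (∀ t : K, reeS hD θ t ∈ twistedG2 K θ) ∧ (∀ u : K, reeP hD 8 10 θ u ∈ twistedG2 K θ) ∧
    (∀ v : K, reeP hD 9 11 θ v ∈ twistedG2 K θ) ∧ (∀ t : K, reeSn hD θ t ∈ twistedG2 K θ) ∧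
    (∀ u : K, reeP hD 3 1 θ u ∈ twistedG2 K θ) ∧ (∀ v : K, reeP hD 2 0 θ v ∈ twistedG2 K θ) := by
  have hθ0 : θ ≠ 0 := hθ.1
  have formU := fun t u v : K => reeU_form hD θ h3z t u v
  have formV := fun t u v : K => reeV_form hD θ h3z hθ t u v
  have genU : ∀ t u v : K, wG hD (reeWordU θ t u v) ∈ twistedG2 K θ :=
    fun t u v => mem_gen hD _ _ ⟨t, u, v, Or.inl rfl⟩
  have genV : ∀ t u v : K, wG hD (reeWordV θ t u v) ∈ twistedG2 K θ :=
    fun t u v => mem_gen hD _ _ ⟨t, u, v, Or.inr rfl⟩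
  have S0 : reeS hD θ (0 : K) = 1 := reeS_zero hD θ hθ0
  have Sn0 : reeSn hD θ (0 : K) = 1 := reeSn_zero hD θ hθ0
  have P0 : ∀ r r', reeP hD r r' θ (0 : K) = 1 := fun r r' => reeP_zero hD θ r r' hθ0
  refine ⟨?_, ?_, ?_, ?_, ?_, ?_⟩
  · intro t
    have h := genU t 0 0
    rw [formU, P0, P0, mul_one, mul_one] at h
    exact h
  · intro u
    have h := genU 0 u 0
    rw [formU, S0, P0, one_mul, mul_one] at h
    exact h
  · intro v
    have h := genU 0 0 v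
    rw [formU, S0, P0, one_mul, one_mul] at h
    exact h
  · intro t
    have h := genV t 0 0
    rw [formV, neg_zero, P0, P0, mul_one, mul_one] at h
    exact h
  · intro u
    have h := genV 0 (-u) 0
    rw [formV, neg_neg, neg_zero, Sn0, P0, one_mul, mul_one] at h
    exact h
  · intro v
    have h := genV 0 0 (-v)
    rw [formV, neg_neg, neg_zero, Sn0, P0, one_mul, one_mul] at h
    exact h

theorem g2_tor_mem (hD : Seven chevG2) (θ : ℕ) (h3z : ((3 : ℤ) : K) = 0) (hθ : IsFrob K θ)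
    (l : K) : hG hD 8 (l ^ θ) * hG hD 10 l ∈ twistedG2 K θ := by
  obtain ⟨memS, memW, memZ, memSn, memWn, memZn⟩ := g2_ree_mems hD θ h3z hθ
  obtain ⟨n10, n8, -, -⟩ := g2_facts
  have hX : ∀ t : K, clsX hD [(8, θ), (10, 1)] t = reeP hD 8 10 θ t := by
    intro t
    simp only [clsX, reeP, List.map_cons, List.map_nil, List.prod_cons, List.prod_nil, pow_one,
      mul_one]
  have hXn : ∀ t : K, clsX hD (negCls chevG2 [(8, θ), (10, 1)]) t = reeP hD 3 1 θ t := by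
    intro t
    simp only [clsX, negCls, reeP, List.map_cons, List.map_nil, List.prod_cons, List.prod_nil,
      pow_one, mul_one, n8, n10]
  have hc : ([(8, θ), (10, 1)] : List (ℕ × ℕ)).Pairwise
      (fun p p' => SOrth hD K p.1 p'.1) :=
    List.pairwise_pair.mpr (sorth_of_OK hD 8 10 g2_orth)
  have hf : ∀ p ∈ ([(8, θ), (10, 1)] : List (ℕ × ℕ)), IsFrob K p.2 :=
    forall_mem2 hθ (isFrob_one K)
  have h1 : ∀ t : K, clsX hD [(8, θ), (10, 1)] t ∈ twistedG2 K θ := fun t => by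
    rw [hX]; exact memW t
  have h1n : ∀ t : K, clsX hD (negCls chevG2 [(8, θ), (10, 1)]) t ∈ twistedG2 K θ := fun t => by
    rw [hXn]; exact memWn t
  have h := (clsH_mem hD (twistedG2 K θ) [(8, θ), (10, 1)] hc hf h1 h1n l).2
  have e : clsH hD [(8, θ), (10, 1)] l = hG hD 8 (l ^ θ) * hG hD 10 l := by
    simp only [clsH, List.map_cons, List.map_nil, List.prod_cons, List.prod_nil, pow_one, mul_one]
  rw [e] at h
  exact h

theorem g2_tor_dEnt (hD : Seven chevG2) (θ : ℕ) (l : K) (hl : l ≠ 0) :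
    dEnt (hG hD 8 (l ^ θ) * hG hD 10 l) 6 = (l ^ θ) ^ 3 * l⁻¹ := by
  obtain ⟨q1, q2, q3, q4, q5, q6, q7, q8⟩ := g2_pairs_pos
  rw [dEnt_mul hD _ _ (hG_mem_H hD 8 (by decide) _ (pow_ne_zero _ hl)),
    dEnt_hG hD 8 (by decide) _ (pow_ne_zero _ hl) 6 (by decide),
    dEnt_hG hD 10 (by decide) _ hl 6 (by decide), q3, q4, zpow_ofNat, zpow_neg_one]

theorem g2_h0_dEnt (hD : Seven chevG2) : dEnt (hG hD 7 (-1 : K) * hG hD 6 (-1)) 6 = -1 := by
  obtain ⟨q1, q2, -, -⟩ := g2_pairs_h0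
  have hm : (-1 : K) ≠ 0 := neg_ne_zero.mpr one_ne_zero
  rw [dEnt_mul hD _ _ (hG_mem_H hD 7 (by decide) _ hm),
    dEnt_hG hD 7 (by decide) _ hm 6 (by decide),
    dEnt_hG hD 6 (by decide) _ hm 6 (by decide), q1, q2, zpow_neg, zpow_ofNat, zpow_ofNat]
  norm_num

theorem g2_h0_mem (hD : Seven chevG2) (θ : ℕ) (h3z : ((3 : ℤ) : K) = 0) (hθ : IsFrob K θ) :
    hG hD 7 (-1 : K) * hG hD 6 (-1) ∈ twistedG2 K θ := by
  obtain ⟨memS, memW, memZ, memSn, memWn, memZn⟩ := g2_ree_mems hD θ h3z hθ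
  obtain ⟨-, -, n7, n6⟩ := g2_pairs_h0
  have key := wG_eq_of_wordEqPN hD 3 h3z _ _ g2_h0_ok (1 : K) 1
  have e1 : evalWord (1 : K) 1 g2W0 = [(7, 1), (6, 1), (8, 1), (9, 1), (3, 1), (1, 1), (2, 1),
      (0, 1), (9, 1), (11, 1), (3, 1), (1, 1)] := by
    unfold g2W0 evalWord
    simp only [List.map_cons, List.map_nil, evalPoly, evalMono, List.sum_cons, List.sum_nil,
      Int.cast_one, Int.cast_neg, pow_zero, mul_one, add_zero]
  have e2 : evalWord (1 : K) 1 g2H0 = [(7, -1), (4, 1), (7, -1), (7, -1), (4, 1), (7, -1),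
      (6, -1), (5, 1), (6, -1), (6, -1), (5, 1), (6, -1)] := by
    unfold g2H0 evalWord
    simp only [List.map_cons, List.map_nil, evalPoly, evalMono, List.sum_cons, List.sum_nil,
      Int.cast_one, Int.cast_neg, pow_zero, mul_one, add_zero]
  rw [e1, e2] at key
  have eL : reeS hD θ (1 : K) * (reeP hD 3 1 θ 1 * (reeP hD 2 0 θ 1 *
      (reeP hD 9 11 θ 1 * reeP hD 3 1 θ 1))) =
      wG hD [(7, 1), (6, 1), (8, 1), (9, 1), (3, 1), (1, 1), (2, 1),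
      (0, 1), (9, 1), (11, 1), (3, 1), (1, 1)] := by
    unfold reeS reeP
    simp only [one_pow, mul_one, wG_cons, wG_nil, mul_assoc]
  have eR : hG hD 7 (-1 : K) * hG hD 6 (-1) =
      wG hD [(7, -1), (4, 1), (7, -1), (7, -1), (4, 1), (7, -1),
      (6, -1), (5, 1), (6, -1), (6, -1), (5, 1), (6, -1)] := by
    rw [hG_eq, hG_eq, nG_eq, nG_eq, n7, n6, inv_neg_one, neg_neg]
    simp only [wG_cons, wG_nil, mul_one, mul_assoc]
  rw [eR, ← key, ← eL]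
  exact mul_mem (memS 1) (mul_mem (memWn 1) (mul_mem (memZn 1) (mul_mem (memZ 1) (memWn 1))))

theorem g2_dEnt_fix (hD : Seven chevG2) (φ : K →+* K) (g : GL chevG2.Idx K)
    (hg : g ∈ fixSub (opMat chevG2 K g2Qbig) φ) : dEnt g 7 = φ (dEnt g 6) :=
  dEnt_rel' hD g2Qbig g2Qperm g2Qsgn g2QMono φ g hg 6 7 (by decide) (by decide) g2_dfacts.1
    g2_dfacts.2.1 g2_dhu

theorem g2_H_fix_inj (hD : Seven chevG2) (φ : K →+* K) (h h' : GL chevG2.Idx K)
    (hh : h ∈ chevG2.diagonalSubgroup K) (hh' : h' ∈ chevG2.diagonalSubgroup K)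
    (hf : h ∈ fixSub (opMat chevG2 K g2Qbig) φ) (hf' : h' ∈ fixSub (opMat chevG2 K g2Qbig) φ)
    (e : dEnt h 6 = dEnt h' 6) : h = h' := by
  obtain ⟨-, -, s0, s1, rk⟩ := g2_dfacts
  apply H_eq_of_dEnt hD _ _ _ _ _ _ smith_G2 h h' hh hh'
  intro j hj
  rw [rk] at hj
  have e7 : dEnt h 7 = dEnt h' 7 := by
    rw [g2_dEnt_fix hD φ h hf, g2_dEnt_fix hD φ h' hf', e]
  interval_cases j
  · rw [s0]; exact e7
  · rw [s1]; exact e

end G2H

section G2HF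
variable {K : Type*} [Field K] [Fintype K] {m : ℕ}

theorem g2_H_surj (hK : Fintype.card K = 3 ^ (2 * m + 1)) (hD : Seven chevG2) (y : K)
    (hy : y ≠ 0) :
    ∃ h : GL chevG2.Idx K, h ∈ chevG2.diagonalSubgroup K ⊓ twistedG2 K (3 ^ m) ∧
      dEnt h 6 = y := by
  haveI hch : CharP K 3 := charP_of_card Nat.prime_three hK
  haveI : Fact (Nat.Prime 3) := ⟨Nat.prime_three⟩
  have h3 : (3 : K) = 0 := by
    have h := CharP.cast_eq_zero K 3
    exact_mod_cast h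
  have h3z : ((3 : ℤ) : K) = 0 := by exact_mod_cast h3
  have hθ : IsFrob K (3 ^ m) := isFrob_pow 3 m
  have hq : ∀ t : K, ((t ^ 3 ^ m) ^ 3 ^ m) ^ 3 = t := by
    intro t
    rw [← pow_mul, ← pow_mul]
    have e : 3 ^ m * (3 ^ m * 3) = Fintype.card K := by rw [hK]; ring
    rw [e]; exact FiniteField.pow_card t
  have hrc : ringChar K ≠ 2 := by rw [ringChar.eq K 3]; norm_num
  obtain ⟨z, hz, hyz⟩ := g2_sq_or_neg hK hrc y hy
  obtain ⟨l, hl⟩ : ∃ l : K, l = z ^ (3 * 3 ^ m + 1) := ⟨_, rfl⟩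
  have hl0 : l ≠ 0 := by rw [hl]; exact pow_ne_zero _ hz
  have hT_H : hG hD 8 (l ^ 3 ^ m) * hG hD 10 l ∈ chevG2.diagonalSubgroup K :=
    mul_mem (hG_mem_H hD 8 (by decide) _ (pow_ne_zero _ hl0)) (hG_mem_H hD 10 (by decide) _ hl0)
  have hT_G := g2_tor_mem hD (3 ^ m) h3z hθ l
  have hT_d : dEnt (hG hD 8 (l ^ 3 ^ m) * hG hD 10 l) 6 = z ^ 2 := by
    rw [g2_tor_dEnt hD (3 ^ m) l hl0, hl]
    exact g2_tor_val (3 ^ m) hq z hz
  rcases hyz with rfl | rfl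
  · exact ⟨_, ⟨hT_H, hT_G⟩, hT_d⟩
  · have hm : (-1 : K) ≠ 0 := neg_ne_zero.mpr one_ne_zero
    have h0H : hG hD 7 (-1 : K) * hG hD 6 (-1) ∈ chevG2.diagonalSubgroup K :=
      mul_mem (hG_mem_H hD 7 (by decide) _ hm) (hG_mem_H hD 6 (by decide) _ hm)
    refine ⟨hG hD 7 (-1 : K) * hG hD 6 (-1) * (hG hD 8 (l ^ 3 ^ m) * hG hD 10 l),
      ⟨mul_mem h0H hT_H, mul_mem (g2_h0_mem hD (3 ^ m) h3z hθ) hT_G⟩, ?_⟩
    rw [dEnt_mul hD _ _ h0H, g2_h0_dEnt hD, hT_d]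
    ring

/-- The elements of `H` fixed by the twisted operator belong to the Ree group. -/
theorem g2_H_fix_mem (hK : Fintype.card K = 3 ^ (2 * m + 1)) (hD : Seven chevG2)
    (hθ : IsFrob K (3 ^ m)) (h : GL chevG2.Idx K) (hh : h ∈ chevG2.diagonalSubgroup K)
    (hf : h ∈ fixSub (opMat chevG2 K g2Qbig) (frobHom hθ)) : h ∈ twistedG2 K (3 ^ m) := by
  haveI hch : CharP K 3 := charP_of_card Nat.prime_three hK
  haveI : Fact (Nat.Prime 3) := ⟨Nat.prime_three⟩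
  have h3 : (3 : K) = 0 := by
    have h := CharP.cast_eq_zero K 3
    exact_mod_cast h
  have h3z : ((3 : ℤ) : K) = 0 := by exact_mod_cast h3
  have hq : ∀ t : K, ((t ^ 3 ^ m) ^ 3 ^ m) ^ 3 = t := by
    intro t
    rw [← pow_mul, ← pow_mul]
    have e : 3 ^ m * (3 ^ m * 3) = Fintype.card K := by rw [hK]; ring
    rw [e]; exact FiniteField.pow_card t
  have hS := g2_le_fix hD (3 ^ m) h3z hθ hq
  obtain ⟨h', hh', e⟩ := g2_H_surj hK hD (dEnt h 6) (dEnt_ne_zero hD h hh 6 (by decide))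
  have e' := g2_H_fix_inj hD (frobHom hθ) h' h hh'.1 hh (hS hh'.2) hf e
  rw [← e']
  exact hh'.2

theorem g2_H_card (hK : Fintype.card K = 3 ^ (2 * m + 1)) :
    Nat.card ↥(chevG2.diagonalSubgroup K ⊓ twistedG2 K (3 ^ m)) = 3 ^ (2 * m + 1) - 1 := by
  classical
  have hD : Seven chevG2 := by simp
  haveI hch : CharP K 3 := charP_of_card Nat.prime_three hK
  haveI : Fact (Nat.Prime 3) := ⟨Nat.prime_three⟩
  have h3 : (3 : K) = 0 := by
    have h := CharP.cast_eq_zero K 3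
    exact_mod_cast h
  have h3z : ((3 : ℤ) : K) = 0 := by exact_mod_cast h3
  have hθ : IsFrob K (3 ^ m) := isFrob_pow 3 m
  have hq : ∀ t : K, ((t ^ 3 ^ m) ^ 3 ^ m) ^ 3 = t := by
    intro t
    rw [← pow_mul, ← pow_mul]
    have e : 3 ^ m * (3 ^ m * 3) = Fintype.card K := by rw [hK]; ring
    rw [e]; exact FiniteField.pow_card t
  have hS := g2_le_fix hD (3 ^ m) h3z hθ hq
  let f : ↥(chevG2.diagonalSubgroup K ⊓ twistedG2 K (3 ^ m)) → Kˣ := fun h =>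
    Units.mk0 (dEnt (h : GL chevG2.Idx K) 6) (dEnt_ne_zero hD _ h.2.1 6 (by decide))
  have hinj : Function.Injective f := by
    intro h h' e
    have e' : dEnt (h : GL chevG2.Idx K) 6 = dEnt (h' : GL chevG2.Idx K) 6 :=
      congrArg Units.val e
    exact Subtype.ext (g2_H_fix_inj hD (frobHom hθ) _ _ h.2.1 h'.2.1 (hS h.2.2) (hS h'.2.2) e')
  have hsurj : Function.Surjective f := by
    intro y
    obtain ⟨h, hh, e⟩ := g2_H_surj hK hD (y : K) y.ne_zero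
    exact ⟨⟨h, hh⟩, Units.ext e⟩
  rw [Nat.card_congr (Equiv.ofBijective f ⟨hinj, hsurj⟩), Nat.card_eq_fintype_card,
    Fintype.card_units, hK]

end G2HF

end Cfsg.Agent.Helper11
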