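import Cfsg.Agent.Helper11.ChevTwistCoreED
import Cfsg.Agent.Helper11.ChevGraphAutTab

set_option autoImplicit false

/-!
Counting `U ∩ S` for a subgroup `S` of the Chevalley group whose elements commute with a signed
permutation matrix up to a field endomorphism (the fixed points of a twisted Frobenius map): an
upper bound from the relations between the matrix entries `(h_i, e_{-m})`, and a lower bound from
conjugates of the twisted root elements, both along the chain `⟨X_r : r ≥ m⟩`.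
-/

namespace Cfsg.Agent.Helper11

open Cfsg.Lie

section TwU
variable {K : Type*} [Field K] {D : ChevalleyDatum}

theorem Uge_anti (m m' : ℕ) (h : m ≤ m') : Uge D K m' ≤ Uge D K m := by
  apply Subgroup.closure_mono
  rintro g ⟨r, t, h1, h2, h3⟩
  exact ⟨r, t, by omega, h2, h3⟩

theorem Uge_top : Uge D K D.nroots = ⊥ := by
  unfold Uge
  rw [Subgroup.closure_eq_bot_iff]
  rintro g ⟨r, t, h1, h2, _⟩
  omega

/-- The `(h_i, e_{-m})` entry. -/
noncomputable def kap (hD : Seven D) (m i : ℕ) (g : GL D.Idx K) : K :=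
  if h : m < D.nroots ∧ i < D.rank then
    (g : Matrix D.Idx D.Idx K) (Sum.inl ⟨i, h.2⟩) (Sum.inr ⟨D.neg m, neg_lt7 hD m h.1⟩)
  else 0

/-- The coroot coefficient as a field element. -/
noncomputable def corK (D : ChevalleyDatum) (K : Type*) [Field K] (m i : ℕ) : K :=
  (((D.coroot.getD m #[]).getD i 0 : ℤ) : K)

theorem kap_mul (hD : Seven D) (m : ℕ) (hm : D.nroots / 2 ≤ m) (hm2 : m < D.nroots) (i : ℕ)
    (hi : i < D.rank) (c : K) (u : GL D.Idx K) (hu : u ∈ Uge D K (m + 1)) :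
    kap hD m i (xG hD m c * u) = corK D K m i * c := by
  have hlt := neg_lt7 hD m hm2
  unfold kap
  rw [dif_pos ⟨hm2, hi⟩]
  have h1 := Uge_moves hD m hm hm2 u hu
  have hxU : UpK (lvlI D) 1 (((xG hD m c : GL D.Idx K) : Matrix D.Idx D.Idx K) - 1) :=
    posU_up7 hD _ (Uge_le_posU hD m hm (xG_mem_Uge hD m m le_rfl hm2 c))
  have h2 := PosSupp.mulVec _ hxU h1
  rw [entry_eq D ((xG hD m c * u : GL D.Idx K) : Matrix D.Idx D.Idx K) (D.rank + D.neg m)
    (Sum.inr ⟨D.neg m, hlt⟩) (basisVec_inr D ⟨D.neg m, hlt⟩) (Sum.inl ⟨i, hi⟩)]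
  have e : ((xG hD m c * u : GL D.Idx K) : Matrix D.Idx D.Idx K).mulVec
        (basisVec D K (D.rank + D.neg m)) =
      ((xG hD m c : GL D.Idx K) : Matrix D.Idx D.Idx K).mulVec
        ((u : Matrix D.Idx D.Idx K).mulVec (basisVec D K (D.rank + D.neg m)) -
          basisVec D K (D.rank + D.neg m)) +
      ((xG hD m c : GL D.Idx K) : Matrix D.Idx D.Idx K).mulVec
        (basisVec D K (D.rank + D.neg m)) := by
    rw [Units.val_mul, ← Matrix.mulVec_mulVec, Matrix.mulVec_sub]; abel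
  rw [e, Pi.add_apply]
  have h3 : (((xG hD m c : GL D.Idx K) : Matrix D.Idx D.Idx K).mulVec
      ((u : Matrix D.Idx D.Idx K).mulVec (basisVec D K (D.rank + D.neg m)) -
        basisVec D K (D.rank + D.neg m))) (Sum.inl ⟨i, hi⟩) = 0 := by
    by_contra hne
    have h4 := h2 (Sum.inl ⟨i, hi⟩) hne
    have hc : code D (Sum.inl ⟨i, hi⟩) = i := rfl
    rw [hc] at h4
    omega
  rw [h3, zero_add, ← entry_eq D ((xG hD m c : GL D.Idx K) : Matrix D.Idx D.Idx K)
    (D.rank + D.neg m) (Sum.inr ⟨D.neg m, hlt⟩) (basisVec_inr D ⟨D.neg m, hlt⟩)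
    (Sum.inl ⟨i, hi⟩), xG_val]
  exact x_entry_cor hD m hm2 ⟨i, hi⟩ c

theorem kap_mul_right (hD : Seven D) (m : ℕ) (hm : D.nroots / 2 ≤ m) (hm2 : m < D.nroots) (i : ℕ)
    (hi : i < D.rank) (g b : GL D.Idx K) (hg : g ∈ Uge D K m) (hb : b ∈ Uge D K (m + 1)) :
    kap hD m i (g * b) = kap hD m i g := by
  obtain ⟨c, u, hu, rfl⟩ := Uge_factor hD m hm hm2 g hg
  rw [mul_assoc, kap_mul hD m hm hm2 i hi c _ (mul_mem hu hb), kap_mul hD m hm hm2 i hi c u hu]

theorem kap_low (hD : Seven D) (m r : ℕ) (hr : D.nroots / 2 ≤ r) (hrm : r < m) (hm2 : m ≤ D.nroots)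
    (i : ℕ) (hi : i < D.rank) (g : GL D.Idx K) (hg : g ∈ Uge D K m) : kap hD r i g = 0 := by
  have h := kap_mul hD r hr (by omega) i hi 0 g (Uge_anti (r + 1) m (by omega) hg)
  rw [xG_zero, one_mul, mul_zero] at h
  exact h

/-! ### Counting along the chain -/

theorem ub_step (hD : Seven D) [Fintype K] (S : Subgroup (GL D.Idx K)) (m : ℕ)
    (hm : D.nroots / 2 ≤ m) (hm2 : m < D.nroots) (i : ℕ) (hi : i < D.rank)
    (ha : corK D K m i ≠ 0) (Y : Finset K)
    (hY : ∀ g ∈ S, g ∈ Uge D K m → kap hD m i g ∈ Y) :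
    Nat.card ↥(S ⊓ Uge D K m) ≤ Y.card * Nat.card ↥(S ⊓ Uge D K (m + 1)) := by
  classical
  have key : ∀ g g' : GL D.Idx K, g ∈ S ⊓ Uge D K m → g' ∈ S ⊓ Uge D K m →
      kap hD m i g = kap hD m i g' → g⁻¹ * g' ∈ S ⊓ Uge D K (m + 1) := by
    intro g g' hg hg' he
    have hgS := (Subgroup.mem_inf.mp hg).1
    have hgS' := (Subgroup.mem_inf.mp hg').1
    obtain ⟨c, u, hu, rfl⟩ := Uge_factor hD m hm hm2 g (Subgroup.mem_inf.mp hg).2
    obtain ⟨c', u', hu', rfl⟩ := Uge_factor hD m hm hm2 g' (Subgroup.mem_inf.mp hg').2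
    rw [kap_mul hD m hm hm2 i hi c u hu, kap_mul hD m hm hm2 i hi c' u' hu'] at he
    have hc : c = c' := mul_left_cancel₀ ha he
    subst hc
    refine Subgroup.mem_inf.mpr ⟨mul_mem (inv_mem hgS) hgS', ?_⟩
    have e : (xG hD m c * u)⁻¹ * (xG hD m c * u') = u⁻¹ * u' := by group
    rw [e]
    exact mul_mem (inv_mem hu) hu'
  have hex : ∀ y : K, ∃ r : GL D.Idx K, (∃ g, g ∈ S ⊓ Uge D K m ∧ kap hD m i g = y) →
      (r ∈ S ⊓ Uge D K m ∧ kap hD m i r = y) := by
    intro y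
    by_cases h : ∃ g, g ∈ S ⊓ Uge D K m ∧ kap hD m i g = y
    · obtain ⟨g, hg⟩ := h
      exact ⟨g, fun _ => hg⟩
    · exact ⟨1, fun h' => absurd h' h⟩
  choose rep hrep using hex
  have hinj : Function.Injective (fun g : ↥(S ⊓ Uge D K m) =>
      ((⟨kap hD m i g.1, hY g.1 (Subgroup.mem_inf.mp g.2).1 (Subgroup.mem_inf.mp g.2).2⟩ : ↥Y),
        (⟨(rep (kap hD m i g.1))⁻¹ * g.1,
          key _ _ (hrep _ ⟨g.1, g.2, rfl⟩).1 g.2 (hrep _ ⟨g.1, g.2, rfl⟩).2⟩ :
            ↥(S ⊓ Uge D K (m + 1))))) := by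
    rintro ⟨g, hg⟩ ⟨g', hg'⟩ heq
    have h1 : kap hD m i g = kap hD m i g' := congrArg (fun p => (p.1 : K)) heq
    have h2 : (rep (kap hD m i g))⁻¹ * g = (rep (kap hD m i g'))⁻¹ * g' :=
      congrArg (fun p => (p.2 : GL D.Idx K)) heq
    rw [h1] at h2
    exact Subtype.ext (mul_left_cancel h2)
  have h4 := Nat.card_le_card_of_injective _ hinj
  rw [Nat.card_prod, Nat.card_eq_fintype_card (α := ↥Y), Fintype.card_coe] at h4
  exact h4

theorem lb_step (hD : Seven D) [Fintype K] (S : Subgroup (GL D.Idx K)) (m : ℕ)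
    (hm : D.nroots / 2 ≤ m) (hm2 : m < D.nroots) (i : ℕ) (hi : i < D.rank) (T : Finset K)
    (y : K → GL D.Idx K) (hy : ∀ t ∈ T, y t ∈ S ⊓ Uge D K m)
    (hinj : ∀ t ∈ T, ∀ t' ∈ T, kap hD m i (y t) = kap hD m i (y t') → t = t') :
    T.card * Nat.card ↥(S ⊓ Uge D K (m + 1)) ≤ Nat.card ↥(S ⊓ Uge D K m) := by
  classical
  have hle : S ⊓ Uge D K (m + 1) ≤ S ⊓ Uge D K m :=
    inf_le_inf_left S (Uge_anti m (m + 1) (by omega))
  have hφ : Function.Injective (fun p : ↥T × ↥(S ⊓ Uge D K (m + 1)) =>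
      (⟨y p.1.1 * p.2.1, mul_mem (hy p.1.1 p.1.2) (hle p.2.2)⟩ : ↥(S ⊓ Uge D K m))) := by
    rintro ⟨⟨t, ht⟩, ⟨b, hb⟩⟩ ⟨⟨t', ht'⟩, ⟨b', hb'⟩⟩ heq
    have e : y t * b = y t' * b' := congrArg Subtype.val heq
    have h1 := congrArg (kap hD m i) e
    rw [kap_mul_right hD m hm hm2 i hi _ _ (Subgroup.mem_inf.mp (hy t ht)).2
        (Subgroup.mem_inf.mp hb).2,
      kap_mul_right hD m hm hm2 i hi _ _ (Subgroup.mem_inf.mp (hy t' ht')).2
        (Subgroup.mem_inf.mp hb').2] at h1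
    have h2 := hinj t ht t' ht' h1
    subst h2
    have h3 : b = b' := mul_left_cancel e
    subst h3
    rfl
  have h4 := Nat.card_le_card_of_injective _ hφ
  rw [Nat.card_prod, Nat.card_eq_fintype_card (α := ↥T), Fintype.card_coe] at h4
  exact h4

theorem ub_chain (S : Subgroup (GL D.Idx K)) (w : ℕ → ℕ)
    (hstep : ∀ m, D.nroots / 2 ≤ m → m < D.nroots →
      Nat.card ↥(S ⊓ Uge D K m) ≤ w m * Nat.card ↥(S ⊓ Uge D K (m + 1))) :
    ∀ j m, m + j = D.nroots → D.nroots / 2 ≤ m →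
      Nat.card ↥(S ⊓ Uge D K m) ≤ ((List.range' m j).map w).prod := by
  intro j
  induction j with
  | zero =>
    intro m hm _
    have e : m = D.nroots := by omega
    rw [e, Uge_top, inf_bot_eq, Subgroup.card_bot]
    exact le_refl 1
  | succ j ih =>
    intro m hm hm2
    rw [List.range'_succ, List.map_cons, List.prod_cons]
    exact le_trans (hstep m hm2 (by omega))
      (Nat.mul_le_mul_left _ (ih (m + 1) (by omega) (by omega)))

theorem lb_chain (S : Subgroup (GL D.Idx K)) (w : ℕ → ℕ)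
    (hstep : ∀ m, D.nroots / 2 ≤ m → m < D.nroots →
      w m * Nat.card ↥(S ⊓ Uge D K (m + 1)) ≤ Nat.card ↥(S ⊓ Uge D K m)) :
    ∀ j m, m + j = D.nroots → D.nroots / 2 ≤ m →
      ((List.range' m j).map w).prod ≤ Nat.card ↥(S ⊓ Uge D K m) := by
  intro j
  induction j with
  | zero =>
    intro m hm _
    have e : m = D.nroots := by omega
    rw [e, Uge_top, inf_bot_eq, Subgroup.card_bot]
    exact le_refl 1
  | succ j ih =>
    intro m hm hm2
    rw [List.range'_succ, List.map_cons, List.prod_cons]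
    exact le_trans (Nat.mul_le_mul_left _ (ih (m + 1) (by omega) (by omega)))
      (hstep m hm2 (by omega))

/-- Weight of a root of the given kind. -/
def wt (Kc q : ℕ) (kind : ℕ) : ℕ := if kind = 0 then Kc else if kind = 3 then q else 1

theorem wt_prod (Kc q : ℕ) (L : List ℕ) :
    (L.map (wt Kc q)).prod = Kc ^ L.count 0 * q ^ L.count 3 := by
  induction L with
  | nil => simp
  | cons a L ih =>
    rw [List.map_cons, List.prod_cons, ih]
    unfold wt
    by_cases h0 : a = 0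
    · subst h0
      simp [pow_succ]
      ring
    · by_cases h3 : a = 3
      · subst h3
        simp [pow_succ]
        ring
      · simp [h0, h3]

end TwU

end Cfsg.Agent.Helper11
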