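import Cfsg.Agent.Helper11.ChevTwU

set_option autoImplicit false

/-!
The subgroup of matrices commuting with a signed permutation matrix up to a field endomorphism,
the relations between matrix entries of its elements, and the table-driven upper bound for its
intersection with `U`.
-/

namespace Cfsg.Agent.Helper11

open Cfsg.Lie

section Fix
variable {K : Type*} [Field K]

/-- The matrices commuting with `P` up to the field endomorphism `φ`. -/
def fixSub {ι : Type*} [Fintype ι] [DecidableEq ι] (P : Matrix ι ι K) (φ : K →+* K) :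
    Subgroup (GL ι K) where
  carrier := {g | (g : Matrix ι ι K) * P = P * (g : Matrix ι ι K).map φ}
  mul_mem' := by
    intro a b ha hb
    have ha' : (a : Matrix ι ι K) * P = P * (a : Matrix ι ι K).map φ := ha
    have hb' : (b : Matrix ι ι K) * P = P * (b : Matrix ι ι K).map φ := hb
    show ((a * b : GL ι K) : Matrix ι ι K) * P = P * ((a * b : GL ι K) : Matrix ι ι K).map φ
    rw [Units.val_mul, Matrix.map_mul, mul_assoc, hb', ← mul_assoc, ha', mul_assoc]
  one_mem' := by
    show ((1 : GL ι K) : Matrix ι ι K) * P = P * ((1 : GL ι K) : Matrix ι ι K).map φ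
    rw [Units.val_one, Matrix.map_one _ (map_zero φ) (map_one φ), one_mul, mul_one]
  inv_mem' := by
    intro a ha
    have ha' : (a : Matrix ι ι K) * P = P * (a : Matrix ι ι K).map φ := ha
    show ((a⁻¹ : GL ι K) : Matrix ι ι K) * P = P * ((a⁻¹ : GL ι K) : Matrix ι ι K).map φ
    have h1 : (a : Matrix ι ι K) * ((a⁻¹ : GL ι K) : Matrix ι ι K) = 1 := by
      rw [← Units.val_mul, mul_inv_cancel, Units.val_one]
    have h2 : ((a⁻¹ : GL ι K) : Matrix ι ι K) * (a : Matrix ι ι K) = 1 := by
      rw [← Units.val_mul, inv_mul_cancel, Units.val_one]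
    have h3 : (a : Matrix ι ι K).map φ * ((a⁻¹ : GL ι K) : Matrix ι ι K).map φ = 1 := by
      rw [← Matrix.map_mul, h1, Matrix.map_one _ (map_zero φ) (map_one φ)]
    calc ((a⁻¹ : GL ι K) : Matrix ι ι K) * P
        = ((a⁻¹ : GL ι K) : Matrix ι ι K) * (P * ((a : Matrix ι ι K).map φ *
            ((a⁻¹ : GL ι K) : Matrix ι ι K).map φ)) := by rw [h3, mul_one]
      _ = ((a⁻¹ : GL ι K) : Matrix ι ι K) * ((a : Matrix ι ι K) * P) *
            ((a⁻¹ : GL ι K) : Matrix ι ι K).map φ := by rw [ha']; simp only [mul_assoc]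
      _ = P * ((a⁻¹ : GL ι K) : Matrix ι ι K).map φ := by rw [← mul_assoc, h2, one_mul]

theorem mem_fixSub {ι : Type*} [Fintype ι] [DecidableEq ι] (P : Matrix ι ι K) (φ : K →+* K)
    (g : GL ι K) :
    g ∈ fixSub P φ ↔ (g : Matrix ι ι K) * P = P * (g : Matrix ι ι K).map φ := Iff.rfl

theorem mono_rel {ι : Type*} [Fintype ι] [DecidableEq ι] (P : Matrix ι ι K) (c : ι → ℕ)
    (hc : Function.Injective c) (p : ℕ → ℕ) (hp : ∀ x y : ι, p (c x) = p (c y) → x = y)
    (s : ℕ → K) (hP : ∀ a b, P a b = if c a = p (c b) then s (c b) else 0) (φ : K →+* K)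
    (g : Matrix ι ι K) (h : g * P = P * g.map φ) (a a' b b' : ι) (ha : c a' = p (c a))
    (hb : c b' = p (c b)) : g a' b' * s (c b) = s (c a) * φ (g a b) := by
  have h1 := congrFun (congrFun h a') b
  rw [Matrix.mul_apply, Matrix.mul_apply] at h1
  have e1 : ∑ x, g a' x * P x b = g a' b' * s (c b) := by
    rw [Finset.sum_eq_single b']
    · rw [hP, if_pos hb]
    · intro x _ hx
      rw [hP, if_neg (fun e => hx (hc (e.trans hb.symm))), mul_zero]
    · intro h'; exact absurd (Finset.mem_univ _) h'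
  have e2 : ∑ x, P a' x * (g.map φ) x b = s (c a) * φ (g a b) := by
    rw [Finset.sum_eq_single a]
    · rw [hP, if_pos ha, Matrix.map_apply]
    · intro x _ hx
      rw [hP, if_neg (fun (e : c a' = p (c x)) => hx (hp x a (e.symm.trans ha))), zero_mul]
    · intro h'; exact absurd (Finset.mem_univ _) h'
  rw [e1, e2] at h1
  exact h1

variable {D : ChevalleyDatum}

/-- The operator table `big` is the signed permutation matrix given by `perm`, `sgn`. -/
noncomputable def monoOK (D : ChevalleyDatum) (big : ℕ) (perm : List ℕ) (sgn : List ℤ) : Bool :=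
  allN (Nat.add D.rank D.nroots)
    (fun v => vecEqF (opCol big v) [(perm.getD v 0, (sgn.getD v 0, 0, 0))])

theorem mono_sound (big : ℕ) (perm : List ℕ) (sgn : List ℤ) (h : monoOK D big perm sgn = true)
    (a b : D.Idx) :
    opMat D K big a b =
      if code D a = perm.getD (code D b) 0 then ((sgn.getD (code D b) 0 : ℤ) : K) else 0 := by
  have e : idxNat D b = code D b := by rcases b with i | s <;> rfl
  show evalVec D (1 : K) 1 (opCol big (idxNat D b)) a = _
  rw [e, vecEqF_sound D (1 : K) 1 _ _ ((allN_spec _ _).mp h (code D b) (code_lt D b)),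
    evalVec_cons, evalVec_nil, add_zero, Pi.smul_apply, basisVec_apply_code]
  simp only [evalMono, pow_zero, mul_one, smul_eq_mul]
  split_ifs <;> simp

noncomputable def permInjOK (D : ChevalleyDatum) (perm pinv : List ℕ) : Bool :=
  allN (Nat.add D.rank D.nroots) (fun v => Nat.beq (pinv.getD (perm.getD v 0) 0) v)

theorem permInj_sound (perm pinv : List ℕ) (h : permInjOK D perm pinv = true) (x y : D.Idx)
    (e : perm.getD (code D x) 0 = perm.getD (code D y) 0) : x = y := by
  apply code_inj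
  have h1 := (beq_iff _ _).mp ((allN_spec _ _).mp h (code D x) (code_lt D x))
  have h2 := (beq_iff _ _).mp ((allN_spec _ _).mp h (code D y) (code_lt D y))
  rw [← h1, ← h2, e]

theorem kap_rel (hD : Seven D) (big : ℕ) (perm pinv : List ℕ) (sgn : List ℤ)
    (hmono : monoOK D big perm sgn = true) (hinj : permInjOK D perm pinv = true) (φ : K →+* K)
    (g : GL D.Idx K) (hg : g ∈ fixSub (opMat D K big) φ)
    (m r i i' : ℕ) (hm : m < D.nroots) (hr : r < D.nroots) (hi : i < D.rank) (hi' : i' < D.rank)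
    (e1 : perm.getD i 0 = i') (e2 : perm.getD (D.rank + D.neg r) 0 = D.rank + D.neg m) :
    kap hD m i' g * ((sgn.getD (D.rank + D.neg r) 0 : ℤ) : K) =
      ((sgn.getD i 0 : ℤ) : K) * φ (kap hD r i g) := by
  unfold kap
  rw [dif_pos ⟨hm, hi'⟩, dif_pos ⟨hr, hi⟩]
  exact mono_rel (opMat D K big) (code D) (fun a b h => code_inj D a b h)
    (fun v => perm.getD v 0) (permInj_sound perm pinv hinj)
    (fun v => ((sgn.getD v 0 : ℤ) : K)) (mono_sound big perm sgn hmono) φ _ hg
    (Sum.inl ⟨i, hi⟩) (Sum.inl ⟨i', hi'⟩) (Sum.inr ⟨D.neg r, neg_lt7 hD r hr⟩)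
    (Sum.inr ⟨D.neg m, neg_lt7 hD m hm⟩) e1.symm e2.symm

theorem card_pow_eq_mul_le [Fintype K] [DecidableEq K] (q : ℕ) (hq : 2 ≤ q) (ε : K) :
    (Finset.univ.filter (fun y : K => y ^ q = ε * y)).card ≤ q := by
  have hdeg : (Polynomial.X ^ q - Polynomial.C ε * Polynomial.X : Polynomial K).natDegree = q := by
    rw [Polynomial.natDegree_sub_eq_left_of_natDegree_lt]
    · exact Polynomial.natDegree_X_pow q
    · rw [Polynomial.natDegree_X_pow]
      calc (Polynomial.C ε * Polynomial.X : Polynomial K).natDegree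
          ≤ (Polynomial.X : Polynomial K).natDegree := Polynomial.natDegree_C_mul_le _ _
        _ ≤ 1 := Polynomial.natDegree_X_le
        _ < q := hq
  have hne : (Polynomial.X ^ q - Polynomial.C ε * Polynomial.X : Polynomial K) ≠ 0 := by
    intro h0
    rw [h0, Polynomial.natDegree_zero] at hdeg
    omega
  calc (Finset.univ.filter (fun y : K => y ^ q = ε * y)).card
      ≤ (Polynomial.X ^ q - Polynomial.C ε * Polynomial.X : Polynomial K).roots.toFinset.card := by
        apply Finset.card_le_card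
        intro y hy
        rw [Finset.mem_filter] at hy
        rw [Multiset.mem_toFinset, Polynomial.mem_roots hne, Polynomial.IsRoot]
        simp [hy.2]
    _ ≤ (Polynomial.X ^ q - Polynomial.C ε * Polynomial.X : Polynomial K).roots.card :=
        Multiset.toFinset_card_le _
    _ ≤ q := by
        have := Polynomial.card_roots' (Polynomial.X ^ q - Polynomial.C ε * Polynomial.X : Polynomial K)
        rw [hdeg] at this
        exact this

theorem pm1_ne_zero (z : ℤ) (h : isPM1 z = true) : ((z : ℤ) : K) ≠ 0 := by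
  unfold isPM1 at h
  simp only [Bool.or_eq_true, decide_eq_true_eq] at h
  rcases h with rfl | rfl <;> simp

/-- The coroot coefficient. -/
noncomputable def corZ (D : ChevalleyDatum) (m i : ℕ) : ℤ := (D.coroot.getD m #[]).getD i 0

theorem corK_eq (m i : ℕ) : corK D K m i = ((corZ D m i : ℤ) : K) := rfl

/-- Check of the table entry `(kind, r, i)` of the positive root `m`. -/
noncomputable def ubRootOK (D : ChevalleyDatum) (perm : List ℕ) (sgn : List ℤ) (m : ℕ)
    (e : ℕ × ℕ × ℕ) : Bool :=
  Nat.blt e.2.2 D.rank &&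
  (cond (Nat.beq e.1 0) (isPM1 (corZ D m e.2.2))
  (cond (Nat.beq e.1 1)
    (Nat.ble (Nat.div D.nroots 2) e.2.1 && (Nat.blt e.2.1 m &&
      (Nat.blt (perm.getD e.2.2 0) D.rank &&
      (Nat.beq (perm.getD (Nat.add D.rank (D.neg e.2.1)) 0) (Nat.add D.rank (D.neg m)) &&
        (isPM1 (sgn.getD (Nat.add D.rank (D.neg e.2.1)) 0) &&
          isPM1 (corZ D m (perm.getD e.2.2 0)))))))
  (cond (Nat.beq e.1 2)
    (Nat.ble (Nat.div D.nroots 2) e.2.1 && (Nat.blt e.2.1 m &&
      (Nat.blt (perm.getD e.2.2 0) D.rank &&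
      (Nat.beq (perm.getD (Nat.add D.rank (D.neg m)) 0) (Nat.add D.rank (D.neg e.2.1)) &&
        (isPM1 (sgn.getD e.2.2 0) && isPM1 (corZ D m e.2.2))))))
    (Nat.beq e.1 3 && (Nat.blt (perm.getD e.2.2 0) D.rank &&
      (Nat.beq (perm.getD (Nat.add D.rank (D.neg m)) 0) (Nat.add D.rank (D.neg m)) &&
        (isPM1 (sgn.getD e.2.2 0) && isPM1 (corZ D m e.2.2))))))))

noncomputable def ubOK (D : ChevalleyDatum) (perm : List ℕ) (sgn : List ℤ)
    (tab : List (ℕ × ℕ × ℕ)) : Bool :=
  allN (Nat.div D.nroots 2) (fun k =>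
    ubRootOK D perm sgn (Nat.add (Nat.div D.nroots 2) k) (tab.getD k (1, 0, 0)))

theorem ub_root (hD : Seven D) [Fintype K] (S : Subgroup (GL D.Idx K)) (big : ℕ)
    (perm pinv : List ℕ) (sgn : List ℤ) (hmono : monoOK D big perm sgn = true)
    (hinj : permInjOK D perm pinv = true) (φ : K →+* K) (q : ℕ) (hq : 2 ≤ q)
    (hφ : ∀ x, φ x = x ^ q) (hS : S ≤ fixSub (opMat D K big) φ) (m : ℕ)
    (hm : D.nroots / 2 ≤ m) (hm2 : m < D.nroots) (e : ℕ × ℕ × ℕ)
    (hOK : ubRootOK D perm sgn m e = true) :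
    Nat.card ↥(S ⊓ Uge D K m) ≤
      wt (Fintype.card K) q e.1 * Nat.card ↥(S ⊓ Uge D K (m + 1)) := by
  classical
  unfold ubRootOK at hOK
  rw [Bool.and_eq_true] at hOK
  obtain ⟨hi0, hOK⟩ := hOK
  have hi := (blt_iff _ _).mp hi0
  by_cases k0 : e.1 = 0
  · rw [(beq_iff _ _).mpr k0] at hOK
    have ha : corK D K m e.2.2 ≠ 0 := pm1_ne_zero (K := K) _ hOK
    have h := ub_step hD S m hm hm2 e.2.2 hi ha Finset.univ (fun g _ _ => Finset.mem_univ _)
    rw [Finset.card_univ] at h
    unfold wt
    rw [if_pos k0]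
    exact h
  · rw [beq_false_of_ne k0] at hOK
    by_cases k1 : e.1 = 1
    · rw [(beq_iff _ _).mpr k1] at hOK
      simp only [cond_true, cond_false, Bool.and_eq_true] at hOK
      obtain ⟨h1, h2, h3, h4, h5, h6⟩ := hOK
      have hr1 : D.nroots / 2 ≤ e.2.1 := Nat.le_of_ble_eq_true h1
      have hr2 := (blt_iff _ _).mp h2
      have hi' := (blt_iff _ _).mp h3
      have hp : perm.getD (D.rank + D.neg e.2.1) 0 = D.rank + D.neg m := (beq_iff _ _).mp h4
      have hs : ((sgn.getD (D.rank + D.neg e.2.1) 0 : ℤ) : K) ≠ 0 := pm1_ne_zero _ h5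
      have ha : corK D K m (perm.getD e.2.2 0) ≠ 0 := pm1_ne_zero (K := K) _ h6
      have h := ub_step hD S m hm hm2 (perm.getD e.2.2 0) hi' ha {0} (by
        intro g hgS hgU
        have hrel := kap_rel hD big perm pinv sgn hmono hinj φ g (hS hgS) m e.2.1 e.2.2
          (perm.getD e.2.2 0) hm2 (by omega) hi hi' rfl hp
        rw [kap_low hD m e.2.1 hr1 hr2 (le_of_lt hm2) e.2.2 hi g hgU, map_zero, mul_zero] at hrel
        rw [Finset.mem_singleton]
        rcases mul_eq_zero.mp hrel with h0 | h0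
        · exact h0
        · exact absurd h0 hs)
      rw [Finset.card_singleton] at h
      unfold wt
      rw [if_neg k0, if_neg (by omega)]
      exact h
    · rw [beq_false_of_ne k1] at hOK
      by_cases k2 : e.1 = 2
      · rw [(beq_iff _ _).mpr k2] at hOK
        simp only [cond_true, cond_false, Bool.and_eq_true] at hOK
        obtain ⟨h1, h2, h3, h4, h5, h6⟩ := hOK
        have hr1 : D.nroots / 2 ≤ e.2.1 := Nat.le_of_ble_eq_true h1
        have hr2 := (blt_iff _ _).mp h2
        have hi' := (blt_iff _ _).mp h3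
        have hp : perm.getD (D.rank + D.neg m) 0 = D.rank + D.neg e.2.1 := (beq_iff _ _).mp h4
        have hs : ((sgn.getD e.2.2 0 : ℤ) : K) ≠ 0 := pm1_ne_zero _ h5
        have ha : corK D K m e.2.2 ≠ 0 := pm1_ne_zero (K := K) _ h6
        have h := ub_step hD S m hm hm2 e.2.2 hi ha {0} (by
          intro g hgS hgU
          have hrel := kap_rel hD big perm pinv sgn hmono hinj φ g (hS hgS) e.2.1 m e.2.2
            (perm.getD e.2.2 0) (by omega) hm2 hi hi' rfl hp
          rw [kap_low hD m e.2.1 hr1 hr2 (le_of_lt hm2) _ hi' g hgU, zero_mul] at hrel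
          rw [Finset.mem_singleton]
          rcases mul_eq_zero.mp hrel.symm with h0 | h0
          · exact absurd h0 hs
          · exact (map_eq_zero φ).mp h0)
        rw [Finset.card_singleton] at h
        unfold wt
        rw [if_neg k0, if_neg (by omega)]
        exact h
      · rw [beq_false_of_ne k2] at hOK
        simp only [cond_true, cond_false, Bool.and_eq_true] at hOK
        obtain ⟨h1, h3, h4, h5, h6⟩ := hOK
        have k3 : e.1 = 3 := (beq_iff _ _).mp h1
        have hi' := (blt_iff _ _).mp h3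
        have hp : perm.getD (D.rank + D.neg m) 0 = D.rank + D.neg m := (beq_iff _ _).mp h4
        have hs : ((sgn.getD e.2.2 0 : ℤ) : K) ≠ 0 := pm1_ne_zero _ h5
        have ha : corK D K m e.2.2 ≠ 0 := pm1_ne_zero (K := K) _ h6
        have h := ub_step hD S m hm hm2 e.2.2 hi ha
          (Finset.univ.filter (fun y : K => y ^ q =
            (((sgn.getD e.2.2 0 : ℤ) : K)⁻¹ * corK D K m (perm.getD e.2.2 0) *
              ((sgn.getD (D.rank + D.neg m) 0 : ℤ) : K) * (corK D K m e.2.2)⁻¹) * y)) (by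
          intro g hgS hgU
          have hrel := kap_rel hD big perm pinv sgn hmono hinj φ g (hS hgS) m m e.2.2
            (perm.getD e.2.2 0) hm2 hm2 hi hi' rfl hp
          obtain ⟨c, u, hu, rfl⟩ := Uge_factor hD m hm hm2 g hgU
          rw [kap_mul hD m hm hm2 _ hi' c u hu, kap_mul hD m hm hm2 _ hi c u hu, hφ] at hrel
          rw [Finset.mem_filter]
          refine ⟨Finset.mem_univ _, ?_⟩
          rw [kap_mul hD m hm hm2 _ hi c u hu]
          have e0 : (corK D K m e.2.2)⁻¹ * corK D K m e.2.2 = 1 := inv_mul_cancel₀ ha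
          have e1 : (((sgn.getD e.2.2 0 : ℤ) : K)⁻¹ * corK D K m (perm.getD e.2.2 0) *
              ((sgn.getD (D.rank + D.neg m) 0 : ℤ) : K) * (corK D K m e.2.2)⁻¹) *
                (corK D K m e.2.2 * c) =
              ((sgn.getD e.2.2 0 : ℤ) : K)⁻¹ * (corK D K m (perm.getD e.2.2 0) * c *
                ((sgn.getD (D.rank + D.neg m) 0 : ℤ) : K)) := by
            calc _ = ((sgn.getD e.2.2 0 : ℤ) : K)⁻¹ * corK D K m (perm.getD e.2.2 0) *
                  ((sgn.getD (D.rank + D.neg m) 0 : ℤ) : K) *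
                    ((corK D K m e.2.2)⁻¹ * corK D K m e.2.2) * c := by ring
              _ = _ := by rw [e0]; ring
          rw [e1, hrel, ← mul_assoc, inv_mul_cancel₀ hs, one_mul])
        have hc := card_pow_eq_mul_le (K := K) q hq
          (((sgn.getD e.2.2 0 : ℤ) : K)⁻¹ * corK D K m (perm.getD e.2.2 0) *
              ((sgn.getD (D.rank + D.neg m) 0 : ℤ) : K) * (corK D K m e.2.2)⁻¹)
        unfold wt
        rw [if_neg k0, if_pos k3]
        exact le_trans h (Nat.mul_le_mul_right _ hc)

theorem twist_ub (hD : Seven D) [Fintype K] (S : Subgroup (GL D.Idx K)) (big : ℕ)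
    (perm pinv : List ℕ) (sgn : List ℤ) (hmono : monoOK D big perm sgn = true)
    (hinj : permInjOK D perm pinv = true) (φ : K →+* K) (q : ℕ) (hq : 2 ≤ q)
    (hφ : ∀ x, φ x = x ^ q) (hS : S ≤ fixSub (opMat D K big) φ) (tab : List (ℕ × ℕ × ℕ))
    (hOK : ubOK D perm sgn tab = true) :
    Nat.card ↥(S ⊓ D.posUnipotent K) ≤
      ((List.range' (D.nroots / 2) (D.nroots / 2)).map
        (fun m => wt (Fintype.card K) q (tab.getD (m - D.nroots / 2) (1, 0, 0)).1)).prod := by
  rw [posU_eq_Uge hD]
  have hev := nroots_even7 hD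
  apply ub_chain S _ ?_ (D.nroots / 2) (D.nroots / 2) (by omega) le_rfl
  intro m hm hm2
  have h := (allN_spec _ _).mp hOK (m - D.nroots / 2)
    (by show m - D.nroots / 2 < D.nroots / 2; omega)
  have e : Nat.add (Nat.div D.nroots 2) (m - D.nroots / 2) = m := by
    show D.nroots / 2 + (m - D.nroots / 2) = m
    omega
  rw [e] at h
  exact ub_root hD S big perm pinv sgn hmono hinj φ q hq hφ hS m hm hm2 _ h

end Fix

end Cfsg.Agent.Helper11
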