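import Cfsg.Agent.Helper11.ChevTwU2

set_option autoImplicit false

/-!
Lower bound for `U ∩ S` from conjugates of twisted root elements; membership of the twisted
generators in the fixed subgroup; the number of fixed points of a Frobenius power in a finite field.
-/

namespace Cfsg.Agent.Helper11

open Cfsg.Lie

section LB
variable {K : Type*} [Field K] {D : ChevalleyDatum}

/-- Twisted class element `x_{r₀}(t) x_{r₁}(t^q) x_{r₂}(t^{q²}) …`. -/
noncomputable def twX (hD : Seven D) (q : ℕ) : List ℕ → K → GL D.Idx K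
  | [], _ => 1
  | r :: rest, t => xG hD r t * twX hD q rest (t ^ q)

theorem conj_twX_mem (hD : Seven D) (q : ℕ) (n : GL D.Idx K) (f : ℕ → ℕ) (hn : ConjTo hD n f)
    (m : ℕ) : ∀ (rest : List ℕ), (∀ r ∈ rest, r < D.nroots ∧ m < f r) → ∀ t : K,
      n * twX hD q rest t * n⁻¹ ∈ Uge D K (m + 1) := by
  intro rest
  induction rest with
  | nil =>
    intro _ t
    show n * 1 * n⁻¹ ∈ _
    rw [mul_one, mul_inv_cancel]
    exact one_mem _
  | cons r rest ih =>
    intro h t
    obtain ⟨hr, hmr⟩ := h r List.mem_cons_self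
    obtain ⟨hfr, ε, _, hc⟩ := hn r hr
    have e : n * twX hD q (r :: rest) t * n⁻¹ =
        (n * xG hD r t * n⁻¹) * (n * twX hD q rest (t ^ q) * n⁻¹) := by
      show n * (xG hD r t * twX hD q rest (t ^ q)) * n⁻¹ = _
      group
    rw [e, hc]
    exact mul_mem (xG_mem_Uge hD _ _ (by omega) hfr _)
      (ih (fun r' hr' => h r' (List.mem_cons_of_mem _ hr')) _)

theorem conj_twX_form (hD : Seven D) (q : ℕ) (n : GL D.Idx K) (f : ℕ → ℕ) (hn : ConjTo hD n f)
    (r : ℕ) (hr : r < D.nroots) (rest : List ℕ)
    (hrest : ∀ r' ∈ rest, r' < D.nroots ∧ f r < f r') :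
    ∃ ε : K, ε * ε = 1 ∧ ∀ t : K, ∃ u ∈ Uge D K (f r + 1),
      n * twX hD q (r :: rest) t * n⁻¹ = xG hD (f r) (ε * t) * u := by
  obtain ⟨hfr, ε, hε, hc⟩ := hn r hr
  refine ⟨ε, hε, fun t => ⟨n * twX hD q rest (t ^ q) * n⁻¹,
    conj_twX_mem hD q n f hn (f r) rest hrest _, ?_⟩⟩
  rw [← hc]
  show n * (xG hD r t * twX hD q rest (t ^ q)) * n⁻¹ = _
  group

/-- Concatenation of the blocks with the given numbers. -/
noncomputable def expandW (blocks : List (List ℕ)) (bs : List ℕ) : List ℕ :=
  @List.rec ℕ (fun _ => List ℕ) [] (fun b _ ih => List.append (blocks.getD b []) ih) bs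

theorem expandW_mem (hD : Seven D) (S : Subgroup (GL D.Idx K)) (blocks : List (List ℕ))
    (h : ∀ b, wordN (F := K) hD (blocks.getD b []) ∈ S) (bs : List ℕ) :
    wordN (F := K) hD (expandW blocks bs) ∈ S := by
  induction bs with
  | nil => exact one_mem _
  | cons b bs ih =>
    show wordN hD (blocks.getD b [] ++ expandW blocks bs) ∈ S
    rw [wordN_append]
    exact mul_mem (h b) ih

/-- Check of the table entry `(kind, block word, class, i)` of the positive root `m`. -/
noncomputable def lbRootOK (D : ChevalleyDatum) (blocks classes : List (List ℕ)) (nfix : ℕ) (m : ℕ)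
    (e : ℕ × List ℕ × ℕ × ℕ) : Bool :=
  cond (Nat.beq e.1 0 || Nat.beq e.1 3)
    (allL (fun i => Nat.blt i D.rank) (expandW blocks e.2.1) &&
     (Nat.blt e.2.2.2 D.rank && (isPM1 (corZ D m e.2.2.2) &&
     (cond (Nat.beq e.1 3) (Nat.blt e.2.2.1 nfix) (Nat.ble nfix e.2.2.1) &&
     (@List.rec ℕ (fun _ => Bool) false (fun r rest _ =>
        Nat.blt r D.nroots && (Nat.beq (wordApply D (expandW blocks e.2.1) r) m &&
          allL (fun r' => Nat.blt r' D.nroots &&
            Nat.blt m (wordApply D (expandW blocks e.2.1) r')) rest))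
        (classes.getD e.2.2.1 []))))))
    true

noncomputable def lbOK (D : ChevalleyDatum) (blocks classes : List (List ℕ)) (nfix : ℕ)
    (tab : List (ℕ × List ℕ × ℕ × ℕ)) : Bool :=
  allN (Nat.div D.nroots 2) (fun k =>
    lbRootOK D blocks classes nfix (Nat.add (Nat.div D.nroots 2) k) (tab.getD k (1, [], 0, 0)))

theorem lb_root (hD : Seven D) [Fintype K] [DecidableEq K] (S : Subgroup (GL D.Idx K)) (q : ℕ)
    (blocks classes : List (List ℕ)) (nfix : ℕ)
    (hblk : ∀ b, wordN (F := K) hD (blocks.getD b []) ∈ S)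
    (hfix : ∀ k, k < nfix → ∀ t : K, t ^ q = t → twX hD q (classes.getD k []) t ∈ S)
    (hfull : ∀ k, nfix ≤ k → ∀ t : K, twX hD q (classes.getD k []) t ∈ S)
    (m : ℕ) (hm : D.nroots / 2 ≤ m) (hm2 : m < D.nroots) (e : ℕ × List ℕ × ℕ × ℕ)
    (hOK : lbRootOK D blocks classes nfix m e = true) :
    wt (Fintype.card K) (Finset.univ.filter (fun t : K => t ^ q = t)).card e.1 *
      Nat.card ↥(S ⊓ Uge D K (m + 1)) ≤ Nat.card ↥(S ⊓ Uge D K m) := by
  have hle : S ⊓ Uge D K (m + 1) ≤ S ⊓ Uge D K m :=
    inf_le_inf_left S (Uge_anti m (m + 1) (by omega))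
  have htriv : 1 * Nat.card ↥(S ⊓ Uge D K (m + 1)) ≤ Nat.card ↥(S ⊓ Uge D K m) := by
    rw [one_mul]
    exact Nat.card_le_card_of_injective _ (Subgroup.inclusion_injective hle)
  unfold lbRootOK at hOK
  by_cases k03 : e.1 = 0 ∨ e.1 = 3
  · have hb : (Nat.beq e.1 0 || Nat.beq e.1 3) = true := by
      rcases k03 with h | h <;> rw [h] <;> rfl
    rw [hb] at hOK
    simp only [cond_true, Bool.and_eq_true] at hOK
    obtain ⟨hv0, hi0, hpm, hk, hcls⟩ := hOK
    have hv : ∀ i ∈ expandW blocks e.2.1, i < D.rank :=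
      fun i hi => (blt_iff _ _).mp ((allL_spec _ _).mp hv0 i hi)
    have hi := (blt_iff _ _).mp hi0
    have ha : corK D K m e.2.2.2 ≠ 0 := pm1_ne_zero (K := K) _ hpm
    have hnS := expandW_mem hD S blocks hblk e.2.1
    have hconj := wordN_conj (F := K) hD (expandW blocks e.2.1) hv
    cases hcl : classes.getD e.2.2.1 [] with
    | nil =>
      rw [hcl] at hcls
      exact absurd hcls Bool.false_ne_true
    | cons r rest =>
      rw [hcl] at hcls
      have hcls' : (Nat.blt r D.nroots && (Nat.beq (wordApply D (expandW blocks e.2.1) r) m &&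
          allL (fun r' => Nat.blt r' D.nroots &&
            Nat.blt m (wordApply D (expandW blocks e.2.1) r')) rest)) = true := hcls
      simp only [Bool.and_eq_true] at hcls'
      obtain ⟨hr0, hfm0, hrest0⟩ := hcls'
      have hr := (blt_iff _ _).mp hr0
      have hfm : wordApply D (expandW blocks e.2.1) r = m := (beq_iff _ _).mp hfm0
      have hrest : ∀ r' ∈ rest, r' < D.nroots ∧
          wordApply D (expandW blocks e.2.1) r < wordApply D (expandW blocks e.2.1) r' := by
        intro r' hr'
        have h := (allL_spec _ _).mp hrest0 r' hr'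
        simp only [Bool.and_eq_true] at h
        rw [hfm]
        exact ⟨(blt_iff _ _).mp h.1, (blt_iff _ _).mp h.2⟩
      obtain ⟨ε, hε, hform⟩ := conj_twX_form hD q _ _ hconj r hr rest hrest
      rw [hfm] at hform
      have hε0 : ε ≠ 0 := by
        rintro rfl
        simp at hε
      have hy : ∀ t : K, twX hD q (r :: rest) t ∈ S →
          wordN hD (expandW blocks e.2.1) * twX hD q (r :: rest) t *
            (wordN hD (expandW blocks e.2.1))⁻¹ ∈ S ⊓ Uge D K m := by
        intro t ht
        refine Subgroup.mem_inf.mpr ⟨mul_mem (mul_mem hnS ht) (inv_mem hnS), ?_⟩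
        obtain ⟨u, hu, hyu⟩ := hform t
        rw [hyu]
        exact mul_mem (xG_mem_Uge hD m m le_rfl hm2 _) (Uge_anti m (m + 1) (by omega) hu)
      have hkap : ∀ t : K, kap hD m e.2.2.2 (wordN hD (expandW blocks e.2.1) *
          twX hD q (r :: rest) t * (wordN hD (expandW blocks e.2.1))⁻¹) =
            corK D K m e.2.2.2 * (ε * t) := by
        intro t
        obtain ⟨u, hu, hyu⟩ := hform t
        rw [hyu, kap_mul hD m hm hm2 _ hi _ u hu]
      have hinj : ∀ t t' : K, corK D K m e.2.2.2 * (ε * t) = corK D K m e.2.2.2 * (ε * t') →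
          t = t' := fun t t' h => mul_left_cancel₀ hε0 (mul_left_cancel₀ ha h)
      rcases k03 with k0 | k3
      · rw [k0] at hk
        simp only [show Nat.beq 0 3 = false from rfl, cond_false] at hk
        have hk' : nfix ≤ e.2.2.1 := Nat.le_of_ble_eq_true hk
        have h := lb_step hD S m hm hm2 e.2.2.2 hi Finset.univ
          (fun t => wordN hD (expandW blocks e.2.1) * twX hD q (r :: rest) t *
            (wordN hD (expandW blocks e.2.1))⁻¹)
          (fun t _ => hy t (by rw [← hcl]; exact hfull _ hk' t))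
          (fun t _ t' _ h => hinj t t' (by rw [← hkap t, ← hkap t']; exact h))
        rw [Finset.card_univ] at h
        unfold wt
        rw [if_pos k0]
        exact h
      · rw [k3] at hk
        simp only [show Nat.beq 3 3 = true from rfl, cond_true] at hk
        have hk' : e.2.2.1 < nfix := (blt_iff _ _).mp hk
        have h := lb_step hD S m hm hm2 e.2.2.2 hi (Finset.univ.filter (fun t : K => t ^ q = t))
          (fun t => wordN hD (expandW blocks e.2.1) * twX hD q (r :: rest) t *
            (wordN hD (expandW blocks e.2.1))⁻¹)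
          (fun t ht => hy t (by rw [← hcl]; exact hfix _ hk' t (Finset.mem_filter.mp ht).2))
          (fun t _ t' _ h => hinj t t' (by rw [← hkap t, ← hkap t']; exact h))
        unfold wt
        rw [if_neg (by omega), if_pos k3]
        exact h
  · unfold wt
    rw [if_neg (fun h => k03 (Or.inl h)), if_neg (fun h => k03 (Or.inr h))]
    exact htriv

theorem twist_lb (hD : Seven D) [Fintype K] [DecidableEq K] (S : Subgroup (GL D.Idx K)) (q : ℕ)
    (blocks classes : List (List ℕ)) (nfix : ℕ)
    (hblk : ∀ b, wordN (F := K) hD (blocks.getD b []) ∈ S)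
    (hfix : ∀ k, k < nfix → ∀ t : K, t ^ q = t → twX hD q (classes.getD k []) t ∈ S)
    (hfull : ∀ k, nfix ≤ k → ∀ t : K, twX hD q (classes.getD k []) t ∈ S)
    (tab : List (ℕ × List ℕ × ℕ × ℕ)) (hOK : lbOK D blocks classes nfix tab = true) :
    ((List.range' (D.nroots / 2) (D.nroots / 2)).map
      (fun m => wt (Fintype.card K) (Finset.univ.filter (fun t : K => t ^ q = t)).card
        (tab.getD (m - D.nroots / 2) (1, [], 0, 0)).1)).prod ≤
      Nat.card ↥(S ⊓ D.posUnipotent K) := by
  rw [posU_eq_Uge hD]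
  have hev := nroots_even7 hD
  apply lb_chain S _ ?_ (D.nroots / 2) (D.nroots / 2) (by omega) le_rfl
  intro m hm hm2
  have h := (allN_spec _ _).mp hOK (m - D.nroots / 2)
    (by show m - D.nroots / 2 < D.nroots / 2; omega)
  have e : Nat.add (Nat.div D.nroots 2) (m - D.nroots / 2) = m := by
    show D.nroots / 2 + (m - D.nroots / 2) = m
    omega
  rw [e] at h
  exact lb_root hD S q blocks classes nfix hblk hfix hfull m hm hm2 _ h

/-! ### The twisted generators are fixed -/

theorem sum_map_hom (f : K →+* K) (t : K) (L : List (ℕ × ℤ)) :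
    f ((L.map fun km => ((km.2 : ℤ) : K) * t ^ km.1).sum) =
      (L.map fun km => ((km.2 : ℤ) : K) * (f t) ^ km.1).sum := by
  induction L with
  | nil => simp
  | cons a L ih =>
    simp only [List.map_cons, List.sum_cons, map_add, map_mul, map_intCast, map_pow, ih]

theorem xMat_map_hom (D : ChevalleyDatum) (f : K →+* K) (r : Fin D.nroots) (t : K) :
    (D.xMat K r t).map f = D.xMat K r (f t) := by
  ext row col
  rw [Matrix.map_apply]
  rcases col with i | s <;> rcases row with i' | u
  · simp only [Cfsg.Lie.ChevalleyDatum.xMat, Matrix.of_apply]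
    split_ifs <;> simp
  · simp only [Cfsg.Lie.ChevalleyDatum.xMat, Matrix.of_apply]
    split_ifs <;> simp
  · simp only [Cfsg.Lie.ChevalleyDatum.xMat, Matrix.of_apply]
    split_ifs <;> simp
  · simp only [Cfsg.Lie.ChevalleyDatum.xMat, Matrix.of_apply]
    split_ifs <;> simp [sum_map_hom]

theorem x_map_hom (D : ChevalleyDatum) (f : K →+* K) (r : ℕ) (t : K) :
    (D.x K r t).map f = D.x K r (f t) := by
  unfold ChevalleyDatum.x
  split_ifs with h
  · exact xMat_map_hom D f ⟨r, h⟩ t
  · exact Matrix.map_one _ (map_zero f) (map_one f)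

theorem fix_single (hD : Seven D) (big : ℕ) (φ : K →+* K) (r : ℕ)
    (h : permOK D big r r = true) (t : K) (ht : φ t = t) :
    xG hD r t ∈ fixSub (opMat D K big) φ := by
  rw [mem_fixSub, xG_val, x_map_hom, ht]
  exact (perm_sound (tabOK_seven D hD) big r r h t).symm

theorem fix_pair (hD : Seven D) (big : ℕ) (φ : K →+* K) (r r' : ℕ)
    (h1 : permOK D big r r' = true) (h2 : permOK D big r' r = true)
    (hcomm : ∀ t u : K, Commute (xG hD r t) (xG hD r' u)) (t : K) (ht : φ (φ t) = t) :
    xG hD r t * xG hD r' (φ t) ∈ fixSub (opMat D K big) φ := by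
  have hT := tabOK_seven D hD
  rw [mem_fixSub, Units.val_mul, xG_val, xG_val, Matrix.map_mul, x_map_hom, x_map_hom, ht]
  have e1 := perm_sound (F := K) hT big r r' h1
  have e2 := perm_sound (F := K) hT big r' r h2
  have hc : D.x K r' t * D.x K r (φ t) = D.x K r (φ t) * D.x K r' t := by
    have := congrArg (fun g : GL D.Idx K => (g : Matrix D.Idx D.Idx K)) (hcomm (φ t) t).eq
    simp only [Units.val_mul, xG_val] at this
    exact this.symm
  calc D.x K r t * D.x K r' (φ t) * opMat D K big
      = D.x K r t * (D.x K r' (φ t) * opMat D K big) := by rw [mul_assoc]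
    _ = D.x K r t * (opMat D K big * D.x K r (φ t)) := by rw [e1]
    _ = (D.x K r t * opMat D K big) * D.x K r (φ t) := by rw [mul_assoc]
    _ = (opMat D K big * D.x K r' t) * D.x K r (φ t) := by rw [e2]
    _ = opMat D K big * (D.x K r' t * D.x K r (φ t)) := by rw [mul_assoc]
    _ = opMat D K big * (D.x K r (φ t) * D.x K r' t) := by rw [hc]

theorem fix_triple (hD : Seven D) (big : ℕ) (φ : K →+* K) (r r' r'' : ℕ)
    (h1 : permOK D big r r' = true) (h2 : permOK D big r' r'' = true)
    (h3 : permOK D big r'' r = true)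
    (hc1 : ∀ t u : K, Commute (xG hD r'' t) (xG hD r u))
    (hc2 : ∀ t u : K, Commute (xG hD r'' t) (xG hD r' u)) (t : K) (ht : φ (φ (φ t)) = t) :
    xG hD r t * (xG hD r' (φ t) * xG hD r'' (φ (φ t))) ∈ fixSub (opMat D K big) φ := by
  have hT := tabOK_seven D hD
  rw [mem_fixSub, Units.val_mul, Units.val_mul, xG_val, xG_val, xG_val, Matrix.map_mul,
    Matrix.map_mul, x_map_hom, x_map_hom, x_map_hom, ht]
  have e1 := perm_sound (F := K) hT big r r' h1
  have e2 := perm_sound (F := K) hT big r' r'' h2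
  have e3 := perm_sound (F := K) hT big r'' r h3
  have hc : D.x K r'' t * (D.x K r (φ t) * D.x K r' (φ (φ t))) =
      D.x K r (φ t) * (D.x K r' (φ (φ t)) * D.x K r'' t) := by
    have a1 := congrArg (fun g : GL D.Idx K => (g : Matrix D.Idx D.Idx K)) (hc1 t (φ t)).eq
    have a2 := congrArg (fun g : GL D.Idx K => (g : Matrix D.Idx D.Idx K)) (hc2 t (φ (φ t))).eq
    simp only [Units.val_mul, xG_val] at a1 a2
    rw [← mul_assoc, a1, mul_assoc, a2]
  calc D.x K r t * (D.x K r' (φ t) * D.x K r'' (φ (φ t))) * opMat D K big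
      = D.x K r t * (D.x K r' (φ t) * (D.x K r'' (φ (φ t)) * opMat D K big)) := by
        simp only [mul_assoc]
    _ = D.x K r t * (D.x K r' (φ t) * (opMat D K big * D.x K r' (φ (φ t)))) := by rw [e2]
    _ = D.x K r t * ((D.x K r' (φ t) * opMat D K big) * D.x K r' (φ (φ t))) := by
        simp only [mul_assoc]
    _ = D.x K r t * ((opMat D K big * D.x K r (φ t)) * D.x K r' (φ (φ t))) := by rw [e1]
    _ = (D.x K r t * opMat D K big) * (D.x K r (φ t) * D.x K r' (φ (φ t))) := by
        simp only [mul_assoc]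
    _ = (opMat D K big * D.x K r'' t) * (D.x K r (φ t) * D.x K r' (φ (φ t))) := by rw [e3]
    _ = opMat D K big * (D.x K r'' t * (D.x K r (φ t) * D.x K r' (φ (φ t)))) := by
        rw [mul_assoc]
    _ = opMat D K big * (D.x K r (φ t) * (D.x K r' (φ (φ t)) * D.x K r'' t)) := by rw [hc]

end LB

/-- The power map of a Frobenius exponent, as a ring endomorphism. -/
noncomputable def frobHom {K : Type*} [Field K] {q : ℕ} (h : IsFrob K q) : K →+* K where
  toFun x := x ^ q
  map_one' := one_pow q
  map_mul' x y := mul_pow x y q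
  map_zero' := zero_pow h.1
  map_add' := h.2

theorem frobHom_apply {K : Type*} [Field K] {q : ℕ} (h : IsFrob K q) (x : K) :
    frobHom h x = x ^ q := rfl

theorem card_fix_ge2 {K : Type*} [Field K] [Fintype K] [DecidableEq K] (q : ℕ) (hq : 2 ≤ q)
    (hfr : IsFrob K q) (hK : Fintype.card K = q ^ 2) :
    q ≤ (Finset.univ.filter (fun t : K => t ^ q = t)).card := by
  have hpow : ∀ s : K, s ^ (q ^ 2) = s := fun s => by rw [← hK]; exact FiniteField.pow_card s
  have h1 := Finset.card_le_mul_card_image (f := fun s : K => s + s ^ q) Finset.univ q (by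
    intro a ha
    rw [Finset.mem_image] at ha
    obtain ⟨s₀, _, rfl⟩ := ha
    calc (Finset.univ.filter (fun x : K => x + x ^ q = s₀ + s₀ ^ q)).card
        ≤ (Finset.univ.filter (fun y : K => y ^ q = (-1) * y)).card := by
          apply Finset.card_le_card_of_injOn (fun x => x - s₀)
          · intro x hx
            rw [Finset.mem_coe, Finset.mem_filter] at hx ⊢
            refine ⟨Finset.mem_univ _, ?_⟩
            have e : (x - s₀) ^ q = x ^ q - s₀ ^ q := by
              rw [sub_eq_add_neg, hfr.2, hfr.neg, ← sub_eq_add_neg]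
            rw [e]
            linear_combination hx.2
          · intro x _ x' _ h
            exact sub_left_injective h
      _ ≤ q := card_pow_eq_mul_le q hq (-1))
  rw [Finset.card_univ, hK] at h1
  have h2 : (Finset.univ.image (fun s : K => s + s ^ q)).card ≤
      (Finset.univ.filter (fun t : K => t ^ q = t)).card := by
    apply Finset.card_le_card
    intro y hy
    rw [Finset.mem_image] at hy
    obtain ⟨s, _, rfl⟩ := hy
    rw [Finset.mem_filter]
    refine ⟨Finset.mem_univ _, ?_⟩
    rw [hfr.2, ← pow_mul, ← sq, hpow, add_comm]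
  have h3 : q ^ 2 ≤ q * (Finset.univ.filter (fun t : K => t ^ q = t)).card :=
    le_trans h1 (Nat.mul_le_mul_left _ h2)
  rw [sq] at h3
  exact Nat.le_of_mul_le_mul_left h3 (by omega)

end Cfsg.Agent.Helper11
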