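import Cfsg.Agent.Helper11.ChevTwUE6

set_option autoImplicit false
set_option maxRecDepth 100000
set_option maxHeartbeats 0

/-!
`|U ∩ ³D₄(q)| = q¹²` (tables generated by tools/twu.py).
-/

namespace Cfsg.Agent.Helper11

open Cfsg.Lie

def twPerm_D4 : List ℕ := [2, 1, 3, 0, 4, 5, 10, 6, 11, 14, 7, 12, 8, 13, 15, 9, 22, 16, 18, 23, 19, 24, 17, 20, 25, 21, 26, 27]

def twSgn_D4 : List ℤ := [1, 1, 1, 1, 1, 1, -1, 1, -1, 1, -1, 1, -1, 1, 1, 1, 1, 1, 1, -1, 1, -1, 1, -1, 1, -1, 1, 1]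

def twPinv_D4 : List ℕ := [3, 1, 0, 2, 4, 5, 7, 10, 12, 15, 6, 8, 11, 13, 9, 14, 17, 22, 18, 20, 23, 25, 16, 19, 21, 24, 26, 27]

def twUb_D4 : List (ℕ × ℕ × ℕ) := [(0, 0, 3), (2, 12, 2), (3, 0, 1), (0, 0, 1), (2, 15, 1), (0, 0, 1), (1, 12, 3), (1, 15, 1), (1, 17, 1), (1, 20, 0), (3, 0, 0), (3, 0, 0)]

def twLb_D4 : List (ℕ × List ℕ × ℕ × ℕ) := [(0, [], 3, 3), (2, [], 0, 0), (3, [], 0, 1), (0, [0], 3, 1), (2, [], 0, 0), (0, [1, 0], 1, 1), (1, [], 0, 0), (1, [], 0, 0), (1, [], 0, 0), (1, [], 0, 0), (3, [1], 0, 0), (3, [0, 1], 0, 0)]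

def twBlocks_D4 : List (List ℕ) := [[1], [0, 2, 3]]

def twClasses_D4 : List (List ℕ) := [[14], [18, 13, 12], [13, 12, 18], [12, 18, 13]]

def twKinds_D4 : List ℕ := [0, 2, 3, 0, 2, 0, 1, 1, 1, 1, 3, 3]

theorem twMono_D4 : monoOK chevD4 gaBig_D4a twPerm_D4 twSgn_D4 = true := by decide +kernel

theorem twInj_D4 : permInjOK chevD4 twPerm_D4 twPinv_D4 = true := by decide +kernel

theorem twUbOK_D4 : ubOK chevD4 twPerm_D4 twSgn_D4 twUb_D4 = true := by decide +kernel

theorem twLbOK_D4 : lbOK chevD4 twBlocks_D4 twClasses_D4 1 twLb_D4 = true := by decide +kernel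

theorem twKindsUb_D4 : (List.range' (chevD4.nroots / 2) (chevD4.nroots / 2)).map
    (fun m => (twUb_D4.getD (m - chevD4.nroots / 2) (1, 0, 0)).1) = twKinds_D4 := by decide +kernel

theorem twKindsLb_D4 : (List.range' (chevD4.nroots / 2) (chevD4.nroots / 2)).map
    (fun m => (twLb_D4.getD (m - chevD4.nroots / 2) (1, [], 0, 0)).1) = twKinds_D4 := by
  decide +kernel

theorem twCounts_D4 : twKinds_D4.count 0 = 3 ∧ twKinds_D4.count 3 = 3 := by decide +kernel

theorem d4_permOKs : permOK chevD4 gaBig_D4a 18 13 = true ∧ permOK chevD4 gaBig_D4a 13 12 = true ∧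
    permOK chevD4 gaBig_D4a 12 18 = true ∧ permOK chevD4 gaBig_D4a 5 10 = true ∧
    permOK chevD4 gaBig_D4a 10 11 = true ∧ permOK chevD4 gaBig_D4a 11 5 = true ∧
    permOK chevD4 gaBig_D4a 14 14 = true ∧ permOK chevD4 gaBig_D4a 9 9 = true := by
  decide +kernel

theorem card_roots_le {K : Type*} [Field K] [Fintype K] [DecidableEq K] (p : Polynomial K)
    (hp : p ≠ 0) : (Finset.univ.filter (fun y : K => p.eval y = 0)).card ≤ p.natDegree := by
  calc (Finset.univ.filter (fun y : K => p.eval y = 0)).card ≤ p.roots.toFinset.card := by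
        apply Finset.card_le_card
        intro y hy
        rw [Finset.mem_filter] at hy
        rw [Multiset.mem_toFinset, Polynomial.mem_roots hp]
        exact hy.2
    _ ≤ p.roots.card := Multiset.toFinset_card_le _
    _ ≤ p.natDegree := Polynomial.card_roots' p

theorem card_fix_ge3 {K : Type*} [Field K] [Fintype K] [DecidableEq K] (q : ℕ) (hq : 2 ≤ q)
    (hfr : IsFrob K q) (hK : Fintype.card K = q ^ 3) :
    q ≤ (Finset.univ.filter (fun t : K => t ^ q = t)).card := by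
  have hpow : ∀ s : K, ((s ^ q) ^ q) ^ q = s := fun s => by
    rw [← pow_mul, ← pow_mul, show q * (q * q) = q ^ 3 by ring, ← hK]
    exact FiniteField.pow_card s
  have hqq : q < q * q := by nlinarith
  have hdeg : (Polynomial.X ^ (q * q) + (Polynomial.X ^ q + Polynomial.X) : Polynomial K).natDegree
      = q * q := by
    rw [Polynomial.natDegree_add_eq_left_of_natDegree_lt]
    · exact Polynomial.natDegree_X_pow _
    · rw [Polynomial.natDegree_X_pow]
      calc (Polynomial.X ^ q + Polynomial.X : Polynomial K).natDegree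
          ≤ max (Polynomial.X ^ q : Polynomial K).natDegree (Polynomial.X : Polynomial K).natDegree :=
            Polynomial.natDegree_add_le _ _
        _ ≤ q := by
            rw [Polynomial.natDegree_X_pow]
            exact max_le le_rfl (le_trans Polynomial.natDegree_X_le (by omega))
        _ < q * q := hqq
  have hne : (Polynomial.X ^ (q * q) + (Polynomial.X ^ q + Polynomial.X) : Polynomial K) ≠ 0 := by
    intro h0
    rw [h0, Polynomial.natDegree_zero] at hdeg
    omega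
  have h1 := Finset.card_le_mul_card_image (f := fun s : K => s + (s ^ q + (s ^ q) ^ q))
    Finset.univ (q * q) (by
    intro a ha
    rw [Finset.mem_image] at ha
    obtain ⟨s₀, _, rfl⟩ := ha
    calc (Finset.univ.filter (fun x : K => x + (x ^ q + (x ^ q) ^ q) =
          s₀ + (s₀ ^ q + (s₀ ^ q) ^ q))).card
        ≤ (Finset.univ.filter (fun y : K => (Polynomial.X ^ (q * q) +
            (Polynomial.X ^ q + Polynomial.X) : Polynomial K).eval y = 0)).card := by
          apply Finset.card_le_card_of_injOn (fun x => x - s₀)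
          · intro x hx
            rw [Finset.mem_coe, Finset.mem_filter] at hx ⊢
            refine ⟨Finset.mem_univ _, ?_⟩
            have e : (x - s₀) ^ q = x ^ q - s₀ ^ q := by
              rw [sub_eq_add_neg, hfr.2, hfr.neg, ← sub_eq_add_neg]
            have e2 : (x - s₀) ^ (q * q) = (x ^ q) ^ q - (s₀ ^ q) ^ q := by
              rw [pow_mul, e, sub_eq_add_neg, hfr.2, hfr.neg, ← sub_eq_add_neg]
            simp only [Polynomial.eval_add, Polynomial.eval_pow, Polynomial.eval_X]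
            rw [e, e2]
            linear_combination hx.2
          · intro x _ x' _ h
            exact sub_left_injective h
      _ ≤ q * q := by
          have := card_roots_le _ hne
          rw [hdeg] at this
          exact this)
  rw [Finset.card_univ, hK] at h1
  have h2 : (Finset.univ.image (fun s : K => s + (s ^ q + (s ^ q) ^ q))).card ≤
      (Finset.univ.filter (fun t : K => t ^ q = t)).card := by
    apply Finset.card_le_card
    intro y hy
    rw [Finset.mem_image] at hy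
    obtain ⟨s, _, rfl⟩ := hy
    rw [Finset.mem_filter]
    refine ⟨Finset.mem_univ _, ?_⟩
    rw [hfr.2, hfr.2, hpow]
    ring
  have h3 : q ^ 3 ≤ q * q * (Finset.univ.filter (fun t : K => t ^ q = t)).card :=
    le_trans h1 (Nat.mul_le_mul_left _ h2)
  have h4 : q * q * q ≤ q * q * (Finset.univ.filter (fun t : K => t ^ q = t)).card := by
    have e : q * q * q = q ^ 3 := by ring
    rw [e]; exact h3
  exact Nat.le_of_mul_le_mul_left h4 (by positivity)

theorem d4_U_card {K : Type*} [Field K] [Fintype K] {q : ℕ} (hq : IsPrimePow q)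
    (hK : Fintype.card K = q ^ 3) :
    Nat.card ↥(chevD4.posUnipotent K ⊓ twistedD4 K q) = q ^ 12 := by
  classical
  have hD : Seven chevD4 := by simp
  have hfr : IsFrob K q := isFrob_of_card hq hK
  have hfr2 : IsFrob K (q ^ 2) := by rw [sq]; exact hfr.mul hfr
  have hq2 : 2 ≤ q := hq.two_le
  have hqqq : ∀ t : K, ((t ^ q) ^ q) ^ q = t := fun t => by
    rw [← pow_mul, ← pow_mul, show q * (q * q) = q ^ 3 by ring, ← hK]
    exact FiniteField.pow_card t
  have hsq : ∀ t : K, t ^ (q ^ 2) = (t ^ q) ^ q := fun t => by rw [← pow_mul, sq]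
  have hφ3 : ∀ t : K, frobHom hfr (frobHom hfr (frobHom hfr t)) = t := fun t => hqqq t
  obtain ⟨p1, p2, p3, p4, p5, p6, p7, p8⟩ := d4_permOKs
  obtain ⟨n18, n13, n12, n14, s0, s1, s2, s3, r1, r2, r3, r4, r5⟩ := d4_facts
  obtain ⟨o1, o2, o3⟩ := d4_orth
  have so1 := sorth_of_OK (K := K) hD 18 13 o1
  have so2 := sorth_of_OK (K := K) hD 18 12 o2
  have so3 := sorth_of_OK (K := K) hD 13 12 o3
  have gen1 : ∀ t : K, t ^ q = t → ∀ r ∈ [d4p2, d4m2], xG hD r t ∈ twistedD4 K q := by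
    intro t ht r hr
    rw [← wG_one]
    exact mem_gen hD _ _ (Or.inl ⟨t, ht, r, hr, rfl⟩)
  have gen2 : ∀ t : K, ∀ rs ∈ [(d4p1, d4p3, d4p4), (d4m1, d4m3, d4m4)],
      xG hD rs.1 t * (xG hD rs.2.1 (t ^ q) * xG hD rs.2.2 (t ^ (q ^ 2))) ∈ twistedD4 K q := by
    intro t rs hrs
    rw [← wG_three]
    exact mem_gen hD _ _ (Or.inr ⟨t, rs, hrs, rfl⟩)
  have hP : ∀ t : K, t ^ q = t → (-t) ^ q = -t := fun t ht => by rw [hfr.neg, ht]
  have P1 : (1 : K) ^ q = 1 := one_pow q
  have Pm : (-(1 : K)⁻¹) ^ q = -(1 : K)⁻¹ := by rw [inv_one]; exact hP 1 P1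
  have g14 : ∀ t : K, t ^ q = t → xG hD 14 t ∈ twistedD4 K q :=
    fun t ht => gen1 t ht d4p2 (by simp)
  have g9 : ∀ t : K, t ^ q = t → xG hD 9 t ∈ twistedD4 K q :=
    fun t ht => gen1 t ht d4m2 (by simp)
  have hn2 : nG hD (chevD4.simple 1) (1 : K) ∈ twistedD4 K q := by
    rw [nG_eq, s1, n14]
    exact mul_mem (mul_mem (g14 1 P1) (g9 _ Pm)) (g14 1 P1)
  have hNS : nG hD 18 (1 : K) * (nG hD 13 1 * nG hD 12 1) ∈ twistedD4 K q :=
    tri_clsN_mem hD _ 18 13 12 q hfr hfr2 o1 o2 o3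
      (fun t => gen2 t (d4p1, d4p3, d4p4) (by simp))
      (fun t => by rw [n18, n13, n12]; exact gen2 t (d4m1, d4m3, d4m4) (by simp))
  have hS : twistedD4 K q ≤ fixSub (opMat chevD4 K gaBig_D4a) (frobHom hfr) := by
    apply gen_le hD
    intro w hw
    rcases hw with ⟨t, ht, r, hr, rfl⟩ | ⟨t, rs, hrs, rfl⟩
    · rw [wG_one]
      simp only [List.mem_cons, List.mem_nil_iff, or_false] at hr
      rcases hr with rfl | rfl
      · exact fix_single hD _ _ 14 p7 t ht
      · exact fix_single hD _ _ 9 p8 t ht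
    · rw [wG_three]
      simp only [List.mem_cons, List.mem_nil_iff, or_false] at hrs
      rcases hrs with rfl | rfl
      · show xG hD 18 t * (xG hD 13 (t ^ q) * xG hD 12 (t ^ (q ^ 2))) ∈ _
        rw [hsq]
        exact fix_triple hD _ _ 18 13 12 p1 p2 p3 (fun t u => ((so2 u t).1).symm)
          (fun t u => ((so3 u t).1).symm) t (hφ3 t)
      · show xG hD 5 t * (xG hD 10 (t ^ q) * xG hD 11 (t ^ (q ^ 2))) ∈ _
        rw [hsq]
        exact fix_triple hD _ _ 5 10 11 p4 p5 p6 (fun t u => by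
            have h := (so2 u t).2.2.2
            rw [n18, n12] at h
            exact h.symm)
          (fun t u => by
            have h := (so3 u t).2.2.2
            rw [n13, n12] at h
            exact h.symm) t (hφ3 t)
  have hub := twist_ub hD (twistedD4 K q) gaBig_D4a twPerm_D4 twPinv_D4 twSgn_D4 twMono_D4
    twInj_D4 (frobHom hfr) q hq2 (frobHom_apply hfr) hS twUb_D4 twUbOK_D4
  have hblk : ∀ b, wordN (F := K) hD (twBlocks_D4.getD b []) ∈ twistedD4 K q := by
    intro b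
    rcases b with _ | _ | b
    · show nG hD (chevD4.simple 1) 1 * 1 ∈ _
      rw [mul_one]; exact hn2
    · show nG hD (chevD4.simple 0) 1 * (nG hD (chevD4.simple 2) 1 *
        (nG hD (chevD4.simple 3) 1 * 1)) ∈ _
      rw [mul_one, s0, s2, s3]; exact hNS
    · show (1 : GL chevD4.Idx K) ∈ _
      exact one_mem _
  have hfix : ∀ k, k < 1 → ∀ t : K, t ^ q = t →
      twX hD q (twClasses_D4.getD k []) t ∈ twistedD4 K q := by
    intro k hk t ht
    rcases k with _ | k
    · show xG hD 14 t * 1 ∈ _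
      rw [mul_one]; exact g14 t ht
    · omega
  have hfull : ∀ k, 1 ≤ k → ∀ t : K,
      twX hD q (twClasses_D4.getD k []) t ∈ twistedD4 K q := by
    intro k hk t
    rcases k with _ | _ | _ | _ | k
    · omega
    · show xG hD 18 t * (xG hD 13 (t ^ q) * (xG hD 12 ((t ^ q) ^ q) * 1)) ∈ _
      rw [mul_one, ← hsq]
      exact gen2 t (d4p1, d4p3, d4p4) (by simp)
    · show xG hD 13 t * (xG hD 12 (t ^ q) * (xG hD 18 ((t ^ q) ^ q) * 1)) ∈ _
      rw [mul_one]
      have h := gen2 ((t ^ q) ^ q) (d4p1, d4p3, d4p4) (by simp)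
      rw [hsq, hqqq] at h
      have c1 := ((so1 ((t ^ q) ^ q) t).1).eq
      have c2 := ((so2 ((t ^ q) ^ q) (t ^ q)).1).eq
      rw [← c2, ← mul_assoc, ← c1, mul_assoc]
      exact h
    · show xG hD 12 t * (xG hD 18 (t ^ q) * (xG hD 13 ((t ^ q) ^ q) * 1)) ∈ _
      rw [mul_one]
      have h := gen2 (t ^ q) (d4p1, d4p3, d4p4) (by simp)
      rw [hsq, hqqq] at h
      have c1 := ((so2 (t ^ q) t).1).eq
      have c2 := ((so3 ((t ^ q) ^ q) t).1).eq
      rw [← mul_assoc, ← c1, mul_assoc, ← c2]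
      exact h
    · show (1 : GL chevD4.Idx K) ∈ _
      exact one_mem _
  have hlb := twist_lb hD (twistedD4 K q) q twBlocks_D4 twClasses_D4 1 hblk hfix hfull twLb_D4
    twLbOK_D4
  rw [prod_wt_eq _ _ _ _ _ twKindsUb_D4, twCounts_D4.1, twCounts_D4.2, hK] at hub
  rw [prod_wt_eq _ _ _ _ _ twKindsLb_D4, twCounts_D4.1, twCounts_D4.2, hK] at hlb
  have hT := card_fix_ge3 q hq2 hfr hK
  rw [inf_comm]
  apply le_antisymm
  · calc Nat.card ↥(twistedD4 K q ⊓ chevD4.posUnipotent K) ≤ (q ^ 3) ^ 3 * q ^ 3 := hub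
      _ = q ^ 12 := by ring
  · calc q ^ 12 = (q ^ 3) ^ 3 * q ^ 3 := by ring
      _ ≤ (q ^ 3) ^ 3 * (Finset.univ.filter (fun t : K => t ^ q = t)).card ^ 3 :=
        Nat.mul_le_mul_left _ (Nat.pow_le_pow_left hT 3)
      _ ≤ _ := hlb

end Cfsg.Agent.Helper11
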