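import Cfsg.Agent.Helper11.ChevTwU3

set_option autoImplicit false
set_option maxRecDepth 100000
set_option maxHeartbeats 0

/-!
`|U ∩ ²E₆(q)| = q³⁶` (tables generated by tools/twu.py).
-/

namespace Cfsg.Agent.Helper11

open Cfsg.Lie

def twPerm_E6 : List ℕ := [5, 1, 4, 3, 2, 0, 6, 7, 8, 11, 22, 9, 12, 23, 14, 25, 28, 17, 32, 36, 39, 41, 10, 13, 24, 15, 26, 29, 16, 27, 30, 31, 18, 33, 37, 40, 19, 34, 38, 20, 35, 21, 62, 48, 63, 45, 49, 64, 43, 46, 50, 65, 52, 53, 56, 67, 54, 57, 68, 59, 70, 73, 42, 44, 47, 51, 66, 55, 58, 69, 60, 71, 74, 61, 72, 75, 76, 77]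

def twSgn_E6 : List ℤ := [1, 1, 1, 1, 1, 1, 1, 1, 1, 1, -1, 1, 1, -1, 1, -1, -1, 1, -1, 1, -1, 1, -1, -1, 1, -1, 1, 1, -1, 1, 1, 1, -1, 1, -1, 1, 1, -1, 1, -1, 1, 1, 1, 1, -1, 1, -1, 1, 1, -1, 1, -1, 1, 1, 1, -1, 1, 1, -1, 1, -1, -1, 1, -1, 1, -1, 1, -1, -1, 1, -1, 1, 1, -1, 1, 1, 1, 1]

def twPinv_E6 : List ℕ := [5, 1, 4, 3, 2, 0, 6, 7, 8, 11, 22, 9, 12, 23, 14, 25, 28, 17, 32, 36, 39, 41, 10, 13, 24, 15, 26, 29, 16, 27, 30, 31, 18, 33, 37, 40, 19, 34, 38, 20, 35, 21, 62, 48, 63, 45, 49, 64, 43, 46, 50, 65, 52, 53, 56, 67, 54, 57, 68, 59, 70, 73, 42, 44, 47, 51, 66, 55, 58, 69, 60, 71, 74, 61, 72, 75, 76, 77]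

def twUb_E6 : List (ℕ × ℕ × ℕ) := [(0, 0, 5), (0, 0, 4), (0, 0, 4), (3, 0, 3), (0, 0, 3), (0, 0, 3), (1, 37, 4), (1, 40, 3), (3, 0, 2), (0, 0, 2), (3, 0, 1), (3, 0, 1), (0, 0, 1), (0, 0, 1), (1, 48, 1), (3, 0, 1), (0, 0, 1), (3, 0, 1), (0, 0, 1), (0, 0, 1), (1, 36, 5), (1, 38, 4), (1, 41, 3), (1, 45, 2), (3, 0, 0), (1, 49, 1), (1, 52, 1), (3, 0, 0), (1, 54, 1), (3, 0, 0), (0, 0, 0), (1, 55, 1), (1, 66, 0), (3, 0, 0), (3, 0, 0), (3, 0, 0)]

def twLb_E6 : List (ℕ × List ℕ × ℕ × ℕ) := [(0, [], 4, 5), (0, [], 5, 4), (0, [2], 5, 4), (3, [], 1, 3), (0, [1], 5, 3), (0, [2, 1], 5, 3), (1, [], 0, 0), (1, [], 0, 0), (3, [3], 1, 2), (0, [3, 2, 1], 5, 2), (3, [], 0, 1), (3, [0], 1, 1), (0, [0, 1], 5, 1), (0, [2, 0, 1], 5, 1), (1, [], 0, 0), (3, [3, 0], 1, 1), (0, [3, 2, 0, 1], 5, 1), (3, [1, 3, 0], 1, 1), (0, [1, 3, 2, 0, 1], 5, 1), (0, [3, 1, 3, 2, 0, 1], 5, 1), (1, [], 0, 0), (1, [], 0, 0),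 (1, [], 0, 0), (1, [], 0, 0), (3, [2, 3], 1, 0), (1, [], 0, 0), (1, [], 0, 0), (3, [2, 3, 0], 1, 0), (1, [], 0, 0), (3, [2, 1, 3, 0], 1, 0), (0, [2, 3, 1, 3, 2, 0, 1], 5, 0), (1, [], 0, 0), (1, [], 0, 0), (3, [3, 2, 1, 3, 0], 1, 0), (3, [1, 3, 2, 1, 3, 0], 1, 0), (3, [0, 1, 3, 2, 1, 3, 0], 1, 0)]

def twBlocks_E6 : List (List ℕ) := [[1], [3], [0, 5], [2, 4]]

def twClasses_E6 : List (List ℕ) := [[46], [39], [56, 36], [42, 37], [36, 56], [37, 42]]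

def twKinds_E6 : List ℕ := [0, 0, 0, 3, 0, 0, 1, 1, 3, 0, 3, 3, 0, 0, 1, 3, 0, 3, 0, 0, 1, 1, 1, 1, 3, 1, 1, 3, 1, 3, 0, 1, 1, 3, 3, 3]

theorem twMono_E6 : monoOK chevE6 gaBig_E6 twPerm_E6 twSgn_E6 = true := by decide +kernel

theorem twInj_E6 : permInjOK chevE6 twPerm_E6 twPinv_E6 = true := by decide +kernel

theorem twUbOK_E6 : ubOK chevE6 twPerm_E6 twSgn_E6 twUb_E6 = true := by decide +kernel

theorem twLbOK_E6 : lbOK chevE6 twBlocks_E6 twClasses_E6 2 twLb_E6 = true := by decide +kernel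

theorem twKindsUb_E6 : (List.range' (chevE6.nroots / 2) (chevE6.nroots / 2)).map
    (fun m => (twUb_E6.getD (m - chevE6.nroots / 2) (1, 0, 0)).1) = twKinds_E6 := by decide +kernel

theorem twKindsLb_E6 : (List.range' (chevE6.nroots / 2) (chevE6.nroots / 2)).map
    (fun m => (twLb_E6.getD (m - chevE6.nroots / 2) (1, [], 0, 0)).1) = twKinds_E6 := by
  decide +kernel

theorem twCounts_E6 : twKinds_E6.count 0 = 12 ∧ twKinds_E6.count 3 = 12 := by decide +kernel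

theorem e6_permOKs : permOK chevE6 gaBig_E6 56 36 = true ∧ permOK chevE6 gaBig_E6 36 56 = true ∧
    permOK chevE6 gaBig_E6 15 35 = true ∧ permOK chevE6 gaBig_E6 35 15 = true ∧
    permOK chevE6 gaBig_E6 42 37 = true ∧ permOK chevE6 gaBig_E6 37 42 = true ∧
    permOK chevE6 gaBig_E6 29 34 = true ∧ permOK chevE6 gaBig_E6 34 29 = true ∧
    permOK chevE6 gaBig_E6 46 46 = true ∧ permOK chevE6 gaBig_E6 25 25 = true ∧
    permOK chevE6 gaBig_E6 39 39 = true ∧ permOK chevE6 gaBig_E6 32 32 = true := by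
  decide +kernel

theorem prod_wt_eq (Kc q : ℕ) (L : List ℕ) (f : ℕ → ℕ) (kinds : List ℕ) (h : L.map f = kinds) :
    (L.map (fun m => wt Kc q (f m))).prod = Kc ^ kinds.count 0 * q ^ kinds.count 3 := by
  rw [← h, ← wt_prod, List.map_map]
  rfl

theorem e6_U_card {K : Type*} [Field K] [Fintype K] {q : ℕ} (hq : IsPrimePow q)
    (hK : Fintype.card K = q ^ 2) :
    Nat.card ↥(chevE6.posUnipotent K ⊓ twistedE6 K q) = q ^ 36 := by
  classical
  have hD : Seven chevE6 := by simp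
  have hfr : IsFrob K q := isFrob_of_card hq hK
  have hq2 : 2 ≤ q := hq.two_le
  have hpow : ∀ s : K, s ^ (q ^ 2) = s := fun s => by rw [← hK]; exact FiniteField.pow_card s
  have hqq : ∀ t : K, (t ^ q) ^ q = t := fun t => by rw [← pow_mul, ← sq]; exact hpow t
  have hφφ : ∀ t : K, frobHom hfr (frobHom hfr t) = t := fun t => hqq t
  obtain ⟨p1, p2, p3, p4, p5, p6, p7, p8, p9, p10, p11, p12⟩ := e6_permOKs
  obtain ⟨o1, o2⟩ := e6_orth
  have so1 := sorth_of_OK (K := K) hD 56 36 o1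
  have so3 := sorth_of_OK (K := K) hD 42 37 o2
  obtain ⟨n56, n36, n42, n37, n46, n39, s1, s3, r1, r2, r3, r4⟩ := e6_facts
  obtain ⟨s0, s2, s4, s5, pp46, pp39⟩ := e6_facts2
  have gen1 : ∀ t : K, t ^ q = t → ∀ r ∈ [e6p2, e6m2, e6p4, e6m4],
      xG hD r t ∈ twistedE6 K q := by
    intro t ht r hr
    rw [← wG_one]
    exact mem_gen hD _ _ (Or.inl ⟨t, ht, r, hr, rfl⟩)
  have gen2 : ∀ t : K, ∀ rs ∈ [(e6p1, e6p6), (e6m1, e6m6), (e6p3, e6p5), (e6m3, e6m5)],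
      xG hD rs.1 t * xG hD rs.2 (t ^ q) ∈ twistedE6 K q := by
    intro t rs hrs
    rw [← wG_two]
    exact mem_gen hD _ _ (Or.inr ⟨t, rs, hrs, rfl⟩)
  have hP : ∀ t : K, t ^ q = t → (-t) ^ q = -t := fun t ht => by rw [hfr.neg, ht]
  have P1 : (1 : K) ^ q = 1 := one_pow q
  have Pm : (-(1 : K)⁻¹) ^ q = -(1 : K)⁻¹ := by rw [inv_one]; exact hP 1 P1
  have g46 : ∀ t : K, t ^ q = t → xG hD 46 t ∈ twistedE6 K q :=
    fun t ht => gen1 t ht e6p2 (by simp)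
  have g25 : ∀ t : K, t ^ q = t → xG hD 25 t ∈ twistedE6 K q :=
    fun t ht => gen1 t ht e6m2 (by simp)
  have g39 : ∀ t : K, t ^ q = t → xG hD 39 t ∈ twistedE6 K q :=
    fun t ht => gen1 t ht e6p4 (by simp)
  have g32 : ∀ t : K, t ^ q = t → xG hD 32 t ∈ twistedE6 K q :=
    fun t ht => gen1 t ht e6m4 (by simp)
  have hn2 : nG hD (chevE6.simple 1) (1 : K) ∈ twistedE6 K q := by
    rw [nG_eq, s1, n46]
    exact mul_mem (mul_mem (g46 1 P1) (g25 _ Pm)) (g46 1 P1)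
  have hn4 : nG hD (chevE6.simple 3) (1 : K) ∈ twistedE6 K q := by
    rw [nG_eq, s3, n39]
    exact mul_mem (mul_mem (g39 1 P1) (g32 _ Pm)) (g39 1 P1)
  have hN1 : nG hD 56 (1 : K) * nG hD 36 1 ∈ twistedE6 K q :=
    pair_clsN_mem hD _ 56 36 q hfr e6_orth.1 (fun t => gen2 t (e6p1, e6p6) (by simp))
      (fun t => by rw [n56, n36]; exact gen2 t (e6m1, e6m6) (by simp))
  have hN3 : nG hD 42 (1 : K) * nG hD 37 1 ∈ twistedE6 K q :=
    pair_clsN_mem hD _ 42 37 q hfr e6_orth.2 (fun t => gen2 t (e6p3, e6p5) (by simp))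
      (fun t => by rw [n42, n37]; exact gen2 t (e6m3, e6m5) (by simp))
  -- the twisted group is fixed
  have hS : twistedE6 K q ≤ fixSub (opMat chevE6 K gaBig_E6) (frobHom hfr) := by
    apply gen_le hD
    intro w hw
    rcases hw with ⟨t, ht, r, hr, rfl⟩ | ⟨t, rs, hrs, rfl⟩
    · rw [wG_one]
      simp only [List.mem_cons, List.mem_nil_iff, or_false] at hr
      rcases hr with rfl | rfl | rfl | rfl
      · exact fix_single hD _ _ 46 p9 t ht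
      · exact fix_single hD _ _ 25 p10 t ht
      · exact fix_single hD _ _ 39 p11 t ht
      · exact fix_single hD _ _ 32 p12 t ht
    · rw [wG_two]
      simp only [List.mem_cons, List.mem_nil_iff, or_false] at hrs
      rcases hrs with rfl | rfl | rfl | rfl
      · exact fix_pair hD _ _ 56 36 p1 p2 (fun t u => (so1 t u).1) t (hφφ t)
      · exact fix_pair hD _ _ 15 35 p3 p4 (fun t u => by
          have h := (so1 t u).2.2.2
          rw [n56, n36] at h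
          exact h) t (hφφ t)
      · exact fix_pair hD _ _ 42 37 p5 p6 (fun t u => (so3 t u).1) t (hφφ t)
      · exact fix_pair hD _ _ 29 34 p7 p8 (fun t u => by
          have h := (so3 t u).2.2.2
          rw [n42, n37] at h
          exact h) t (hφφ t)
  have hub := twist_ub hD (twistedE6 K q) gaBig_E6 twPerm_E6 twPinv_E6 twSgn_E6 twMono_E6
    twInj_E6 (frobHom hfr) q hq2 (frobHom_apply hfr) hS twUb_E6 twUbOK_E6
  have hblk : ∀ b, wordN (F := K) hD (twBlocks_E6.getD b []) ∈ twistedE6 K q := by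
    intro b
    rcases b with _ | _ | _ | _ | b
    · show nG hD (chevE6.simple 1) 1 * 1 ∈ _
      rw [mul_one]; exact hn2
    · show nG hD (chevE6.simple 3) 1 * 1 ∈ _
      rw [mul_one]; exact hn4
    · show nG hD (chevE6.simple 0) 1 * (nG hD (chevE6.simple 5) 1 * 1) ∈ _
      rw [mul_one, s0, s5]; exact hN1
    · show nG hD (chevE6.simple 2) 1 * (nG hD (chevE6.simple 4) 1 * 1) ∈ _
      rw [mul_one, s2, s4]; exact hN3
    · show (1 : GL chevE6.Idx K) ∈ _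
      exact one_mem _
  have hfix : ∀ k, k < 2 → ∀ t : K, t ^ q = t →
      twX hD q (twClasses_E6.getD k []) t ∈ twistedE6 K q := by
    intro k hk t ht
    rcases k with _ | _ | k
    · show xG hD 46 t * 1 ∈ _
      rw [mul_one]; exact g46 t ht
    · show xG hD 39 t * 1 ∈ _
      rw [mul_one]; exact g39 t ht
    · omega
  have hfull : ∀ k, 2 ≤ k → ∀ t : K,
      twX hD q (twClasses_E6.getD k []) t ∈ twistedE6 K q := by
    intro k hk t
    rcases k with _ | _ | _ | _ | _ | _ | k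
    · omega
    · omega
    · show xG hD 56 t * (xG hD 36 (t ^ q) * 1) ∈ _
      rw [mul_one]; exact gen2 t (e6p1, e6p6) (by simp)
    · show xG hD 42 t * (xG hD 37 (t ^ q) * 1) ∈ _
      rw [mul_one]; exact gen2 t (e6p3, e6p5) (by simp)
    · show xG hD 36 t * (xG hD 56 (t ^ q) * 1) ∈ _
      rw [mul_one, ((so1 (t ^ q) t).1).eq.symm]
      have h := gen2 (t ^ q) (e6p1, e6p6) (by simp)
      rw [hqq] at h
      exact h
    · show xG hD 37 t * (xG hD 42 (t ^ q) * 1) ∈ _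
      rw [mul_one, ((so3 (t ^ q) t).1).eq.symm]
      have h := gen2 (t ^ q) (e6p3, e6p5) (by simp)
      rw [hqq] at h
      exact h
    · show (1 : GL chevE6.Idx K) ∈ _
      exact one_mem _
  have hlb := twist_lb hD (twistedE6 K q) q twBlocks_E6 twClasses_E6 2 hblk hfix hfull twLb_E6
    twLbOK_E6
  rw [prod_wt_eq _ _ _ _ _ twKindsUb_E6, twCounts_E6.1, twCounts_E6.2, hK] at hub
  rw [prod_wt_eq _ _ _ _ _ twKindsLb_E6, twCounts_E6.1, twCounts_E6.2, hK] at hlb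
  have hT := card_fix_ge2 q hq2 hfr hK
  rw [inf_comm]
  apply le_antisymm
  · calc Nat.card ↥(twistedE6 K q ⊓ chevE6.posUnipotent K) ≤ (q ^ 2) ^ 12 * q ^ 12 := hub
      _ = q ^ 36 := by ring
  · calc q ^ 36 = (q ^ 2) ^ 12 * q ^ 12 := by ring
      _ ≤ (q ^ 2) ^ 12 * (Finset.univ.filter (fun t : K => t ^ q = t)).card ^ 12 :=
        Nat.mul_le_mul_left _ (Nat.pow_le_pow_left hT 12)
      _ ≤ _ := hlb

end Cfsg.Agent.Helper11
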