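import Cfsg.Agent.Helper11.ChevTwistCore2
import Cfsg.Agent.Helper11.ChevSuz

set_option autoImplicit false

/-!
The normal core of `B¹ = G¹ ∩ B` is trivial in `²G₂(3^(2m+1))`.
-/

namespace Cfsg.Agent.Helper11

open Cfsg.Lie

/-- The word of `n_{a+b}(1) n_{3a+b}(1)`. -/
def g2n0 : List (ℕ × Poly) :=
  [(8,[(1,0,0)]),(3,[(-1,0,0)]),(8,[(1,0,0)]),(10,[(1,0,0)]),(1,[(-1,0,0)]),(10,[(1,0,0)])]

set_option maxRecDepth 100000 in
set_option maxHeartbeats 0 in
theorem g2_conj_ok :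
    wconjOK 0 chevG2 g2n0 (fun s => Nat.sub 11 s) (fun _ => -1) = true := by decide +kernel

set_option maxRecDepth 100000 in
set_option maxHeartbeats 0 in
theorem g2_swap_ok : swapOK chevG2 (fun s => Nat.sub 11 s) = true := by decide +kernel

set_option maxRecDepth 100000 in
set_option maxHeartbeats 0 in
theorem g2_facts : chevG2.neg 10 = 1 ∧ chevG2.neg 8 = 3 ∧ chevG2.simple 0 = 7 ∧
    chevG2.simple 1 = 6 := by decide +kernel

set_option maxRecDepth 100000 in
set_option maxHeartbeats 0 in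
theorem g2_orth : orthOK chevG2 8 10 = true := by decide +kernel

def g2s : List (ℕ × Poly) :=
  [(7,[(1,0,0)]),(6,[(1,0,0)]),(8,[(1,0,0)]),(9,[(1,0,0)]),(10,[]),(11,[])]

set_option maxRecDepth 100000 in
set_option maxHeartbeats 0 in
theorem g2_entries :
    coefZ 9 (applyWordF chevG2 g2s [(1, (1,0,0))]) = 1 ∧
    coefZ 8 (applyWordF chevG2 g2s [(1, (1,0,0))]) = -2 := by decide +kernel

theorem g2_twisted_core {K : Type*} [Field K] [Fintype K] {m : ℕ}
    (hK : Fintype.card K = 3 ^ (2 * m + 1)) :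
    ((chevG2.borelSubgroup K ⊓ twistedG2 K (3 ^ m)).subgroupOf
      (twistedG2 K (3 ^ m))).normalCore = ⊥ := by
  have hD : Seven chevG2 := by simp
  have hT := tabOK_seven chevG2 hD
  haveI hch : CharP K 3 := charP_of_card Nat.prime_three hK
  haveI : Fact (Nat.Prime 3) := ⟨Nat.prime_three⟩
  have h3 : (3 : K) = 0 := by
    have h := CharP.cast_eq_zero K 3
    exact_mod_cast h
  have hθ : IsFrob K (3 ^ m) := isFrob_pow 3 m
  have hθ0 : (3 : ℕ) ^ m ≠ 0 := pow_ne_zero _ (by norm_num)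
  have hθ1 : (3 : ℕ) ^ m + 1 ≠ 0 := Nat.succ_ne_zero _
  have hθ2 : 2 * (3 : ℕ) ^ m + 1 ≠ 0 := Nat.succ_ne_zero _
  obtain ⟨n10, n8, s0, s1⟩ := g2_facts
  -- the generators
  have genU : ∀ t u v : K, wG hD (reeWordU (3 ^ m) t u v) ∈ twistedG2 K (3 ^ m) :=
    fun t u v => mem_gen hD _ _ ⟨t, u, v, Or.inl rfl⟩
  have genV : ∀ t u v : K, wG hD (reeWordV (3 ^ m) t u v) ∈ twistedG2 K (3 ^ m) :=
    fun t u v => mem_gen hD _ _ ⟨t, u, v, Or.inr rfl⟩
  have hU0 : ∀ t : K, wG hD (reeWordU (3 ^ m) 0 t 0) = xG hD 8 (t ^ 3 ^ m) * xG hD 10 t := by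
    intro t
    unfold reeWordU g2a g2b g2ab g2aab g2aaab g2aaabb
    rw [wG_cons, wG_cons, wG_cons, wG_cons, wG_cons, wG_cons, wG_nil]
    simp only [zero_pow hθ0, zero_pow hθ1, zero_pow hθ2, xG_zero, zero_add, add_zero, one_mul,
      mul_one]
  have hV0 : ∀ t : K, wG hD (reeWordV (3 ^ m) 0 (-t) 0) = xG hD 3 (t ^ 3 ^ m) * xG hD 1 t := by
    intro t
    show wG hD [(4, -(0 : K) ^ 3 ^ m), (5, -0), (3, -((0 : K) ^ (3 ^ m + 1) + (-t) ^ 3 ^ m)),
      (2, -((0 : K) ^ (2 * 3 ^ m + 1) + (0 : K) ^ 3 ^ m)), (1, - -t), (0, -0)] = _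
    rw [wG_cons, wG_cons, wG_cons, wG_cons, wG_cons, wG_cons, wG_nil]
    simp only [zero_pow hθ0, zero_pow hθ1, zero_pow hθ2, xG_zero, zero_add, add_zero, one_mul,
      mul_one, neg_zero, neg_neg, hθ.neg]
  -- the class of the orthogonal pair `a+b`, `3a+b`
  have hX : ∀ t : K, clsX hD [(8, 3 ^ m), (10, 1)] t = xG hD 8 (t ^ 3 ^ m) * xG hD 10 t := by
    intro t
    simp only [clsX, List.map_cons, List.map_nil, List.prod_cons, List.prod_nil, pow_one, mul_one]
  have hXn : ∀ t : K, clsX hD (negCls chevG2 [(8, 3 ^ m), (10, 1)]) t =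
      xG hD 3 (t ^ 3 ^ m) * xG hD 1 t := by
    intro t
    simp only [clsX, negCls, List.map_cons, List.map_nil, List.prod_cons, List.prod_nil, pow_one,
      mul_one, n8, n10]
  have hc : ([(8, 3 ^ m), (10, 1)] : List (ℕ × ℕ)).Pairwise
      (fun p p' => SOrth hD K p.1 p'.1) :=
    List.pairwise_pair.mpr (sorth_of_OK hD 8 10 g2_orth)
  have hf : ∀ p ∈ ([(8, 3 ^ m), (10, 1)] : List (ℕ × ℕ)), IsFrob K p.2 :=
    forall_mem2 hθ (isFrob_one K)
  have h1 : ∀ t : K, clsX hD [(8, 3 ^ m), (10, 1)] t ∈ twistedG2 K (3 ^ m) := fun t => by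
    rw [hX, ← hU0]; exact genU 0 t 0
  have h1n : ∀ t : K, clsX hD (negCls chevG2 [(8, 3 ^ m), (10, 1)]) t ∈
      twistedG2 K (3 ^ m) := fun t => by
    rw [hXn, ← hV0]; exact genV 0 (-t) 0
  have hn₀G : nG hD 8 (1 : K) * nG hD 10 1 ∈ twistedG2 K (3 ^ m) := by
    have h := (clsH_mem hD (twistedG2 K (3 ^ m)) [(8, 3 ^ m), (10, 1)] hc hf h1 h1n 1).1
    have e : clsN hD [(8, 3 ^ m), (10, 1)] (1 : K) = nG hD 8 1 * nG hD 10 1 := by
      simp only [clsN, List.map_cons, List.map_nil, List.prod_cons, List.prod_nil, one_pow,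
        mul_one]
    rw [e] at h
    exact h
  have hn₀N : nG hD 8 (1 : K) * nG hD 10 1 ∈ chevG2.monomialSubgroup K :=
    mul_mem (nG_mem_N hD 8 (by decide)) (nG_mem_N hD 10 (by decide))
  have e3 : nG hD 8 (1 : K) * nG hD 10 1 =
      wG hD [(8, 1), (3, -1), (8, 1), (10, 1), (1, -1), (10, 1)] := by
    rw [nG_eq, nG_eq, n8, n10, inv_one]
    simp only [wG_cons, wG_nil, mul_one, mul_assoc]
  have e4 : ∀ t : K, evalWord t 1 g2n0 = [(8, 1), (3, -1), (8, 1), (10, 1), (1, -1), (10, 1)] := by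
    intro t
    unfold g2n0 evalWord
    simp only [List.map_cons, List.map_nil, evalPoly, evalMono, List.sum_cons, List.sum_nil,
      Int.cast_one, Int.cast_neg, pow_zero, mul_one, add_zero]
  have hconj : ConjTo hD (nG hD 8 (1 : K) * nG hD 10 1) (fun s => Nat.sub 11 s) :=
    conjTo_of_wOK hD 0 Int.cast_zero g2n0 _ _ g2_conj_ok _
      (fun t => by rw [e3, wG_val, e4 t])
  have hmap := map_of_conjTo hD _ _ hconj g2_swap_ok
  have pos : ∀ s, s < chevG2.nroots → chevG2.nroots / 2 ≤ s → chevG2.IsPosRoot s :=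
    fun s hs h => ((pos_iff7 hD s hs).1).mpr h
  -- the test element
  have hgval : ((wG hD (reeWordU (3 ^ m) (1 : K) 0 0) : GL chevG2.Idx K) :
      Matrix chevG2.Idx chevG2.Idx K) = chevG2.wordMat K (evalWord 1 1 g2s) := by
    have e : reeWordU (3 ^ m) (1 : K) 0 0 = evalWord 1 1 g2s := by
      unfold reeWordU g2a g2b g2ab g2aab g2aaab g2aaabb g2s evalWord
      simp only [List.map_cons, List.map_nil, evalPoly, evalMono, List.sum_cons, List.sum_nil,
        Int.cast_one, pow_zero, mul_one, add_zero, one_pow, zero_pow hθ0]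
    rw [wG_val, e]
  have one_ne : ((1 : ℤ) : K) ≠ 0 := by rw [Int.cast_one]; exact one_ne_zero
  have two_ne : ((-2 : ℤ) : K) ≠ 0 := by
    have e : ((-2 : ℤ) : K) = 1 := by
      have e' : (-2 : ℤ) = 1 - 3 := by norm_num
      rw [e', Int.cast_sub, Int.cast_one]
      have : ((3 : ℤ) : K) = 0 := by exact_mod_cast h3
      rw [this, sub_zero]
    rw [e]; exact one_ne_zero
  refine twist_core2 hD (twistedG2 K (3 ^ m)) _ hn₀G hn₀N hmap
    [wG hD (reeWordU (3 ^ m) (1 : K) 0 0)] ?_ ?_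
  · intro g hg
    simp only [List.mem_cons, List.mem_nil_iff, or_false] at hg
    subst hg
    refine ⟨genU 1 0 0, ?_⟩
    unfold reeWordU g2a g2b g2ab g2aab g2aaab g2aaabb
    rw [wG_cons, wG_cons, wG_cons, wG_cons, wG_cons, wG_cons, wG_nil, mul_one]
    exact mul_mem (xG_mem_posU hD 7 (pos 7 (by decide) (by decide)) _)
      (mul_mem (xG_mem_posU hD 6 (pos 6 (by decide) (by decide)) _)
        (mul_mem (xG_mem_posU hD 8 (pos 8 (by decide) (by decide)) _)
          (mul_mem (xG_mem_posU hD 9 (pos 9 (by decide) (by decide)) _)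
            (mul_mem (xG_mem_posU hD 10 (pos 10 (by decide) (by decide)) _)
              (xG_mem_posU hD 11 (pos 11 (by decide) (by decide)) _)))))
  · intro j hj
    have hj' : j < 2 := hj
    interval_cases j
    · refine ⟨_, List.mem_cons_self, ⟨7, by decide⟩, ⟨1, by decide⟩, s0.symm, ?_⟩
      rw [hgval, wordMat_entry hT]
      show ((coefZ 9 (applyWordF chevG2 g2s [(1, (1, 0, 0))]) : ℤ) : K) ≠ 0
      rw [g2_entries.1]; exact one_ne
    · refine ⟨_, List.mem_cons_self, ⟨6, by decide⟩, ⟨1, by decide⟩, s1.symm, ?_⟩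
      rw [hgval, wordMat_entry hT]
      show ((coefZ 8 (applyWordF chevG2 g2s [(1, (1, 0, 0))]) : ℤ) : K) ≠ 0
      rw [g2_entries.2]; exact two_ne

end Cfsg.Agent.Helper11
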