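import Cfsg.Agent.Helper11.ChevTwistCoreG2

set_option autoImplicit false

/-!
`²G₂(3^(2m+1))` is perfect for `m ≥ 1`.
-/

namespace Cfsg.Agent.Helper11

open Cfsg.Lie

/-! ### Two abstract lemmas -/

/-- A map from a field of characteristic 3 to a commutative group that is additive along `+1`
and invariant under multiplication by non-zero squares is trivial. -/
theorem ree_kill {K Γ : Type*} [Field K] [CommGroup Γ] (h3 : (3 : K) = 0) (A : K → Γ)
    (h0 : A 0 = 1) (hadd : ∀ c, A c * A 1 = A (c + 1))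
    (hsq : ∀ x : K, x ≠ 0 → ∀ t, A (x ^ 2 * t) = A t)
    (d : K) (hd0 : d ≠ 0) (hd4 : d ^ 4 ≠ 1) (t : K) : A t = 1 := by
  have R3 : ∀ x : K, x ≠ 0 → ∀ t, A (t + x ^ 2) = A t * A 1 := by
    intro x hx t
    have e1 : A (t / x ^ 2) = A t := by
      rw [← hsq x hx (t / x ^ 2)]
      congr 1
      field_simp
    calc A (t + x ^ 2) = A (x ^ 2 * (t / x ^ 2 + 1)) := by
          congr 1
          field_simp
      _ = A (t / x ^ 2 + 1) := hsq x hx _
      _ = A (t / x ^ 2) * A 1 := (hadd _).symm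
      _ = A t * A 1 := by rw [e1]
  have hdd : d * d⁻¹ = 1 := mul_inv_cancel₀ hd0
  have hy : d - d⁻¹ ≠ 0 := by
    intro h
    apply hd4
    have h' : d = d⁻¹ := sub_eq_zero.mp h
    have h2 : d * d = 1 := by
      calc d * d = d * d⁻¹ := congrArg (fun z => d * z) h'
        _ = 1 := hdd
    calc d ^ 4 = (d * d) * (d * d) := by ring
      _ = 1 := by rw [h2, one_mul]
  have hz : d + d⁻¹ ≠ 0 := by
    intro h
    apply hd4
    have h' : d = -d⁻¹ := eq_neg_of_add_eq_zero_left h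
    have h2 : d * d = -1 := by
      calc d * d = d * -d⁻¹ := congrArg (fun z => d * z) h'
        _ = -1 := by rw [mul_neg, hdd]
    calc d ^ 4 = (d * d) * (d * d) := by ring
      _ = 1 := by rw [h2]; ring
  have hpyth : (d + d⁻¹) ^ 2 = 1 + (d - d⁻¹) ^ 2 := by
    linear_combination (4 : K) * hdd + h3
  have hA1 : A 1 = 1 := by
    have e1 : A ((d + d⁻¹) ^ 2 * 1) = A 1 := hsq _ hz 1
    rw [mul_one, hpyth, R3 _ hy 1] at e1
    exact mul_left_cancel (a := A 1) (by rw [mul_one]; exact e1)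
  have R5 : ∀ x t : K, A (t + x ^ 2) = A t := by
    intro x t
    by_cases hx : x = 0
    · rw [hx]
      congr 1
      ring
    · rw [R3 x hx, hA1, mul_one]
  have e : t = 0 + t ^ 2 + 1 ^ 2 + (t + 1) ^ 2 + (t + 1) ^ 2 := by
    linear_combination (-(t ^ 2 + t + 1)) * h3
  calc A t = A (0 + t ^ 2 + 1 ^ 2 + (t + 1) ^ 2 + (t + 1) ^ 2) := congrArg A e
    _ = 1 := by rw [R5, R5, R5, R5, h0]

theorem ree_mu_ne {K : Type*} [Field K] (θ : ℕ) (l : K) (hq : ((l ^ θ) ^ θ) ^ 3 = l)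
    (hl0 : l ≠ 0) (hl2 : l ^ 2 ≠ 1) : (l ^ θ) ^ 3 * l ≠ 1 := by
  intro h
  have ha0 : l ^ θ ≠ 0 := pow_ne_zero _ hl0
  have hb0 : ((l ^ θ) ^ θ) ^ 3 ≠ 0 := pow_ne_zero _ (pow_ne_zero _ ha0)
  have E2 : ((l ^ θ) ^ θ) ^ 3 * l ^ θ = 1 := by
    have h' : ((l ^ θ) ^ 3 * l) ^ θ = 1 := by rw [h, one_pow]
    rw [mul_pow, pow_right_comm (l ^ θ) 3 θ] at h'
    exact h'
  have E1 : (l ^ θ) ^ 3 * ((l ^ θ) ^ θ) ^ 3 = 1 := by rw [hq]; exact h
  have e3 : (l ^ θ) ^ 3 = l ^ θ := by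
    have : ((l ^ θ) ^ θ) ^ 3 * (l ^ θ) ^ 3 = ((l ^ θ) ^ θ) ^ 3 * l ^ θ := by
      rw [E2, mul_comm, E1]
    exact mul_left_cancel₀ hb0 this
  have e2 : (l ^ θ) ^ 2 = 1 := by
    have : l ^ θ * (l ^ θ) ^ 2 = l ^ θ * 1 := by
      rw [mul_one]
      calc l ^ θ * (l ^ θ) ^ 2 = (l ^ θ) ^ 3 := by ring
        _ = l ^ θ := e3
    exact mul_left_cancel₀ ha0 this
  have e4 : l * l ^ θ = 1 := by
    rw [hq] at E2
    exact E2
  apply hl2
  calc l ^ 2 = l ^ 2 * (l ^ θ) ^ 2 := by rw [e2, mul_one]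
    _ = (l * l ^ θ) ^ 2 := by ring
    _ = 1 := by rw [e4, one_pow]

theorem split8 {M : Type*} [Monoid M] (a b c d e f g h : M) (h1 : Commute d e)
    (h2 : Commute f g) :
    a * (b * (c * d * (e * f * (g * h)))) = a * (b * (c * e)) * (d * g * (f * h)) := by
  have e1 : d * (e * (f * (g * h))) = e * (d * (g * (f * h))) := by
    rw [← mul_assoc d e, h1.eq, mul_assoc e d, ← mul_assoc f g, h2.eq, mul_assoc g f]
  simp only [mul_assoc]
  rw [e1]

section Aux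
variable {K : Type*} [Field K] {D : ChevalleyDatum}

theorem wG_eq_of_wordEqPN (hD : Seven D) (p : ℤ) (hp : ((p : ℤ) : K) = 0)
    (w₁ w₂ : List (ℕ × Poly)) (h : wordEqPN p D w₁ w₂ = true) (t u : K) :
    wG hD (evalWord t u w₁) = wG hD (evalWord t u w₂) :=
  Units.ext (by
    rw [wG_val, wG_val]
    exact wordEqPN_sound (tabOK_seven D hD) p hp w₁ w₂ h t u)

theorem conj_wG4 (hD : Seven D) (h : GL D.Idx K) (r1 r2 r3 r4 : ℕ) (t1 t2 t3 t4 u1 u2 u3 u4 : K)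
    (h1 : h * xG hD r1 t1 * h⁻¹ = xG hD r1 u1) (h2 : h * xG hD r2 t2 * h⁻¹ = xG hD r2 u2)
    (h3 : h * xG hD r3 t3 * h⁻¹ = xG hD r3 u3) (h4 : h * xG hD r4 t4 * h⁻¹ = xG hD r4 u4) :
    h * wG hD [(r1, t1), (r2, t2), (r3, t3), (r4, t4)] * h⁻¹ =
      wG hD [(r1, u1), (r2, u2), (r3, u3), (r4, u4)] := by
  simp only [wG_cons, wG_nil, mul_one]
  rw [← h1, ← h2, ← h3, ← h4]
  group

end Aux

/-! ### The computations in `G₂` modulo 3 -/

def g2c89a : List (ℕ × Poly) := [(8,[(1,1,0)]),(9,[(1,0,1)])]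
def g2c89b : List (ℕ × Poly) := [(9,[(1,0,1)]),(8,[(1,1,0)])]
def g2c32a : List (ℕ × Poly) := [(3,[(1,1,0)]),(2,[(1,0,1)])]
def g2c32b : List (ℕ × Poly) := [(2,[(1,0,1)]),(3,[(1,1,0)])]

def g2P1 : List (ℕ × Poly) :=
  [(7,[(1,0,1)]), (6,[(1,1,0)]), (8,[(1,1,1)]), (9,[(1,1,2)]), (7,[(1,0,0)]), (6,[(1,0,0)]),
   (8,[(1,0,0)]), (9,[(1,0,0)])]

def g2P2 : List (ℕ × Poly) :=
  [(7,[(1,0,0),(1,0,1)]), (6,[(1,0,0),(1,1,0)]), (8,[(1,0,0),(1,0,1),(1,1,0),(1,1,1)]),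
   (9,[(1,0,0),(2,0,1),(1,0,2),(1,1,0),(2,1,1),(1,1,2)]), (8,[(-1,0,1)]), (10,[(-1,1,0)]),
   (9,[(1,0,1),(-1,0,2)]), (11,[(1,1,0),(-1,2,0)])]

def g2N1 : List (ℕ × Poly) :=
  [(4,[(-1,0,1)]), (5,[(-1,1,0)]), (3,[(-1,1,1)]), (2,[(-1,1,2)]), (4,[(-1,0,0)]),
   (5,[(-1,0,0)]), (3,[(-1,0,0)]), (2,[(-1,0,0)])]

def g2N2 : List (ℕ × Poly) :=
  [(4,[(-1,0,0),(-1,0,1)]), (5,[(-1,0,0),(-1,1,0)]), (3,[(-1,0,0),(-1,0,1),(-1,1,0),(-1,1,1)]),
   (2,[(-1,0,0),(-2,0,1),(-1,0,2),(-1,1,0),(-2,1,1),(-1,1,2)]), (3,[(1,0,1)]), (1,[(1,1,0)]),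
   (2,[(-1,0,1),(1,0,2)]), (0,[(-1,1,0),(1,2,0)])]

set_option maxRecDepth 100000 in
set_option maxHeartbeats 0 in
theorem g2_comm_ok : wordEqPN 3 chevG2 g2c89a g2c89b = true ∧
    wordEqPN 3 chevG2 g2c32a g2c32b = true := by decide +kernel

set_option maxRecDepth 100000 in
set_option maxHeartbeats 0 in
theorem g2_law_ok : wordEqPN 3 chevG2 g2P1 g2P2 = true ∧
    wordEqPN 3 chevG2 g2N1 g2N2 = true := by decide +kernel

set_option maxRecDepth 100000 in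
set_option maxHeartbeats 0 in
theorem g2_orth2 : orth1 chevG2 9 10 = true ∧ orth1 chevG2 9 11 = true ∧
    orth1 chevG2 2 1 = true ∧ orth1 chevG2 2 0 = true := by decide +kernel

set_option maxRecDepth 100000 in
set_option maxHeartbeats 0 in
theorem g2_pairs : chevG2.pairing 8 8 = 2 ∧ chevG2.pairing 10 8 = 0 ∧
    chevG2.pairing 8 10 = 0 ∧ chevG2.pairing 10 10 = 2 ∧
    chevG2.pairing 8 (chevG2.neg 8) = -2 ∧ chevG2.pairing 10 (chevG2.neg 8) = 0 ∧
    chevG2.pairing 8 (chevG2.neg 10) = 0 ∧ chevG2.pairing 10 (chevG2.neg 10) = -2 := by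
  decide +kernel

set_option maxRecDepth 100000 in
set_option maxHeartbeats 0 in
theorem g2_pairs_pos : chevG2.pairing 8 7 = -1 ∧ chevG2.pairing 10 7 = 1 ∧
    chevG2.pairing 8 6 = 3 ∧ chevG2.pairing 10 6 = -1 ∧ chevG2.pairing 8 9 = 1 ∧
    chevG2.pairing 10 9 = 1 ∧ chevG2.pairing 8 11 = 3 ∧ chevG2.pairing 10 11 = 1 := by
  decide +kernel

set_option maxRecDepth 100000 in
set_option maxHeartbeats 0 in
theorem g2_pairs_neg : chevG2.pairing 8 4 = 1 ∧ chevG2.pairing 10 4 = -1 ∧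
    chevG2.pairing 8 5 = -3 ∧ chevG2.pairing 10 5 = 1 ∧ chevG2.pairing 8 3 = -2 ∧
    chevG2.pairing 10 3 = 0 ∧ chevG2.pairing 8 2 = -1 ∧ chevG2.pairing 10 2 = -1 ∧
    chevG2.pairing 8 0 = -3 ∧ chevG2.pairing 10 0 = -1 := by
  decide +kernel

/-! ### The σ-fixed elements -/

/-- `x_a(t^θ) x_b(t) x_{a+b}(t^{θ+1}) x_{2a+b}(t^{2θ+1})`. -/
noncomputable def reeS {K : Type*} [Field K] (hD : Seven chevG2) (θ : ℕ) (t : K) :
    GL chevG2.Idx K :=
  wG hD [(7, t ^ θ), (6, t), (8, t * t ^ θ), (9, t * (t ^ θ) ^ 2)]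

noncomputable def reeSn {K : Type*} [Field K] (hD : Seven chevG2) (θ : ℕ) (t : K) :
    GL chevG2.Idx K :=
  wG hD [(4, -(t ^ θ)), (5, -t), (3, -(t * t ^ θ)), (2, -(t * (t ^ θ) ^ 2))]

/-- `x_r(u^θ) x_{r'}(u)`. -/
noncomputable def reeP {K : Type*} [Field K] (hD : Seven chevG2) (r r' θ : ℕ) (u : K) :
    GL chevG2.Idx K :=
  xG hD r (u ^ θ) * xG hD r' u

section Ree
variable {K : Type*} [Field K] (hD : Seven chevG2) (θ : ℕ)

theorem reeS_zero (hθ0 : θ ≠ 0) : reeS hD θ (0 : K) = 1 := by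
  unfold reeS
  simp only [zero_pow hθ0, zero_mul, wG_cons, wG_nil, xG_zero, mul_one]

theorem reeSn_zero (hθ0 : θ ≠ 0) : reeSn hD θ (0 : K) = 1 := by
  unfold reeSn
  simp only [zero_pow hθ0, zero_mul, neg_zero, wG_cons, wG_nil, xG_zero, mul_one]

theorem reeP_zero (r r' : ℕ) (hθ0 : θ ≠ 0) : reeP hD r r' θ (0 : K) = 1 := by
  unfold reeP
  rw [zero_pow hθ0, xG_zero, xG_zero, mul_one]

theorem g2_c89 (h3z : ((3 : ℤ) : K) = 0) (x y : K) : Commute (xG hD 8 x) (xG hD 9 y) := by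
  have key := wG_eq_of_wordEqPN hD 3 h3z _ _ g2_comm_ok.1 x y
  have e1 : evalWord x y g2c89a = [(8, x), (9, y)] := by
    unfold g2c89a evalWord
    simp only [List.map_cons, List.map_nil, evalPoly, evalMono, List.sum_cons, List.sum_nil,
      Int.cast_one, pow_zero, pow_one, mul_one, one_mul, add_zero]
  have e2 : evalWord x y g2c89b = [(9, y), (8, x)] := by
    unfold g2c89b evalWord
    simp only [List.map_cons, List.map_nil, evalPoly, evalMono, List.sum_cons, List.sum_nil,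
      Int.cast_one, pow_zero, pow_one, mul_one, one_mul, add_zero]
  rw [e1, e2, wG_two, wG_two] at key
  exact key

theorem g2_c32 (h3z : ((3 : ℤ) : K) = 0) (x y : K) : Commute (xG hD 3 x) (xG hD 2 y) := by
  have key := wG_eq_of_wordEqPN hD 3 h3z _ _ g2_comm_ok.2 x y
  have e1 : evalWord x y g2c32a = [(3, x), (2, y)] := by
    unfold g2c32a evalWord
    simp only [List.map_cons, List.map_nil, evalPoly, evalMono, List.sum_cons, List.sum_nil,
      Int.cast_one, pow_zero, pow_one, mul_one, one_mul, add_zero]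
  have e2 : evalWord x y g2c32b = [(2, y), (3, x)] := by
    unfold g2c32b evalWord
    simp only [List.map_cons, List.map_nil, evalPoly, evalMono, List.sum_cons, List.sum_nil,
      Int.cast_one, pow_zero, pow_one, mul_one, one_mul, add_zero]
  rw [e1, e2, wG_two, wG_two] at key
  exact key

theorem reeU_form (h3z : ((3 : ℤ) : K) = 0) (t u v : K) :
    wG hD (reeWordU θ t u v) =
      reeS hD θ t * (reeP hD 8 10 θ u * reeP hD 9 11 θ v) := by
  have c89 : Commute (xG hD 8 (u ^ θ)) (xG hD 9 (t * (t ^ θ) ^ 2)) := g2_c89 hD h3z _ _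
  have c910 : Commute (xG hD 9 (v ^ θ)) (xG hD 10 u) := orth1_spec hD 9 10 g2_orth2.1 _ _
  have eA : t ^ (θ + 1) = t * t ^ θ := pow_succ' t θ
  have eB : t ^ (2 * θ + 1) = t * (t ^ θ) ^ 2 := by rw [pow_succ', pow_mul' t 2 θ]
  unfold reeWordU g2a g2b g2ab g2aab g2aaab g2aaabb reeS reeP
  rw [wG_cons, wG_cons, wG_cons, wG_cons, wG_cons, wG_cons, wG_nil, mul_one, wG_cons, wG_cons,
    wG_cons, wG_cons, wG_nil, mul_one]
  dsimp only
  rw [eA, eB, ← xG_mul hD 8, ← xG_mul hD 9]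
  exact split8 _ _ _ _ _ _ _ _ c89 c910

theorem reeV_form (h3z : ((3 : ℤ) : K) = 0) (hθ : IsFrob K θ) (t u v : K) :
    wG hD (reeWordV θ t u v) =
      reeSn hD θ t * (reeP hD 3 1 θ (-u) * reeP hD 2 0 θ (-v)) := by
  have c32 : Commute (xG hD 3 (-(u ^ θ))) (xG hD 2 (-(t * (t ^ θ) ^ 2))) := g2_c32 hD h3z _ _
  have c21 : Commute (xG hD 2 (-(v ^ θ))) (xG hD 1 (-u)) :=
    orth1_spec hD 2 1 g2_orth2.2.2.1 _ _
  have eA : t ^ (θ + 1) = t * t ^ θ := pow_succ' t θ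
  have eB : t ^ (2 * θ + 1) = t * (t ^ θ) ^ 2 := by rw [pow_succ', pow_mul' t 2 θ]
  show wG hD [(4, -(t ^ θ)), (5, -t), (3, -(t ^ (θ + 1) + u ^ θ)),
    (2, -(t ^ (2 * θ + 1) + v ^ θ)), (1, -u), (0, -v)] = _
  unfold reeSn reeP
  rw [wG_cons, wG_cons, wG_cons, wG_cons, wG_cons, wG_cons, wG_nil, mul_one, wG_cons, wG_cons,
    wG_cons, wG_cons, wG_nil, mul_one]
  dsimp only
  rw [eA, eB, neg_add, neg_add, ← xG_mul hD 3, ← xG_mul hD 2, hθ.neg u, hθ.neg v]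
  exact split8 _ _ _ _ _ _ _ _ c32 c21

theorem ree_law_pos (h3z : ((3 : ℤ) : K) = 0) (hθ : IsFrob K θ) (c : K) :
    reeS hD θ c * reeS hD θ 1 =
      reeS hD θ (c + 1) * (reeP hD 8 10 θ (-c) * reeP hD 9 11 θ (c - c ^ 2)) := by
  have key := wG_eq_of_wordEqPN hD 3 h3z _ _ g2_law_ok.1 c (c ^ θ)
  have e1 : evalWord c (c ^ θ) g2P1 =
      [(7, c ^ θ), (6, c), (8, c * c ^ θ), (9, c * (c ^ θ) ^ 2)] ++
        [(7, 1 ^ θ), (6, 1), (8, 1 * 1 ^ θ), (9, 1 * (1 ^ θ) ^ 2)] := by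
    unfold g2P1 evalWord
    simp only [List.map_cons, List.map_nil, evalPoly, evalMono, List.sum_cons, List.sum_nil,
      List.cons_append, List.nil_append, List.cons.injEq, Prod.mk.injEq, eq_self, true_and,
      and_true]
    refine ⟨?_, ?_, ?_, ?_, ?_, ?_, ?_, ?_⟩ <;> (push_cast; ring)
  have f1 : (c + 1) ^ θ = c ^ θ + 1 := by rw [hθ.2 c 1, one_pow]
  have f2 : (-c) ^ θ = -(c ^ θ) := hθ.neg c
  have f3 : (c - c ^ 2) ^ θ = c ^ θ - (c ^ θ) ^ 2 := by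
    rw [sub_eq_add_neg c (c ^ 2), hθ.2, hθ.neg, pow_right_comm c 2 θ, ← sub_eq_add_neg]
  have e2 : evalWord c (c ^ θ) g2P2 =
      [(7, (c + 1) ^ θ), (6, c + 1), (8, (c + 1) * (c + 1) ^ θ),
        (9, (c + 1) * ((c + 1) ^ θ) ^ 2)] ++
        [(8, (-c) ^ θ), (10, -c), (9, (c - c ^ 2) ^ θ), (11, c - c ^ 2)] := by
    rw [f1, f2, f3]
    unfold g2P2 evalWord
    simp only [List.map_cons, List.map_nil, evalPoly, evalMono, List.sum_cons, List.sum_nil,
      List.cons_append, List.nil_append, List.cons.injEq, Prod.mk.injEq, eq_self, true_and,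
      and_true]
    refine ⟨?_, ?_, ?_, ?_, ?_, ?_, ?_, ?_⟩ <;> (push_cast; ring)
  rw [e1, e2, wG_append, wG_append] at key
  have e3 : wG hD [(8, (-c) ^ θ), (10, -c), (9, (c - c ^ 2) ^ θ), (11, c - c ^ 2)] =
      reeP hD 8 10 θ (-c) * reeP hD 9 11 θ (c - c ^ 2) := by
    unfold reeP
    simp only [wG_cons, wG_nil, mul_one, mul_assoc]
  rw [e3] at key
  exact key

theorem ree_law_neg (h3z : ((3 : ℤ) : K) = 0) (hθ : IsFrob K θ) (c : K) :
    reeSn hD θ c * reeSn hD θ 1 =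
      reeSn hD θ (c + 1) * (reeP hD 3 1 θ c * reeP hD 2 0 θ (c ^ 2 - c)) := by
  have key := wG_eq_of_wordEqPN hD 3 h3z _ _ g2_law_ok.2 c (c ^ θ)
  have e1 : evalWord c (c ^ θ) g2N1 =
      [(4, -(c ^ θ)), (5, -c), (3, -(c * c ^ θ)), (2, -(c * (c ^ θ) ^ 2))] ++
        [(4, -((1 : K) ^ θ)), (5, -1), (3, -(1 * 1 ^ θ)), (2, -(1 * (1 ^ θ) ^ 2))] := by
    unfold g2N1 evalWord
    simp only [List.map_cons, List.map_nil, evalPoly, evalMono, List.sum_cons, List.sum_nil,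
      List.cons_append, List.nil_append, List.cons.injEq, Prod.mk.injEq, eq_self, true_and,
      and_true]
    refine ⟨?_, ?_, ?_, ?_, ?_, ?_, ?_, ?_⟩ <;> (push_cast; ring)
  have f1 : (c + 1) ^ θ = c ^ θ + 1 := by rw [hθ.2 c 1, one_pow]
  have f3 : (c ^ 2 - c) ^ θ = (c ^ θ) ^ 2 - c ^ θ := by
    rw [sub_eq_add_neg (c ^ 2) c, hθ.2, hθ.neg, pow_right_comm c 2 θ, ← sub_eq_add_neg]
  have e2 : evalWord c (c ^ θ) g2N2 =
      [(4, -((c + 1) ^ θ)), (5, -(c + 1)), (3, -((c + 1) * (c + 1) ^ θ)),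
        (2, -((c + 1) * ((c + 1) ^ θ) ^ 2))] ++
        [(3, c ^ θ), (1, c), (2, (c ^ 2 - c) ^ θ), (0, c ^ 2 - c)] := by
    rw [f1, f3]
    unfold g2N2 evalWord
    simp only [List.map_cons, List.map_nil, evalPoly, evalMono, List.sum_cons, List.sum_nil,
      List.cons_append, List.nil_append, List.cons.injEq, Prod.mk.injEq, eq_self, true_and,
      and_true]
    refine ⟨?_, ?_, ?_, ?_, ?_, ?_, ?_, ?_⟩ <;> (push_cast; ring)
  rw [e1, e2, wG_append, wG_append] at key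
  have e3 : wG hD [(3, c ^ θ), (1, c), (2, (c ^ 2 - c) ^ θ), (0, c ^ 2 - c)] =
      reeP hD 3 1 θ c * reeP hD 2 0 θ (c ^ 2 - c) := by
    unfold reeP
    simp only [wG_cons, wG_nil, mul_one, mul_assoc]
  rw [e3] at key
  exact key

end Ree

section ReeConj
variable {K : Type*} [Field K] (hD : Seven chevG2) (θ : ℕ)

theorem reeS_conj (h : GL chevG2.Idx K) (x : K) (hx : x ≠ 0) (hq : ((x ^ θ) ^ θ) ^ 3 = x)
    (hconj : ∀ (s : ℕ) (_ : s < chevG2.nroots) (y : K), h * xG hD s y * h⁻¹ =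
      xG hD s ((((x ^ θ) ^ 3 * x) ^ θ) ^ chevG2.pairing 8 s *
        (((x ^ θ) ^ 3 * x) ^ chevG2.pairing 10 s) * y))
    (t : K) : h * reeS hD θ t * h⁻¹ = reeS hD θ (x ^ 2 * t) := by
  obtain ⟨q1, q2, q3, q4, q5, q6, q7, q8⟩ := g2_pairs_pos
  obtain ⟨p1, p2, -, -, -, -, -, -⟩ := g2_pairs
  have hX0 : x ^ θ ≠ 0 := pow_ne_zero _ hx
  have hkθ : ((x ^ θ) ^ 3 * x) ^ θ = x * x ^ θ := by
    rw [mul_pow, pow_right_comm (x ^ θ) 3 θ, hq]
  have c7 : (x * x ^ θ)⁻¹ * ((x ^ θ) ^ 3 * x) = (x ^ θ) ^ 2 := by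
    rw [inv_mul_eq_iff_eq_mul₀ (mul_ne_zero hx hX0)]; ring
  have c6 : (x * x ^ θ) ^ 3 * ((x ^ θ) ^ 3 * x)⁻¹ = x ^ 2 := by
    rw [mul_inv_eq_iff_eq_mul₀ (mul_ne_zero (pow_ne_zero _ hX0) hx)]; ring
  unfold reeS
  apply conj_wG4
  · rw [hconj 7 (by decide), q1, q2, zpow_neg_one, zpow_one, hkθ, c7, mul_pow (x ^ 2) t θ,
      pow_right_comm x 2 θ]
  · rw [hconj 6 (by decide), q3, q4, zpow_ofNat, zpow_neg_one, hkθ, c6]
  · rw [hconj 8 (by decide), p1, p2, zpow_ofNat, zpow_zero, hkθ, mul_pow (x ^ 2) t θ,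
      pow_right_comm x 2 θ]
    congr 1
    ring
  · rw [hconj 9 (by decide), q5, q6, zpow_one, zpow_one, hkθ, mul_pow (x ^ 2) t θ,
      pow_right_comm x 2 θ]
    congr 1
    ring

theorem reeSn_conj (h : GL chevG2.Idx K) (x : K) (hx : x ≠ 0) (hq : ((x ^ θ) ^ θ) ^ 3 = x)
    (hconj : ∀ (s : ℕ) (_ : s < chevG2.nroots) (y : K), h * xG hD s y * h⁻¹ =
      xG hD s ((((x ^ θ) ^ 3 * x) ^ θ) ^ chevG2.pairing 8 s *
        (((x ^ θ) ^ 3 * x) ^ chevG2.pairing 10 s) * y))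
    (t : K) : h * reeSn hD θ t * h⁻¹ = reeSn hD θ ((x ^ 2)⁻¹ * t) := by
  obtain ⟨v1, v2, v3, v4, v5, v6, v7, v8, -, -⟩ := g2_pairs_neg
  have hX0 : x ^ θ ≠ 0 := pow_ne_zero _ hx
  have hkθ : ((x ^ θ) ^ 3 * x) ^ θ = x * x ^ θ := by
    rw [mul_pow, pow_right_comm (x ^ θ) 3 θ, hq]
  have hinv : ((x ^ 2)⁻¹ * t) ^ θ = ((x ^ θ) ^ 2)⁻¹ * t ^ θ := by
    rw [mul_pow, inv_pow, pow_right_comm x 2 θ]
  unfold reeSn
  apply conj_wG4
  · rw [hconj 4 (by decide), v1, v2, zpow_one, zpow_neg_one, hkθ, hinv]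
    congr 1
    field_simp
  · rw [hconj 5 (by decide), v3, v4, zpow_neg, zpow_ofNat, zpow_one, hkθ]
    congr 1
    field_simp
  · rw [hconj 3 (by decide), v5, v6, zpow_neg, zpow_ofNat, zpow_zero, hkθ, hinv]
    congr 1
    field_simp
  · rw [hconj 2 (by decide), v7, v8, zpow_neg_one, zpow_neg_one, hkθ, hinv]
    congr 1
    field_simp

end ReeConj

theorem g2_perf_aux {K : Type*} [Field K] (θ : ℕ) (h3 : (3 : K) = 0) (hθ : IsFrob K θ)
    (hq : ∀ t : K, ((t ^ θ) ^ θ) ^ 3 = t) (l : K) (hl0 : l ≠ 0) (hl2 : l ^ 2 ≠ 1) :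
    commutator ↥(twistedG2 K θ) = ⊤ := by
  have hD : Seven chevG2 := by simp
  have h3z : ((3 : ℤ) : K) = 0 := by exact_mod_cast h3
  have hθ0 : θ ≠ 0 := hθ.1
  obtain ⟨n10, n8, -, -⟩ := g2_facts
  obtain ⟨o910, o911, o21, o20⟩ := g2_orth2
  -- the generators
  have formU := fun t u v : K => reeU_form hD θ h3z t u v
  have formV := fun t u v : K => reeV_form hD θ h3z hθ t u v
  have genU : ∀ t u v : K, wG hD (reeWordU θ t u v) ∈ twistedG2 K θ :=
    fun t u v => mem_gen hD _ _ ⟨t, u, v, Or.inl rfl⟩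
  have genV : ∀ t u v : K, wG hD (reeWordV θ t u v) ∈ twistedG2 K θ :=
    fun t u v => mem_gen hD _ _ ⟨t, u, v, Or.inr rfl⟩
  have S0 : reeS hD θ (0 : K) = 1 := reeS_zero hD θ hθ0
  have Sn0 : reeSn hD θ (0 : K) = 1 := reeSn_zero hD θ hθ0
  have P0 : ∀ r r', reeP hD r r' θ (0 : K) = 1 := fun r r' => reeP_zero hD θ r r' hθ0
  have memS : ∀ t : K, reeS hD θ t ∈ twistedG2 K θ := by
    intro t
    have h := genU t 0 0
    rw [formU, P0, P0, mul_one, mul_one] at h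
    exact h
  have memW : ∀ u : K, reeP hD 8 10 θ u ∈ twistedG2 K θ := by
    intro u
    have h := genU 0 u 0
    rw [formU, S0, P0, one_mul, mul_one] at h
    exact h
  have memZ : ∀ v : K, reeP hD 9 11 θ v ∈ twistedG2 K θ := by
    intro v
    have h := genU 0 0 v
    rw [formU, S0, P0, one_mul, one_mul] at h
    exact h
  have memSn : ∀ t : K, reeSn hD θ t ∈ twistedG2 K θ := by
    intro t
    have h := genV t 0 0
    rw [formV, neg_zero, P0, P0, mul_one, mul_one] at h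
    exact h
  have memWn : ∀ u : K, reeP hD 3 1 θ u ∈ twistedG2 K θ := by
    intro u
    have h := genV 0 (-u) 0
    rw [formV, neg_neg, neg_zero, Sn0, P0, one_mul, mul_one] at h
    exact h
  have memZn : ∀ v : K, reeP hD 2 0 θ v ∈ twistedG2 K θ := by
    intro v
    have h := genV 0 0 (-v)
    rw [formV, neg_neg, neg_zero, Sn0, P0, one_mul, one_mul] at h
    exact h
  -- the class of the orthogonal pair `a+b`, `3a+b` and its torus
  have hX : ∀ t : K, clsX hD [(8, θ), (10, 1)] t = reeP hD 8 10 θ t := by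
    intro t
    simp only [clsX, reeP, List.map_cons, List.map_nil, List.prod_cons, List.prod_nil, pow_one,
      mul_one]
  have hXn : ∀ t : K, clsX hD (negCls chevG2 [(8, θ), (10, 1)]) t = reeP hD 3 1 θ t := by
    intro t
    simp only [clsX, negCls, reeP, List.map_cons, List.map_nil, List.prod_cons, List.prod_nil,
      pow_one, mul_one, n8, n10]
  have hXz : ∀ t : K, clsX hD [(9, θ), (11, 1)] t = reeP hD 9 11 θ t := by
    intro t
    simp only [clsX, reeP, List.map_cons, List.map_nil, List.prod_cons, List.prod_nil, pow_one,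
      mul_one]
  have hXzn : ∀ t : K, clsX hD [(2, θ), (0, 1)] t = reeP hD 2 0 θ t := by
    intro t
    simp only [clsX, reeP, List.map_cons, List.map_nil, List.prod_cons, List.prod_nil, pow_one,
      mul_one]
  have hc : ([(8, θ), (10, 1)] : List (ℕ × ℕ)).Pairwise
      (fun p p' => SOrth hD K p.1 p'.1) :=
    List.pairwise_pair.mpr (sorth_of_OK hD 8 10 g2_orth)
  have hf : ∀ p ∈ ([(8, θ), (10, 1)] : List (ℕ × ℕ)), IsFrob K p.2 :=
    forall_mem2 hθ (isFrob_one K)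
  have hr : ∀ p ∈ ([(8, θ), (10, 1)] : List (ℕ × ℕ)), p.1 < chevG2.nroots :=
    forall_mem2 (show 8 < chevG2.nroots by decide) (show 10 < chevG2.nroots by decide)
  have h1 : ∀ t : K, clsX hD [(8, θ), (10, 1)] t ∈ twistedG2 K θ := fun t => by
    rw [hX]; exact memW t
  have h1n : ∀ t : K, clsX hD (negCls chevG2 [(8, θ), (10, 1)]) t ∈ twistedG2 K θ := fun t => by
    rw [hXn]; exact memWn t
  obtain ⟨p1, p2, p3, p4, p5, p6, p7, p8⟩ := g2_pairs
  have hyp1 : ∀ p' ∈ ([(8, θ), (10, 1)] : List (ℕ × ℕ)),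
      (([(8, θ), (10, 1)] : List (ℕ × ℕ)).map fun p =>
        (l ^ p.2) ^ chevG2.pairing p.1 p'.1).prod = (l ^ 2) ^ p'.2 := by
    intro p' hp'
    simp only [List.mem_cons, List.mem_nil_iff, or_false] at hp'
    rcases hp' with rfl | rfl
    · simp only [List.map_cons, List.map_nil, List.prod_cons, List.prod_nil, p1, p2, zpow_zero,
        mul_one]
      rw [zpow_ofNat, ← pow_mul, ← pow_mul, mul_comm]
    · simp only [List.map_cons, List.map_nil, List.prod_cons, List.prod_nil, p3, p4, zpow_zero,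
        one_mul, mul_one, pow_one]
      exact zpow_ofNat l 2
  have hyp2 : ∀ p' ∈ ([(8, θ), (10, 1)] : List (ℕ × ℕ)),
      (([(8, θ), (10, 1)] : List (ℕ × ℕ)).map fun p =>
        (l ^ p.2) ^ chevG2.pairing p.1 (chevG2.neg p'.1)).prod = ((l ^ 2)⁻¹) ^ p'.2 := by
    intro p' hp'
    simp only [List.mem_cons, List.mem_nil_iff, or_false] at hp'
    rcases hp' with rfl | rfl
    · simp only [List.map_cons, List.map_nil, List.prod_cons, List.prod_nil, p5, p6, zpow_zero,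
        mul_one]
      rw [zpow_neg, zpow_ofNat, inv_pow, ← pow_mul, ← pow_mul, mul_comm]
    · simp only [List.map_cons, List.map_nil, List.prod_cons, List.prod_nil, p7, p8, zpow_zero,
        one_mul, mul_one, pow_one]
      rw [zpow_neg, zpow_ofNat]
  have both := fun t : K =>
    cls_perf_both hD (twistedG2 K θ) _ hc hf hr h1 h1n l hl0 hl2 hyp1 hyp2 t
  have cW : ∀ u : K, reeP hD 8 10 θ u ∈
      (commutator ↥(twistedG2 K θ)).map (twistedG2 K θ).subtype := fun u => by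
    have h := (both u).1
    rw [hX] at h
    exact h
  have cWn : ∀ u : K, reeP hD 3 1 θ u ∈
      (commutator ↥(twistedG2 K θ)).map (twistedG2 K θ).subtype := fun u => by
    have h := (both u).2
    rw [hXn] at h
    exact h
  -- the classes of the centre
  obtain ⟨q1, q2, q3, q4, q5, q6, q7, q8⟩ := g2_pairs_pos
  obtain ⟨v1, v2, v3, v4, v5, v6, v7, v8, v9, v10⟩ := g2_pairs_neg
  have hμ : (l ^ θ) ^ 3 * l ≠ 1 := ree_mu_ne θ l (hq l) hl0 hl2
  have e9 : ((l ^ θ) ^ 3 * l) ^ θ = l * l ^ θ := by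
    rw [mul_pow, pow_right_comm (l ^ θ) 3 θ, hq l]
  have hypZ : ∀ p' ∈ ([(9, θ), (11, 1)] : List (ℕ × ℕ)),
      (([(8, θ), (10, 1)] : List (ℕ × ℕ)).map fun p =>
        (l ^ p.2) ^ chevG2.pairing p.1 p'.1).prod = ((l ^ θ) ^ 3 * l) ^ p'.2 := by
    intro p' hp'
    simp only [List.mem_cons, List.mem_nil_iff, or_false] at hp'
    rcases hp' with rfl | rfl
    · simp only [List.map_cons, List.map_nil, List.prod_cons, List.prod_nil, q5, q6, zpow_one,
        pow_one, mul_one]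
      rw [e9, mul_comm]
    · simp only [List.map_cons, List.map_nil, List.prod_cons, List.prod_nil, q7, q8, zpow_one,
        pow_one, mul_one]
      rw [zpow_ofNat]
  have hypZn : ∀ p' ∈ ([(2, θ), (0, 1)] : List (ℕ × ℕ)),
      (([(8, θ), (10, 1)] : List (ℕ × ℕ)).map fun p =>
        (l ^ p.2) ^ chevG2.pairing p.1 p'.1).prod = (((l ^ θ) ^ 3 * l)⁻¹) ^ p'.2 := by
    intro p' hp'
    simp only [List.mem_cons, List.mem_nil_iff, or_false] at hp'
    rcases hp' with rfl | rfl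
    · simp only [List.map_cons, List.map_nil, List.prod_cons, List.prod_nil, v7, v8,
        zpow_neg_one, pow_one, mul_one]
      rw [inv_pow, e9, mul_inv, mul_comm]
    · simp only [List.map_cons, List.map_nil, List.prod_cons, List.prod_nil, v9, v10,
        zpow_neg_one, pow_one, mul_one]
      rw [zpow_neg, zpow_ofNat, mul_inv]
  have cZ : ∀ v : K, reeP hD 9 11 θ v ∈
      (commutator ↥(twistedG2 K θ)).map (twistedG2 K θ).subtype := by
    intro v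
    have h := cls_perf hD (twistedG2 K θ) [(8, θ), (10, 1)] [(9, θ), (11, 1)] hc hf hr h1 h1n
      (List.pairwise_pair.mpr (fun t u => orth1_spec hD 9 11 o911 t u))
      (forall_mem2 hθ (isFrob_one K))
      (forall_mem2 (show 9 < chevG2.nroots by decide) (show 11 < chevG2.nroots by decide))
      (fun t => by rw [hXz]; exact memZ t) l ((l ^ θ) ^ 3 * l) hl0 hμ hypZ v
    rw [hXz] at h
    exact h
  have cZn : ∀ v : K, reeP hD 2 0 θ v ∈
      (commutator ↥(twistedG2 K θ)).map (twistedG2 K θ).subtype := by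
    intro v
    have h := cls_perf hD (twistedG2 K θ) [(8, θ), (10, 1)] [(2, θ), (0, 1)] hc hf hr h1 h1n
      (List.pairwise_pair.mpr (fun t u => orth1_spec hD 2 0 o20 t u))
      (forall_mem2 hθ (isFrob_one K))
      (forall_mem2 (show 2 < chevG2.nroots by decide) (show 0 < chevG2.nroots by decide))
      (fun t => by rw [hXzn]; exact memZn t) l (((l ^ θ) ^ 3 * l)⁻¹) hl0
      (fun h => hμ (inv_eq_one.mp h)) hypZn v
    rw [hXzn] at h
    exact h
  -- the torus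
  have hH : ∀ k : K, clsH hD [(8, θ), (10, 1)] k ∈ twistedG2 K θ :=
    fun k => (clsH_mem hD _ _ hc hf h1 h1n k).2
  have hconjx : ∀ (k : K) (_ : k ≠ 0) (s : ℕ) (_ : s < chevG2.nroots) (y : K),
      clsH hD [(8, θ), (10, 1)] k * xG hD s y * (clsH hD [(8, θ), (10, 1)] k)⁻¹ =
        xG hD s ((k ^ θ) ^ chevG2.pairing 8 s * (k ^ chevG2.pairing 10 s) * y) := by
    intro k hk s hs y
    rw [clsH_conj_x hD _ hr k hk s hs]
    simp only [List.map_cons, List.map_nil, List.prod_cons, List.prod_nil, pow_one, mul_one]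
  -- the abelianization
  have hπ1 : ∀ g : ↥(twistedG2 K θ), (g : GL chevG2.Idx K) ∈
      (commutator ↥(twistedG2 K θ)).map (twistedG2 K θ).subtype →
      Abelianization.of g = 1 := by
    intro g hg
    obtain ⟨k, hk, hkg⟩ := hg
    have e : k = g := Subtype.ext hkg
    rw [← e]
    have hker : k ∈ (Abelianization.of (G := ↥(twistedG2 K θ))).ker := by
      rw [Abelianization.ker_of]; exact hk
    exact MonoidHom.mem_ker.mp hker
  have hπ2 : ∀ g : ↥(twistedG2 K θ), Abelianization.of g = 1 →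
      (g : GL chevG2.Idx K) ∈ (commutator ↥(twistedG2 K θ)).map (twistedG2 K θ).subtype := by
    intro g hg
    have hker : g ∈ (Abelianization.of (G := ↥(twistedG2 K θ))).ker := MonoidHom.mem_ker.mpr hg
    rw [Abelianization.ker_of] at hker
    exact ⟨g, hker, rfl⟩
  have hd : ∃ d : K, d ≠ 0 ∧ d ^ 4 ≠ 1 := by
    by_cases h4 : l ^ 4 = 1
    · have hl2' : l ^ 2 = -1 := by
        have : (l ^ 2 - 1) * (l ^ 2 + 1) = 0 := by linear_combination h4
        rcases mul_eq_zero.mp this with h | h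
        · exact absurd (sub_eq_zero.mp h) hl2
        · exact eq_neg_of_add_eq_zero_left h
      refine ⟨l + 1, ?_, ?_⟩
      · intro h
        apply hl2
        have : l = -1 := eq_neg_of_add_eq_zero_left h
        rw [this]; ring
      · have e : (l + 1) ^ 4 = -1 := by
          linear_combination (l ^ 2 + 4 * l + 5) * hl2' + (-1 : K) * h3
        rw [e]
        intro h
        have : (1 : K) = 0 := by linear_combination (1 : K) * h + (1 : K) * h3
        exact one_ne_zero this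
    · exact ⟨l, hl0, h4⟩
  obtain ⟨d, hd0, hd4⟩ := hd
  have cS : ∀ t : K, reeS hD θ t ∈
      (commutator ↥(twistedG2 K θ)).map (twistedG2 K θ).subtype := by
    have A0 : Abelianization.of (⟨reeS hD θ 0, memS 0⟩ : ↥(twistedG2 K θ)) = 1 := by
      have e : (⟨reeS hD θ 0, memS 0⟩ : ↥(twistedG2 K θ)) = 1 := Subtype.ext S0
      rw [e, map_one]
    have Aadd : ∀ c : K, Abelianization.of (⟨reeS hD θ c, memS c⟩ : ↥(twistedG2 K θ)) *
        Abelianization.of (⟨reeS hD θ 1, memS 1⟩ : ↥(twistedG2 K θ)) =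
        Abelianization.of (⟨reeS hD θ (c + 1), memS (c + 1)⟩ : ↥(twistedG2 K θ)) := by
      intro c
      have hY : reeP hD 8 10 θ (-c) * reeP hD 9 11 θ (c - c ^ 2) ∈ twistedG2 K θ :=
        mul_mem (memW _) (memZ _)
      have e : (⟨reeS hD θ c, memS c⟩ : ↥(twistedG2 K θ)) * ⟨reeS hD θ 1, memS 1⟩ =
          ⟨reeS hD θ (c + 1), memS (c + 1)⟩ * ⟨_, hY⟩ :=
        Subtype.ext (ree_law_pos hD θ h3z hθ c)
      rw [← map_mul, e, map_mul, hπ1 ⟨_, hY⟩ (mul_mem (cW _) (cZ _)), mul_one]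
    have Asq : ∀ x : K, x ≠ 0 → ∀ t : K,
        Abelianization.of (⟨reeS hD θ (x ^ 2 * t), memS _⟩ : ↥(twistedG2 K θ)) =
        Abelianization.of (⟨reeS hD θ t, memS t⟩ : ↥(twistedG2 K θ)) := by
      intro x hx t
      have hk0 : (x ^ θ) ^ 3 * x ≠ 0 := mul_ne_zero (pow_ne_zero _ (pow_ne_zero _ hx)) hx
      have hcj := reeS_conj hD θ _ x hx (hq x) (hconjx _ hk0) t
      have e : (⟨reeS hD θ (x ^ 2 * t), memS _⟩ : ↥(twistedG2 K θ)) =
          ⟨_, hH ((x ^ θ) ^ 3 * x)⟩ * ⟨reeS hD θ t, memS t⟩ *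
            (⟨_, hH ((x ^ θ) ^ 3 * x)⟩ : ↥(twistedG2 K θ))⁻¹ := Subtype.ext hcj.symm
      rw [e, map_mul, map_mul, map_inv, mul_inv_cancel_comm]
    intro t
    exact hπ2 _ (ree_kill h3
      (fun t => Abelianization.of (⟨reeS hD θ t, memS t⟩ : ↥(twistedG2 K θ)))
      A0 Aadd Asq d hd0 hd4 t)
  have cSn : ∀ t : K, reeSn hD θ t ∈
      (commutator ↥(twistedG2 K θ)).map (twistedG2 K θ).subtype := by
    have A0 : Abelianization.of (⟨reeSn hD θ 0, memSn 0⟩ : ↥(twistedG2 K θ)) = 1 := by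
      have e : (⟨reeSn hD θ 0, memSn 0⟩ : ↥(twistedG2 K θ)) = 1 := Subtype.ext Sn0
      rw [e, map_one]
    have Aadd : ∀ c : K, Abelianization.of (⟨reeSn hD θ c, memSn c⟩ : ↥(twistedG2 K θ)) *
        Abelianization.of (⟨reeSn hD θ 1, memSn 1⟩ : ↥(twistedG2 K θ)) =
        Abelianization.of (⟨reeSn hD θ (c + 1), memSn (c + 1)⟩ : ↥(twistedG2 K θ)) := by
      intro c
      have hY : reeP hD 3 1 θ c * reeP hD 2 0 θ (c ^ 2 - c) ∈ twistedG2 K θ :=
        mul_mem (memWn _) (memZn _)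
      have e : (⟨reeSn hD θ c, memSn c⟩ : ↥(twistedG2 K θ)) * ⟨reeSn hD θ 1, memSn 1⟩ =
          ⟨reeSn hD θ (c + 1), memSn (c + 1)⟩ * ⟨_, hY⟩ :=
        Subtype.ext (ree_law_neg hD θ h3z hθ c)
      rw [← map_mul, e, map_mul, hπ1 ⟨_, hY⟩ (mul_mem (cWn _) (cZn _)), mul_one]
    have Asq : ∀ x : K, x ≠ 0 → ∀ t : K,
        Abelianization.of (⟨reeSn hD θ (x ^ 2 * t), memSn _⟩ : ↥(twistedG2 K θ)) =
        Abelianization.of (⟨reeSn hD θ t, memSn t⟩ : ↥(twistedG2 K θ)) := by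
      intro x hx t
      have hxi : x⁻¹ ≠ 0 := inv_ne_zero hx
      have hk0 : (x⁻¹ ^ θ) ^ 3 * x⁻¹ ≠ 0 :=
        mul_ne_zero (pow_ne_zero _ (pow_ne_zero _ hxi)) hxi
      have hcj := reeSn_conj hD θ _ x⁻¹ hxi (hq x⁻¹) (hconjx _ hk0) t
      have ex : ((x⁻¹) ^ 2)⁻¹ * t = x ^ 2 * t := by rw [inv_pow, inv_inv]
      rw [ex] at hcj
      have e : (⟨reeSn hD θ (x ^ 2 * t), memSn _⟩ : ↥(twistedG2 K θ)) =
          ⟨_, hH ((x⁻¹ ^ θ) ^ 3 * x⁻¹)⟩ * ⟨reeSn hD θ t, memSn t⟩ *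
            (⟨_, hH ((x⁻¹ ^ θ) ^ 3 * x⁻¹)⟩ : ↥(twistedG2 K θ))⁻¹ := Subtype.ext hcj.symm
      rw [e, map_mul, map_mul, map_inv, mul_inv_cancel_comm]
    intro t
    exact hπ2 _ (ree_kill h3
      (fun t => Abelianization.of (⟨reeSn hD θ t, memSn t⟩ : ↥(twistedG2 K θ)))
      A0 Aadd Asq d hd0 hd4 t)
  apply perfect_of_le_map
  apply gen_le hD (g2Words K θ)
  intro w hw
  obtain ⟨t, u, v, rfl | rfl⟩ := hw
  · rw [formU]; exact mul_mem (cS t) (mul_mem (cW u) (cZ v))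
  · rw [formV]; exact mul_mem (cSn t) (mul_mem (cWn (-u)) (cZn (-v)))

theorem g2_twisted_perfect {K : Type*} [Field K] [Fintype K] {m : ℕ}
    (hK : Fintype.card K = 3 ^ (2 * m + 1)) (hm : 1 ≤ m) :
    commutator ↥(twistedG2 K (3 ^ m)) = ⊤ := by
  haveI hch : CharP K 3 := charP_of_card Nat.prime_three hK
  haveI : Fact (Nat.Prime 3) := ⟨Nat.prime_three⟩
  have h3 : (3 : K) = 0 := by
    have h := CharP.cast_eq_zero K 3
    exact_mod_cast h
  have hθ : IsFrob K (3 ^ m) := isFrob_pow 3 m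
  have hq : ∀ t : K, ((t ^ 3 ^ m) ^ 3 ^ m) ^ 3 = t := by
    intro t
    rw [← pow_mul, ← pow_mul]
    have e : 3 ^ m * (3 ^ m * 3) = Fintype.card K := by rw [hK]; ring
    rw [e]; exact FiniteField.pow_card t
  have hcard : 3 < Fintype.card K := by
    rw [hK]
    calc 3 < 3 ^ 3 := by norm_num
      _ ≤ 3 ^ (2 * m + 1) := Nat.pow_le_pow_right (by norm_num) (by omega)
  obtain ⟨l, hl0, hl2⟩ := exists_sq_ne_one hcard
  exact g2_perf_aux (3 ^ m) h3 hθ hq l hl0 hl2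

end Cfsg.Agent.Helper11
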