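import Cfsg.Agent.Helper11.ChevPermP
import Cfsg.Agent.Helper11.ChevTwistG2Perf
import Cfsg.Agent.Helper11.ChevTwistCoreG2

set_option autoImplicit false

/-!
The structure of `U ∩ ²G₂(q)`: the elements of the Ree group commute, up to the field endomorphism
`θ`, with a partial monomial operator `L/I → I` (`I` the ideal of the short roots, characteristic
`3`); the resulting relations between matrix entries bound `|U ∩ ²G₂|` by `q³`, and the Ree words
`x_a(t^θ) x_b(t) ⋯` are `q³` distinct elements of it.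
-/

namespace Cfsg.Agent.Helper11

open Cfsg.Lie

noncomputable def g2Qbig : ℕ := 1448501817295163333319136842186310377726370778789063956107414446314496535375525235825945478950025993349873592600323462888077041664326209103517911999211737023406907201649846135685222854415090493645638428786688

def g2Qperm : List ℕ := [0, 0, 4, 5, 0, 0, 0, 6, 9, 0, 0, 0, 10, 11]

def g2Qsgn : List ℤ := [0, 1, 1, 1, 0, 0, 0, 1, 1, 0, 0, 0, 1, 1]

def g2rho : List ℕ := [2, 3, 0, 1, 5, 4, 7, 6, 10, 11, 8, 9]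

def g2lam : List ℕ := [1, 1, 3, 3, 3, 1, 1, 3, 3, 3, 1, 1]

def g2F1 : List (ℕ × Poly) := [(6,[(1,0,1)]), (7,[(1,1,0)]), (10,[(1,3,1)]), (11,[(1,3,2)])]
def g2F2 : List (ℕ × Poly) := [(7,[(1,1,0)]), (6,[(1,0,1)]), (8,[(1,1,1)]), (9,[(1,2,1)])]
def g2F3 : List (ℕ × Poly) := [(5,[(-1,0,1)]), (4,[(-1,1,0)]), (1,[(-1,3,1)]), (0,[(-1,3,2)])]
def g2F4 : List (ℕ × Poly) := [(4,[(-1,1,0)]), (5,[(-1,0,1)]), (3,[(-1,1,1)]), (2,[(-1,2,1)])]

set_option maxRecDepth 100000 in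
set_option maxHeartbeats 0 in
theorem g2QMono : monoOK chevG2 g2Qbig g2Qperm g2Qsgn = true := by decide +kernel

set_option maxRecDepth 100000 in
set_option maxHeartbeats 0 in
theorem g2QOK : allN chevG2.nroots (fun s =>
    permOKP 3 chevG2 g2Qbig s (g2rho.getD s 0) [(1, g2lam.getD s 1, 0)]) = true := by
  decide +kernel

set_option maxRecDepth 100000 in
set_option maxHeartbeats 0 in
theorem g2_fix_ok : wordEqPN 3 chevG2 g2F1 g2F2 = true ∧
    wordEqPN 3 chevG2 g2F3 g2F4 = true := by decide +kernel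

set_option maxRecDepth 100000 in
set_option maxHeartbeats 0 in
theorem g2_qfacts :
    g2Qperm.getD (chevG2.rank + chevG2.neg 6) 0 = chevG2.rank + chevG2.neg 7 ∧
    g2Qperm.getD (chevG2.rank + chevG2.neg 10) 0 = chevG2.rank + chevG2.neg 8 ∧
    g2Qperm.getD (chevG2.rank + chevG2.neg 11) 0 = chevG2.rank + chevG2.neg 9 ∧
    g2Qperm.getD 1 0 = 0 ∧ g2Qsgn.getD 1 0 = 1 ∧
    g2Qsgn.getD (chevG2.rank + chevG2.neg 6) 0 = 1 ∧
    g2Qsgn.getD (chevG2.rank + chevG2.neg 10) 0 = 1 ∧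
    g2Qsgn.getD (chevG2.rank + chevG2.neg 11) 0 = 1 := by decide +kernel

set_option maxRecDepth 100000 in
set_option maxHeartbeats 0 in
theorem g2_qhu : ∀ v, v < chevG2.rank + chevG2.nroots → g2Qperm.getD v 0 = 0 → v ≠ 1 →
    g2Qsgn.getD v 0 = 0 := by decide +kernel

set_option maxRecDepth 100000 in
set_option maxHeartbeats 0 in
theorem g2_cors : corZ chevG2 6 1 = 1 ∧ corZ chevG2 7 0 = 1 ∧ corZ chevG2 8 0 = 1 ∧
    corZ chevG2 9 0 = 2 ∧ corZ chevG2 10 1 = 1 ∧ corZ chevG2 11 1 = 2 := by decide +kernel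

set_option maxRecDepth 100000 in
set_option maxHeartbeats 0 in
theorem g2_orth3 : orth1 chevG2 8 10 = true ∧ orth1 chevG2 3 1 = true := by decide +kernel

set_option maxRecDepth 100000 in
set_option maxHeartbeats 0 in
theorem g2_rl : g2rho.getD 7 0 = 6 ∧ g2rho.getD 6 0 = 7 ∧ g2rho.getD 8 0 = 10 ∧
    g2rho.getD 9 0 = 11 ∧ g2rho.getD 4 0 = 5 ∧ g2rho.getD 5 0 = 4 ∧ g2rho.getD 3 0 = 1 ∧
    g2rho.getD 2 0 = 0 ∧ g2lam.getD 7 1 = 3 ∧ g2lam.getD 6 1 = 1 ∧ g2lam.getD 8 1 = 3 ∧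
    g2lam.getD 9 1 = 3 ∧ g2lam.getD 4 1 = 3 ∧ g2lam.getD 5 1 = 1 ∧ g2lam.getD 3 1 = 3 ∧
    g2lam.getD 2 1 = 3 := by decide +kernel

theorem g2_lts : 0 < chevG2.nroots ∧ 1 < chevG2.nroots ∧ 2 < chevG2.nroots ∧
    3 < chevG2.nroots ∧ 4 < chevG2.nroots ∧ 5 < chevG2.nroots ∧ 6 < chevG2.nroots ∧
    7 < chevG2.nroots ∧ 8 < chevG2.nroots ∧ 9 < chevG2.nroots ∧ 10 < chevG2.nroots ∧
    11 < chevG2.nroots := by decide +kernel

/-- The twisted image of a root element. -/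
def g2R {K : Type*} [Field K] (φ : K →+* K) (s : ℕ) (c : K) : ℕ × K :=
  (g2rho.getD s 0, (φ c) ^ (g2lam.getD s 1))

section G2U
variable {K : Type*} [Field K]

theorem g2R_spec (hD : Seven chevG2) (h3z : ((3 : ℤ) : K) = 0) (φ : K →+* K) (s : ℕ) (c : K)
    (hs : s < chevG2.nroots) :
    opMat chevG2 K g2Qbig * (chevG2.x K s c).map φ =
      chevG2.x K (g2R φ s c).1 (g2R φ s c).2 * opMat chevG2 K g2Qbig := by
  have hT := tabOK_seven chevG2 hD
  have h := permP_sound (F := K) hT 3 h3z g2Qbig s _ _ ((allN_spec _ _).mp g2QOK s hs) (φ c)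
  rw [x_map_hom, h]
  have e : evalPoly (φ c) (0 : K) [(1, g2lam.getD s 1, 0)] = (φ c) ^ (g2lam.getD s 1) := by
    simp [evalPoly, evalMono]
  rw [e]
  rfl

theorem g2_fix_S (hD : Seven chevG2) (θ : ℕ) (h3z : ((3 : ℤ) : K) = 0) (hθ : IsFrob K θ)
    (hq : ∀ t : K, ((t ^ θ) ^ θ) ^ 3 = t) (t : K) :
    reeS hD θ t ∈ fixSub (opMat chevG2 K g2Qbig) (frobHom hθ) := by
  obtain ⟨l0, l1, l2, l3, l4, l5, l6, l7, l8, l9, l10, l11⟩ := g2_lts
  unfold reeS
  apply tw_fix hD _ _ (g2R (frobHom hθ)) (fun s c hs => g2R_spec hD h3z _ s c hs)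
  · intro p hp
    simp only [List.mem_cons, List.mem_nil_iff, or_false] at hp
    rcases hp with rfl | rfl | rfl | rfl
    · exact l7
    · exact l6
    · exact l8
    · exact l9
  · obtain ⟨r7, r6, r8, r9, r4, r5, r3, r2, m7, m6, m8, m9, m4, m5, m3, m2⟩ := g2_rl
    rw [List.map_cons, List.map_cons, List.map_cons, List.map_cons, List.map_nil]
    dsimp only [g2R]
    rw [r7, r6, r8, r9, m7, m6, m8, m9]
    simp only [frobHom_apply]
    have key := wG_eq_of_wordEqPN hD 3 h3z _ _ g2_fix_ok.1 (t ^ θ) t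
    have e1 : evalWord (t ^ θ) t g2F1 =
        [(6, t), (7, t ^ θ), (10, (t ^ θ) ^ 3 * t), (11, (t ^ θ) ^ 3 * t ^ 2)] := by
      unfold g2F1 evalWord
      simp only [List.map_cons, List.map_nil, evalPoly, evalMono, List.sum_cons, List.sum_nil,
        List.cons.injEq, Prod.mk.injEq, eq_self, true_and, and_true]
      refine ⟨?_, ?_, ?_, ?_⟩ <;> (push_cast; ring)
    have e2 : evalWord (t ^ θ) t g2F2 =
        [(7, t ^ θ), (6, t), (8, t * t ^ θ), (9, t * (t ^ θ) ^ 2)] := by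
      unfold g2F2 evalWord
      simp only [List.map_cons, List.map_nil, evalPoly, evalMono, List.sum_cons, List.sum_nil,
        List.cons.injEq, Prod.mk.injEq, eq_self, true_and, and_true]
      refine ⟨?_, ?_, ?_, ?_⟩ <;> (push_cast; ring)
    rw [e1, e2] at key
    have a1 : ((t * t ^ θ) ^ θ) ^ 3 = (t ^ θ) ^ 3 * t := by
      have h1 : ((t * t ^ θ) ^ θ) ^ 3 = (t ^ θ) ^ 3 * ((t ^ θ) ^ θ) ^ 3 := by ring
      rw [h1, hq]
    have a2 : ((t * (t ^ θ) ^ 2) ^ θ) ^ 3 = (t ^ θ) ^ 3 * t ^ 2 := by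
      have h1 : ((t * (t ^ θ) ^ 2) ^ θ) ^ 3 = (t ^ θ) ^ 3 * (((t ^ θ) ^ θ) ^ 3) ^ 2 := by ring
      rw [h1, hq]
    rw [hq, pow_one, a1, a2]
    exact key

theorem g2_fix_Sn (hD : Seven chevG2) (θ : ℕ) (h3z : ((3 : ℤ) : K) = 0) (hθ : IsFrob K θ)
    (hq : ∀ t : K, ((t ^ θ) ^ θ) ^ 3 = t) (t : K) :
    reeSn hD θ t ∈ fixSub (opMat chevG2 K g2Qbig) (frobHom hθ) := by
  obtain ⟨l0, l1, l2, l3, l4, l5, l6, l7, l8, l9, l10, l11⟩ := g2_lts
  unfold reeSn
  apply tw_fix hD _ _ (g2R (frobHom hθ)) (fun s c hs => g2R_spec hD h3z _ s c hs)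
  · intro p hp
    simp only [List.mem_cons, List.mem_nil_iff, or_false] at hp
    rcases hp with rfl | rfl | rfl | rfl
    · exact l4
    · exact l5
    · exact l3
    · exact l2
  · obtain ⟨r7, r6, r8, r9, r4, r5, r3, r2, m7, m6, m8, m9, m4, m5, m3, m2⟩ := g2_rl
    rw [List.map_cons, List.map_cons, List.map_cons, List.map_cons, List.map_nil]
    dsimp only [g2R]
    rw [r4, r5, r3, r2, m4, m5, m3, m2]
    simp only [frobHom_apply]
    have key := wG_eq_of_wordEqPN hD 3 h3z _ _ g2_fix_ok.2 (t ^ θ) t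
    have e1 : evalWord (t ^ θ) t g2F3 =
        [(5, -t), (4, -(t ^ θ)), (1, -((t ^ θ) ^ 3 * t)), (0, -((t ^ θ) ^ 3 * t ^ 2))] := by
      unfold g2F3 evalWord
      simp only [List.map_cons, List.map_nil, evalPoly, evalMono, List.sum_cons, List.sum_nil,
        List.cons.injEq, Prod.mk.injEq, eq_self, true_and, and_true]
      refine ⟨?_, ?_, ?_, ?_⟩ <;> (push_cast; ring)
    have e2 : evalWord (t ^ θ) t g2F4 =
        [(4, -(t ^ θ)), (5, -t), (3, -(t * t ^ θ)), (2, -(t * (t ^ θ) ^ 2))] := by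
      unfold g2F4 evalWord
      simp only [List.map_cons, List.map_nil, evalPoly, evalMono, List.sum_cons, List.sum_nil,
        List.cons.injEq, Prod.mk.injEq, eq_self, true_and, and_true]
      refine ⟨?_, ?_, ?_, ?_⟩ <;> (push_cast; ring)
    rw [e1, e2] at key
    have n3 : ∀ y : K, (-y) ^ 3 = -(y ^ 3) := fun y => by ring
    have a0 : ((-(t ^ θ)) ^ θ) ^ 3 = -t := by rw [hθ.neg, n3, hq]
    have a1 : ((-(t * t ^ θ)) ^ θ) ^ 3 = -((t ^ θ) ^ 3 * t) := by
      have h1 : ((t * t ^ θ) ^ θ) ^ 3 = (t ^ θ) ^ 3 * ((t ^ θ) ^ θ) ^ 3 := by ring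
      rw [hθ.neg, n3, h1, hq]
    have a2 : ((-(t * (t ^ θ) ^ 2)) ^ θ) ^ 3 = -((t ^ θ) ^ 3 * t ^ 2) := by
      have h1 : ((t * (t ^ θ) ^ 2) ^ θ) ^ 3 = (t ^ θ) ^ 3 * (((t ^ θ) ^ θ) ^ 3) ^ 2 := by ring
      rw [hθ.neg, n3, h1, hq]
    rw [a0, pow_one, hθ.neg, a1, a2]
    exact key

theorem g2_fix_P (hD : Seven chevG2) (θ : ℕ) (h3z : ((3 : ℤ) : K) = 0) (hθ : IsFrob K θ)
    (hq : ∀ t : K, ((t ^ θ) ^ θ) ^ 3 = t) (r r' : ℕ) (hr : r < chevG2.nroots)
    (hr' : r' < chevG2.nroots) (e1 : g2rho.getD r 0 = r') (e2 : g2rho.getD r' 0 = r)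
    (l1 : g2lam.getD r 1 = 3) (l2 : g2lam.getD r' 1 = 1)
    (hc : ∀ x y : K, Commute (xG hD r x) (xG hD r' y)) (u : K) :
    reeP hD r r' θ u ∈ fixSub (opMat chevG2 K g2Qbig) (frobHom hθ) := by
  unfold reeP
  rw [← wG_two]
  apply tw_fix hD _ _ (g2R (frobHom hθ)) (fun s c hs => g2R_spec hD h3z _ s c hs)
  · intro p hp
    simp only [List.mem_cons, List.mem_nil_iff, or_false] at hp
    rcases hp with rfl | rfl
    · exact hr
    · exact hr'
  · rw [List.map_cons, List.map_cons, List.map_nil]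
    dsimp only [g2R]
    rw [e1, e2, l1, l2]
    simp only [frobHom_apply]
    rw [hq, pow_one, wG_two, wG_two]
    exact ((hc _ _).eq).symm

theorem g2_le_fix (hD : Seven chevG2) (θ : ℕ) (h3z : ((3 : ℤ) : K) = 0) (hθ : IsFrob K θ)
    (hq : ∀ t : K, ((t ^ θ) ^ θ) ^ 3 = t) :
    twistedG2 K θ ≤ fixSub (opMat chevG2 K g2Qbig) (frobHom hθ) := by
  obtain ⟨n10, n8, s0, s1⟩ := g2_facts
  have c810 : ∀ x y : K, Commute (xG hD 8 x) (xG hD 10 y) :=
    fun x y => orth1_spec hD 8 10 g2_orth3.1 x y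
  have c31 : ∀ x y : K, Commute (xG hD 3 x) (xG hD 1 y) :=
    fun x y => orth1_spec hD 3 1 g2_orth3.2 x y
  have c911 : ∀ x y : K, Commute (xG hD 9 x) (xG hD 11 y) :=
    fun x y => orth1_spec hD 9 11 g2_orth2.2.1 x y
  have c20 : ∀ x y : K, Commute (xG hD 2 x) (xG hD 0 y) :=
    fun x y => orth1_spec hD 2 0 g2_orth2.2.2.2 x y
  apply gen_le hD
  intro w hw
  obtain ⟨t, u, v, rfl | rfl⟩ := hw
  · rw [reeU_form hD θ h3z]
    exact mul_mem (g2_fix_S hD θ h3z hθ hq t)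
      (mul_mem (g2_fix_P hD θ h3z hθ hq 8 10 (by decide) (by decide) (by decide) (by decide)
          (by decide) (by decide) c810 u)
        (g2_fix_P hD θ h3z hθ hq 9 11 (by decide) (by decide) (by decide) (by decide)
          (by decide) (by decide) c911 v))
  · rw [reeV_form hD θ h3z hθ]
    exact mul_mem (g2_fix_Sn hD θ h3z hθ hq t)
      (mul_mem (g2_fix_P hD θ h3z hθ hq 3 1 (by decide) (by decide) (by decide) (by decide)
          (by decide) (by decide) c31 (-u))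
        (g2_fix_P hD θ h3z hθ hq 2 0 (by decide) (by decide) (by decide) (by decide)
          (by decide) (by decide) c20 (-v)))

theorem g2_kap_rel (hD : Seven chevG2) (φ : K →+* K) (g : GL chevG2.Idx K)
    (hg : g ∈ fixSub (opMat chevG2 K g2Qbig) φ) :
    kap hD 7 0 g = φ (kap hD 6 1 g) ∧ kap hD 8 0 g = φ (kap hD 10 1 g) ∧
      kap hD 9 0 g = φ (kap hD 11 1 g) := by
  obtain ⟨a1, a2, a3, b1, b2, b3, b4, b5⟩ := g2_qfacts
  have r1 := kap_rel' hD g2Qbig g2Qperm g2Qsgn g2QMono φ g hg 7 6 1 0 (by decide) (by decide)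
    (by decide) (by decide) b1 a1 g2_qhu
  have r2 := kap_rel' hD g2Qbig g2Qperm g2Qsgn g2QMono φ g hg 8 10 1 0 (by decide) (by decide)
    (by decide) (by decide) b1 a2 g2_qhu
  have r3 := kap_rel' hD g2Qbig g2Qperm g2Qsgn g2QMono φ g hg 9 11 1 0 (by decide) (by decide)
    (by decide) (by decide) b1 a3 g2_qhu
  rw [b2, b3, Int.cast_one, mul_one, one_mul] at r1
  rw [b2, b4, Int.cast_one, mul_one, one_mul] at r2
  rw [b2, b5, Int.cast_one, mul_one, one_mul] at r3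
  exact ⟨r1, r2, r3⟩

theorem g2_ub [Fintype K] (hD : Seven chevG2) (h3 : (3 : K) = 0) (φ : K →+* K) (S : Subgroup (GL chevG2.Idx K))
    (hS : S ≤ fixSub (opMat chevG2 K g2Qbig) φ) :
    Nat.card ↥(S ⊓ chevG2.posUnipotent K) ≤ Fintype.card K ^ 3 := by
  classical
  obtain ⟨c6, c7, c8, c9, c10, c11⟩ := g2_cors
  have h2 : (2 : K) ≠ 0 := by
    intro h
    have h1 : (1 : K) = 0 := by linear_combination h3 - h
    exact one_ne_zero h1
  have k6 : corK chevG2 K 6 1 ≠ 0 := by rw [corK_eq, c6]; simp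
  have k7 : corK chevG2 K 7 0 ≠ 0 := by rw [corK_eq, c7]; simp
  have k8 : corK chevG2 K 8 0 ≠ 0 := by rw [corK_eq, c8]; simp
  have k9 : corK chevG2 K 9 0 ≠ 0 := by rw [corK_eq, c9]; exact_mod_cast h2
  have k10 : corK chevG2 K 10 1 ≠ 0 := by rw [corK_eq, c10]; simp
  have k11 : corK chevG2 K 11 1 ≠ 0 := by rw [corK_eq, c11]; exact_mod_cast h2
  have rel := fun (g : GL chevG2.Idx K) (hg : g ∈ S) => g2_kap_rel hD φ g (hS hg)
  have h6 : Nat.card ↥(S ⊓ Uge chevG2 K 6) ≤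
      Fintype.card K * Nat.card ↥(S ⊓ Uge chevG2 K 7) := by
    have h := ub_step hD S 6 (by decide) (by decide) 1 (by decide) k6 Finset.univ
      (fun g _ _ => Finset.mem_univ _)
    rw [Finset.card_univ] at h
    exact h
  have h7 : Nat.card ↥(S ⊓ Uge chevG2 K 7) ≤ 1 * Nat.card ↥(S ⊓ Uge chevG2 K 8) := by
    have h := ub_step hD S 7 (by decide) (by decide) 0 (by decide) k7 {0} (by
      intro g hgS hgU
      rw [Finset.mem_singleton, (rel g hgS).1,
        kap_low hD 7 6 (by decide) (by decide) (by decide) 1 (by decide) g hgU, map_zero])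
    rw [Finset.card_singleton] at h
    exact h
  have h8 : Nat.card ↥(S ⊓ Uge chevG2 K 8) ≤
      Fintype.card K * Nat.card ↥(S ⊓ Uge chevG2 K 9) := by
    have h := ub_step hD S 8 (by decide) (by decide) 0 (by decide) k8 Finset.univ
      (fun g _ _ => Finset.mem_univ _)
    rw [Finset.card_univ] at h
    exact h
  have h9 : Nat.card ↥(S ⊓ Uge chevG2 K 9) ≤
      Fintype.card K * Nat.card ↥(S ⊓ Uge chevG2 K 10) := by
    have h := ub_step hD S 9 (by decide) (by decide) 0 (by decide) k9 Finset.univ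
      (fun g _ _ => Finset.mem_univ _)
    rw [Finset.card_univ] at h
    exact h
  have h10 : Nat.card ↥(S ⊓ Uge chevG2 K 10) ≤ 1 * Nat.card ↥(S ⊓ Uge chevG2 K 11) := by
    have h := ub_step hD S 10 (by decide) (by decide) 1 (by decide) k10 {0} (by
      intro g hgS hgU
      have hr := (rel g hgS).2.1
      rw [kap_low hD 10 8 (by decide) (by decide) (by decide) 0 (by decide) g hgU] at hr
      rw [Finset.mem_singleton]
      exact (map_eq_zero φ).mp hr.symm)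
    rw [Finset.card_singleton] at h
    exact h
  have h11 : Nat.card ↥(S ⊓ Uge chevG2 K 11) ≤ 1 * Nat.card ↥(S ⊓ Uge chevG2 K 12) := by
    have h := ub_step hD S 11 (by decide) (by decide) 1 (by decide) k11 {0} (by
      intro g hgS hgU
      have hr := (rel g hgS).2.2
      rw [kap_low hD 11 9 (by decide) (by decide) (by decide) 0 (by decide) g hgU] at hr
      rw [Finset.mem_singleton]
      exact (map_eq_zero φ).mp hr.symm)
    rw [Finset.card_singleton] at h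
    exact h
  have h12 : Nat.card ↥(S ⊓ Uge chevG2 K 12) = 1 := by
    have e : Uge chevG2 K 12 = ⊥ := Uge_top (D := chevG2) (K := K)
    rw [e, inf_bot_eq]
    exact Subgroup.card_bot
  rw [posU_eq_Uge hD]
  have a11 : Nat.card ↥(S ⊓ Uge chevG2 K 11) ≤ 1 := by
    rw [h12, mul_one] at h11; exact h11
  have a10 : Nat.card ↥(S ⊓ Uge chevG2 K 10) ≤ 1 :=
    le_trans h10 (by rw [one_mul]; exact a11)
  have a9 : Nat.card ↥(S ⊓ Uge chevG2 K 9) ≤ Fintype.card K :=
    le_trans h9 (by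
      calc Fintype.card K * Nat.card ↥(S ⊓ Uge chevG2 K 10) ≤ Fintype.card K * 1 :=
            Nat.mul_le_mul_left _ a10
        _ = Fintype.card K := mul_one _)
  have a8 : Nat.card ↥(S ⊓ Uge chevG2 K 8) ≤ Fintype.card K * Fintype.card K :=
    le_trans h8 (Nat.mul_le_mul_left _ a9)
  have a7 : Nat.card ↥(S ⊓ Uge chevG2 K 7) ≤ Fintype.card K * Fintype.card K :=
    le_trans h7 (by rw [one_mul]; exact a8)
  have a6 : Nat.card ↥(S ⊓ Uge chevG2 K 6) ≤
      Fintype.card K * (Fintype.card K * Fintype.card K) :=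
    le_trans h6 (Nat.mul_le_mul_left _ a7)
  calc Nat.card ↥(S ⊓ Uge chevG2 K (chevG2.nroots / 2))
      ≤ Fintype.card K * (Fintype.card K * Fintype.card K) := a6
    _ = Fintype.card K ^ 3 := by ring

theorem g2_reeU_kap (hD : Seven chevG2) (θ : ℕ) (t u v : K) :
    kap hD 6 1 (reeS hD θ t * (reeP hD 8 10 θ u * reeP hD 9 11 θ v)) =
      corK chevG2 K 6 1 * t := by
  have hc := Uge_conj hD 6 (by decide) (by decide) (-t) (xG hD 7 (t ^ θ))
    (xG_mem_Uge hD 7 7 le_rfl (by decide) _)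
  have e : reeS hD θ t * (reeP hD 8 10 θ u * reeP hD 9 11 θ v) =
      xG hD 6 t * ((xG hD 6 (-t) * xG hD 7 (t ^ θ) * (xG hD 6 (-t))⁻¹) *
        (xG hD 8 (t * t ^ θ) * xG hD 9 (t * (t ^ θ) ^ 2) *
          (reeP hD 8 10 θ u * reeP hD 9 11 θ v))) := by
    unfold reeS
    rw [wG_cons, wG_cons, wG_cons, wG_cons, wG_nil, mul_one, xG_inv, neg_neg]
    dsimp only
    have e0 : xG hD 6 t * xG hD 6 (-t) = 1 := by rw [xG_mul, add_neg_cancel, xG_zero]
    simp only [mul_assoc]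
    rw [← mul_assoc (xG hD 6 t) (xG hD 6 (-t)), e0, one_mul]
  rw [e]
  exact kap_mul hD 6 (by decide) (by decide) 1 (by decide) t _
    (mul_mem hc (mul_mem (mul_mem (xG_mem_Uge hD 7 8 (by decide) (by decide) _)
        (xG_mem_Uge hD 7 9 (by decide) (by decide) _))
      (mul_mem (mul_mem (xG_mem_Uge hD 7 8 (by decide) (by decide) _)
          (xG_mem_Uge hD 7 10 (by decide) (by decide) _))
        (mul_mem (xG_mem_Uge hD 7 9 (by decide) (by decide) _)
          (xG_mem_Uge hD 7 11 (by decide) (by decide) _)))))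

theorem g2_reeP_ord (hD : Seven chevG2) (θ : ℕ) (u v : K) :
    reeP hD 8 10 θ u * reeP hD 9 11 θ v =
      wG hD (ordWord (fun r => if r = 8 then u ^ θ else if r = 9 then v ^ θ else
        if r = 10 then u else v) 8 4) := by
  have c910 : Commute (xG hD 9 (v ^ θ)) (xG hD 10 u) := orth1_spec hD 9 10 g2_orth2.1 _ _
  have e : ordWord (fun r => if r = 8 then u ^ θ else if r = 9 then v ^ θ else
      if r = 10 then u else v) 8 4 = [(8, u ^ θ), (9, v ^ θ), (10, u), (11, v)] := by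
    rfl
  rw [e]
  unfold reeP
  rw [wG_cons, wG_cons, wG_cons, wG_cons, wG_nil, mul_one]
  dsimp only
  rw [mul_assoc, ← mul_assoc (xG hD 10 u), ← c910.eq, mul_assoc]

theorem g2_reeU_inj (hD : Seven chevG2) (θ : ℕ) (h3z : ((3 : ℤ) : K) = 0) (t u v t' u' v' : K)
    (h : wG hD (reeWordU θ t u v) = wG hD (reeWordU θ t' u' v')) :
    t = t' ∧ u = u' ∧ v = v' := by
  rw [reeU_form hD θ h3z, reeU_form hD θ h3z] at h
  have k6 : corK chevG2 K 6 1 ≠ 0 := by rw [corK_eq, g2_cors.1]; simp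
  have ht : t = t' := by
    have h1 := congrArg (kap hD 6 1) h
    rw [g2_reeU_kap, g2_reeU_kap] at h1
    exact mul_left_cancel₀ k6 h1
  subst ht
  have h2 := mul_left_cancel h
  rw [g2_reeP_ord, g2_reeP_ord] at h2
  have hu := ordWord_unique hD 4 8 (by decide) (by decide) _ _ h2 10 (by decide) (by decide)
  have hv := ordWord_unique hD 4 8 (by decide) (by decide) _ _ h2 11 (by decide) (by decide)
  refine ⟨rfl, ?_, ?_⟩
  · simpa using hu
  · simpa using hv

end G2U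

theorem g2_U_struct {K : Type*} [Field K] [Fintype K] {m : ℕ}
    (hK : Fintype.card K = 3 ^ (2 * m + 1)) :
    (∀ g : GL chevG2.Idx K, g ∈ chevG2.posUnipotent K ⊓ twistedG2 K (3 ^ m) ↔
      ∃ t u v : K, (g : Matrix chevG2.Idx chevG2.Idx K) =
        chevG2.wordMat K (reeWordU (3 ^ m) t u v)) ∧
    Nat.card ↥(chevG2.posUnipotent K ⊓ twistedG2 K (3 ^ m)) = (3 ^ (2 * m + 1)) ^ 3 := by
  classical
  have hD : Seven chevG2 := by simp
  haveI hch : CharP K 3 := charP_of_card Nat.prime_three hK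
  haveI : Fact (Nat.Prime 3) := ⟨Nat.prime_three⟩
  have h3 : (3 : K) = 0 := by
    have h := CharP.cast_eq_zero K 3
    exact_mod_cast h
  have h3z : ((3 : ℤ) : K) = 0 := by exact_mod_cast h3
  have hθ : IsFrob K (3 ^ m) := isFrob_pow 3 m
  have hq : ∀ t : K, ((t ^ 3 ^ m) ^ 3 ^ m) ^ 3 = t := by
    intro t
    rw [← pow_mul, ← pow_mul]
    have e : 3 ^ m * (3 ^ m * 3) = Fintype.card K := by rw [hK]; ring
    rw [e]; exact FiniteField.pow_card t
  have hS := g2_le_fix hD (3 ^ m) h3z hθ hq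
  have hub := g2_ub hD h3 (frobHom hθ) (twistedG2 K (3 ^ m)) hS
  have hmem : ∀ p : K × K × K, wG hD (reeWordU (3 ^ m) p.1 p.2.1 p.2.2) ∈
      chevG2.posUnipotent K ⊓ twistedG2 K (3 ^ m) := by
    intro p
    refine ⟨?_, mem_gen hD _ _ ⟨p.1, p.2.1, p.2.2, Or.inl rfl⟩⟩
    rw [posU_eq_Uge hD]
    unfold reeWordU g2a g2b g2ab g2aab g2aaab g2aaabb
    rw [wG_cons, wG_cons, wG_cons, wG_cons, wG_cons, wG_cons, wG_nil, mul_one]
    exact mul_mem (xG_mem_Uge hD _ 7 (by decide) (by decide) _)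
      (mul_mem (xG_mem_Uge hD _ 6 (by decide) (by decide) _)
        (mul_mem (xG_mem_Uge hD _ 8 (by decide) (by decide) _)
          (mul_mem (xG_mem_Uge hD _ 9 (by decide) (by decide) _)
            (mul_mem (xG_mem_Uge hD _ 10 (by decide) (by decide) _)
              (xG_mem_Uge hD _ 11 (by decide) (by decide) _)))))
  have hinj : Function.Injective (fun p : K × K × K =>
      (⟨_, hmem p⟩ : ↥(chevG2.posUnipotent K ⊓ twistedG2 K (3 ^ m)))) := by
    intro p p' e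
    have e' := congrArg Subtype.val e
    obtain ⟨h1, h2, h3'⟩ := g2_reeU_inj hD (3 ^ m) h3z _ _ _ _ _ _ e'
    exact Prod.ext h1 (Prod.ext h2 h3')
  have hcard : Nat.card ↥(chevG2.posUnipotent K ⊓ twistedG2 K (3 ^ m)) ≤
      Nat.card (K × K × K) := by
    rw [Nat.card_prod, Nat.card_prod, Nat.card_eq_fintype_card (α := K), inf_comm]
    calc _ ≤ Fintype.card K ^ 3 := hub
      _ = _ := by ring
  have hbij := hinj.bijective_of_nat_card_le hcard
  refine ⟨fun g => ⟨fun hg => ?_, ?_⟩, ?_⟩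
  · obtain ⟨p, hp⟩ := hbij.2 ⟨g, hg⟩
    refine ⟨p.1, p.2.1, p.2.2, ?_⟩
    have hp' := congrArg (fun x : ↥(chevG2.posUnipotent K ⊓ twistedG2 K (3 ^ m)) =>
      ((x : GL chevG2.Idx K) : Matrix chevG2.Idx chevG2.Idx K)) hp
    simp only [wG_val] at hp'
    exact hp'.symm
  · rintro ⟨t, u, v, h⟩
    have e : g = wG hD (reeWordU (3 ^ m) t u v) := Units.ext (h.trans (wG_val hD _).symm)
    rw [e]; exact hmem (t, u, v)
  · rw [← Nat.card_congr (Equiv.ofBijective _ hbij), Nat.card_prod, Nat.card_prod,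
      Nat.card_eq_fintype_card (α := K), hK]
    ring

end Cfsg.Agent.Helper11
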