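import Cfsg.Agent.Helper11.ChevPerf
import Cfsg.Agent.Helper11.ChevRootWords2
import Cfsg.Prelude.Def_LieTwisted

set_option autoImplicit false

/-!
Tools for the twisted groups: classes of pairwise strongly orthogonal roots with Frobenius twists,
the torus elements they give, and the resulting proof that the twisted root elements are
commutators.
-/

namespace Cfsg.Agent.Helper11

open Cfsg.Lie

/-! ### Generic group lemmas -/

theorem conj_mem_comm_map {M : Type*} [Group M] (G : Subgroup M) (g x : M) (hg : g ∈ G)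
    (hx : x ∈ (commutator ↥G).map G.subtype) : g * x * g⁻¹ ∈ (commutator ↥G).map G.subtype := by
  obtain ⟨k, hk, rfl⟩ := hx
  have hn : (commutator ↥G).Normal := inferInstance
  exact ⟨⟨g, hg⟩ * k * (⟨g, hg⟩ : ↥G)⁻¹, hn.conj_mem k hk _, rfl⟩

theorem perfect_of_le_map {M : Type*} [Group M] (G : Subgroup M)
    (hle : G ≤ (commutator ↥G).map G.subtype) : commutator ↥G = ⊤ := by
  rw [eq_top_iff]
  intro g _
  obtain ⟨k, hk, hkg⟩ := hle g.2
  have e : k = g := Subtype.ext hkg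
  rw [← e]; exact hk

theorem comm6 {M : Type*} [Monoid M] (a1 a2 b1 b2 : M) (h11 : Commute a1 b1) (h12 : Commute a1 b2)
    (h21 : Commute a2 b1) :
    (a1 * b1) * (a2 * b2) * (a1 * b1) = (a1 * a2 * a1) * (b1 * b2 * b1) := by
  have e1 : b1 * a2 = a2 * b1 := h21.eq.symm
  have e2 : b2 * a1 = a1 * b2 := h12.eq.symm
  have e3 : b1 * a1 = a1 * b1 := h11.eq.symm
  calc (a1 * b1) * (a2 * b2) * (a1 * b1) = a1 * (b1 * a2) * (b2 * a1) * b1 := by
        simp only [mul_assoc]
    _ = a1 * (a2 * b1) * (a1 * b2) * b1 := by rw [e1, e2]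
    _ = a1 * a2 * (b1 * a1) * b2 * b1 := by simp only [mul_assoc]
    _ = a1 * a2 * (a1 * b1) * b2 * b1 := by rw [e3]
    _ = (a1 * a2 * a1) * (b1 * b2 * b1) := by simp only [mul_assoc]

/-- The torus trick: if `h` normalises the one-parameter group `X` with a multiplier `μ ≠ 1`, then
`X` consists of commutators. -/
theorem torus_trick {M : Type*} [Group M] {K : Type*} [Field K] (G : Subgroup M) (X : K → M)
    (hadd : ∀ a b, X a * X b = X (a + b)) (h : M) (hh : h ∈ G) (hX : ∀ t, X t ∈ G) (μ : K)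
    (hμ : μ ≠ 1) (hc : ∀ t, h * X t * h⁻¹ = X (μ * t)) (t : K) :
    X t ∈ (commutator ↥G).map G.subtype := by
  have hne : μ - 1 ≠ 0 := sub_ne_zero.mpr hμ
  have h0 : X 0 = 1 := by
    have h1 := hadd 0 0
    rw [add_zero] at h1
    exact mul_left_cancel (a := X 0) (by rw [h1, mul_one])
  have hinv : ∀ s, (X s)⁻¹ = X (-s) := by
    intro s
    exact inv_eq_of_mul_eq_one_right (by rw [hadd, add_neg_cancel, h0])
  have e : X t = h * X ((μ - 1)⁻¹ * t) * h⁻¹ * (X ((μ - 1)⁻¹ * t))⁻¹ := by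
    rw [hc, hinv, hadd]
    congr 1
    have e0 : μ * ((μ - 1)⁻¹ * t) + -((μ - 1)⁻¹ * t) = ((μ - 1) * (μ - 1)⁻¹) * t := by ring
    rw [e0, mul_inv_cancel₀ hne, one_mul]
  rw [e]
  exact comm_mem_map G _ _ hh (hX _)

theorem pairwise3 {α : Type*} {R : α → α → Prop} {a b c : α} (hab : R a b) (hac : R a c)
    (hbc : R b c) : [a, b, c].Pairwise R := by
  refine List.pairwise_cons.mpr ⟨?_, List.pairwise_pair.mpr hbc⟩
  intro x hx
  simp only [List.mem_cons, List.mem_nil_iff, or_false] at hx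
  rcases hx with rfl | rfl
  · exact hab
  · exact hac

theorem forall_mem2 {α : Type*} {P : α → Prop} {a b : α} (ha : P a) (hb : P b) :
    ∀ x ∈ [a, b], P x := by
  intro x hx
  simp only [List.mem_cons, List.mem_nil_iff, or_false] at hx
  rcases hx with rfl | rfl
  · exact ha
  · exact hb

theorem forall_mem3 {α : Type*} {P : α → Prop} {a b c : α} (ha : P a) (hb : P b) (hc : P c) :
    ∀ x ∈ [a, b, c], P x := by
  intro x hx
  simp only [List.mem_cons, List.mem_nil_iff, or_false] at hx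
  rcases hx with rfl | rfl | rfl
  · exact ha
  · exact hb
  · exact hc

/-! ### Frobenius exponents -/

/-- The exponent `e` gives an additive power map on `K`. -/
def IsFrob (K : Type*) [Field K] (e : ℕ) : Prop :=
  e ≠ 0 ∧ ∀ a b : K, (a + b) ^ e = a ^ e + b ^ e

theorem IsFrob.neg {K : Type*} [Field K] {e : ℕ} (h : IsFrob K e) (a : K) :
    (-a) ^ e = -(a ^ e) := by
  have h1 := h.2 (-a) a
  rw [neg_add_cancel, zero_pow h.1] at h1
  exact eq_neg_of_add_eq_zero_left h1.symm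

theorem isFrob_one (K : Type*) [Field K] : IsFrob K 1 :=
  ⟨one_ne_zero, fun a b => by rw [pow_one, pow_one, pow_one]⟩

theorem IsFrob.mul {K : Type*} [Field K] {e f : ℕ} (he : IsFrob K e) (hf : IsFrob K f) :
    IsFrob K (e * f) :=
  ⟨mul_ne_zero he.1 hf.1, fun a b => by rw [pow_mul, pow_mul, pow_mul, he.2, hf.2]⟩

theorem isFrob_of_card {K : Type*} [Field K] [Fintype K] {q n : ℕ} (hq : IsPrimePow q)
    (hK : Fintype.card K = q ^ n) : IsFrob K q := by
  obtain ⟨p, k, hp, hk, rfl⟩ := (isPrimePow_nat_iff q).mp hq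
  haveI hchar : CharP K (ringChar K) := ringChar.charP K
  obtain ⟨m, hp', hcard⟩ := FiniteField.card K (ringChar K)
  have e : ringChar K = p := by
    have h1 : ringChar K ∣ (p ^ k) ^ n := by
      rw [← hK, hcard]
      exact dvd_pow_self _ (PNat.ne_zero m)
    have h2 : ringChar K ∣ p := hp'.dvd_of_dvd_pow (hp'.dvd_of_dvd_pow h1)
    exact (Nat.prime_dvd_prime_iff_eq hp' hp).mp h2
  rw [e] at hchar
  haveI : Fact p.Prime := ⟨hp⟩
  exact ⟨pow_ne_zero _ hp.pos.ne', fun a b => add_pow_char_pow a b p k⟩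

theorem exists_sq_ne_one {K : Type*} [Field K] [Fintype K] (h : 3 < Fintype.card K) :
    ∃ l : K, l ≠ 0 ∧ l ^ 2 ≠ 1 := by
  classical
  by_contra hcon
  have hall : ∀ x : K, x ∈ ({0, 1, -1} : Finset K) := by
    intro x
    by_contra hx
    apply hcon
    simp only [Finset.mem_insert, Finset.mem_singleton, not_or] at hx
    refine ⟨x, hx.1, fun h2 => ?_⟩
    rw [sq] at h2
    rcases mul_self_eq_one_iff.mp h2 with h3 | h3
    · exact hx.2.1 h3
    · exact hx.2.2 h3
  have h1 : Fintype.card K ≤ 3 :=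
    le_trans (Finset.card_le_card (s := Finset.univ) (fun x _ => hall x)) Finset.card_le_three
  omega

/-! ### Strongly orthogonal roots -/

noncomputable def orth1 (D : ChevalleyDatum) (r s : ℕ) : Bool :=
  Nat.blt r D.nroots && (Nat.blt s D.nroots && (cond (Nat.beq s r) false true &&
    (cond (Nat.beq s (D.neg r)) false true && decide (commTermsF D r s = []))))

/-- `x_{±r}` commute with `x_{±s}`: there are no commutator terms. -/
noncomputable def orthOK (D : ChevalleyDatum) (r s : ℕ) : Bool :=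
  orth1 D r s && (orth1 D r (D.neg s) && (orth1 D (D.neg r) s && orth1 D (D.neg r) (D.neg s)))

section Cls
variable {K : Type*} [Field K] {D : ChevalleyDatum}

theorem orth1_spec (hD : Seven D) (r s : ℕ) (h : orth1 D r s = true) (t u : K) :
    Commute (xG hD r t) (xG hD s u) := by
  have hT := tabOK_seven D hD
  unfold orth1 at h
  simp only [Bool.and_eq_true, decide_eq_true_eq] at h
  obtain ⟨h1, h2, h3, h4, h5⟩ := h
  have hr := (blt_iff _ _).mp h1
  have hs := (blt_iff _ _).mp h2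
  have hsr : s ≠ r := by
    intro e1
    rw [(beq_iff _ _).mpr e1] at h3
    exact Bool.false_ne_true h3
  have hsn : s ≠ D.neg r := by
    intro e1
    rw [(beq_iff _ _).mpr e1] at h4
    exact Bool.false_ne_true h4
  rw [commTermsF_eq hT] at h5
  have hc := comm7 (F := K) hD r s hr hs hsr hsn t u
  have hw : D.commWord K r s t u = [] := by unfold ChevalleyDatum.commWord; rw [h5]; rfl
  rw [hw, wordMat_nil', mul_one] at hc
  have e : xG hD r t * xG hD s u = xG hD s u * xG hD r t := by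
    apply Units.ext
    rw [Units.val_mul, Units.val_mul, xG_val, xG_val]
    exact hc.symm
  exact e

theorem orth1_lt (r s : ℕ) (h : orth1 D r s = true) : r < D.nroots ∧ s < D.nroots := by
  unfold orth1 at h
  simp only [Bool.and_eq_true] at h
  exact ⟨(blt_iff _ _).mp h.1, (blt_iff _ _).mp h.2.1⟩

/-- The root elements of `±r` commute with those of `±s`. -/
def SOrth (hD : Seven D) (K : Type*) [Field K] (r s : ℕ) : Prop :=
  ∀ t u : K, Commute (xG hD r t) (xG hD s u) ∧ Commute (xG hD r t) (xG hD (D.neg s) u) ∧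
    Commute (xG hD (D.neg r) t) (xG hD s u) ∧ Commute (xG hD (D.neg r) t) (xG hD (D.neg s) u)

theorem sorth_of_OK (hD : Seven D) (r s : ℕ) (h : orthOK D r s = true) : SOrth hD K r s := by
  unfold orthOK at h
  simp only [Bool.and_eq_true] at h
  intro t u
  exact ⟨orth1_spec hD _ _ h.1 t u, orth1_spec hD _ _ h.2.1 t u, orth1_spec hD _ _ h.2.2.1 t u,
    orth1_spec hD _ _ h.2.2.2 t u⟩

theorem orthOK_lt (r s : ℕ) (h : orthOK D r s = true) : r < D.nroots ∧ s < D.nroots := by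
  unfold orthOK at h
  simp only [Bool.and_eq_true] at h
  exact orth1_lt r s h.1

/-! ### Classes of roots with Frobenius twists -/

/-- `∏ x_{r_i}(t^{e_i})` over the class `c = [(r_i, e_i)]`. -/
noncomputable def clsX (hD : Seven D) (c : List (ℕ × ℕ)) (t : K) : GL D.Idx K :=
  (c.map fun p => xG hD p.1 (t ^ p.2)).prod

/-- The class of the negative roots. -/
def negCls (D : ChevalleyDatum) (c : List (ℕ × ℕ)) : List (ℕ × ℕ) :=
  c.map fun p => (D.neg p.1, p.2)

noncomputable def clsN (hD : Seven D) (c : List (ℕ × ℕ)) (t : K) : GL D.Idx K :=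
  (c.map fun p => nG hD p.1 (t ^ p.2)).prod

noncomputable def clsH (hD : Seven D) (c : List (ℕ × ℕ)) (t : K) : GL D.Idx K :=
  (c.map fun p => hG hD p.1 (t ^ p.2)).prod

theorem clsX_cons (hD : Seven D) (p : ℕ × ℕ) (c : List (ℕ × ℕ)) (t : K) :
    clsX hD (p :: c) t = xG hD p.1 (t ^ p.2) * clsX hD c t := by
  unfold clsX; rw [List.map_cons, List.prod_cons]

theorem clsN_cons (hD : Seven D) (p : ℕ × ℕ) (c : List (ℕ × ℕ)) (t : K) :
    clsN hD (p :: c) t = nG hD p.1 (t ^ p.2) * clsN hD c t := by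
  unfold clsN; rw [List.map_cons, List.prod_cons]

theorem clsH_cons (hD : Seven D) (p : ℕ × ℕ) (c : List (ℕ × ℕ)) (t : K) :
    clsH hD (p :: c) t = hG hD p.1 (t ^ p.2) * clsH hD c t := by
  unfold clsH; rw [List.map_cons, List.prod_cons]

theorem clsX_add (hD : Seven D) (c : List (ℕ × ℕ))
    (hc : c.Pairwise (fun p p' => ∀ t u : K, Commute (xG hD p.1 t) (xG hD p'.1 u)))
    (hf : ∀ p ∈ c, IsFrob K p.2) (a b : K) : clsX hD c a * clsX hD c b = clsX hD c (a + b) := by
  induction c with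
  | nil => simp [clsX]
  | cons p c ih =>
    rw [List.pairwise_cons] at hc
    have hcomm : Commute (clsX hD c a) (xG hD p.1 (b ^ p.2)) := by
      unfold clsX
      apply Commute.list_prod_left
      intro x hx
      obtain ⟨p', hp', rfl⟩ := List.mem_map.mp hx
      exact (hc.1 p' hp' _ _).symm
    rw [clsX_cons, clsX_cons, clsX_cons, Commute.mul_mul_mul_comm hcomm, xG_mul,
      ih hc.2 (fun p' hp' => hf p' (List.mem_cons_of_mem _ hp')), (hf p List.mem_cons_self).2]

theorem nG_of_frob (hD : Seven D) (r e : ℕ) (he : IsFrob K e) (l : K) :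
    xG hD r (l ^ e) * xG hD (D.neg r) ((-l⁻¹) ^ e) * xG hD r (l ^ e) = nG hD r (l ^ e) := by
  rw [nG_eq, he.neg, inv_pow]

theorem clsN_eq (hD : Seven D) (c : List (ℕ × ℕ))
    (hc : c.Pairwise (fun p p' => SOrth hD K p.1 p'.1)) (hf : ∀ p ∈ c, IsFrob K p.2) (l : K) :
    clsX hD c l * clsX hD (negCls D c) (-l⁻¹) * clsX hD c l = clsN hD c l := by
  induction c with
  | nil => simp [clsX, clsN, negCls]
  | cons p c ih =>
    rw [List.pairwise_cons] at hc
    have h11 : Commute (xG hD p.1 (l ^ p.2)) (clsX hD c l) := by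
      unfold clsX
      apply Commute.list_prod_right
      intro x hx
      obtain ⟨p', hp', rfl⟩ := List.mem_map.mp hx
      exact (hc.1 p' hp' _ _).1
    have h12 : Commute (xG hD p.1 (l ^ p.2)) (clsX hD (negCls D c) (-l⁻¹)) := by
      unfold clsX negCls
      rw [List.map_map]
      apply Commute.list_prod_right
      intro x hx
      obtain ⟨p', hp', rfl⟩ := List.mem_map.mp hx
      exact (hc.1 p' hp' _ _).2.1
    have h21 : Commute (xG hD (D.neg p.1) ((-l⁻¹) ^ p.2)) (clsX hD c l) := by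
      unfold clsX
      apply Commute.list_prod_right
      intro x hx
      obtain ⟨p', hp', rfl⟩ := List.mem_map.mp hx
      exact (hc.1 p' hp' _ _).2.2.1
    have e : negCls D (p :: c) = (D.neg p.1, p.2) :: negCls D c := rfl
    rw [e, clsX_cons, clsX_cons, clsN_cons, comm6 _ _ _ _ h11 h12 h21,
      nG_of_frob hD p.1 p.2 (hf p List.mem_cons_self),
      ih hc.2 (fun p' hp' => hf p' (List.mem_cons_of_mem _ hp'))]

theorem nG_commute (hD : Seven D) (r s : ℕ) (h : SOrth hD K r s) (a b : K) :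
    Commute (nG hD r a) (nG hD s b) := by
  rw [nG_eq, nG_eq]
  have c1 : ∀ t, Commute (xG hD r t) (xG hD s b * xG hD (D.neg s) (-b⁻¹) * xG hD s b) :=
    fun t => (((h t b).1.mul_right (h t (-b⁻¹)).2.1).mul_right (h t b).1)
  have c2 : ∀ t, Commute (xG hD (D.neg r) t) (xG hD s b * xG hD (D.neg s) (-b⁻¹) * xG hD s b) :=
    fun t => (((h t b).2.2.1.mul_right (h t (-b⁻¹)).2.2.2).mul_right (h t b).2.2.1)
  exact ((c1 a).mul_left (c2 _)).mul_left (c1 a)

theorem clsH_eq (hD : Seven D) (c : List (ℕ × ℕ))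
    (hc : c.Pairwise (fun p p' => SOrth hD K p.1 p'.1)) (hf : ∀ p ∈ c, IsFrob K p.2) (l : K) :
    clsN hD c l * clsN hD c (-1) = clsH hD c l := by
  induction c with
  | nil => simp [clsN, clsH]
  | cons p c ih =>
    rw [List.pairwise_cons] at hc
    have hcomm : Commute (clsN hD c l) (nG hD p.1 ((-1) ^ p.2)) := by
      unfold clsN
      apply Commute.list_prod_left
      intro x hx
      obtain ⟨p', hp', rfl⟩ := List.mem_map.mp hx
      exact (nG_commute hD p.1 p'.1 (hc.1 p' hp') _ _).symm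
    rw [clsN_cons, clsN_cons, clsH_cons, Commute.mul_mul_mul_comm hcomm,
      ih hc.2 (fun p' hp' => hf p' (List.mem_cons_of_mem _ hp')), (hf p List.mem_cons_self).neg,
      one_pow, ← hG_eq]

theorem clsH_mem (hD : Seven D) (G : Subgroup (GL D.Idx K)) (c : List (ℕ × ℕ))
    (hc : c.Pairwise (fun p p' => SOrth hD K p.1 p'.1)) (hf : ∀ p ∈ c, IsFrob K p.2)
    (h1 : ∀ t : K, clsX hD c t ∈ G) (h2 : ∀ t : K, clsX hD (negCls D c) t ∈ G) (l : K) :
    clsN hD c l ∈ G ∧ clsH hD c l ∈ G := by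
  have hN : ∀ l : K, clsN hD c l ∈ G := fun l => by
    rw [← clsN_eq hD c hc hf l]
    exact mul_mem (mul_mem (h1 _) (h2 _)) (h1 _)
  refine ⟨hN l, ?_⟩
  rw [← clsH_eq hD c hc hf l]
  exact mul_mem (hN _) (hN _)

theorem clsH_conj_x (hD : Seven D) (c : List (ℕ × ℕ)) (hr : ∀ p ∈ c, p.1 < D.nroots) (l : K)
    (hl : l ≠ 0) (s : ℕ) (hs : s < D.nroots) (t : K) :
    clsH hD c l * xG hD s t * (clsH hD c l)⁻¹ =
      xG hD s ((c.map fun p => (l ^ p.2) ^ D.pairing p.1 s).prod * t) := by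
  induction c generalizing t with
  | nil => simp [clsH]
  | cons p c ih =>
    have e : clsH hD (p :: c) l * xG hD s t * (clsH hD (p :: c) l)⁻¹ =
        hG hD p.1 (l ^ p.2) * (clsH hD c l * xG hD s t * (clsH hD c l)⁻¹) *
          (hG hD p.1 (l ^ p.2))⁻¹ := by
      rw [clsH_cons]; group
    rw [e, ih (fun p' hp' => hr p' (List.mem_cons_of_mem _ hp')),
      hG_conj_x hD p.1 (hr p List.mem_cons_self) s hs _ (pow_ne_zero _ hl), List.map_cons,
      List.prod_cons, mul_assoc]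

theorem conj_clsX (hD : Seven D) (h : GL D.Idx K) (d : List (ℕ × ℕ)) (μ : K)
    (hyp : ∀ p ∈ d, ∀ t : K, h * xG hD p.1 (t ^ p.2) * h⁻¹ = xG hD p.1 ((μ * t) ^ p.2)) (t : K) :
    h * clsX hD d t * h⁻¹ = clsX hD d (μ * t) := by
  induction d with
  | nil => simp [clsX]
  | cons p d ih =>
    have e : h * clsX hD (p :: d) t * h⁻¹ =
        (h * xG hD p.1 (t ^ p.2) * h⁻¹) * (h * clsX hD d t * h⁻¹) := by
      rw [clsX_cons]; group
    rw [e, hyp p List.mem_cons_self, ih (fun p' hp' => hyp p' (List.mem_cons_of_mem _ hp')),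
      clsX_cons]

/-- The torus element of the class `c` shows that the elements of the class `d` are commutators. -/
theorem cls_perf (hD : Seven D) (G : Subgroup (GL D.Idx K)) (c d : List (ℕ × ℕ))
    (hc : c.Pairwise (fun p p' => SOrth hD K p.1 p'.1)) (hf : ∀ p ∈ c, IsFrob K p.2)
    (hr : ∀ p ∈ c, p.1 < D.nroots)
    (h1 : ∀ t : K, clsX hD c t ∈ G) (h2 : ∀ t : K, clsX hD (negCls D c) t ∈ G)
    (hd : d.Pairwise (fun p p' => ∀ t u : K, Commute (xG hD p.1 t) (xG hD p'.1 u)))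
    (hfd : ∀ p ∈ d, IsFrob K p.2) (hrd : ∀ p ∈ d, p.1 < D.nroots) (hdG : ∀ t : K, clsX hD d t ∈ G)
    (l μ : K) (hl : l ≠ 0) (hμ : μ ≠ 1)
    (hyp : ∀ p' ∈ d, (c.map fun p => (l ^ p.2) ^ D.pairing p.1 p'.1).prod = μ ^ p'.2) (t : K) :
    clsX hD d t ∈ (commutator ↥G).map G.subtype := by
  apply torus_trick G (clsX hD d) (clsX_add hD d hd hfd) (clsH hD c l)
    (clsH_mem hD G c hc hf h1 h2 l).2 hdG μ hμ
  intro t
  apply conj_clsX
  intro p' hp' t
  rw [clsH_conj_x hD c hr l hl p'.1 (hrd p' hp'), hyp p' hp', mul_pow]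

theorem cls_perf_both (hD : Seven D) (G : Subgroup (GL D.Idx K)) (c : List (ℕ × ℕ))
    (hc : c.Pairwise (fun p p' => SOrth hD K p.1 p'.1)) (hf : ∀ p ∈ c, IsFrob K p.2)
    (hr : ∀ p ∈ c, p.1 < D.nroots)
    (h1 : ∀ t : K, clsX hD c t ∈ G) (h2 : ∀ t : K, clsX hD (negCls D c) t ∈ G)
    (l : K) (hl : l ≠ 0) (hl2 : l ^ 2 ≠ 1)
    (hyp1 : ∀ p' ∈ c, (c.map fun p => (l ^ p.2) ^ D.pairing p.1 p'.1).prod = (l ^ 2) ^ p'.2)
    (hyp2 : ∀ p' ∈ c,
      (c.map fun p => (l ^ p.2) ^ D.pairing p.1 (D.neg p'.1)).prod = ((l ^ 2)⁻¹) ^ p'.2)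
    (t : K) :
    clsX hD c t ∈ (commutator ↥G).map G.subtype ∧
      clsX hD (negCls D c) t ∈ (commutator ↥G).map G.subtype := by
  constructor
  · exact cls_perf hD G c c hc hf hr h1 h2 (hc.imp (fun h t u => (h t u).1)) hf hr h1 l (l ^ 2)
      hl hl2 hyp1 t
  · refine cls_perf hD G c (negCls D c) hc hf hr h1 h2 ?_ ?_ ?_ h2 l ((l ^ 2)⁻¹) hl ?_ ?_ t
    · exact List.pairwise_map.mpr (hc.imp (fun h t u => (h t u).2.2.2))
    · intro p hp
      obtain ⟨p0, hp0, rfl⟩ := List.mem_map.mp hp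
      exact hf p0 hp0
    · intro p hp
      obtain ⟨p0, hp0, rfl⟩ := List.mem_map.mp hp
      exact neg_lt7 hD _ (hr p0 hp0)
    · exact fun h => hl2 (inv_eq_one.mp h)
    · intro p hp
      obtain ⟨p0, hp0, rfl⟩ := List.mem_map.mp hp
      exact hyp2 p0 hp0

/-! ### Conjugation of root elements up to sign -/

/-- Conjugation by `g` maps `x_s(t)` to `x_{s'}(± t)`. -/
def ConjPm (hD : Seven D) (K : Type*) [Field K] (g : GL D.Idx K) (s s' : ℕ) : Prop :=
  ∃ η : K, (η = 1 ∨ η = -1) ∧ ∀ t : K, g * xG hD s t * g⁻¹ = xG hD s' (η * t)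

theorem conjPm_n (hD : Seven D) (i : ℕ) (hi : i < D.rank) (s : ℕ) (hs : s < D.nroots) :
    ConjPm hD K (nG hD (D.simple i) 1) s (D.reflectRoot i s) :=
  ⟨(etaAt D i s : K), eta_F_cases hD i hi s hs, fun t => nG_conj_x hD i hi s hs t⟩

theorem ConjPm.trans {hD : Seven D} {g g' : GL D.Idx K} {s s' s'' : ℕ} (h : ConjPm hD K g s s')
    (h' : ConjPm hD K g' s' s'') : ConjPm hD K (g' * g) s s'' := by
  obtain ⟨η, hη, h1⟩ := h
  obtain ⟨η', hη', h2⟩ := h'
  refine ⟨η' * η, ?_, fun t => ?_⟩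
  · rcases hη with rfl | rfl <;> rcases hη' with rfl | rfl <;> simp
  · have e : g' * g * xG hD s t * (g' * g)⁻¹ = g' * (g * xG hD s t * g⁻¹) * g'⁻¹ := by group
    rw [e, h1, h2, mul_assoc]

theorem ConjPm.symm {hD : Seven D} {g : GL D.Idx K} {s s' : ℕ} (h : ConjPm hD K g s s') :
    ConjPm hD K g⁻¹ s' s := by
  obtain ⟨η, hη, h1⟩ := h
  refine ⟨η, hη, fun t => ?_⟩
  have h2 := h1 (η * t)
  have e : η * (η * t) = t := by
    rcases hη with rfl | rfl <;> simp
  rw [e] at h2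
  rw [← h2]; group

theorem ConjPm.transfer {hD : Seven D} {g : GL D.Idx K} {s s' : ℕ} (h : ConjPm hD K g s s')
    (P : K → Prop) (hP : ∀ t, P t → P (-t)) (Q : GL D.Idx K → Prop)
    (hQ : ∀ x, Q x → Q (g * x * g⁻¹)) (hs : ∀ t, P t → Q (xG hD s t)) :
    ∀ t, P t → Q (xG hD s' t) := by
  obtain ⟨η, hη, h1⟩ := h
  intro t ht
  rcases hη with rfl | rfl
  · have h3 := hQ _ (hs t ht)
    rw [h1, one_mul] at h3
    exact h3
  · have h3 := hQ _ (hs (-t) (hP t ht))
    rw [h1, neg_one_mul, neg_neg] at h3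
    exact h3

/-! ### Commutators of root elements in a subgroup -/

theorem comm_pair_mem (hD : Seven D) (G : Subgroup (GL D.Idx K)) (q a b : ℕ) (e : ℤ)
    (ha : a < D.nroots) (hb : b < D.nroots) (hba : b ≠ a) (hbn : b ≠ D.neg a)
    (hct : D.commTerms a b = [(q, e, 1, 1)]) (he : (e : K) ≠ 0) (t : K)
    (hbG : xG hD b (1 : K) ∈ G) (haG : xG hD a ((e : K)⁻¹ * t) ∈ G) :
    xG hD q t ∈ (commutator ↥G).map G.subtype := by
  have h := xG_comm_eq hD q a b e ha hb hba hbn hct he t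
  have e2 : xG hD q t = (xG hD b 1)⁻¹ * xG hD a ((e : K)⁻¹ * t) * ((xG hD b 1)⁻¹)⁻¹ *
      (xG hD a ((e : K)⁻¹ * t))⁻¹ := by
    rw [inv_inv]; exact h
  rw [e2]
  exact comm_mem_map G _ _ (inv_mem hbG) haG

theorem comm_pair_fix (hD : Seven D) (G : Subgroup (GL D.Idx K)) (q a b : ℕ)
    (hp : perfPair D 1 q a b = true) (P : K → Prop) (hP : ∀ t, P t → P (-t))
    (hbG : xG hD b (1 : K) ∈ G) (haG : ∀ t, P t → xG hD a t ∈ G) :
    ∀ t, P t → xG hD q t ∈ (commutator ↥G).map G.subtype := by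
  intro t ht
  obtain ⟨ha, hb, hba, hbn, hct⟩ := perfPair_spec (tabOK_seven D hD) 1 q a b hp
  rcases hct with hct | hct
  · apply comm_pair_mem hD G q a b 1 ha hb hba hbn hct (by simp) t hbG
    have e : ((1 : ℤ) : K)⁻¹ * t = t := by simp
    rw [e]; exact haG t ht
  · apply comm_pair_mem hD G q a b (-1) ha hb hba hbn hct (by simp) t hbG
    have e : ((-1 : ℤ) : K)⁻¹ * t = -t := by simp
    rw [e]; exact haG _ (hP t ht)

/-! ### Generators of a subgroup given by words -/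

theorem wG_one (hD : Seven D) (r : ℕ) (t : K) : wG hD [(r, t)] = xG hD r t := by
  rw [wG_cons, wG_nil, mul_one]

theorem wG_two (hD : Seven D) (r : ℕ) (t : K) (r' : ℕ) (t' : K) :
    wG hD [(r, t), (r', t')] = xG hD r t * xG hD r' t' := by
  rw [wG_cons, wG_cons, wG_nil, mul_one]

theorem wG_three (hD : Seven D) (r : ℕ) (t : K) (r' : ℕ) (t' : K) (r'' : ℕ) (t'' : K) :
    wG hD [(r, t), (r', t'), (r'', t'')] = xG hD r t * (xG hD r' t' * xG hD r'' t'') := by
  rw [wG_cons, wG_cons, wG_cons, wG_nil, mul_one]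

theorem mem_gen (hD : Seven D) (S : Set (List (ℕ × K))) (w : List (ℕ × K)) (hw : w ∈ S) :
    wG hD w ∈ D.genSubgroup K S :=
  Subgroup.subset_closure ⟨w, hw, wG_val hD w⟩

theorem gen_le (hD : Seven D) (S : Set (List (ℕ × K))) (M : Subgroup (GL D.Idx K))
    (h : ∀ w ∈ S, wG hD w ∈ M) : D.genSubgroup K S ≤ M := by
  refine (Subgroup.closure_le _).mpr ?_
  rintro g ⟨w, hw, hg⟩
  have e : g = wG hD w := Units.ext (hg.trans (wG_val hD w).symm)
  rw [e]; exact h w hw

/-- A class of type `A₁ × A₁`. -/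
theorem pair_cls_perf (hD : Seven D) (G : Subgroup (GL D.Idx K)) (r r' q : ℕ) (hq : IsFrob K q)
    (ho : orthOK D r r' = true)
    (hp : D.pairing r r = 2 ∧ D.pairing r' r = 0 ∧ D.pairing r r' = 0 ∧ D.pairing r' r' = 2 ∧
      D.pairing r (D.neg r) = -2 ∧ D.pairing r' (D.neg r) = 0 ∧ D.pairing r (D.neg r') = 0 ∧
      D.pairing r' (D.neg r') = -2)
    (h1 : ∀ t : K, xG hD r t * xG hD r' (t ^ q) ∈ G)
    (h2 : ∀ t : K, xG hD (D.neg r) t * xG hD (D.neg r') (t ^ q) ∈ G)
    (l : K) (hl : l ≠ 0) (hl2 : l ^ 2 ≠ 1) (t : K) :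
    xG hD r t * xG hD r' (t ^ q) ∈ (commutator ↥G).map G.subtype ∧
    xG hD (D.neg r) t * xG hD (D.neg r') (t ^ q) ∈ (commutator ↥G).map G.subtype := by
  obtain ⟨p1, p2, p3, p4, p5, p6, p7, p8⟩ := hp
  have hX : ∀ t : K, clsX hD [(r, 1), (r', q)] t = xG hD r t * xG hD r' (t ^ q) := by
    intro t
    simp only [clsX, List.map_cons, List.map_nil, List.prod_cons, List.prod_nil, pow_one, mul_one]
  have hXn : ∀ t : K, clsX hD (negCls D [(r, 1), (r', q)]) t =
      xG hD (D.neg r) t * xG hD (D.neg r') (t ^ q) := by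
    intro t
    simp only [clsX, negCls, List.map_cons, List.map_nil, List.prod_cons, List.prod_nil, pow_one,
      mul_one]
  have hso := sorth_of_OK (K := K) hD r r' ho
  obtain ⟨hr, hr'⟩ := orthOK_lt r r' ho
  have hyp1 : ∀ p' ∈ [(r, 1), (r', q)],
      (([(r, 1), (r', q)] : List (ℕ × ℕ)).map fun p => (l ^ p.2) ^ D.pairing p.1 p'.1).prod =
        (l ^ 2) ^ p'.2 := by
    intro p' hp'
    simp only [List.mem_cons, List.mem_nil_iff, or_false] at hp'
    rcases hp' with rfl | rfl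
    · simp only [List.map_cons, List.map_nil, List.prod_cons, List.prod_nil]
      rw [p1, p2, zpow_zero, mul_one, mul_one, pow_one, pow_one]
      exact zpow_ofNat l 2
    · simp only [List.map_cons, List.map_nil, List.prod_cons, List.prod_nil]
      rw [p3, p4, zpow_zero, one_mul, mul_one, zpow_ofNat, ← pow_mul, ← pow_mul, mul_comm]
  have hyp2 : ∀ p' ∈ [(r, 1), (r', q)],
      (([(r, 1), (r', q)] : List (ℕ × ℕ)).map fun p =>
        (l ^ p.2) ^ D.pairing p.1 (D.neg p'.1)).prod = ((l ^ 2)⁻¹) ^ p'.2 := by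
    intro p' hp'
    simp only [List.mem_cons, List.mem_nil_iff, or_false] at hp'
    rcases hp' with rfl | rfl
    · simp only [List.map_cons, List.map_nil, List.prod_cons, List.prod_nil]
      rw [p5, p6, zpow_zero, mul_one, mul_one, pow_one, pow_one, zpow_neg, zpow_ofNat]
    · simp only [List.map_cons, List.map_nil, List.prod_cons, List.prod_nil]
      rw [p7, p8, zpow_zero, one_mul, mul_one, zpow_neg, zpow_ofNat, inv_pow, ← pow_mul,
        ← pow_mul, mul_comm]
  have key := cls_perf_both hD G [(r, 1), (r', q)] (List.pairwise_pair.mpr hso)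
    (forall_mem2 (isFrob_one K) hq) (forall_mem2 hr hr')
    (fun t => by rw [hX]; exact h1 t) (fun t => by rw [hXn]; exact h2 t) l hl hl2 hyp1 hyp2 t
  rw [hX, hXn] at key
  exact key

end Cls

end Cfsg.Agent.Helper11
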