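import Cfsg.Agent.Helper11.ChevTwist
import Cfsg.Agent.Helper11.ChevCore
import Cfsg.Agent.Helper11.ChevBN1

set_option autoImplicit false

/-!
The normal core of `B ∩ G` in a subgroup `G` of the Chevalley group that contains an element of
`N` conjugating `U` onto `V` and enough products of root elements of pairwise orthogonal roots:
it is trivial.
-/

namespace Cfsg.Agent.Helper11

open Cfsg.Lie

section TwCore
variable {K : Type*} [Field K] {D : ChevalleyDatum}

/-- The value on the root `s` of the character of `∏_i h_{p_i}(c_i)`. -/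
noncomputable def chiN (D : ChevalleyDatum) (c : ℕ → K) (s : ℕ) : K :=
  ((List.range D.rank).map (fun i => c i ^ D.cartan i s)).prod

theorem H_conj_xN (hD : Seven D) (h : GL D.Idx K) (c : ℕ → K) (hc : ∀ i < D.rank, c i ≠ 0)
    (hh : (h : Matrix D.Idx D.Idx K) = Matrix.diagonal (hsDiag D c)) (s : ℕ) (hs : s < D.nroots)
    (t : K) : h * xG hD s t * h⁻¹ = xG hD s (chiN D c s * t) :=
  H_conj_x hD h c hc hh s hs t

theorem H_conj_wG (hD : Seven D) (h : GL D.Idx K) (c : ℕ → K) (hc : ∀ i < D.rank, c i ≠ 0)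
    (hh : (h : Matrix D.Idx D.Idx K) = Matrix.diagonal (hsDiag D c)) :
    ∀ (w : List (ℕ × K)), (∀ p ∈ w, p.1 < D.nroots) →
      h * wG hD w * h⁻¹ = wG hD (w.map fun p => (p.1, chiN D c p.1 * p.2)) := by
  intro w
  induction w with
  | nil => intro _; rw [List.map_nil, wG_nil, mul_one, mul_inv_cancel]
  | cons p w ih =>
    intro hw
    have e : h * wG hD (p :: w) * h⁻¹ = (h * xG hD p.1 p.2 * h⁻¹) * (h * wG hD w * h⁻¹) := by
      rw [wG_cons]; group
    rw [e, H_conj_xN hD h c hc hh p.1 (hw p List.mem_cons_self),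
      ih (fun p' hp' => hw p' (List.mem_cons_of_mem _ hp')), List.map_cons, wG_cons]

theorem hG_fix_wG (hD : Seven D) (r : ℕ) (hr : r < D.nroots) (l : K) (hl : l ≠ 0) :
    ∀ (w : List (ℕ × K)), (∀ p ∈ w, p.1 < D.nroots ∧ D.pairing r p.1 = 0) →
      hG hD r l * wG hD w * (hG hD r l)⁻¹ = wG hD w := by
  intro w
  induction w with
  | nil => intro _; rw [wG_nil, mul_one, mul_inv_cancel]
  | cons p w ih =>
    intro hw
    have e : hG hD r l * wG hD (p :: w) * (hG hD r l)⁻¹ =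
        (hG hD r l * xG hD p.1 p.2 * (hG hD r l)⁻¹) * (hG hD r l * wG hD w * (hG hD r l)⁻¹) := by
      rw [wG_cons]; group
    rw [e, hG_conj_x hD r hr p.1 (hw p List.mem_cons_self).1 l hl, (hw p List.mem_cons_self).2,
      zpow_zero, one_mul, ih (fun p' hp' => hw p' (List.mem_cons_of_mem _ hp')), wG_cons]

theorem xG_inj (hD : Seven D) (r : ℕ) (hr : r < D.nroots) (u v : K)
    (h : xG hD r u = xG hD r v) : u = v := by
  have h1 : xG hD r (u + -v) = 1 := by rw [← xG_mul, ← xG_inv, h, mul_inv_cancel]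
  have h2 : D.x K r (u + -v) = 1 := by
    have h3 : ((xG hD r (u + -v) : GL D.Idx K) : Matrix D.Idx D.Idx K) = 1 := by rw [h1]; rfl
    exact h3
  have h4 := (x_eq_one_iff7 hD r hr _).mp h2
  exact sub_eq_zero.mp (by rw [sub_eq_add_neg]; exact h4)

theorem wG_inj_step (hD : Seven D) (r : ℕ) (hr : r < D.nroots) (hpp : D.pairing r r = 2) (l : K)
    (hl : l ≠ 0) (hl2 : l ^ 2 ≠ 1) (a b : K) (A B : GL D.Idx K)
    (hfixA : hG hD r l * A * (hG hD r l)⁻¹ = A) (hfixB : hG hD r l * B * (hG hD r l)⁻¹ = B)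
    (heq : xG hD r a * A = xG hD r b * B) : a = b ∧ A = B := by
  have heq2 : xG hD r (l ^ 2 * a) * A = xG hD r (l ^ 2 * b) * B := by
    have h1 : hG hD r l * (xG hD r a * A) * (hG hD r l)⁻¹ =
        hG hD r l * (xG hD r b * B) * (hG hD r l)⁻¹ := by rw [heq]
    have e : ∀ (x Y : GL D.Idx K), hG hD r l * (x * Y) * (hG hD r l)⁻¹ =
        (hG hD r l * x * (hG hD r l)⁻¹) * (hG hD r l * Y * (hG hD r l)⁻¹) := by
      intro x Y; group
    rw [e, e, hfixA, hfixB, hG_conj_x hD r hr r hr l hl, hG_conj_x hD r hr r hr l hl, hpp,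
      zpow_ofNat] at h1
    exact h1
  have k1 : xG hD r (-b + a) = B * A⁻¹ := by
    rw [← xG_mul, ← xG_inv]
    calc (xG hD r b)⁻¹ * xG hD r a = (xG hD r b)⁻¹ * (xG hD r a * A) * A⁻¹ := by group
      _ = (xG hD r b)⁻¹ * (xG hD r b * B) * A⁻¹ := by rw [heq]
      _ = B * A⁻¹ := by group
  have k2 : xG hD r (-(l ^ 2 * b) + l ^ 2 * a) = B * A⁻¹ := by
    rw [← xG_mul, ← xG_inv]
    calc (xG hD r (l ^ 2 * b))⁻¹ * xG hD r (l ^ 2 * a)
        = (xG hD r (l ^ 2 * b))⁻¹ * (xG hD r (l ^ 2 * a) * A) * A⁻¹ := by group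
      _ = (xG hD r (l ^ 2 * b))⁻¹ * (xG hD r (l ^ 2 * b) * B) * A⁻¹ := by rw [heq2]
      _ = B * A⁻¹ := by group
  have k3 := xG_inj hD r hr _ _ (k1.trans k2.symm)
  have k4 : (l ^ 2 - 1) * (a - b) = 0 := by linear_combination (-1 : K) * k3
  have k5 : a = b := by
    rcases mul_eq_zero.mp k4 with h | h
    · exact absurd (sub_eq_zero.mp h) hl2
    · exact sub_eq_zero.mp h
  refine ⟨k5, ?_⟩
  rw [k5] at heq
  exact mul_left_cancel heq

/-- A product of root elements of pairwise orthogonal roots determines its parameters. -/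
theorem wG_inj (hD : Seven D) (l : K) (hl : l ≠ 0) (hl2 : l ^ 2 ≠ 1) :
    ∀ (w : List (ℕ × K × K)), (∀ p ∈ w, p.1 < D.nroots ∧ D.pairing p.1 p.1 = 2) →
      w.Pairwise (fun p p' => D.pairing p.1 p'.1 = 0) →
      wG hD (w.map fun p => (p.1, p.2.1)) = wG hD (w.map fun p => (p.1, p.2.2)) →
      ∀ p ∈ w, p.2.1 = p.2.2 := by
  intro w
  induction w with
  | nil => intro _ _ _ p hp; exact absurd hp List.not_mem_nil
  | cons p w ih =>
    intro hw hpw heq
    rw [List.pairwise_cons] at hpw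
    rw [List.map_cons, List.map_cons, wG_cons, wG_cons] at heq
    have hr := (hw p List.mem_cons_self).1
    have hpp := (hw p List.mem_cons_self).2
    have hfixA := hG_fix_wG hD p.1 hr l hl (w.map fun p => (p.1, p.2.1)) (by
      intro p' hp'
      obtain ⟨p0, hp0, rfl⟩ := List.mem_map.mp hp'
      exact ⟨(hw p0 (List.mem_cons_of_mem _ hp0)).1, hpw.1 p0 hp0⟩)
    have hfixB := hG_fix_wG hD p.1 hr l hl (w.map fun p => (p.1, p.2.2)) (by
      intro p' hp'
      obtain ⟨p0, hp0, rfl⟩ := List.mem_map.mp hp'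
      exact ⟨(hw p0 (List.mem_cons_of_mem _ hp0)).1, hpw.1 p0 hp0⟩)
    obtain ⟨k5, hAB⟩ := wG_inj_step hD p.1 hr hpp l hl hl2 _ _ _ _ hfixA hfixB heq
    intro p' hp'
    rcases List.mem_cons.mp hp' with rfl | hp'
    · exact k5
    · exact ih (fun q hq => hw q (List.mem_cons_of_mem _ hq)) hpw.2 hAB p' hp'

theorem prod_map_zpow_neg (c : ℕ → K) (f g : ℕ → ℤ) :
    ∀ (l : List ℕ), (∀ i ∈ l, f i = - g i) →
      (l.map fun i => c i ^ f i).prod = ((l.map fun i => c i ^ g i).prod)⁻¹ := by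
  intro l
  induction l with
  | nil => intro _; simp
  | cons i l ih =>
    intro h
    rw [List.map_cons, List.prod_cons, List.map_cons, List.prod_cons, mul_inv,
      h i List.mem_cons_self, zpow_neg, ih (fun j hj => h j (List.mem_cons_of_mem _ hj))]

theorem chiN_neg (hD : Seven D) (c : ℕ → K) (s : ℕ) (hs : s < D.nroots) :
    chiN D c (D.neg s) = (chiN D c s)⁻¹ := by
  have h := (cartan_neg_of (tabOK_seven D hD) s hs (cartAdd_seven D hD s hs)).2
  exact prod_map_zpow_neg c _ _ (List.range D.rank) (fun i hi => h i (List.mem_range.mp hi))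

/-- An element of `H` whose character is trivial on the fundamental roots is trivial. -/
theorem H_eq_one_of_simple (hD : Seven D) (k : GL D.Idx K) (c : ℕ → K)
    (hc : ∀ i < D.rank, c i ≠ 0)
    (hval : (k : Matrix D.Idx D.Idx K) = Matrix.diagonal (hsDiag D c))
    (h1 : ∀ j < D.rank, chiN D c (D.simple j) = 1) : k = 1 := by
  have hcen : D.group K ≤ Subgroup.centralizer {k} := by
    rw [group_eq_fund hD (rootWords7 D hD)]
    refine (Subgroup.closure_le _).mpr ?_
    rintro g ⟨i, hi, t, rfl | rfl⟩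
    · rw [SetLike.mem_coe, Subgroup.mem_centralizer_iff]
      intro y hy
      rw [Set.mem_singleton_iff] at hy
      subst hy
      have hx := H_conj_xN hD y c hc hval (D.simple i) (simple_lt7 hD i hi) t
      rw [h1 i hi, one_mul] at hx
      exact mul_inv_eq_iff_eq_mul.mp hx
    · rw [SetLike.mem_coe, Subgroup.mem_centralizer_iff]
      intro y hy
      rw [Set.mem_singleton_iff] at hy
      subst hy
      have hx := H_conj_xN hD y c hc hval (D.neg (D.simple i))
        (neg_lt7 hD _ (simple_lt7 hD i hi)) t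
      rw [chiN_neg hD c _ (simple_lt7 hD i hi), h1 i hi, inv_one, one_mul] at hx
      exact mul_inv_eq_iff_eq_mul.mp hx
  have hchi : ∀ s (_ : s < D.nroots), chiN D c s = 1 := by
    intro s hs
    have hmem := hcen (xG_mem_group hD s (1 : K))
    rw [Subgroup.mem_centralizer_iff] at hmem
    have hcomm := hmem k (Set.mem_singleton k)
    have hx := H_conj_xN hD k c hc hval s hs 1
    rw [mul_one] at hx
    have e : k * xG hD s 1 * k⁻¹ = xG hD s 1 := by rw [hcomm]; group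
    rw [e] at hx
    exact (xG_inj hD s hs _ _ hx).symm
  apply Units.ext
  rw [hval]
  have hone : hsDiag D c = fun _ => (1 : K) := by
    funext j
    rcases j with j | ⟨s, hs⟩
    · rfl
    · exact hchi s hs
  rw [hone, Matrix.diagonal_one]
  rfl

/-- The normal core of `B ∩ G` in `G` is trivial. -/
theorem twist_core (hD : Seven D) (G : Subgroup (GL D.Idx K)) (n₀ : GL D.Idx K) (hn₀G : n₀ ∈ G)
    (hn₀ : n₀ ∈ D.monomialSubgroup K)
    (hmap : (D.posUnipotent K).map (MulAut.conj n₀).toMonoidHom = D.negUnipotent K)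
    (l : K) (hl : l ≠ 0) (hl2 : l ^ 2 ≠ 1) (ws : List (List (ℕ × K)))
    (hws : ∀ w ∈ ws, wG hD w ∈ G ∧ wG hD w ∈ D.posUnipotent K ∧
      (∀ p ∈ w, p.1 < D.nroots ∧ D.pairing p.1 p.1 = 2 ∧ p.2 ≠ 0) ∧
      w.Pairwise (fun p p' => D.pairing p.1 p'.1 = 0))
    (hcov : ∀ j < D.rank, ∃ w ∈ ws, ∃ p ∈ w, p.1 = D.simple j) :
    ((D.borelSubgroup K ⊓ G).subgroupOf G).normalCore = ⊥ := by
  have step1 : ∀ k : ↥G, k ∈ ((D.borelSubgroup K ⊓ G).subgroupOf G).normalCore →
      (k : GL D.Idx K) ∈ D.diagonalSubgroup K := by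
    intro k hk
    have hk' : ∀ b : ↥G, b * k * b⁻¹ ∈ (D.borelSubgroup K ⊓ G).subgroupOf G := hk
    have hk1 : (k : GL D.Idx K) ∈ D.borelSubgroup K := by
      have h := hk' 1
      rw [Subgroup.mem_subgroupOf] at h
      have h' := (Subgroup.mem_inf.mp h).1
      simpa using h'
    have hk2 : n₀⁻¹ * (k : GL D.Idx K) * n₀ ∈ D.borelSubgroup K := by
      have h := hk' (⟨n₀, hn₀G⟩ : ↥G)⁻¹
      rw [Subgroup.mem_subgroupOf] at h
      have h' := (Subgroup.mem_inf.mp h).1
      simpa using h'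
    have hk3 : (k : GL D.Idx K) ∈ D.negUnipotent K ⊔ D.diagonalSubgroup K := by
      have hconj : ∀ u ∈ D.borelSubgroup K,
          n₀ * u * n₀⁻¹ ∈ D.negUnipotent K ⊔ D.diagonalSubgroup K := by
        intro u hu
        unfold ChevalleyDatum.borelSubgroup at hu
        rw [Subgroup.sup_eq_closure] at hu
        refine conj_closure_le _ _ n₀ ?_ u hu
        rintro x (hx | hx)
        · apply Subgroup.mem_sup_left
          rw [← hmap]
          exact ⟨x, hx, rfl⟩
        · apply Subgroup.mem_sup_right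
          exact ((Subgroup.mem_normalizer_iff.mp (N_le_normalizer_H hD hn₀)) x).mp hx
      have h := hconj _ hk2
      have e : n₀ * (n₀⁻¹ * (k : GL D.Idx K) * n₀) * n₀⁻¹ = (k : GL D.Idx K) := by group
      rwa [e] at h
    have h4 : (k : GL D.Idx K) ∈ D.borelSubgroup K ⊓ (D.negUnipotent K ⊔ D.diagonalSubgroup K) :=
      ⟨hk1, hk3⟩
    rwa [B_inf_negUH hD] at h4
  rw [eq_bot_iff]
  intro k hk
  rw [Subgroup.mem_bot]
  have hkH := step1 k hk
  obtain ⟨c, hc, hval⟩ := H_form hD _ hkH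
  have hnorm : (((D.borelSubgroup K ⊓ G).subgroupOf G).normalCore).Normal :=
    Subgroup.normalCore_normal _
  have hcomm : ∀ w ∈ ws, (k : GL D.Idx K) * wG hD w * (k : GL D.Idx K)⁻¹ = wG hD w := by
    intro w hw
    obtain ⟨hwG, hwU, -, -⟩ := hws w hw
    have hmem : k * ((⟨wG hD w, hwG⟩ : ↥G) * k⁻¹ * (⟨wG hD w, hwG⟩ : ↥G)⁻¹) ∈
        ((D.borelSubgroup K ⊓ G).subgroupOf G).normalCore :=
      mul_mem hk (hnorm.conj_mem _ (inv_mem hk) _)
    have h1 := step1 _ hmem
    have e : ((k * ((⟨wG hD w, hwG⟩ : ↥G) * k⁻¹ * (⟨wG hD w, hwG⟩ : ↥G)⁻¹) : ↥G) :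
        GL D.Idx K) = ((k : GL D.Idx K) * wG hD w * (k : GL D.Idx K)⁻¹) * (wG hD w)⁻¹ := by
      show (k : GL D.Idx K) * (wG hD w * (k : GL D.Idx K)⁻¹ * (wG hD w)⁻¹) = _
      group
    rw [e] at h1
    have hU : (k : GL D.Idx K) * wG hD w * (k : GL D.Idx K)⁻¹ ∈ D.posUnipotent K :=
      ((Subgroup.mem_normalizer_iff.mp (H_le_normalizer_posU hD hkH)) (wG hD w)).mp hwU
    have h2 : (k : GL D.Idx K) * wG hD w * (k : GL D.Idx K)⁻¹ * (wG hD w)⁻¹ ∈
        D.posUnipotent K ⊓ D.diagonalSubgroup K :=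
      Subgroup.mem_inf.mpr ⟨mul_mem hU (inv_mem hwU), h1⟩
    rw [posU_inf_H hD] at h2
    exact mul_inv_eq_one.mp (Subgroup.mem_bot.mp h2)
  have h1 : ∀ j < D.rank, chiN D c (D.simple j) = 1 := by
    intro j hj
    obtain ⟨w, hw, p, hp, hpj⟩ := hcov j hj
    obtain ⟨-, -, hwp, hpair⟩ := hws w hw
    have hc1 := hcomm w hw
    rw [H_conj_wG hD _ c hc hval w (fun p hp => (hwp p hp).1)] at hc1
    have e1 : (w.map fun p => (p.1, chiN D c p.1 * p.2, p.2)).map (fun p => (p.1, p.2.1)) =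
        w.map fun p => (p.1, chiN D c p.1 * p.2) := by
      rw [List.map_map]; rfl
    have e2 : (w.map fun p => (p.1, chiN D c p.1 * p.2, p.2)).map (fun p => (p.1, p.2.2)) = w := by
      rw [List.map_map]
      exact List.map_id w
    have key := wG_inj hD l hl hl2 (w.map fun p => (p.1, chiN D c p.1 * p.2, p.2))
      (by
        intro q hq
        obtain ⟨p0, hp0, rfl⟩ := List.mem_map.mp hq
        exact ⟨(hwp p0 hp0).1, (hwp p0 hp0).2.1⟩)
      (List.pairwise_map.mpr hpair) (by rw [e1, e2]; exact hc1)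
      (p.1, chiN D c p.1 * p.2, p.2) (List.mem_map.mpr ⟨p, hp, rfl⟩)
    rw [← hpj]
    have hp0 := (hwp p hp).2.2
    have key' : chiN D c p.1 * p.2 = 1 * p.2 := by rw [one_mul]; exact key
    exact mul_right_cancel₀ hp0 key'
  have hk1 := H_eq_one_of_simple hD _ c hc hval h1
  exact Subtype.ext hk1

end TwCore

end Cfsg.Agent.Helper11
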