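import Cfsg.Agent.Helper11.ChevTwistCoreED
import Cfsg.Agent.Helper11.ChevFastP

set_option autoImplicit false

/-!
A second form of the criterion for the triviality of the normal core of `B ∩ G`: the test
elements are arbitrary elements of `G ∩ U` having a non-zero entry in the row of each fundamental
root vector and a column of the Cartan part. Also: the action of a word on the root subgroups,
checked by computation (exactly or modulo a prime).
-/

namespace Cfsg.Agent.Helper11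

open Cfsg.Lie

section TwCore2
variable {K : Type*} [Field K] {D : ChevalleyDatum}

/-- The word `w` (with constant parameters) conjugates `x_s(t)` to `x_{f s}(ε_s t)`, modulo `p`. -/
noncomputable def wconjOK (p : ℤ) (D : ChevalleyDatum) (w : List (ℕ × Poly)) (f : ℕ → ℕ)
    (ε : ℕ → ℤ) : Bool :=
  allN D.nroots (fun s => Nat.blt (f s) D.nroots && (isZ (Int.sub (Int.mul (ε s) (ε s)) 1) &&
    wordEqPN p D (appR w [(s, [(1, 1, 0)])]) ((f s, [(ε s, 1, 0)]) :: w)))

theorem conjTo_of_wOK (hD : Seven D) (p : ℤ) (hp : ((p : ℤ) : K) = 0) (w : List (ℕ × Poly))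
    (f : ℕ → ℕ) (ε : ℕ → ℤ) (h : wconjOK p D w f ε = true) (n : GL D.Idx K)
    (hn : ∀ t : K, (n : Matrix D.Idx D.Idx K) = D.wordMat K (evalWord t 1 w)) :
    ConjTo hD n f := by
  intro s hs
  have h1 := (allN_spec _ _).mp h s hs
  simp only [Bool.and_eq_true] at h1
  obtain ⟨h2, h3, h4⟩ := h1
  refine ⟨(blt_iff _ _).mp h2, ((ε s : ℤ) : K), ?_, fun t => ?_⟩
  · have h5 : ε s * ε s - 1 = 0 := isZ_eq _ h3
    have h6 : ε s * ε s = 1 := sub_eq_zero.mp h5
    rw [← Int.cast_mul, h6, Int.cast_one]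
  · have h6 := wordEqPN_sound (tabOK_seven D hD) p hp _ _ h4 t (1 : K)
    rw [appR_eq] at h6
    have e1 : D.wordMat K (evalWord t 1 (w ++ [(s, [(1, 1, 0)])])) =
        (n : Matrix D.Idx D.Idx K) * D.x K s t := by
      have e : evalWord t (1 : K) (w ++ [(s, [(1, 1, 0)])]) = evalWord t 1 w ++ [(s, t)] := by
        simp [evalWord, evalPoly, evalMono]
      rw [e, wordMat_append', ← hn t]
      simp [ChevalleyDatum.wordMat]
    have e2 : D.wordMat K (evalWord t 1 ((f s, [(ε s, 1, 0)]) :: w)) =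
        D.x K (f s) (((ε s : ℤ) : K) * t) * (n : Matrix D.Idx D.Idx K) := by
      have e : evalWord t (1 : K) ((f s, [(ε s, 1, 0)]) :: w) =
          (f s, ((ε s : ℤ) : K) * t) :: evalWord t 1 w := by
        simp [evalWord, evalPoly, evalMono]
      rw [e, hn t]
      simp [ChevalleyDatum.wordMat]
    rw [e1, e2] at h6
    have h7 : n * xG hD s t = xG hD (f s) (((ε s : ℤ) : K) * t) * n := Units.ext h6
    rw [h7]; group

/-- `f` is an involution of the roots exchanging the positive and the negative roots. -/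
noncomputable def swapOK (D : ChevalleyDatum) (f : ℕ → ℕ) : Bool :=
  allN D.nroots (fun s =>
    Nat.beq (f (f s)) s &&
      cond (Nat.blt s (Nat.div D.nroots 2)) (Nat.ble (Nat.div D.nroots 2) (f s))
        (Nat.blt (f s) (Nat.div D.nroots 2)))

theorem map_of_conjTo (hD : Seven D) (n : GL D.Idx K) (f : ℕ → ℕ) (hc : ConjTo hD n f)
    (hOK : swapOK D f = true) :
    (D.posUnipotent K).map (MulAut.conj n).toMonoidHom = D.negUnipotent K := by
  have hspec : ∀ s < D.nroots, f (f s) = s ∧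
      (s < D.nroots / 2 → D.nroots / 2 ≤ f s) ∧
      (¬ s < D.nroots / 2 → f s < D.nroots / 2) := by
    intro s hs
    have h := (allN_spec _ _).mp hOK s hs
    rw [Bool.and_eq_true] at h
    refine ⟨(beq_iff _ _).mp h.1, fun h1 => ?_, fun h1 => ?_⟩
    · have h2' := h.2
      rw [show Nat.blt s (Nat.div D.nroots 2) = true from (blt_iff _ _).mpr h1] at h2'
      exact Nat.le_of_ble_eq_true h2'
    · have h2' := h.2
      rw [show Nat.blt s (Nat.div D.nroots 2) = false from blt_false_of_not h1] at h2'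
      exact (blt_iff _ _).mp h2'
  unfold ChevalleyDatum.posUnipotent ChevalleyDatum.negUnipotent
  rw [MonoidHom.map_closure]
  apply le_antisymm
  · rw [Subgroup.closure_le]
    rintro _ ⟨x, ⟨r, t, hpos, hx⟩, rfl⟩
    obtain ⟨h1, ε, hε, hconj⟩ := hc r hpos.1
    have hxG := eq_xG hD x r t hx
    have : (MulAut.conj n).toMonoidHom x = xG hD (f r) (ε * t) := by
      rw [hxG]
      show n * xG hD r t * n⁻¹ = _
      exact hconj t
    rw [this]
    apply Subgroup.subset_closure
    refine ⟨_, _, ?_, rfl⟩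
    have hr2 : D.nroots / 2 ≤ r := ((pos_iff7 hD r hpos.1).1).mp hpos
    exact ((pos_iff7 hD _ h1).2).mpr ((hspec r hpos.1).2.2 (by omega))
  · rw [Subgroup.closure_le]
    rintro y ⟨s, u, hneg, hy⟩
    have hs2 : s < D.nroots / 2 := ((pos_iff7 hD s hneg.1).2).mp hneg
    obtain ⟨h1, ε, hε, hconj⟩ := hc (f s) (hc s hneg.1).1
    rw [(hspec s hneg.1).1] at hconj
    apply Subgroup.subset_closure
    refine ⟨xG hD (f s) (ε * u), ⟨_, _, ?_, rfl⟩, ?_⟩
    · exact ((pos_iff7 hD _ (hc s hneg.1).1).1).mpr ((hspec s hneg.1).2.1 hs2)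
    · show n * xG hD (f s) (ε * u) * n⁻¹ = y
      rw [hconj (ε * u), ← mul_assoc, hε, one_mul]
      exact (eq_xG hD y s u hy).symm

/-- A diagonal element commuting with a matrix that has a non-zero entry in the row of the root
vector `e_s` and a column of the Cartan part has trivial character on `s`. -/
theorem chi_of_entry (k : GL D.Idx K) (c : ℕ → K)
    (hval : (k : Matrix D.Idx D.Idx K) = Matrix.diagonal (hsDiag D c)) (g : GL D.Idx K)
    (hcomm : k * g * k⁻¹ = g) (s : Fin D.nroots) (i : Fin D.rank)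
    (hne : (g : Matrix D.Idx D.Idx K) (Sum.inr s) (Sum.inl i) ≠ 0) : chiN D c s.val = 1 := by
  have h1 : k * g = g * k := mul_inv_eq_iff_eq_mul.mp hcomm
  have h2 : (k : Matrix D.Idx D.Idx K) * (g : Matrix D.Idx D.Idx K) =
      (g : Matrix D.Idx D.Idx K) * (k : Matrix D.Idx D.Idx K) := by
    rw [← Units.val_mul, ← Units.val_mul, h1]
  rw [hval] at h2
  have h3 := congrFun (congrFun h2 (Sum.inr s)) (Sum.inl i)
  rw [Matrix.diagonal_mul, Matrix.mul_diagonal] at h3
  have h4 : hsDiag D c (Sum.inl i) = 1 := rfl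
  have h5 : hsDiag D c (Sum.inr s) = chiN D c s.val := rfl
  rw [h4, h5, mul_one] at h3
  exact mul_right_cancel₀ hne (by rw [one_mul]; exact h3)

/-- The normal core of `B ∩ G` in `G` is trivial (test elements with non-zero entries). -/
theorem twist_core2 (hD : Seven D) (G : Subgroup (GL D.Idx K)) (n₀ : GL D.Idx K) (hn₀G : n₀ ∈ G)
    (hn₀ : n₀ ∈ D.monomialSubgroup K)
    (hmap : (D.posUnipotent K).map (MulAut.conj n₀).toMonoidHom = D.negUnipotent K)
    (gs : List (GL D.Idx K))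
    (hgs : ∀ g ∈ gs, g ∈ G ∧ g ∈ D.posUnipotent K)
    (hcov : ∀ j < D.rank, ∃ g ∈ gs, ∃ (s : Fin D.nroots) (i : Fin D.rank), s.val = D.simple j ∧
      (g : Matrix D.Idx D.Idx K) (Sum.inr s) (Sum.inl i) ≠ 0) :
    ((D.borelSubgroup K ⊓ G).subgroupOf G).normalCore = ⊥ := by
  have step1 : ∀ k : ↥G, k ∈ ((D.borelSubgroup K ⊓ G).subgroupOf G).normalCore →
      (k : GL D.Idx K) ∈ D.diagonalSubgroup K := by
    intro k hk
    have hk' : ∀ b : ↥G, b * k * b⁻¹ ∈ (D.borelSubgroup K ⊓ G).subgroupOf G := hk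
    have hk1 : (k : GL D.Idx K) ∈ D.borelSubgroup K := by
      have h := hk' 1
      rw [Subgroup.mem_subgroupOf] at h
      have h' := (Subgroup.mem_inf.mp h).1
      simpa using h'
    have hk2 : n₀⁻¹ * (k : GL D.Idx K) * n₀ ∈ D.borelSubgroup K := by
      have h := hk' (⟨n₀, hn₀G⟩ : ↥G)⁻¹
      rw [Subgroup.mem_subgroupOf] at h
      have h' := (Subgroup.mem_inf.mp h).1
      simpa using h'
    have hk3 : (k : GL D.Idx K) ∈ D.negUnipotent K ⊔ D.diagonalSubgroup K := by
      have hconj : ∀ u ∈ D.borelSubgroup K,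
          n₀ * u * n₀⁻¹ ∈ D.negUnipotent K ⊔ D.diagonalSubgroup K := by
        intro u hu
        unfold ChevalleyDatum.borelSubgroup at hu
        rw [Subgroup.sup_eq_closure] at hu
        refine conj_closure_le _ _ n₀ ?_ u hu
        rintro x (hx | hx)
        · apply Subgroup.mem_sup_left
          rw [← hmap]
          exact ⟨x, hx, rfl⟩
        · apply Subgroup.mem_sup_right
          exact ((Subgroup.mem_normalizer_iff.mp (N_le_normalizer_H hD hn₀)) x).mp hx
      have h := hconj _ hk2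
      have e : n₀ * (n₀⁻¹ * (k : GL D.Idx K) * n₀) * n₀⁻¹ = (k : GL D.Idx K) := by group
      rwa [e] at h
    have h4 : (k : GL D.Idx K) ∈ D.borelSubgroup K ⊓ (D.negUnipotent K ⊔ D.diagonalSubgroup K) :=
      ⟨hk1, hk3⟩
    rwa [B_inf_negUH hD] at h4
  rw [eq_bot_iff]
  intro k hk
  rw [Subgroup.mem_bot]
  have hkH := step1 k hk
  obtain ⟨c, hc, hval⟩ := H_form hD _ hkH
  have hnorm : (((D.borelSubgroup K ⊓ G).subgroupOf G).normalCore).Normal :=
    Subgroup.normalCore_normal _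
  have hcomm : ∀ g ∈ gs, (k : GL D.Idx K) * g * (k : GL D.Idx K)⁻¹ = g := by
    intro g hg
    obtain ⟨hgG, hgU⟩ := hgs g hg
    have hmem : k * ((⟨g, hgG⟩ : ↥G) * k⁻¹ * (⟨g, hgG⟩ : ↥G)⁻¹) ∈
        ((D.borelSubgroup K ⊓ G).subgroupOf G).normalCore :=
      mul_mem hk (hnorm.conj_mem _ (inv_mem hk) _)
    have h1 := step1 _ hmem
    have e : ((k * ((⟨g, hgG⟩ : ↥G) * k⁻¹ * (⟨g, hgG⟩ : ↥G)⁻¹) : ↥G) :
        GL D.Idx K) = ((k : GL D.Idx K) * g * (k : GL D.Idx K)⁻¹) * g⁻¹ := by
      show (k : GL D.Idx K) * (g * (k : GL D.Idx K)⁻¹ * g⁻¹) = _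
      group
    rw [e] at h1
    have hU : (k : GL D.Idx K) * g * (k : GL D.Idx K)⁻¹ ∈ D.posUnipotent K :=
      ((Subgroup.mem_normalizer_iff.mp (H_le_normalizer_posU hD hkH)) g).mp hgU
    have h2 : (k : GL D.Idx K) * g * (k : GL D.Idx K)⁻¹ * g⁻¹ ∈
        D.posUnipotent K ⊓ D.diagonalSubgroup K :=
      Subgroup.mem_inf.mpr ⟨mul_mem hU (inv_mem hgU), h1⟩
    rw [posU_inf_H hD] at h2
    exact mul_inv_eq_one.mp (Subgroup.mem_bot.mp h2)
  have h1 : ∀ j < D.rank, chiN D c (D.simple j) = 1 := by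
    intro j hj
    obtain ⟨g, hg, s, i, hs, hne⟩ := hcov j hj
    rw [← hs]
    exact chi_of_entry _ c hval g (hcomm g hg) s i hne
  have hk1 := H_eq_one_of_simple hD _ c hc hval h1
  exact Subtype.ext hk1

end TwCore2

end Cfsg.Agent.Helper11
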