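import Cfsg.Agent.Helper11.ChevTwist

set_option autoImplicit false

/-!
`³D₄(q)` is perfect.
-/

namespace Cfsg.Agent.Helper11

open Cfsg.Lie

set_option maxRecDepth 100000 in
set_option maxHeartbeats 0 in
theorem d4_facts : chevD4.neg 18 = 5 ∧ chevD4.neg 13 = 10 ∧ chevD4.neg 12 = 11 ∧
    chevD4.neg 14 = 9 ∧ chevD4.simple 0 = 18 ∧ chevD4.simple 1 = 14 ∧ chevD4.simple 2 = 13 ∧
    chevD4.simple 3 = 12 ∧ chevD4.reflectRoot 3 14 = 15 ∧ chevD4.reflectRoot 2 15 = 17 ∧
    chevD4.reflectRoot 0 17 = 22 ∧ chevD4.reflectRoot 1 23 = 22 ∧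
    chevD4.reflectRoot 1 14 = 9 := by decide +kernel

set_option maxRecDepth 100000 in
set_option maxHeartbeats 0 in
theorem d4_orth : orthOK chevD4 18 13 = true ∧ orthOK chevD4 18 12 = true ∧
    orthOK chevD4 13 12 = true := by decide +kernel

set_option maxRecDepth 100000 in
set_option maxHeartbeats 0 in
theorem d4_pairs :
    chevD4.pairing 18 18 = 2 ∧ chevD4.pairing 13 18 = 0 ∧ chevD4.pairing 12 18 = 0 ∧
    chevD4.pairing 18 13 = 0 ∧ chevD4.pairing 13 13 = 2 ∧ chevD4.pairing 12 13 = 0 ∧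
    chevD4.pairing 18 12 = 0 ∧ chevD4.pairing 13 12 = 0 ∧ chevD4.pairing 12 12 = 2 ∧
    chevD4.pairing 18 (chevD4.neg 18) = -2 ∧ chevD4.pairing 13 (chevD4.neg 18) = 0 ∧
    chevD4.pairing 12 (chevD4.neg 18) = 0 ∧
    chevD4.pairing 18 (chevD4.neg 13) = 0 ∧ chevD4.pairing 13 (chevD4.neg 13) = -2 ∧
    chevD4.pairing 12 (chevD4.neg 13) = 0 ∧
    chevD4.pairing 18 (chevD4.neg 12) = 0 ∧ chevD4.pairing 13 (chevD4.neg 12) = 0 ∧
    chevD4.pairing 12 (chevD4.neg 12) = -2 := by decide +kernel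

set_option maxRecDepth 100000 in
set_option maxHeartbeats 0 in
theorem d4_perfPair : perfPair chevD4 1 23 14 22 = true := by decide +kernel

theorem d4_twisted_perfect {K : Type*} [Field K] [Fintype K] {q : ℕ} (hq : IsPrimePow q)
    (hK : Fintype.card K = q ^ 3) : commutator ↥(twistedD4 K q) = ⊤ := by
  have hD : Seven chevD4 := by simp
  have hfr : IsFrob K q := isFrob_of_card hq hK
  have hfr2 : IsFrob K (q ^ 2) := by rw [sq]; exact hfr.mul hfr
  have hcard : 3 < Fintype.card K := by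
    have h2 := hq.two_le
    rw [hK]
    calc 3 < 2 ^ 3 := by norm_num
      _ ≤ q ^ 3 := Nat.pow_le_pow_left h2 3
  obtain ⟨l, hl0, hl2⟩ := exists_sq_ne_one hcard
  obtain ⟨n18, n13, n12, n14, s0, s1, s2, s3, r1, r2, r3, r4, r5⟩ := d4_facts
  obtain ⟨o1, o2, o3⟩ := d4_orth
  obtain ⟨p1, p2, p3, p4, p5, p6, p7, p8, p9, p10, p11, p12, p13, p14, p15, p16, p17, p18⟩ :=
    d4_pairs
  have gen1 : ∀ t : K, t ^ q = t → ∀ r ∈ [d4p2, d4m2], xG hD r t ∈ twistedD4 K q := by
    intro t ht r hr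
    rw [← wG_one]
    exact mem_gen hD _ _ (Or.inl ⟨t, ht, r, hr, rfl⟩)
  have gen2 : ∀ t : K, ∀ rs ∈ [(d4p1, d4p3, d4p4), (d4m1, d4m3, d4m4)],
      xG hD rs.1 t * (xG hD rs.2.1 (t ^ q) * xG hD rs.2.2 (t ^ (q ^ 2))) ∈ twistedD4 K q := by
    intro t rs hrs
    rw [← wG_three]
    exact mem_gen hD _ _ (Or.inr ⟨t, rs, hrs, rfl⟩)
  have hP : ∀ t : K, t ^ q = t → (-t) ^ q = -t := fun t ht => by rw [hfr.neg, ht]
  have P1 : (1 : K) ^ q = 1 := one_pow q
  have Pm : (-(1 : K)⁻¹) ^ q = -(1 : K)⁻¹ := by rw [inv_one]; exact hP 1 P1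
  have g14 : ∀ t : K, t ^ q = t → xG hD 14 t ∈ twistedD4 K q :=
    fun t ht => gen1 t ht d4p2 (by simp)
  have g9 : ∀ t : K, t ^ q = t → xG hD 9 t ∈ twistedD4 K q :=
    fun t ht => gen1 t ht d4m2 (by simp)
  have hn2 : nG hD (chevD4.simple 1) (1 : K) ∈ twistedD4 K q := by
    rw [nG_eq, s1, n14]
    exact mul_mem (mul_mem (g14 1 P1) (g9 _ Pm)) (g14 1 P1)
  -- the class of type `A₁ × A₁ × A₁`
  have hX : ∀ t : K, clsX hD [(18, 1), (13, q), (12, q ^ 2)] t =
      xG hD 18 t * (xG hD 13 (t ^ q) * xG hD 12 (t ^ (q ^ 2))) := by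
    intro t
    simp only [clsX, List.map_cons, List.map_nil, List.prod_cons, List.prod_nil, pow_one, mul_one]
  have hXn : ∀ t : K, clsX hD (negCls chevD4 [(18, 1), (13, q), (12, q ^ 2)]) t =
      xG hD 5 t * (xG hD 10 (t ^ q) * xG hD 11 (t ^ (q ^ 2))) := by
    intro t
    simp only [clsX, negCls, List.map_cons, List.map_nil, List.prod_cons, List.prod_nil, pow_one,
      mul_one, n18, n13, n12]
  have hc : ([(18, 1), (13, q), (12, q ^ 2)] : List (ℕ × ℕ)).Pairwise
      (fun p p' => SOrth hD K p.1 p'.1) :=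
    pairwise3 (sorth_of_OK hD 18 13 o1) (sorth_of_OK hD 18 12 o2) (sorth_of_OK hD 13 12 o3)
  have hf : ∀ p ∈ ([(18, 1), (13, q), (12, q ^ 2)] : List (ℕ × ℕ)), IsFrob K p.2 :=
    forall_mem3 (isFrob_one K) hfr hfr2
  have hr : ∀ p ∈ ([(18, 1), (13, q), (12, q ^ 2)] : List (ℕ × ℕ)), p.1 < chevD4.nroots :=
    forall_mem3 (show 18 < chevD4.nroots by decide) (show 13 < chevD4.nroots by decide)
      (show 12 < chevD4.nroots by decide)
  have h1 : ∀ t : K, clsX hD [(18, 1), (13, q), (12, q ^ 2)] t ∈ twistedD4 K q := fun t => by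
    rw [hX]; exact gen2 t (d4p1, d4p3, d4p4) (by simp)
  have h2 : ∀ t : K, clsX hD (negCls chevD4 [(18, 1), (13, q), (12, q ^ 2)]) t ∈
      twistedD4 K q := fun t => by
    rw [hXn]; exact gen2 t (d4m1, d4m3, d4m4) (by simp)
  have hyp1 : ∀ p' ∈ ([(18, 1), (13, q), (12, q ^ 2)] : List (ℕ × ℕ)),
      (([(18, 1), (13, q), (12, q ^ 2)] : List (ℕ × ℕ)).map fun p =>
        (l ^ p.2) ^ chevD4.pairing p.1 p'.1).prod = (l ^ 2) ^ p'.2 := by
    intro p' hp'
    simp only [List.mem_cons, List.mem_nil_iff, or_false] at hp'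
    rcases hp' with rfl | rfl | rfl
    · simp only [List.map_cons, List.map_nil, List.prod_cons, List.prod_nil, p1, p2, p3,
        zpow_zero, mul_one, pow_one]
      exact zpow_ofNat l 2
    · simp only [List.map_cons, List.map_nil, List.prod_cons, List.prod_nil, p4, p5, p6,
        zpow_zero, one_mul, mul_one]
      rw [zpow_ofNat, ← pow_mul, ← pow_mul, mul_comm]
    · simp only [List.map_cons, List.map_nil, List.prod_cons, List.prod_nil, p7, p8, p9,
        zpow_zero, one_mul, mul_one]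
      rw [zpow_ofNat, ← pow_mul, ← pow_mul, mul_comm]
  have hyp2 : ∀ p' ∈ ([(18, 1), (13, q), (12, q ^ 2)] : List (ℕ × ℕ)),
      (([(18, 1), (13, q), (12, q ^ 2)] : List (ℕ × ℕ)).map fun p =>
        (l ^ p.2) ^ chevD4.pairing p.1 (chevD4.neg p'.1)).prod = ((l ^ 2)⁻¹) ^ p'.2 := by
    intro p' hp'
    simp only [List.mem_cons, List.mem_nil_iff, or_false] at hp'
    rcases hp' with rfl | rfl | rfl
    · simp only [List.map_cons, List.map_nil, List.prod_cons, List.prod_nil, p10, p11, p12,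
        zpow_zero, mul_one, pow_one]
      rw [zpow_neg, zpow_ofNat]
    · simp only [List.map_cons, List.map_nil, List.prod_cons, List.prod_nil, p13, p14, p15,
        zpow_zero, one_mul, mul_one]
      rw [zpow_neg, zpow_ofNat, inv_pow, ← pow_mul, ← pow_mul, mul_comm]
    · simp only [List.map_cons, List.map_nil, List.prod_cons, List.prod_nil, p16, p17, p18,
        zpow_zero, one_mul, mul_one]
      rw [zpow_neg, zpow_ofNat, inv_pow, ← pow_mul, ← pow_mul, mul_comm]
  have both := fun t : K =>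
    cls_perf_both hD (twistedD4 K q) _ hc hf hr h1 h2 l hl0 hl2 hyp1 hyp2 t
  have hNS : clsN hD [(18, 1), (13, q), (12, q ^ 2)] (1 : K) ∈ twistedD4 K q :=
    (clsH_mem hD _ _ hc hf h1 h2 1).1
  have hNSeq : clsN hD [(18, 1), (13, q), (12, q ^ 2)] (1 : K) =
      nG hD 18 1 * (nG hD 13 1 * nG hD 12 1) := by
    simp only [clsN, List.map_cons, List.map_nil, List.prod_cons, List.prod_nil, one_pow, mul_one]
  rw [hNSeq] at hNS
  have a1 := conjPm_n (K := K) hD 3 (by decide) 14 (by decide)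
  rw [s3, r1] at a1
  have a2 := conjPm_n (K := K) hD 2 (by decide) 15 (by decide)
  rw [s2, r2] at a2
  have a3 := conjPm_n (K := K) hD 0 (by decide) 17 (by decide)
  rw [s0, r3] at a3
  have aS : ConjPm hD K (nG hD 18 1 * (nG hD 13 1 * nG hD 12 1)) 14 22 := (a1.trans a2).trans a3
  have a4 := conjPm_n (K := K) hD 1 (by decide) 23 (by decide)
  rw [r4] at a4
  have a5 := conjPm_n (K := K) hD 1 (by decide) 14 (by decide)
  rw [r5] at a5
  have g22 : ∀ t : K, t ^ q = t → xG hD 22 t ∈ twistedD4 K q :=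
    aS.transfer (fun t => t ^ q = t) hP (fun x => x ∈ twistedD4 K q)
      (fun x hx => mul_mem (mul_mem hNS hx) (inv_mem hNS)) g14
  have c23 : ∀ t : K, t ^ q = t →
      xG hD 23 t ∈ (commutator ↥(twistedD4 K q)).map (twistedD4 K q).subtype :=
    comm_pair_fix hD _ 23 14 22 d4_perfPair (fun t => t ^ q = t) hP (g22 1 P1) g14
  have c22 : ∀ t : K, t ^ q = t →
      xG hD 22 t ∈ (commutator ↥(twistedD4 K q)).map (twistedD4 K q).subtype :=
    a4.transfer (fun t => t ^ q = t) hP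
      (fun x => x ∈ (commutator ↥(twistedD4 K q)).map (twistedD4 K q).subtype)
      (fun x hx => conj_mem_comm_map _ _ x hn2 hx) c23
  have c14 : ∀ t : K, t ^ q = t →
      xG hD 14 t ∈ (commutator ↥(twistedD4 K q)).map (twistedD4 K q).subtype :=
    aS.symm.transfer (fun t => t ^ q = t) hP
      (fun x => x ∈ (commutator ↥(twistedD4 K q)).map (twistedD4 K q).subtype)
      (fun x hx => conj_mem_comm_map _ _ x (inv_mem hNS) hx) c22
  have c9 : ∀ t : K, t ^ q = t →
      xG hD 9 t ∈ (commutator ↥(twistedD4 K q)).map (twistedD4 K q).subtype :=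
    a5.transfer (fun t => t ^ q = t) hP
      (fun x => x ∈ (commutator ↥(twistedD4 K q)).map (twistedD4 K q).subtype)
      (fun x hx => conj_mem_comm_map _ _ x hn2 hx) c14
  apply perfect_of_le_map
  apply gen_le hD (d4Words K q)
  intro w hw
  rcases hw with ⟨t, ht, r, hr', rfl⟩ | ⟨t, rs, hrs, rfl⟩
  · rw [wG_one]
    simp only [List.mem_cons, List.mem_nil_iff, or_false] at hr'
    rcases hr' with rfl | rfl
    · exact c14 t ht
    · exact c9 t ht
  · rw [wG_three]
    simp only [List.mem_cons, List.mem_nil_iff, or_false] at hrs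
    rcases hrs with rfl | rfl
    · have h := (both t).1
      rw [hX] at h
      exact h
    · have h := (both t).2
      rw [hXn] at h
      exact h

end Cfsg.Agent.Helper11
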