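import Cfsg.Agent.Helper11.ChevTwist

set_option autoImplicit false

/-!
`²E₆(q)` is perfect.
-/

namespace Cfsg.Agent.Helper11

open Cfsg.Lie

set_option maxRecDepth 100000 in
set_option maxHeartbeats 0 in
theorem e6_facts : chevE6.neg 56 = 15 ∧ chevE6.neg 36 = 35 ∧ chevE6.neg 42 = 29 ∧
    chevE6.neg 37 = 34 ∧ chevE6.neg 46 = 25 ∧ chevE6.neg 39 = 32 ∧ chevE6.simple 1 = 46 ∧
    chevE6.simple 3 = 39 ∧ chevE6.reflectRoot 3 47 = 46 ∧ chevE6.reflectRoot 1 47 = 39 ∧
    chevE6.reflectRoot 1 46 = 25 ∧ chevE6.reflectRoot 3 39 = 32 := by decide +kernel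

set_option maxRecDepth 100000 in
set_option maxHeartbeats 0 in
theorem e6_orth : orthOK chevE6 56 36 = true ∧ orthOK chevE6 42 37 = true := by decide +kernel

set_option maxRecDepth 100000 in
set_option maxHeartbeats 0 in
theorem e6_pairs1 : chevE6.pairing 56 56 = 2 ∧ chevE6.pairing 36 56 = 0 ∧
    chevE6.pairing 56 36 = 0 ∧ chevE6.pairing 36 36 = 2 ∧
    chevE6.pairing 56 (chevE6.neg 56) = -2 ∧ chevE6.pairing 36 (chevE6.neg 56) = 0 ∧
    chevE6.pairing 56 (chevE6.neg 36) = 0 ∧ chevE6.pairing 36 (chevE6.neg 36) = -2 := by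
  decide +kernel

set_option maxRecDepth 100000 in
set_option maxHeartbeats 0 in
theorem e6_pairs3 : chevE6.pairing 42 42 = 2 ∧ chevE6.pairing 37 42 = 0 ∧
    chevE6.pairing 42 37 = 0 ∧ chevE6.pairing 37 37 = 2 ∧
    chevE6.pairing 42 (chevE6.neg 42) = -2 ∧ chevE6.pairing 37 (chevE6.neg 42) = 0 ∧
    chevE6.pairing 42 (chevE6.neg 37) = 0 ∧ chevE6.pairing 37 (chevE6.neg 37) = -2 := by
  decide +kernel

set_option maxRecDepth 100000 in
set_option maxHeartbeats 0 in
theorem e6_perfPair : perfPair chevE6 1 47 46 39 = true := by decide +kernel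

theorem e6_twisted_perfect {K : Type*} [Field K] [Fintype K] {q : ℕ} (hq : IsPrimePow q)
    (hK : Fintype.card K = q ^ 2) : commutator ↥(twistedE6 K q) = ⊤ := by
  have hD : Seven chevE6 := by simp
  have hfr : IsFrob K q := isFrob_of_card hq hK
  have hcard : 3 < Fintype.card K := by
    have h2 := hq.two_le
    rw [hK]
    calc 3 < 2 ^ 2 := by norm_num
      _ ≤ q ^ 2 := Nat.pow_le_pow_left h2 2
  obtain ⟨l, hl0, hl2⟩ := exists_sq_ne_one hcard
  obtain ⟨n56, n36, n42, n37, n46, n39, s1, s3, r1, r2, r3, r4⟩ := e6_facts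
  -- the generators
  have gen1 : ∀ t : K, t ^ q = t → ∀ r ∈ [e6p2, e6m2, e6p4, e6m4],
      xG hD r t ∈ twistedE6 K q := by
    intro t ht r hr
    rw [← wG_one]
    exact mem_gen hD _ _ (Or.inl ⟨t, ht, r, hr, rfl⟩)
  have gen2 : ∀ t : K, ∀ rs ∈ [(e6p1, e6p6), (e6m1, e6m6), (e6p3, e6p5), (e6m3, e6m5)],
      xG hD rs.1 t * xG hD rs.2 (t ^ q) ∈ twistedE6 K q := by
    intro t rs hrs
    rw [← wG_two]
    exact mem_gen hD _ _ (Or.inr ⟨t, rs, hrs, rfl⟩)
  have hP : ∀ t : K, t ^ q = t → (-t) ^ q = -t := fun t ht => by rw [hfr.neg, ht]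
  have P1 : (1 : K) ^ q = 1 := one_pow q
  have Pm : (-(1 : K)⁻¹) ^ q = -(1 : K)⁻¹ := by rw [inv_one]; exact hP 1 P1
  have g46 : ∀ t : K, t ^ q = t → xG hD 46 t ∈ twistedE6 K q :=
    fun t ht => gen1 t ht e6p2 (by simp)
  have g25 : ∀ t : K, t ^ q = t → xG hD 25 t ∈ twistedE6 K q :=
    fun t ht => gen1 t ht e6m2 (by simp)
  have g39 : ∀ t : K, t ^ q = t → xG hD 39 t ∈ twistedE6 K q :=
    fun t ht => gen1 t ht e6p4 (by simp)
  have g32 : ∀ t : K, t ^ q = t → xG hD 32 t ∈ twistedE6 K q :=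
    fun t ht => gen1 t ht e6m4 (by simp)
  have hn2 : nG hD (chevE6.simple 1) (1 : K) ∈ twistedE6 K q := by
    rw [nG_eq, s1, n46]
    exact mul_mem (mul_mem (g46 1 P1) (g25 _ Pm)) (g46 1 P1)
  have hn4 : nG hD (chevE6.simple 3) (1 : K) ∈ twistedE6 K q := by
    rw [nG_eq, s3, n39]
    exact mul_mem (mul_mem (g39 1 P1) (g32 _ Pm)) (g39 1 P1)
  -- the fixed roots
  have c47 : ∀ t : K, t ^ q = t →
      xG hD 47 t ∈ (commutator ↥(twistedE6 K q)).map (twistedE6 K q).subtype :=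
    comm_pair_fix hD _ 47 46 39 e6_perfPair (fun t => t ^ q = t) hP (g39 1 P1) g46
  have a1 := conjPm_n (K := K) hD 3 (by decide) 47 (by decide)
  rw [r1] at a1
  have a2 := conjPm_n (K := K) hD 1 (by decide) 47 (by decide)
  rw [r2] at a2
  have a3 := conjPm_n (K := K) hD 1 (by decide) 46 (by decide)
  rw [r3] at a3
  have a4 := conjPm_n (K := K) hD 3 (by decide) 39 (by decide)
  rw [r4] at a4
  have c46 : ∀ t : K, t ^ q = t →
      xG hD 46 t ∈ (commutator ↥(twistedE6 K q)).map (twistedE6 K q).subtype :=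
    a1.transfer (fun t => t ^ q = t) hP
      (fun x => x ∈ (commutator ↥(twistedE6 K q)).map (twistedE6 K q).subtype)
      (fun x hx => conj_mem_comm_map _ _ x hn4 hx) c47
  have c39 : ∀ t : K, t ^ q = t →
      xG hD 39 t ∈ (commutator ↥(twistedE6 K q)).map (twistedE6 K q).subtype :=
    a2.transfer (fun t => t ^ q = t) hP
      (fun x => x ∈ (commutator ↥(twistedE6 K q)).map (twistedE6 K q).subtype)
      (fun x hx => conj_mem_comm_map _ _ x hn2 hx) c47
  have c25 : ∀ t : K, t ^ q = t →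
      xG hD 25 t ∈ (commutator ↥(twistedE6 K q)).map (twistedE6 K q).subtype :=
    a3.transfer (fun t => t ^ q = t) hP
      (fun x => x ∈ (commutator ↥(twistedE6 K q)).map (twistedE6 K q).subtype)
      (fun x hx => conj_mem_comm_map _ _ x hn2 hx) c46
  have c32 : ∀ t : K, t ^ q = t →
      xG hD 32 t ∈ (commutator ↥(twistedE6 K q)).map (twistedE6 K q).subtype :=
    a4.transfer (fun t => t ^ q = t) hP
      (fun x => x ∈ (commutator ↥(twistedE6 K q)).map (twistedE6 K q).subtype)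
      (fun x hx => conj_mem_comm_map _ _ x hn4 hx) c39
  -- the classes of type `A₁ × A₁`
  have pc1 := fun t : K => pair_cls_perf hD (twistedE6 K q) 56 36 q hfr e6_orth.1 e6_pairs1
    (fun t => gen2 t (e6p1, e6p6) (by simp))
    (fun t => by rw [n56, n36]; exact gen2 t (e6m1, e6m6) (by simp)) l hl0 hl2 t
  have pc3 := fun t : K => pair_cls_perf hD (twistedE6 K q) 42 37 q hfr e6_orth.2 e6_pairs3
    (fun t => gen2 t (e6p3, e6p5) (by simp))
    (fun t => by rw [n42, n37]; exact gen2 t (e6m3, e6m5) (by simp)) l hl0 hl2 t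
  apply perfect_of_le_map
  apply gen_le hD (e6Words K q)
  intro w hw
  rcases hw with ⟨t, ht, r, hr, rfl⟩ | ⟨t, rs, hrs, rfl⟩
  · rw [wG_one]
    simp only [List.mem_cons, List.mem_nil_iff, or_false] at hr
    rcases hr with rfl | rfl | rfl | rfl
    · exact c46 t ht
    · exact c25 t ht
    · exact c39 t ht
    · exact c32 t ht
  · rw [wG_two]
    simp only [List.mem_cons, List.mem_nil_iff, or_false] at hrs
    rcases hrs with rfl | rfl | rfl | rfl
    · exact (pc1 t).1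
    · have h := (pc1 t).2
      rw [n56, n36] at h
      exact h
    · exact (pc3 t).1
    · have h := (pc3 t).2
      rw [n42, n37] at h
      exact h

end Cfsg.Agent.Helper11
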