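import Cfsg.Agent.Helper11.ChevTwistCore
import Cfsg.Agent.Helper11.ChevTwistE6
import Cfsg.Agent.Helper11.ChevTwistD4

set_option autoImplicit false

/-!
The normal core of `B¹ = G¹ ∩ B` is trivial in `²E₆(q)` and `³D₄(q)`.
-/

namespace Cfsg.Agent.Helper11

open Cfsg.Lie

section Gen
variable {K : Type*} [Field K] {D : ChevalleyDatum}

theorem pair_clsN_mem (hD : Seven D) (G : Subgroup (GL D.Idx K)) (r r' q : ℕ) (hq : IsFrob K q)
    (ho : orthOK D r r' = true)
    (h1 : ∀ t : K, xG hD r t * xG hD r' (t ^ q) ∈ G)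
    (h2 : ∀ t : K, xG hD (D.neg r) t * xG hD (D.neg r') (t ^ q) ∈ G) :
    nG hD r (1 : K) * nG hD r' 1 ∈ G := by
  have hX : ∀ t : K, clsX hD [(r, 1), (r', q)] t = xG hD r t * xG hD r' (t ^ q) := by
    intro t
    simp only [clsX, List.map_cons, List.map_nil, List.prod_cons, List.prod_nil, pow_one, mul_one]
  have hXn : ∀ t : K, clsX hD (negCls D [(r, 1), (r', q)]) t =
      xG hD (D.neg r) t * xG hD (D.neg r') (t ^ q) := by
    intro t
    simp only [clsX, negCls, List.map_cons, List.map_nil, List.prod_cons, List.prod_nil, pow_one,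
      mul_one]
  have h := (clsH_mem hD G [(r, 1), (r', q)] (List.pairwise_pair.mpr (sorth_of_OK hD r r' ho))
    (forall_mem2 (isFrob_one K) hq) (fun t => by rw [hX]; exact h1 t)
    (fun t => by rw [hXn]; exact h2 t) 1).1
  have e : clsN hD [(r, 1), (r', q)] (1 : K) = nG hD r 1 * nG hD r' 1 := by
    simp only [clsN, List.map_cons, List.map_nil, List.prod_cons, List.prod_nil, one_pow, mul_one]
  rw [e] at h
  exact h

theorem tri_clsN_mem (hD : Seven D) (G : Subgroup (GL D.Idx K)) (r r' r'' q : ℕ)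
    (hq : IsFrob K q) (hq2 : IsFrob K (q ^ 2)) (o1 : orthOK D r r' = true)
    (o2 : orthOK D r r'' = true) (o3 : orthOK D r' r'' = true)
    (h1 : ∀ t : K, xG hD r t * (xG hD r' (t ^ q) * xG hD r'' (t ^ (q ^ 2))) ∈ G)
    (h2 : ∀ t : K, xG hD (D.neg r) t *
      (xG hD (D.neg r') (t ^ q) * xG hD (D.neg r'') (t ^ (q ^ 2))) ∈ G) :
    nG hD r (1 : K) * (nG hD r' 1 * nG hD r'' 1) ∈ G := by
  have hX : ∀ t : K, clsX hD [(r, 1), (r', q), (r'', q ^ 2)] t =
      xG hD r t * (xG hD r' (t ^ q) * xG hD r'' (t ^ (q ^ 2))) := by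
    intro t
    simp only [clsX, List.map_cons, List.map_nil, List.prod_cons, List.prod_nil, pow_one, mul_one]
  have hXn : ∀ t : K, clsX hD (negCls D [(r, 1), (r', q), (r'', q ^ 2)]) t =
      xG hD (D.neg r) t * (xG hD (D.neg r') (t ^ q) * xG hD (D.neg r'') (t ^ (q ^ 2))) := by
    intro t
    simp only [clsX, negCls, List.map_cons, List.map_nil, List.prod_cons, List.prod_nil, pow_one,
      mul_one]
  have h := (clsH_mem hD G [(r, 1), (r', q), (r'', q ^ 2)]
    (pairwise3 (sorth_of_OK hD r r' o1) (sorth_of_OK hD r r'' o2) (sorth_of_OK hD r' r'' o3))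
    (forall_mem3 (isFrob_one K) hq hq2) (fun t => by rw [hX]; exact h1 t)
    (fun t => by rw [hXn]; exact h2 t) 1).1
  have e : clsN hD [(r, 1), (r', q), (r'', q ^ 2)] (1 : K) =
      nG hD r 1 * (nG hD r' 1 * nG hD r'' 1) := by
    simp only [clsN, List.map_cons, List.map_nil, List.prod_cons, List.prod_nil, one_pow, mul_one]
  rw [e] at h
  exact h

end Gen

def twBlockE6 : List ℕ := [1, 3, 2, 4, 0, 5]

def twWordE6 : List ℕ :=
  twBlockE6 ++ (twBlockE6 ++ (twBlockE6 ++ (twBlockE6 ++ (twBlockE6 ++ twBlockE6))))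

def twBlockD4 : List ℕ := [1, 0, 2, 3]

def twWordD4 : List ℕ := twBlockD4 ++ (twBlockD4 ++ twBlockD4)

set_option maxRecDepth 100000 in
set_option maxHeartbeats 0 in
theorem twWordE6_ok : w0OK chevE6 twWordE6 = true := by decide +kernel

set_option maxRecDepth 100000 in
set_option maxHeartbeats 0 in
theorem twWordD4_ok : w0OK chevD4 twWordD4 = true := by decide +kernel

set_option maxRecDepth 100000 in
set_option maxHeartbeats 0 in
theorem e6_facts2 : chevE6.simple 0 = 56 ∧ chevE6.simple 2 = 42 ∧ chevE6.simple 4 = 37 ∧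
    chevE6.simple 5 = 36 ∧ chevE6.pairing 46 46 = 2 ∧ chevE6.pairing 39 39 = 2 := by
  decide +kernel

set_option maxRecDepth 100000 in
set_option maxHeartbeats 0 in
theorem d4_facts2 : chevD4.pairing 14 14 = 2 := by decide +kernel

theorem e6_twisted_core {K : Type*} [Field K] [Fintype K] {q : ℕ} (hq : IsPrimePow q)
    (hK : Fintype.card K = q ^ 2) :
    ((chevE6.borelSubgroup K ⊓ twistedE6 K q).subgroupOf (twistedE6 K q)).normalCore = ⊥ := by
  have hD : Seven chevE6 := by simp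
  have hfr : IsFrob K q := isFrob_of_card hq hK
  have hcard : 3 < Fintype.card K := by
    have h2 := hq.two_le
    rw [hK]
    calc 3 < 2 ^ 2 := by norm_num
      _ ≤ q ^ 2 := Nat.pow_le_pow_left h2 2
  obtain ⟨l, hl0, hl2⟩ := exists_sq_ne_one hcard
  obtain ⟨n56, n36, n42, n37, n46, n39, s1, s3, r1, r2, r3, r4⟩ := e6_facts
  obtain ⟨s0, s2, s4, s5, pp46, pp39⟩ := e6_facts2
  obtain ⟨a1, a2, a3, a4, a5, a6, a7, a8⟩ := e6_pairs1
  obtain ⟨b1, b2, b3, b4, b5, b6, b7, b8⟩ := e6_pairs3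
  have gen1 : ∀ t : K, t ^ q = t → ∀ r ∈ [e6p2, e6m2, e6p4, e6m4],
      xG hD r t ∈ twistedE6 K q := by
    intro t ht r hr
    rw [← wG_one]
    exact mem_gen hD _ _ (Or.inl ⟨t, ht, r, hr, rfl⟩)
  have gen2 : ∀ t : K, ∀ rs ∈ [(e6p1, e6p6), (e6m1, e6m6), (e6p3, e6p5), (e6m3, e6m5)],
      xG hD rs.1 t * xG hD rs.2 (t ^ q) ∈ twistedE6 K q := by
    intro t rs hrs
    rw [← wG_two]
    exact mem_gen hD _ _ (Or.inr ⟨t, rs, hrs, rfl⟩)
  have hP : ∀ t : K, t ^ q = t → (-t) ^ q = -t := fun t ht => by rw [hfr.neg, ht]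
  have P1 : (1 : K) ^ q = 1 := one_pow q
  have Pm : (-(1 : K)⁻¹) ^ q = -(1 : K)⁻¹ := by rw [inv_one]; exact hP 1 P1
  have g46 : ∀ t : K, t ^ q = t → xG hD 46 t ∈ twistedE6 K q :=
    fun t ht => gen1 t ht e6p2 (by simp)
  have g25 : ∀ t : K, t ^ q = t → xG hD 25 t ∈ twistedE6 K q :=
    fun t ht => gen1 t ht e6m2 (by simp)
  have g39 : ∀ t : K, t ^ q = t → xG hD 39 t ∈ twistedE6 K q :=
    fun t ht => gen1 t ht e6p4 (by simp)
  have g32 : ∀ t : K, t ^ q = t → xG hD 32 t ∈ twistedE6 K q :=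
    fun t ht => gen1 t ht e6m4 (by simp)
  have hn2 : nG hD (chevE6.simple 1) (1 : K) ∈ twistedE6 K q := by
    rw [nG_eq, s1, n46]
    exact mul_mem (mul_mem (g46 1 P1) (g25 _ Pm)) (g46 1 P1)
  have hn4 : nG hD (chevE6.simple 3) (1 : K) ∈ twistedE6 K q := by
    rw [nG_eq, s3, n39]
    exact mul_mem (mul_mem (g39 1 P1) (g32 _ Pm)) (g39 1 P1)
  have hN1 : nG hD 56 (1 : K) * nG hD 36 1 ∈ twistedE6 K q :=
    pair_clsN_mem hD _ 56 36 q hfr e6_orth.1 (fun t => gen2 t (e6p1, e6p6) (by simp))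
      (fun t => by rw [n56, n36]; exact gen2 t (e6m1, e6m6) (by simp))
  have hN3 : nG hD 42 (1 : K) * nG hD 37 1 ∈ twistedE6 K q :=
    pair_clsN_mem hD _ 42 37 q hfr e6_orth.2 (fun t => gen2 t (e6p3, e6p5) (by simp))
      (fun t => by rw [n42, n37]; exact gen2 t (e6m3, e6m5) (by simp))
  have hblock : wordN (F := K) hD twBlockE6 ∈ twistedE6 K q := by
    have e : wordN (F := K) hD twBlockE6 = nG hD (chevE6.simple 1) 1 *
        (nG hD (chevE6.simple 3) 1 * ((nG hD 42 1 * nG hD 37 1) * (nG hD 56 1 * nG hD 36 1))) := by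
      show nG hD (chevE6.simple 1) 1 * (nG hD (chevE6.simple 3) 1 * (nG hD (chevE6.simple 2) 1 *
        (nG hD (chevE6.simple 4) 1 * (nG hD (chevE6.simple 0) 1 *
          (nG hD (chevE6.simple 5) 1 * 1))))) = _
      rw [s0, s2, s4, s5, mul_one]
      simp only [mul_assoc]
    rw [e]
    exact mul_mem hn2 (mul_mem hn4 (mul_mem hN3 hN1))
  have hn₀G : wordN (F := K) hD twWordE6 ∈ twistedE6 K q := by
    unfold twWordE6
    rw [wordN_append, wordN_append, wordN_append, wordN_append, wordN_append]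
    exact mul_mem hblock (mul_mem hblock (mul_mem hblock (mul_mem hblock (mul_mem hblock hblock))))
  have hn₀N : wordN (F := K) hD twWordE6 ∈ chevE6.monomialSubgroup K :=
    wordN_mem hD _ (w0OK_lt _ twWordE6_ok)
  have hmap := w0_map (F := K) hD twWordE6 twWordE6_ok
  have pos : ∀ s, s < chevE6.nroots → chevE6.nroots / 2 ≤ s → chevE6.IsPosRoot s :=
    fun s hs h => ((pos_iff7 hD s hs).1).mpr h
  have pos46 := pos 46 (by decide) (by decide)
  have pos39 := pos 39 (by decide) (by decide)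
  have pos56 := pos 56 (by decide) (by decide)
  have pos36 := pos 36 (by decide) (by decide)
  have pos42 := pos 42 (by decide) (by decide)
  have pos37 := pos 37 (by decide) (by decide)
  refine twist_core hD (twistedE6 K q) _ hn₀G hn₀N hmap l hl0 hl2
    [[(46, (1 : K))], [(39, 1)], [(56, 1), (36, 1 ^ q)], [(42, 1), (37, 1 ^ q)]] ?_ ?_
  · intro w hw
    simp only [List.mem_cons, List.mem_nil_iff, or_false] at hw
    rcases hw with rfl | rfl | rfl | rfl
    · refine ⟨?_, ?_, ?_, List.pairwise_singleton _ _⟩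
      · rw [wG_one]; exact g46 1 P1
      · rw [wG_one]; exact xG_mem_posU hD 46 pos46 1
      · intro p hp
        simp only [List.mem_cons, List.mem_nil_iff, or_false] at hp
        subst hp
        exact ⟨(by decide : 46 < chevE6.nroots), pp46, one_ne_zero⟩
    · refine ⟨?_, ?_, ?_, List.pairwise_singleton _ _⟩
      · rw [wG_one]; exact g39 1 P1
      · rw [wG_one]; exact xG_mem_posU hD 39 pos39 1
      · intro p hp
        simp only [List.mem_cons, List.mem_nil_iff, or_false] at hp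
        subst hp
        exact ⟨(by decide : 39 < chevE6.nroots), pp39, one_ne_zero⟩
    · refine ⟨?_, ?_, ?_, List.pairwise_pair.mpr a3⟩
      · rw [wG_two]; exact gen2 1 (e6p1, e6p6) (by simp)
      · rw [wG_two]; exact mul_mem (xG_mem_posU hD 56 pos56 _) (xG_mem_posU hD 36 pos36 _)
      · exact forall_mem2 ⟨(by decide : 56 < chevE6.nroots), a1, one_ne_zero⟩
          ⟨(by decide : 36 < chevE6.nroots), a4, pow_ne_zero _ one_ne_zero⟩
    · refine ⟨?_, ?_, ?_, List.pairwise_pair.mpr b3⟩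
      · rw [wG_two]; exact gen2 1 (e6p3, e6p5) (by simp)
      · rw [wG_two]; exact mul_mem (xG_mem_posU hD 42 pos42 _) (xG_mem_posU hD 37 pos37 _)
      · exact forall_mem2 ⟨(by decide : 42 < chevE6.nroots), b1, one_ne_zero⟩
          ⟨(by decide : 37 < chevE6.nroots), b4, pow_ne_zero _ one_ne_zero⟩
  · intro j hj
    have hj' : j < 6 := hj
    interval_cases j
    · exact ⟨[(56, 1), (36, 1 ^ q)], List.mem_cons_of_mem _ (List.mem_cons_of_mem _
        List.mem_cons_self), (56, 1), List.mem_cons_self, s0.symm⟩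
    · exact ⟨[(46, 1)], List.mem_cons_self, (46, 1), List.mem_cons_self, s1.symm⟩
    · exact ⟨[(42, 1), (37, 1 ^ q)], List.mem_cons_of_mem _ (List.mem_cons_of_mem _
        (List.mem_cons_of_mem _ List.mem_cons_self)), (42, 1), List.mem_cons_self, s2.symm⟩
    · exact ⟨[(39, 1)], List.mem_cons_of_mem _ List.mem_cons_self, (39, 1), List.mem_cons_self,
        s3.symm⟩
    · exact ⟨[(42, 1), (37, 1 ^ q)], List.mem_cons_of_mem _ (List.mem_cons_of_mem _
        (List.mem_cons_of_mem _ List.mem_cons_self)), (37, 1 ^ q),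
        List.mem_cons_of_mem _ List.mem_cons_self, s4.symm⟩
    · exact ⟨[(56, 1), (36, 1 ^ q)], List.mem_cons_of_mem _ (List.mem_cons_of_mem _
        List.mem_cons_self), (36, 1 ^ q), List.mem_cons_of_mem _ List.mem_cons_self, s5.symm⟩

theorem d4_twisted_core {K : Type*} [Field K] [Fintype K] {q : ℕ} (hq : IsPrimePow q)
    (hK : Fintype.card K = q ^ 3) :
    ((chevD4.borelSubgroup K ⊓ twistedD4 K q).subgroupOf (twistedD4 K q)).normalCore = ⊥ := by
  have hD : Seven chevD4 := by simp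
  have hfr : IsFrob K q := isFrob_of_card hq hK
  have hfr2 : IsFrob K (q ^ 2) := by rw [sq]; exact hfr.mul hfr
  have hcard : 3 < Fintype.card K := by
    have h2 := hq.two_le
    rw [hK]
    calc 3 < 2 ^ 3 := by norm_num
      _ ≤ q ^ 3 := Nat.pow_le_pow_left h2 3
  obtain ⟨l, hl0, hl2⟩ := exists_sq_ne_one hcard
  obtain ⟨n18, n13, n12, n14, s0, s1, s2, s3, r1, r2, r3, r4, r5⟩ := d4_facts
  obtain ⟨o1, o2, o3⟩ := d4_orth
  obtain ⟨p1, p2, p3, p4, p5, p6, p7, p8, p9, p10, p11, p12, p13, p14, p15, p16, p17, p18⟩ :=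
    d4_pairs
  have gen1 : ∀ t : K, t ^ q = t → ∀ r ∈ [d4p2, d4m2], xG hD r t ∈ twistedD4 K q := by
    intro t ht r hr
    rw [← wG_one]
    exact mem_gen hD _ _ (Or.inl ⟨t, ht, r, hr, rfl⟩)
  have gen2 : ∀ t : K, ∀ rs ∈ [(d4p1, d4p3, d4p4), (d4m1, d4m3, d4m4)],
      xG hD rs.1 t * (xG hD rs.2.1 (t ^ q) * xG hD rs.2.2 (t ^ (q ^ 2))) ∈ twistedD4 K q := by
    intro t rs hrs
    rw [← wG_three]
    exact mem_gen hD _ _ (Or.inr ⟨t, rs, hrs, rfl⟩)
  have hP : ∀ t : K, t ^ q = t → (-t) ^ q = -t := fun t ht => by rw [hfr.neg, ht]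
  have P1 : (1 : K) ^ q = 1 := one_pow q
  have Pm : (-(1 : K)⁻¹) ^ q = -(1 : K)⁻¹ := by rw [inv_one]; exact hP 1 P1
  have g14 : ∀ t : K, t ^ q = t → xG hD 14 t ∈ twistedD4 K q :=
    fun t ht => gen1 t ht d4p2 (by simp)
  have g9 : ∀ t : K, t ^ q = t → xG hD 9 t ∈ twistedD4 K q :=
    fun t ht => gen1 t ht d4m2 (by simp)
  have hn2 : nG hD (chevD4.simple 1) (1 : K) ∈ twistedD4 K q := by
    rw [nG_eq, s1, n14]
    exact mul_mem (mul_mem (g14 1 P1) (g9 _ Pm)) (g14 1 P1)
  have hNS : nG hD 18 (1 : K) * (nG hD 13 1 * nG hD 12 1) ∈ twistedD4 K q :=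
    tri_clsN_mem hD _ 18 13 12 q hfr hfr2 o1 o2 o3
      (fun t => gen2 t (d4p1, d4p3, d4p4) (by simp))
      (fun t => by rw [n18, n13, n12]; exact gen2 t (d4m1, d4m3, d4m4) (by simp))
  have hblock : wordN (F := K) hD twBlockD4 ∈ twistedD4 K q := by
    have e : wordN (F := K) hD twBlockD4 = nG hD (chevD4.simple 1) 1 *
        (nG hD 18 1 * (nG hD 13 1 * nG hD 12 1)) := by
      show nG hD (chevD4.simple 1) 1 * (nG hD (chevD4.simple 0) 1 * (nG hD (chevD4.simple 2) 1 *
        (nG hD (chevD4.simple 3) 1 * 1))) = _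
      rw [s0, s2, s3, mul_one]
    rw [e]
    exact mul_mem hn2 hNS
  have hn₀G : wordN (F := K) hD twWordD4 ∈ twistedD4 K q := by
    unfold twWordD4
    rw [wordN_append, wordN_append]
    exact mul_mem hblock (mul_mem hblock hblock)
  have hn₀N : wordN (F := K) hD twWordD4 ∈ chevD4.monomialSubgroup K :=
    wordN_mem hD _ (w0OK_lt _ twWordD4_ok)
  have hmap := w0_map (F := K) hD twWordD4 twWordD4_ok
  have pos : ∀ s, s < chevD4.nroots → chevD4.nroots / 2 ≤ s → chevD4.IsPosRoot s :=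
    fun s hs h => ((pos_iff7 hD s hs).1).mpr h
  have pos14 := pos 14 (by decide) (by decide)
  have pos18 := pos 18 (by decide) (by decide)
  have pos13 := pos 13 (by decide) (by decide)
  have pos12 := pos 12 (by decide) (by decide)
  refine twist_core hD (twistedD4 K q) _ hn₀G hn₀N hmap l hl0 hl2
    [[(14, (1 : K))], [(18, 1), (13, 1 ^ q), (12, 1 ^ (q ^ 2))]] ?_ ?_
  · intro w hw
    simp only [List.mem_cons, List.mem_nil_iff, or_false] at hw
    rcases hw with rfl | rfl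
    · refine ⟨?_, ?_, ?_, List.pairwise_singleton _ _⟩
      · rw [wG_one]; exact g14 1 P1
      · rw [wG_one]; exact xG_mem_posU hD 14 pos14 1
      · intro p hp
        simp only [List.mem_cons, List.mem_nil_iff, or_false] at hp
        subst hp
        exact ⟨(by decide : 14 < chevD4.nroots), d4_facts2, one_ne_zero⟩
    · refine ⟨?_, ?_, ?_, pairwise3 p4 p7 p8⟩
      · rw [wG_three]; exact gen2 1 (d4p1, d4p3, d4p4) (by simp)
      · rw [wG_three]
        exact mul_mem (xG_mem_posU hD 18 pos18 _)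
          (mul_mem (xG_mem_posU hD 13 pos13 _) (xG_mem_posU hD 12 pos12 _))
      · exact forall_mem3 ⟨(by decide : 18 < chevD4.nroots), p1, one_ne_zero⟩
          ⟨(by decide : 13 < chevD4.nroots), p5, pow_ne_zero _ one_ne_zero⟩
          ⟨(by decide : 12 < chevD4.nroots), p9, pow_ne_zero _ one_ne_zero⟩
  · intro j hj
    have hj' : j < 4 := hj
    interval_cases j
    · exact ⟨[(18, 1), (13, 1 ^ q), (12, 1 ^ (q ^ 2))], List.mem_cons_of_mem _ List.mem_cons_self,
        (18, 1), List.mem_cons_self, s0.symm⟩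
    · exact ⟨[(14, 1)], List.mem_cons_self, (14, 1), List.mem_cons_self, s1.symm⟩
    · exact ⟨[(18, 1), (13, 1 ^ q), (12, 1 ^ (q ^ 2))], List.mem_cons_of_mem _ List.mem_cons_self,
        (13, 1 ^ q), List.mem_cons_of_mem _ List.mem_cons_self, s2.symm⟩
    · exact ⟨[(18, 1), (13, 1 ^ q), (12, 1 ^ (q ^ 2))], List.mem_cons_of_mem _ List.mem_cons_self,
        (12, 1 ^ (q ^ 2)), List.mem_cons_of_mem _ (List.mem_cons_of_mem _ List.mem_cons_self),
        s3.symm⟩

end Cfsg.Agent.Helper11
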