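import Mathlib
import Cfsg.Prelude.Def_Transfer

set_option autoImplicit false

namespace Cfsg.Agent.Helper11.ESE

universe u

/-- a biadditive map into `ZMod p` is bilinear -/
theorem mkB {p : ℕ} {V : Type u} [AddCommGroup V] [Module (ZMod p) V] (β : V → V → ZMod p)
    (h1 : ∀ u u' v, β (u + u') v = β u v + β u' v)
    (h2 : ∀ u v v', β u (v + v') = β u v + β u v') :
    ∃ B : V →ₗ[ZMod p] V →ₗ[ZMod p] ZMod p, ∀ u v, B u v = β u v :=
  ⟨LinearMap.mk₂ (ZMod p) β h1
      (fun c u v => (AddMonoidHom.toZModLinearMap p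
        (AddMonoidHom.mk' (fun u => β u v) (fun a b => h1 a b v))).map_smul c u)
      h2
      (fun c u v => (AddMonoidHom.toZModLinearMap p
        (AddMonoidHom.mk' (fun v => β u v) (fun a b => h2 u a b))).map_smul c v),
    fun u v => rfl⟩

/-- mutually inverse additive maps give a linear equivalence -/
theorem mkX {p : ℕ} {V : Type u} [AddCommGroup V] [Module (ZMod p) V] (f g : V →+ V)
    (h1 : ∀ v, f (g v) = v) (h2 : ∀ v, g (f v) = v) :
    ∃ x : V ≃ₗ[ZMod p] V, ∀ v, x v = f v :=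
  ⟨LinearEquiv.ofLinear (AddMonoidHom.toZModLinearMap p f) (AddMonoidHom.toZModLinearMap p g)
      (LinearMap.ext fun v => h1 v) (LinearMap.ext fun v => h2 v), fun v => rfl⟩

/-- the commutator pairing with values in `ZMod p` -/
theorem cc_exists {X : Type u} [Group X] [Finite X] {p : ℕ} [Fact p.Prime]
    (hc : ∀ a b : X, a * b * a⁻¹ * b⁻¹ ∈ Subgroup.center X)
    (hZ : Nat.card (Subgroup.center X) = p) :
    ∃ cc : X → X → ZMod p, (∀ a a' b, cc (a * a') b = cc a b + cc a' b) ∧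
      (∀ a b, cc b a = - cc a b) ∧ (∀ a b, cc a b = 0 ↔ a * b * a⁻¹ * b⁻¹ = 1) ∧
      (∀ f : X →* X, (∀ z ∈ Subgroup.center X, f z = z) → ∀ a b, cc (f a) (f b) = cc a b) := by
  have hcardM : Nat.card (Multiplicative (ZMod p)) = p := by
    rw [Nat.card_congr Multiplicative.toAdd, Nat.card_zmod]
  let θ : ↥(Subgroup.center X) ≃* Multiplicative (ZMod p) := mulEquivOfPrimeCardEq hZ hcardM
  refine ⟨fun a b => Multiplicative.toAdd (θ ⟨a * b * a⁻¹ * b⁻¹, hc a b⟩), ?_, ?_, ?_, ?_⟩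
  · intro a a' b
    have key : (⟨a * a' * b * (a * a')⁻¹ * b⁻¹, hc (a * a') b⟩ : Subgroup.center X) =
        ⟨a * b * a⁻¹ * b⁻¹, hc a b⟩ * ⟨a' * b * a'⁻¹ * b⁻¹, hc a' b⟩ := by
      apply Subtype.ext
      show a * a' * b * (a * a')⁻¹ * b⁻¹ = a * b * a⁻¹ * b⁻¹ * (a' * b * a'⁻¹ * b⁻¹)
      have hcm := Subgroup.mem_center_iff.mp (hc a' b)
      calc a * a' * b * (a * a')⁻¹ * b⁻¹
          = a * (a' * b * a'⁻¹ * b⁻¹) * (b * a⁻¹ * b⁻¹) := by group
        _ = a * ((b * a⁻¹ * b⁻¹) * (a' * b * a'⁻¹ * b⁻¹)) := by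
            rw [mul_assoc a, ← hcm (b * a⁻¹ * b⁻¹)]
        _ = a * b * a⁻¹ * b⁻¹ * (a' * b * a'⁻¹ * b⁻¹) := by group
    show Multiplicative.toAdd (θ _) = Multiplicative.toAdd (θ _) + Multiplicative.toAdd (θ _)
    rw [key, map_mul]
    rfl
  · intro a b
    have key : (⟨b * a * b⁻¹ * a⁻¹, hc b a⟩ : Subgroup.center X) =
        (⟨a * b * a⁻¹ * b⁻¹, hc a b⟩ : Subgroup.center X)⁻¹ := by
      apply Subtype.ext
      show b * a * b⁻¹ * a⁻¹ = (a * b * a⁻¹ * b⁻¹)⁻¹
      group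
    show Multiplicative.toAdd (θ _) = - Multiplicative.toAdd (θ _)
    rw [key, map_inv]
    rfl
  · intro a b
    constructor
    · intro h
      have h1 : θ ⟨a * b * a⁻¹ * b⁻¹, hc a b⟩ = 1 := h
      have h2 := (MulEquiv.map_eq_one_iff θ).mp h1
      exact congrArg Subtype.val h2
    · intro h
      have h1 : (⟨a * b * a⁻¹ * b⁻¹, hc a b⟩ : Subgroup.center X) = 1 := Subtype.ext h
      show Multiplicative.toAdd (θ ⟨a * b * a⁻¹ * b⁻¹, hc a b⟩) = 0
      rw [h1, map_one]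
      rfl
  · intro f hf a b
    have key : (⟨f a * f b * (f a)⁻¹ * (f b)⁻¹, hc (f a) (f b)⟩ :
        Subgroup.center X) = ⟨a * b * a⁻¹ * b⁻¹, hc a b⟩ := by
      apply Subtype.ext
      show f a * f b * (f a)⁻¹ * (f b)⁻¹ = a * b * a⁻¹ * b⁻¹
      rw [← map_inv, ← map_inv, ← map_mul, ← map_mul, ← map_mul]
      exact hf _ (hc a b)
    show Multiplicative.toAdd (θ _) = Multiplicative.toAdd (θ _)
    rw [key]

/-- the linear-algebra core, over an abstract coordinate space `V` -/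
theorem core {X : Type u} [Group X] {p : ℕ} [Fact p.Prime] {V : Type u} [AddCommGroup V]
    [Module (ZMod p) V]
    (π : X → V) (hπs : Function.Surjective π) (hπm : ∀ a b, π (a * b) = π a + π b)
    (hπk : ∀ a, π a = 0 ↔ a ∈ Subgroup.center X)
    (cc : X → X → ZMod p) (cc_mul : ∀ a a' b, cc (a * a') b = cc a b + cc a' b)
    (cc_anti : ∀ a b, cc b a = - cc a b) (cc_iff : ∀ a b, cc a b = 0 ↔ a * b * a⁻¹ * b⁻¹ = 1)
    (m : ℕ) (τ : ℕ → X →* X) (σ : X →* X)
    (hτ0 : ∀ a, τ 0 a = a) (hτs : ∀ i a, τ (i + 1) a = τ 1 (τ i a)) (hτm : ∀ a, τ m a = a)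
    (hσ1 : ∀ a, σ (τ 1 a) = a) (hσ2 : ∀ a, τ 1 (σ a) = a)
    (hτZ : ∀ i, ∀ z ∈ Subgroup.center X, τ i z = z)
    (cc_tau : ∀ a b, cc (τ 1 a) (τ 1 b) = cc a b)
    (hfree : ∀ i, 0 < i → i < m → ∀ a, (τ i a)⁻¹ * a ∈ Subgroup.center X →
      a ∈ Subgroup.center X) :
    ∃ (B : V →ₗ[ZMod p] V →ₗ[ZMod p] ZMod p) (x : V ≃ₗ[ZMod p] V),
      (∀ v, B v v = 0) ∧ (∀ u, (∀ v, B u v = 0) → u = 0) ∧ (∀ u v, B (x u) (x v) = B u v) ∧
      x ^ m = 1 ∧ (∀ i, 0 < i → i < m → ∀ v, (x ^ i) v = v → v = 0) := by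
  have hπ1 : π 1 = 0 := (hπk 1).mpr (Subgroup.one_mem _)
  have hπinv : ∀ a, π a⁻¹ = - π a := by
    intro a
    have h := hπm a⁻¹ a
    rw [inv_mul_cancel, hπ1] at h
    exact eq_neg_of_add_eq_zero_left h.symm
  have hπeq : ∀ a b, π a = π b → a⁻¹ * b ∈ Subgroup.center X := by
    intro a b h
    rw [← hπk, hπm, hπinv, h, neg_add_cancel]
  have hs : ∀ v, π (Function.surjInv hπs v) = v := Function.surjInv_eq hπs
  have cc_center : ∀ a b : X, a ∈ Subgroup.center X → cc a b = 0 := by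
    intro a b ha
    rw [cc_iff]
    have h := Subgroup.mem_center_iff.mp ha b
    rw [← h, mul_inv_cancel_right, mul_inv_cancel]
  have cc_left : ∀ a a' b : X, π a = π a' → cc a b = cc a' b := by
    intro a a' b h
    have hz := hπeq a a' h
    have e : a' = a * (a⁻¹ * a') := by group
    rw [e, cc_mul, cc_center _ b hz, add_zero]
  have cc_congr : ∀ a a' b b' : X, π a = π a' → π b = π b' → cc a b = cc a' b' := by
    intro a a' b b' h h'
    rw [cc_left a a' b h, cc_anti b a', cc_anti b' a', cc_left b b' a' h']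
  have cc_mul_right : ∀ a b b' : X, cc a (b * b') = cc a b + cc a b' := by
    intro a b b'
    rw [cc_anti (b * b') a, cc_mul, cc_anti a b, cc_anti a b']
    ring
  have β_mk : ∀ a b : X, cc (Function.surjInv hπs (π a)) (Function.surjInv hπs (π b)) = cc a b :=
    fun a b => cc_congr _ _ _ _ (hs _) (hs _)
  obtain ⟨B, hB⟩ := mkB (p := p)
    (fun u v : V => cc (Function.surjInv hπs u) (Function.surjInv hπs v))
    (by
      intro u u' v
      obtain ⟨a, rfl⟩ := hπs u
      obtain ⟨a', rfl⟩ := hπs u'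
      obtain ⟨b, rfl⟩ := hπs v
      show cc (Function.surjInv hπs (π a + π a')) (Function.surjInv hπs (π b)) =
        cc (Function.surjInv hπs (π a)) (Function.surjInv hπs (π b)) +
          cc (Function.surjInv hπs (π a')) (Function.surjInv hπs (π b))
      rw [← hπm, β_mk, β_mk, β_mk, cc_mul])
    (by
      intro u v v'
      obtain ⟨a, rfl⟩ := hπs u
      obtain ⟨b, rfl⟩ := hπs v
      obtain ⟨b', rfl⟩ := hπs v'
      show cc (Function.surjInv hπs (π a)) (Function.surjInv hπs (π b + π b')) =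
        cc (Function.surjInv hπs (π a)) (Function.surjInv hπs (π b)) +
          cc (Function.surjInv hπs (π a)) (Function.surjInv hπs (π b'))
      rw [← hπm, β_mk, β_mk, β_mk, cc_mul_right])
  have hBπ : ∀ a b : X, B (π a) (π b) = cc a b := fun a b => (hB _ _).trans (β_mk a b)
  have hτπ : ∀ f : X →* X, (∀ z ∈ Subgroup.center X, f z = z) → ∀ a b : X, π a = π b →
      π (f a) = π (f b) := by
    intro f hf a b h
    have hz := hπeq a b h
    have e : f b = f a * (a⁻¹ * b) := by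
      rw [← hf _ hz, ← map_mul]
      congr 1
      group
    rw [e, hπm, (hπk _).mpr hz, add_zero]
  have hσZ : ∀ z ∈ Subgroup.center X, σ z = z := by
    intro z hz
    have h := hσ1 z
    rw [hτZ 1 z hz] at h
    exact h
  have hTf : ∀ a : X, π (τ 1 (Function.surjInv hπs (π a))) = π (τ 1 a) :=
    fun a => hτπ (τ 1) (hτZ 1) _ _ (hs _)
  have hTg : ∀ a : X, π (σ (Function.surjInv hπs (π a))) = π (σ a) :=
    fun a => hτπ σ hσZ _ _ (hs _)
  obtain ⟨x, hx0⟩ := mkX (p := p)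
    (AddMonoidHom.mk' (fun v : V => π (τ 1 (Function.surjInv hπs v))) (by
      intro u v
      obtain ⟨a, rfl⟩ := hπs u
      obtain ⟨b, rfl⟩ := hπs v
      show π (τ 1 (Function.surjInv hπs (π a + π b))) =
        π (τ 1 (Function.surjInv hπs (π a))) + π (τ 1 (Function.surjInv hπs (π b)))
      rw [← hπm, hTf, hTf, hTf, map_mul, hπm]))
    (AddMonoidHom.mk' (fun v : V => π (σ (Function.surjInv hπs v))) (by
      intro u v
      obtain ⟨a, rfl⟩ := hπs u
      obtain ⟨b, rfl⟩ := hπs v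
      show π (σ (Function.surjInv hπs (π a + π b))) =
        π (σ (Function.surjInv hπs (π a))) + π (σ (Function.surjInv hπs (π b)))
      rw [← hπm, hTg, hTg, hTg, map_mul, hπm]))
    (by
      intro v
      obtain ⟨a, rfl⟩ := hπs v
      show π (τ 1 (Function.surjInv hπs (π (σ (Function.surjInv hπs (π a)))))) = π a
      rw [hTg, hTf, hσ2])
    (by
      intro v
      obtain ⟨a, rfl⟩ := hπs v
      show π (σ (Function.surjInv hπs (π (τ 1 (Function.surjInv hπs (π a)))))) = π a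
      rw [hTf, hTg, hσ1])
  have hx : ∀ a : X, x (π a) = π (τ 1 a) := fun a => (hx0 _).trans (hTf a)
  have hxi : ∀ (i : ℕ) (a : X), (x ^ i) (π a) = π (τ i a) := by
    intro i
    induction i with
    | zero =>
      intro a
      rw [pow_zero, hτ0]
      rfl
    | succ i ih =>
      intro a
      rw [pow_succ', LinearEquiv.mul_apply, ih, hx, hτs i a]
  refine ⟨B, x, ?_, ?_, ?_, ?_, ?_⟩
  · intro v
    obtain ⟨a, rfl⟩ := hπs v
    rw [hBπ, cc_iff]
    group
  · intro u hu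
    obtain ⟨a, rfl⟩ := hπs u
    rw [hπk, Subgroup.mem_center_iff]
    intro b
    have h1 := hu (π b)
    rw [hBπ, cc_iff] at h1
    calc b * a = (a * b * a⁻¹ * b⁻¹)⁻¹ * (a * b) := by group
      _ = a * b := by rw [h1, inv_one, one_mul]
  · intro u v
    obtain ⟨a, rfl⟩ := hπs u
    obtain ⟨b, rfl⟩ := hπs v
    rw [hx, hx, hBπ, hBπ, cc_tau]
  · apply LinearEquiv.ext
    intro v
    obtain ⟨a, rfl⟩ := hπs v
    rw [hxi, hτm]
    rfl
  · intro i hi him v hv
    obtain ⟨a, rfl⟩ := hπs v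
    rw [hxi] at hv
    have h2 := hπeq _ _ hv
    exact (hπk a).mpr (hfree i hi him a h2)

/-- the quotient by the centre is commutative when commutators are central -/
@[reducible] def commQ (X : Type u) [Group X]
    (hc : ∀ a b : X, a * b * a⁻¹ * b⁻¹ ∈ Subgroup.center X) :
    CommGroup (X ⧸ Subgroup.center X) :=
  { (inferInstance : Group (X ⧸ Subgroup.center X)) with
    mul_comm := by
      intro u v
      refine QuotientGroup.induction_on u (fun a => ?_)
      refine QuotientGroup.induction_on v (fun b => ?_)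
      show ((a * b : X) : X ⧸ Subgroup.center X) = ((b * a : X) : X ⧸ Subgroup.center X)
      apply QuotientGroup.eq.mpr
      have h := hc b⁻¹ a⁻¹
      have e : (a * b)⁻¹ * (b * a) = b⁻¹ * a⁻¹ * b⁻¹⁻¹ * a⁻¹⁻¹ := by group
      rw [e]
      exact h }

/-- abstract form: a group with central commutators and centre of order `p`, with a cyclic family
of automorphisms, gives a symplectic `ZMod p`-space -/
theorem vspace {X : Type u} [Group X] [Finite X] {p : ℕ} [Fact p.Prime]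
    (hc : ∀ a b : X, a * b * a⁻¹ * b⁻¹ ∈ Subgroup.center X)
    (hZ : Nat.card (Subgroup.center X) = p)
    (m : ℕ) (τ : ℕ → X →* X) (σ : X →* X)
    (hτ0 : ∀ a, τ 0 a = a) (hτs : ∀ i a, τ (i + 1) a = τ 1 (τ i a)) (hτm : ∀ a, τ m a = a)
    (hσ1 : ∀ a, σ (τ 1 a) = a) (hσ2 : ∀ a, τ 1 (σ a) = a)
    (hτZ : ∀ i, ∀ z ∈ Subgroup.center X, τ i z = z)
    (hfree : ∀ i, 0 < i → i < m → ∀ a, (τ i a)⁻¹ * a ∈ Subgroup.center X →
      a ∈ Subgroup.center X) :
    ∃ (V : Type u) (_ : AddCommGroup V) (_ : Module (ZMod p) V) (_ : Finite V)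
      (B : V →ₗ[ZMod p] V →ₗ[ZMod p] ZMod p) (x : V ≃ₗ[ZMod p] V),
      (∀ v, B v v = 0) ∧ (∀ u, (∀ v, B u v = 0) → u = 0) ∧ (∀ u v, B (x u) (x v) = B u v) ∧
      x ^ m = 1 ∧ (∀ i, 0 < i → i < m → ∀ v, (x ^ i) v = v → v = 0) ∧
      Nat.card V * p = Nat.card X := by
  obtain ⟨cc, cc_mul, cc_anti, cc_iff, cc_hom⟩ := cc_exists hc hZ
  have hpow : ∀ a : X, a ^ p ∈ Subgroup.center X := by
    intro a
    rw [Subgroup.mem_center_iff]
    intro b
    have hd := hc b a
    have hdp : (b * a * b⁻¹ * a⁻¹) ^ p = 1 := by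
      have h0 := pow_card_eq_one' (G := Subgroup.center X) (x := ⟨_, hd⟩)
      rw [hZ] at h0
      have h1 := congrArg Subtype.val h0
      rw [Subgroup.coe_pow] at h1
      exact h1
    have hcd : Commute (b * a * b⁻¹ * a⁻¹) a := (Subgroup.mem_center_iff.mp hd a).symm
    have h1 : b * a * b⁻¹ = (b * a * b⁻¹ * a⁻¹) * a := by group
    have h2 : b * a ^ p * b⁻¹ = a ^ p := by
      rw [← conj_pow, h1, hcd.mul_pow, hdp, one_mul]
    calc b * a ^ p = (b * a ^ p * b⁻¹) * b := by group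
      _ = a ^ p * b := by rw [h2]
  have hQpow : ∀ q : X ⧸ Subgroup.center X, q ^ p = 1 := by
    intro q
    refine QuotientGroup.induction_on q (fun a => ?_)
    show ((a ^ p : X) : X ⧸ Subgroup.center X) = 1
    exact (QuotientGroup.eq_one_iff _).mpr (hpow a)
  obtain ⟨iM⟩ : Nonempty (@Module (ZMod p) (Additive (X ⧸ Subgroup.center X)) _
      (@AddCommGroup.toAddCommMonoid _ (@Additive.addCommGroup _ (commQ X hc)))) :=
    ⟨@AddCommGroup.zmodModule p (Additive (X ⧸ Subgroup.center X))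
      (@Additive.addCommGroup _ (commQ X hc)) (fun v => hQpow (Additive.toMul v))⟩
  have hπs : Function.Surjective
      (fun a : X => (Additive.ofMul (a : X ⧸ Subgroup.center X) :
        Additive (X ⧸ Subgroup.center X))) := by
    intro v
    obtain ⟨a, ha⟩ := QuotientGroup.mk_surjective (Additive.toMul v)
    exact ⟨a, congrArg Additive.ofMul ha⟩
  obtain ⟨B, x, h1, h2, h3, h4, h5⟩ := @core X _ p _ (Additive (X ⧸ Subgroup.center X))
    (@Additive.addCommGroup _ (commQ X hc)) iM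
    (fun a : X => (Additive.ofMul (a : X ⧸ Subgroup.center X) :
        Additive (X ⧸ Subgroup.center X))) hπs (fun a b => rfl)
    (fun a => QuotientGroup.eq_one_iff a) cc cc_mul cc_anti cc_iff m τ σ hτ0 hτs hτm hσ1 hσ2 hτZ
    (cc_hom (τ 1) (hτZ 1)) hfree
  refine ⟨Additive (X ⧸ Subgroup.center X), @Additive.addCommGroup _ (commQ X hc), iM,
    inferInstance, B, x, h1, h2, h3, h4, h5, ?_⟩
  have e1 : Nat.card (Additive (X ⧸ Subgroup.center X)) = Nat.card (X ⧸ Subgroup.center X) :=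
    Nat.card_congr Additive.toMul
  rw [e1, Subgroup.card_eq_card_quotient_mul_card_subgroup (Subgroup.center X), hZ]

/-- conjugation by a normalizing element, as an endomorphism of the subgroup -/
def cj {G : Type u} [Group G] (P : Subgroup G) (y : G)
    (hy : y ∈ Subgroup.normalizer (P : Set G)) : ↥P →* ↥P where
  toFun a := ⟨y * a * y⁻¹, (Subgroup.mem_normalizer_iff.mp hy a).mp a.2⟩
  map_one' := Subtype.ext (by simp)
  map_mul' a b := Subtype.ext (by simp [mul_assoc])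

/-- piece E: from an extraspecial group with a cyclic `p'`-group acting freely modulo the centre
to a symplectic space with a fixed-point-free isometry -/
theorem transl {G : Type u} [Group G] [Finite G] {p : ℕ} [Fact p.Prime] (P H : Subgroup G) (hP : Cfsg.IsExtraspecial p ↥P) (n : ℕ) (hn : Nat.card P = p ^ (2 * n + 1)) (hH : IsCyclic H) (hcop : (Nat.card H).Coprime p) (hHP : H ≤ Subgroup.normalizer (P : Set G)) (hfix : ∀ x ∈ H, x ≠ 1 → P ⊓ Subgroup.centralizer {x} = (Subgroup.center ↥P).map P.subtype) : ∃ (V : Type u) (_ : AddCommGroup V) (_ : Module (ZMod p) V) (_ : Finite V) (B : V →ₗ[ZMod p] V →ₗ[ZMod p] ZMod p) (x : V ≃ₗ[ZMod p] V), (∀ v, B v v = 0) ∧ (∀ u, (∀ v, B u v = 0) → u = 0) ∧ (∀ u v, B (x u) (x v) = B u v) ∧ x ^ (Nat.card H) = 1 ∧ (∀ i, 0 < i → i < Nat.card H → ∀ v, (x ^ i) v = v → v = 0) ∧ Nat.card V = p ^ (2 * n) := by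
  have hp : p.Prime := Fact.out
  obtain ⟨⟨_, _, hcomm⟩, hZ⟩ := hP
  obtain ⟨g, hg⟩ := hH.exists_generator
  have hgo : orderOf g = Nat.card H := orderOf_eq_card_of_forall_mem_zpowers hg
  have hgN : ∀ i : ℕ, (g : G) ^ i ∈ Subgroup.normalizer (P : Set G) :=
    fun i => Subgroup.pow_mem _ (hHP g.2) i
  have hgN' : (g : G)⁻¹ ∈ Subgroup.normalizer (P : Set G) := Subgroup.inv_mem _ (hHP g.2)
  have hc : ∀ a b : ↥P, a * b * a⁻¹ * b⁻¹ ∈ Subgroup.center ↥P := by
    intro a b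
    rw [← hcomm, commutator_def, ← commutatorElement_def]
    exact Subgroup.commutator_mem_commutator (Subgroup.mem_top a) (Subgroup.mem_top b)
  have hgm : (g : G) ^ Nat.card H = 1 := by
    have h0 := pow_card_eq_one' (G := ↥H) (x := g)
    have h1 := congrArg Subtype.val h0
    rw [Subgroup.coe_pow] at h1
    exact h1
  have hcent : ∀ y ∈ H, ∀ z : ↥P, z ∈ Subgroup.center ↥P → y * (z : G) * y⁻¹ = z := by
    intro y hy z hz
    by_cases h1 : y = 1
    · rw [h1, one_mul, inv_one, mul_one]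
    · have h2 : (z : G) ∈ P ⊓ Subgroup.centralizer {y} := by
        rw [hfix y hy h1]
        exact Subgroup.mem_map_of_mem _ hz
      have h3 := Subgroup.mem_centralizer_iff.mp (Subgroup.mem_inf.mp h2).2 y
        (Set.mem_singleton y)
      rw [h3, mul_inv_cancel_right]
  have hτ0 : ∀ a : ↥P, cj P ((g : G) ^ 0) (hgN 0) a = a := by
    intro a
    apply Subtype.ext
    show (g : G) ^ 0 * (a : G) * ((g : G) ^ 0)⁻¹ = a
    rw [pow_zero, one_mul, inv_one, mul_one]
  have hτs : ∀ (i : ℕ) (a : ↥P), cj P ((g : G) ^ (i + 1)) (hgN (i + 1)) a =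
      cj P ((g : G) ^ 1) (hgN 1) (cj P ((g : G) ^ i) (hgN i) a) := by
    intro i a
    apply Subtype.ext
    show (g : G) ^ (i + 1) * (a : G) * ((g : G) ^ (i + 1))⁻¹ =
      (g : G) ^ 1 * ((g : G) ^ i * (a : G) * ((g : G) ^ i)⁻¹) * ((g : G) ^ 1)⁻¹
    rw [pow_succ', pow_one]
    group
  have hτm : ∀ a : ↥P, cj P ((g : G) ^ Nat.card H) (hgN _) a = a := by
    intro a
    apply Subtype.ext
    show (g : G) ^ Nat.card H * (a : G) * ((g : G) ^ Nat.card H)⁻¹ = a
    rw [hgm, one_mul, inv_one, mul_one]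
  have hσ1 : ∀ a : ↥P, cj P (g : G)⁻¹ hgN' (cj P ((g : G) ^ 1) (hgN 1) a) = a := by
    intro a
    apply Subtype.ext
    show (g : G)⁻¹ * ((g : G) ^ 1 * (a : G) * ((g : G) ^ 1)⁻¹) * ((g : G)⁻¹)⁻¹ = a
    rw [pow_one]
    group
  have hσ2 : ∀ a : ↥P, cj P ((g : G) ^ 1) (hgN 1) (cj P (g : G)⁻¹ hgN' a) = a := by
    intro a
    apply Subtype.ext
    show (g : G) ^ 1 * ((g : G)⁻¹ * (a : G) * ((g : G)⁻¹)⁻¹) * ((g : G) ^ 1)⁻¹ = a
    rw [pow_one]
    group
  have hτZ : ∀ (i : ℕ), ∀ z ∈ Subgroup.center ↥P, cj P ((g : G) ^ i) (hgN i) z = z := by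
    intro i z hz
    apply Subtype.ext
    exact hcent _ (H.pow_mem g.2 i) z hz
  have hfree : ∀ i, 0 < i → i < Nat.card H → ∀ a : ↥P,
      (cj P ((g : G) ^ i) (hgN i) a)⁻¹ * a ∈ Subgroup.center ↥P → a ∈ Subgroup.center ↥P := by
    intro i hi him a ha
    have hyH : (g : G) ^ i ∈ H := H.pow_mem g.2 i
    have hy1 : (g : G) ^ i ≠ 1 := by
      intro h
      have h' : g ^ i = 1 := Subtype.ext (by rw [Subgroup.coe_pow]; exact h)
      exact pow_ne_one_of_lt_orderOf hi.ne' (by rw [hgo]; exact him) h'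
    obtain ⟨y, hy⟩ : ∃ y : G, y = (g : G) ^ i := ⟨_, rfl⟩
    obtain ⟨α, hα⟩ : ∃ α : G, α = (a : G) := ⟨_, rfl⟩
    obtain ⟨c, hcdef⟩ : ∃ c : G, c = (y * α * y⁻¹)⁻¹ * α := ⟨_, rfl⟩
    have hyc : y * c * y⁻¹ = c := by
      rw [hcdef, hy, hα]
      exact hcent _ hyH _ ha
    have hcp : c ^ p = 1 := by
      have h0 := pow_card_eq_one' (G := Subgroup.center ↥P) (x := ⟨_, ha⟩)
      rw [hZ] at h0
      have h1 := congrArg Subtype.val h0
      rw [Subgroup.coe_pow] at h1
      have h2 := congrArg Subtype.val h1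
      rw [Subgroup.coe_pow] at h2
      rw [hcdef, hy, hα]
      exact h2
    have hye : Commute y c⁻¹ := by
      have h0 : Commute y c := by
        show y * c = c * y
        calc y * c = (y * c * y⁻¹) * y := by group
          _ = c * y := by rw [hyc]
      exact h0.inv_right
    have hconj : y * α * y⁻¹ = α * c⁻¹ := by
      rw [hcdef]
      group
    have hk : ∀ k : ℕ, y ^ k * α * (y ^ k)⁻¹ = α * (c⁻¹) ^ k := by
      intro k
      induction k with
      | zero => simp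
      | succ k ih =>
        calc y ^ (k + 1) * α * (y ^ (k + 1))⁻¹ = y * (y ^ k * α * (y ^ k)⁻¹) * y⁻¹ := by
              rw [pow_succ']; group
          _ = y * (α * (c⁻¹) ^ k) * y⁻¹ := by rw [ih]
          _ = (y * α * y⁻¹) * (y * (c⁻¹) ^ k * y⁻¹) := by group
          _ = α * c⁻¹ * (c⁻¹) ^ k := by
              rw [hconj, (hye.pow_right k).eq, mul_inv_cancel_right]
          _ = α * (c⁻¹) ^ (k + 1) := by rw [pow_succ', mul_assoc]
    have hym : y ^ Nat.card H = 1 := by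
      rw [hy, ← pow_mul, mul_comm, pow_mul, hgm, one_pow]
    have hem : (c⁻¹) ^ Nat.card H = 1 := by
      have h := hk (Nat.card H)
      rw [hym, one_mul, inv_one, mul_one] at h
      exact mul_left_cancel (h.symm.trans (mul_one α).symm)
    have hc1 : c = 1 := by
      have h1 : orderOf c ∣ Nat.card H := by
        rw [orderOf_dvd_iff_pow_eq_one]
        rw [inv_pow, inv_eq_one] at hem
        exact hem
      have h2 : orderOf c ∣ p := orderOf_dvd_iff_pow_eq_one.mpr hcp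
      have h3 : orderOf c ∣ Nat.gcd (Nat.card H) p := Nat.dvd_gcd h1 h2
      have hg1 : Nat.gcd (Nat.card H) p = 1 := hcop
      rw [hg1] at h3
      exact orderOf_eq_one_iff.mp (Nat.dvd_one.mp h3)
    have hyα : y * α = α * y := by
      have h := hconj
      rw [hc1, inv_one, mul_one] at h
      calc y * α = (y * α * y⁻¹) * y := by group
        _ = α * y := by rw [h]
    have hmem : (a : G) ∈ P ⊓ Subgroup.centralizer {(g : G) ^ i} := by
      refine Subgroup.mem_inf.mpr ⟨a.2, ?_⟩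
      rw [Subgroup.mem_centralizer_iff]
      intro h hh
      rw [Set.mem_singleton_iff.mp hh, ← hy, ← hα]
      exact hyα
    rw [hfix _ hyH hy1] at hmem
    obtain ⟨z, hz, hza⟩ := Subgroup.mem_map.mp hmem
    have hzz : z = a := Subtype.ext hza
    rw [← hzz]
    exact hz
  obtain ⟨V, i1, i2, i3, B, x, h1, h2, h3, h4, h5, h6⟩ := vspace (X := ↥P) (p := p) hc hZ
    (Nat.card H) (fun i => cj P ((g : G) ^ i) (hgN i)) (cj P (g : G)⁻¹ hgN')
    hτ0 hτs hτm hσ1 hσ2 hτZ hfree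
  refine ⟨V, i1, i2, i3, B, x, h1, h2, h3, h4, h5, ?_⟩
  have e : Nat.card V * p = p ^ (2 * n) * p := by rw [h6, hn, pow_succ]
  exact Nat.eq_of_mul_eq_mul_right hp.pos e

end Cfsg.Agent.Helper11.ESE
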