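import Mathlib

namespace Cfsg.Agent.Helper11.O504F

theorem map_center_equiv {G H : Type*} [Group G] [Group H] (e : G ≃* H) :
    (Subgroup.center G).map (e : G →* H) = Subgroup.center H := by
  ext y
  simp only [Subgroup.mem_map, Subgroup.mem_center_iff]
  constructor
  · rintro ⟨x, hx, rfl⟩ h
    have h1 := hx (e.symm h)
    have h2 := congrArg e h1
    simpa using h2
  · intro hy
    refine ⟨e.symm y, ?_, by simp⟩
    intro g
    apply e.injective
    simpa using hy (e g)

noncomputable def slEquiv {R S : Type*} [CommRing R] [CommRing S] (e : R ≃+* S)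
    (n : Type*) [Fintype n] [DecidableEq n] :
    Matrix.SpecialLinearGroup n R ≃* Matrix.SpecialLinearGroup n S :=
  { toFun := Matrix.SpecialLinearGroup.map (e : R →+* S)
    invFun := Matrix.SpecialLinearGroup.map (e.symm : S →+* R)
    left_inv := by
      intro g
      ext i j
      simp
    right_inv := by
      intro g
      ext i j
      simp
    map_mul' := fun a b => map_mul _ a b }

theorem psl_congr {F F' : Type*} [Field F] [Fintype F] [Field F'] [Fintype F'] (hcard : Fintype.card F = Fintype.card F') : Nonempty (Matrix.ProjectiveSpecialLinearGroup (Fin 2) F ≃* Matrix.ProjectiveSpecialLinearGroup (Fin 2) F') := by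
  obtain ⟨e⟩ : Nonempty (F ≃+* F') := ⟨FiniteField.ringEquivOfCardEq hcard⟩
  exact ⟨QuotientGroup.congr _ _ (slEquiv e (Fin 2)) (map_center_equiv _)⟩

end Cfsg.Agent.Helper11.O504F
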