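import Mathlib

namespace Cfsg.Agent.Helper11.S4349a

open scoped Pointwise

theorem closure_mem {G : Type*} [Group G] [Finite G] (p : ℕ) [Fact p.Prime] (x : G)
    (P : Sylow p G) (hxP : x ∈ P) (huniq : ∀ Q : Sylow p G, x ∈ Q → Q = P)
    (t : G) (ht : ∃ j : ℕ, orderOf t = p ^ j) (htx : t * x * t⁻¹ ∈ P) : t ∈ P := by
  obtain ⟨j, hj⟩ := ht
  have hxQ : x ∈ (t⁻¹ • P : Sylow p G) := by
    have h1 : x ∈ (MulAut.conj t⁻¹ • (P : Subgroup G)) := by
      rw [Subgroup.mem_pointwise_smul_iff_inv_smul_mem]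
      have h2 : (MulAut.conj t⁻¹)⁻¹ • x = t * x * t⁻¹ := by
        simp [MulAut.smul_def]
      rw [h2]
      exact htx
    exact h1
  have hQ : (t⁻¹ • P : Sylow p G) = P := huniq _ hxQ
  have htn : t⁻¹ ∈ Subgroup.normalizer (P : Set G) := Sylow.smul_eq_iff_mem_normalizer.mp hQ
  have htn' : t ∈ Subgroup.normalizer (P : Set G) := by simpa using inv_mem htn
  have hZ : IsPGroup p (Subgroup.zpowers t) :=
    IsPGroup.of_card (n := j) (by rw [Nat.card_zpowers, hj])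
  have h := hZ.inf_normalizer_sylow P
  have ht1 : t ∈ Subgroup.zpowers t ⊓ Subgroup.normalizer (P : Set G) :=
    ⟨Subgroup.mem_zpowers t, htn'⟩
  rw [h] at ht1
  exact ht1.2

end Cfsg.Agent.Helper11.S4349a
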