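import Mathlib

namespace Cfsg.Agent.Helper11.S4349b

variable {α : Type*} [Fintype α] [DecidableEq α]

theorem fix_le_two (x : Equiv.Perm α) (P : Subgroup (Equiv.Perm α)) (hP : IsPGroup 2 P)
    (hxP : x ∈ P)
    (hcl : ∀ t : Equiv.Perm α, (∃ j : ℕ, orderOf t = 2 ^ j) → t * x * t⁻¹ ∈ P → t ∈ P) :
    Fintype.card α ≤ x.support.card + 2 := by
  by_contra hlt
  push_neg at hlt
  have hcard : 2 < (x.supportᶜ).card := by
    rw [Finset.card_compl]; omega
  obtain ⟨a, ha, b, hb, c, hc, hab, hac, hbc⟩ := Finset.two_lt_card.mp hcard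
  have fa : x a = a := by simpa using ha
  have fb : x b = b := by simpa using hb
  have fc : x c = c := by simpa using hc
  have key : ∀ u v : α, x u = u → x v = v → u ≠ v → Equiv.swap u v ∈ P := by
    intro u v hu hv huv
    apply hcl
    · refine ⟨1, ?_⟩
      rw [pow_one]
      haveI : Fact (Nat.Prime 2) := ⟨Nat.prime_two⟩
      apply orderOf_eq_prime
      · rw [pow_two]; exact Equiv.swap_mul_self u v
      · intro h
        apply huv
        have h' := congrArg (fun f : Equiv.Perm α => f u) h
        simpa using h'.symm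
    · have hcomm : x * Equiv.swap u v = Equiv.swap u v * x := by
        rw [Equiv.mul_swap_eq_swap_mul, hu, hv]
      have h' : Equiv.swap u v * x * (Equiv.swap u v)⁻¹ = x := by
        rw [← hcomm]; group
      rw [h']; exact hxP
  have h1 := key a b fa fb hab
  have h2 := key a c fa fc hac
  have h3 : Equiv.swap a b * Equiv.swap a c ∈ P := P.mul_mem h1 h2
  have h3c := Equiv.Perm.isThreeCycle_swap_mul_swap_same hab hac hbc
  obtain ⟨k, hk⟩ := hP ⟨_, h3⟩
  have hk' : (Equiv.swap a b * Equiv.swap a c) ^ 2 ^ k = 1 := by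
    have h' := congrArg Subtype.val hk
    simpa using h'
  have hdvd : 3 ∣ 2 ^ k := by
    rw [← h3c.orderOf]; exact orderOf_dvd_of_pow_eq_one hk'
  have h32 := Nat.Prime.dvd_of_dvd_pow Nat.prime_three hdvd
  omega

end Cfsg.Agent.Helper11.S4349b
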