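import Mathlib

namespace Cfsg.Agent.Helper11.S4349d

variable {α : Type*} [Fintype α] [DecidableEq α]

theorem nodup_of_closed (x : Equiv.Perm α) (hx : ∃ k : ℕ, orderOf x = 2 ^ k)
    (P : Subgroup (Equiv.Perm α)) (hP : IsPGroup 2 P) (hxP : x ∈ P)
    (hcl : ∀ t : Equiv.Perm α, (∃ j : ℕ, orderOf t = 2 ^ j) → t * x * t⁻¹ ∈ P → t ∈ P)
    (hHS : ∀ c₁ c₂ : Equiv.Perm α, c₁ ∈ x.cycleFactorsFinset → c₂ ∈ x.cycleFactorsFinset →
      c₁ ≠ c₂ → c₁.support.card = c₂.support.card → Even c₁.support.card →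
      ∃ t τ : Equiv.Perm α, t * t = 1 ∧ τ * τ = 1 ∧ τ * x = x * τ ∧ t * x * t⁻¹ = τ * x ∧
        ∃ a : α, (t * (c₁ * t * c₁⁻¹)) a ≠ a ∧
          (t * (c₁ * t * c₁⁻¹)) ((t * (c₁ * t * c₁⁻¹)) ((t * (c₁ * t * c₁⁻¹)) a)) = a) :
    x.cycleType.Nodup := by
  obtain ⟨k, hk⟩ := hx
  have hinv : ∀ s : Equiv.Perm α, s * s = 1 → ∃ j : ℕ, orderOf s = 2 ^ j := by
    intro s hs
    have h1 : orderOf s ∣ 2 ^ 1 := by
      rw [pow_one]; exact orderOf_dvd_of_pow_eq_one (by rw [pow_two]; exact hs)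
    obtain ⟨j, -, hj⟩ := (Nat.dvd_prime_pow Nat.prime_two).mp h1
    exact ⟨j, hj⟩
  rw [Equiv.Perm.cycleType_def]
  apply Multiset.Nodup.map_on _ x.cycleFactorsFinset.nodup
  intro c₁ hc₁ c₂ hc₂ hcard
  by_contra hne
  have hc₁' : c₁ ∈ x.cycleFactorsFinset := Finset.mem_val.mp hc₁
  have hc₂' : c₂ ∈ x.cycleFactorsFinset := Finset.mem_val.mp hc₂
  have hcard' : c₁.support.card = c₂.support.card := hcard
  have hcyc : c₁.IsCycle := (Equiv.Perm.mem_cycleFactorsFinset_iff.mp hc₁').1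
  have hmem : c₁.support.card ∈ x.cycleType := by
    rw [Equiv.Perm.cycleType_def]
    exact Multiset.mem_map_of_mem _ hc₁
  have hdvd : c₁.support.card ∣ 2 ^ k := hk ▸ Equiv.Perm.dvd_of_mem_cycleType hmem
  obtain ⟨j, -, hj⟩ := (Nat.dvd_prime_pow Nat.prime_two).mp hdvd
  have h2le : 2 ≤ c₁.support.card := hcyc.two_le_card_support
  have heven : Even c₁.support.card := by
    rw [hj] at h2le ⊢
    rcases j with _ | j
    · simp at h2le
    · exact ⟨2 ^ j, by ring⟩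
  obtain ⟨t, τ, ht2, hτ2, hτx, htx, a, ha1, ha3⟩ := hHS c₁ c₂ hc₁' hc₂' hne hcard' heven
  have hτP : τ ∈ P := by
    apply hcl τ (hinv τ hτ2)
    have h' : τ * x * τ⁻¹ = x := by rw [hτx]; group
    rw [h']; exact hxP
  have htP : t ∈ P := by
    apply hcl t (hinv t ht2)
    rw [htx]; exact P.mul_mem hτP hxP
  have hcP : c₁ ∈ P := by
    apply hcl c₁ ⟨j, by rw [hcyc.orderOf, hj]⟩
    have hcomm : c₁ * x = x * c₁ := (Equiv.Perm.self_mem_cycle_factors_commute hc₁').eq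
    have h' : c₁ * x * c₁⁻¹ = x := by rw [hcomm]; group
    rw [h']; exact hxP
  obtain ⟨g, hg⟩ : ∃ g : Equiv.Perm α, g = t * (c₁ * t * c₁⁻¹) := ⟨_, rfl⟩
  rw [← hg] at ha1 ha3
  have hgP : g ∈ P := by
    rw [hg]; exact P.mul_mem htP (P.mul_mem (P.mul_mem hcP htP) (P.inv_mem hcP))
  obtain ⟨i, hi⟩ := hP ⟨g, hgP⟩
  have hi' : g ^ 2 ^ i = 1 := by
    have h' := congrArg Subtype.val hi
    simpa using h'
  have hg3 : (g ^ 3) a = a := by
    simp only [pow_succ, pow_zero, one_mul, Equiv.Perm.mul_apply]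
    exact ha3
  have hq : ∀ q : ℕ, ((g ^ 3) ^ q) a = a :=
    fun q => Equiv.Perm.pow_apply_eq_self_of_apply_eq_self hg3 q
  have hsplit : g ^ 2 ^ i = g ^ (2 ^ i % 3) * (g ^ 3) ^ (2 ^ i / 3) := by
    rw [← pow_mul, ← pow_add, Nat.mod_add_div]
  have hr : (g ^ (2 ^ i % 3)) a = a := by
    have h1 : (g ^ 2 ^ i) a = a := by rw [hi']; rfl
    rw [hsplit, Equiv.Perm.mul_apply, hq] at h1
    exact h1
  have hr3 : 2 ^ i % 3 < 3 := Nat.mod_lt _ (by norm_num)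
  have hr0 : 2 ^ i % 3 ≠ 0 := by
    intro h0
    have h3 : 3 ∣ 2 ^ i := Nat.dvd_of_mod_eq_zero h0
    have h32 := Nat.Prime.dvd_of_dvd_pow Nat.prime_three h3
    omega
  obtain ⟨r, hr'⟩ : ∃ r, r = 2 ^ i % 3 := ⟨_, rfl⟩
  rw [← hr'] at hr hr3 hr0
  interval_cases r
  · exact hr0 rfl
  · apply ha1; simpa using hr
  · apply ha1
    have h2 : g (g a) = a := by simpa [pow_succ, Equiv.Perm.mul_apply] using hr
    have h3 : g (g (g a)) = g a := by rw [h2]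
    rw [ha3] at h3
    exact h3.symm

end Cfsg.Agent.Helper11.S4349d
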