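import Mathlib
import Cfsg.Prelude.Def_GeometricClasses

set_option autoImplicit false
open scoped MatrixGroups

namespace Cfsg.Agent.Helper11.U3B2

theorem conj_aux {G : Type*} [Group G] (g D zi aj ck : G) (h1 : D * zi = zi * D)
    (h2 : D * aj = aj * D) :
    (g * D * g⁻¹) * (g * (zi * aj * ck) * g⁻¹) * (g * D * g⁻¹)⁻¹
      = (g * (zi * aj) * g⁻¹) * (g * (D * ck * D⁻¹) * g⁻¹) := by
  calc (g * D * g⁻¹) * (g * (zi * aj * ck) * g⁻¹) * (g * D * g⁻¹)⁻¹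
      = g * (D * zi) * aj * ck * D⁻¹ * g⁻¹ := by group
    _ = g * (zi * D) * aj * ck * D⁻¹ * g⁻¹ := by rw [h1]
    _ = g * zi * (D * aj) * ck * D⁻¹ * g⁻¹ := by group
    _ = g * zi * (aj * D) * ck * D⁻¹ * g⁻¹ := by rw [h2]
    _ = (g * (zi * aj) * g⁻¹) * (g * (D * ck * D⁻¹) * g⁻¹) := by group

theorem conj_mul_aux {G : Type*} [Group G] (g a b : G) :
    g * (a * b) * g⁻¹ = (g * a * g⁻¹) * (g * b * g⁻¹) := by group

variable {F : Type*} [Field F] [Fintype F] {p : ℕ} [Fact p.Prime] [CharP F p]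

theorem nz_D (R : Subgroup (GL (Fin 3) F)) (g : GL (Fin 3) F) (ω : F) (hω : ω ≠ 1) (hω3 : ω ^ 3 = 1) (hRd : ∀ y : GL (Fin 3) F, y ∈ R ↔ ∃ i j k : ℕ, (y : Matrix (Fin 3) (Fin 3) F) = (g : Matrix (Fin 3) (Fin 3) F) * (ω ^ i • (Matrix.diagonal ![1, ω ^ 2, ω] ^ j * !![0, 0, 1; 1, 0, 0; 0, 1, 0] ^ k)) * ((g⁻¹ : GL (Fin 3) F) : Matrix (Fin 3) (Fin 3) F)) (D : GL (Fin 3) F) (d : Fin 3 → F) (hD : (D : Matrix (Fin 3) (Fin 3) F) = Matrix.diagonal d) (h01 : d 0 ^ 3 = d 1 ^ 3) (h12 : d 1 ^ 3 = d 2 ^ 3) : g * D * g⁻¹ ∈ Cfsg.Geo.subgroupNormalizer R := by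
  classical
  have hω2 : ω ^ 2 + ω + 1 = 0 := by
    have h : (ω - 1) * (ω ^ 2 + ω + 1) = 0 := by linear_combination hω3
    exact (mul_eq_zero.mp h).resolve_left (sub_ne_zero.mpr hω)
  have hω0 : ω ≠ 0 := by
    rintro rfl
    simp at hω3
  have cube : ∀ u v : F, u ^ 3 = v ^ 3 → ∃ a : ℕ, u = ω ^ a * v := by
    intro u v h
    have h' : (u - v) * (u - ω * v) * (u - ω ^ 2 * v) = 0 := by
      linear_combination h - (u ^ 2 * v - u * v ^ 2) * hω2 + (u * v ^ 2 - v ^ 3) * hω3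
    rcases mul_eq_zero.mp h' with h1 | h1
    · rcases mul_eq_zero.mp h1 with h2 | h2
      · exact ⟨0, by rw [pow_zero, one_mul]; exact sub_eq_zero.mp h2⟩
      · exact ⟨1, by rw [pow_one]; exact sub_eq_zero.mp h2⟩
    · exact ⟨2, sub_eq_zero.mp h1⟩
  obtain ⟨a0, ha0⟩ := cube (d 1) (d 0) h01.symm
  obtain ⟨a1, ha1⟩ := cube (d 2) (d 1) h12.symm
  obtain ⟨n, hn⟩ : ∃ n : ℕ, n = a0 + 2 * a1 := ⟨_, rfl⟩
  have e0 : d 1 = ω ^ a0 * d 0 := ha0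
  have hpow : ω ^ a0 * (ω ^ 2) ^ n = ω ^ a1 := by
    rw [hn, ← pow_mul, ← pow_add]
    have h : a0 + 2 * (a0 + 2 * a1) = 3 * (a0 + a1) + a1 := by ring
    rw [h, pow_add, pow_mul, hω3, one_pow, one_mul]
  have e1 : d 2 = ω ^ a0 * (ω ^ 2) ^ n * d 1 := by rw [hpow]; exact ha1
  have hpow2 : ω ^ a0 * ω ^ n * (ω ^ a1 * ω ^ a0) = 1 := by
    rw [hn, ← pow_add, ← pow_add, ← pow_add]
    have h : a0 + (a0 + 2 * a1) + (a1 + a0) = 3 * (a0 + a1) := by ring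
    rw [h, pow_mul, hω3, one_pow]
  have e2 : d 0 = ω ^ a0 * ω ^ n * d 2 := by
    calc d 0 = (ω ^ a0 * ω ^ n * (ω ^ a1 * ω ^ a0)) * d 0 := by rw [hpow2, one_mul]
      _ = ω ^ a0 * ω ^ n * (ω ^ a1 * (ω ^ a0 * d 0)) := by ring
      _ = ω ^ a0 * ω ^ n * d 2 := by rw [← ha0, ← ha1]
  -- the matrices
  obtain ⟨A, hA⟩ : ∃ A : Matrix (Fin 3) (Fin 3) F, A = Matrix.diagonal ![1, ω ^ 2, ω] := ⟨_, rfl⟩
  obtain ⟨C, hC⟩ : ∃ C : Matrix (Fin 3) (Fin 3) F, C = !![0, 0, 1; 1, 0, 0; 0, 1, 0] := ⟨_, rfl⟩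
  have hAdet : A.det ≠ 0 := by
    rw [hA, Matrix.det_diagonal, Fin.prod_univ_three]
    simp [hω0]
  have hCdet : C.det ≠ 0 := by
    rw [hC, Matrix.det_fin_three]
    simp
  have hZdet : (ω • (1 : Matrix (Fin 3) (Fin 3) F)).det ≠ 0 := by
    rw [Matrix.det_smul, Matrix.det_one, mul_one]
    exact pow_ne_zero _ hω0
  obtain ⟨Ag, hAg⟩ : ∃ Ag : GL (Fin 3) F, (Ag : Matrix (Fin 3) (Fin 3) F) = A :=
    ⟨Matrix.GeneralLinearGroup.mkOfDetNeZero A hAdet, rfl⟩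
  obtain ⟨Cg, hCg⟩ : ∃ Cg : GL (Fin 3) F, (Cg : Matrix (Fin 3) (Fin 3) F) = C :=
    ⟨Matrix.GeneralLinearGroup.mkOfDetNeZero C hCdet, rfl⟩
  obtain ⟨Zg, hZg⟩ : ∃ Zg : GL (Fin 3) F,
      (Zg : Matrix (Fin 3) (Fin 3) F) = ω • (1 : Matrix (Fin 3) (Fin 3) F) :=
    ⟨Matrix.GeneralLinearGroup.mkOfDetNeZero _ hZdet, rfl⟩
  have hval : ∀ i j k : ℕ, ((g * (Zg ^ i * Ag ^ j * Cg ^ k) * g⁻¹ : GL (Fin 3) F) :
      Matrix (Fin 3) (Fin 3) F) = (g : Matrix (Fin 3) (Fin 3) F) *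
        (ω ^ i • (Matrix.diagonal ![1, ω ^ 2, ω] ^ j * !![0, 0, 1; 1, 0, 0; 0, 1, 0] ^ k)) *
        ((g⁻¹ : GL (Fin 3) F) : Matrix (Fin 3) (Fin 3) F) := by
    intro i j k
    simp only [Units.val_mul, Units.val_pow_eq_pow_val, hZg, hAg, hCg]
    rw [smul_pow, one_pow, Matrix.smul_mul, Matrix.smul_mul, Matrix.one_mul, ← hA, ← hC]
  have hmemR : ∀ i j k : ℕ, g * (Zg ^ i * Ag ^ j * Cg ^ k) * g⁻¹ ∈ R := by
    intro i j k
    rw [hRd]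
    exact ⟨i, j, k, hval i j k⟩
  have hform : ∀ y ∈ R, ∃ i j k : ℕ, y = g * (Zg ^ i * Ag ^ j * Cg ^ k) * g⁻¹ := by
    intro y hy
    obtain ⟨i, j, k, h⟩ := (hRd y).mp hy
    exact ⟨i, j, k, Units.ext (by rw [h, hval i j k])⟩
  -- commutation relations
  have hDZ : D * Zg = Zg * D := by
    apply Units.ext
    simp only [Units.val_mul, hZg]
    rw [Matrix.mul_smul, Matrix.smul_mul, Matrix.mul_one, Matrix.one_mul]
  have hDA : D * Ag = Ag * D := by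
    apply Units.ext
    simp only [Units.val_mul, hAg, hD, hA]
    rw [Matrix.diagonal_mul_diagonal, Matrix.diagonal_mul_diagonal]
    congr 1
    ext i
    exact mul_comm _ _
  have hP : (ω • (1 : Matrix (Fin 3) (Fin 3) F)) ^ a0 * A ^ n
      = Matrix.diagonal ![ω ^ a0, ω ^ a0 * (ω ^ 2) ^ n, ω ^ a0 * ω ^ n] := by
    rw [smul_pow, one_pow, Matrix.smul_mul, Matrix.one_mul, hA, Matrix.diagonal_pow]
    ext r c
    fin_cases r <;> fin_cases c <;> simp [Matrix.diagonal_apply]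
  have hDC : D * Cg = Cg * Zg ^ a0 * Ag ^ n * D := by
    apply Units.ext
    simp only [Units.val_mul, Units.val_pow_eq_pow_val, hZg, hAg, hCg, hD]
    rw [Matrix.mul_assoc C, hP, Matrix.mul_assoc, Matrix.diagonal_mul_diagonal]
    ext r c
    rw [Matrix.diagonal_mul, Matrix.mul_diagonal, hC]
    fin_cases r <;> fin_cases c <;> simp <;>
      first | exact e0 | exact e1 | exact e2 | linear_combination e0 | linear_combination e1 | linear_combination e2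
  have h3 : D * Cg * D⁻¹ = Cg * Zg ^ a0 * Ag ^ n := by rw [hDC]; group
  have hcR : g * (Cg * Zg ^ a0 * Ag ^ n) * g⁻¹ ∈ R := by
    have h1 : g * Cg * g⁻¹ ∈ R := by
      have h := hmemR 0 0 1
      simpa only [pow_zero, pow_one, one_mul] using h
    have h2 : g * (Zg ^ a0 * Ag ^ n) * g⁻¹ ∈ R := by
      have h := hmemR a0 n 0
      simpa only [pow_zero, mul_one] using h
    have e : g * (Cg * Zg ^ a0 * Ag ^ n) * g⁻¹ = (g * Cg * g⁻¹) * (g * (Zg ^ a0 * Ag ^ n) * g⁻¹) := by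
      rw [← conj_mul_aux, mul_assoc Cg]
    rw [e]; exact R.mul_mem h1 h2
  have hnR : ∀ y, y ∈ (R : Set (GL (Fin 3) F)) →
      (g * D * g⁻¹) * y * (g * D * g⁻¹)⁻¹ ∈ (R : Set (GL (Fin 3) F)) := by
    intro y hy
    obtain ⟨i, j, k, rfl⟩ := hform y hy
    have hZi : D * Zg ^ i = Zg ^ i * D := ((show Commute D Zg from hDZ).pow_right i).eq
    have hAj : D * Ag ^ j = Ag ^ j * D := ((show Commute D Ag from hDA).pow_right j).eq
    rw [conj_aux g D (Zg ^ i) (Ag ^ j) (Cg ^ k) hZi hAj, ← conj_pow, h3, ← conj_pow]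
    have h1 : g * (Zg ^ i * Ag ^ j) * g⁻¹ ∈ R := by
      have h := hmemR i j 0
      simpa only [pow_zero, mul_one] using h
    exact R.mul_mem h1 (R.pow_mem hcR k)
  haveI : Finite (GL (Fin 3) F) :=
    Finite.of_injective (fun u : GL (Fin 3) F => (u : Matrix (Fin 3) (Fin 3) F))
      (fun a b h => Units.ext h)
  show g * D * g⁻¹ ∈ Subgroup.normalizer (R : Set (GL (Fin 3) F))
  exact Subgroup.mem_normalizer_fintype hnR

end Cfsg.Agent.Helper11.U3B2
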